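import Cfsg.Agent.H77.JZero
import Cfsg.Agent.H75.Basic

/-!
The internal structure of a single component: `K = O₂(K)⟨s⟩` with `s` tiny on `Ω₁(Z(O₂(K)))`.
-/

set_option autoImplicit false

namespace H77

/-- A 2-element commuting with a tiny element fixes its commutator group. -/
theorem two_pow_fix_range {X V : Type*} [Group X] [CommGroup V] [MulDistribMulAction X V] [Finite V]
    (hV : ∀ v : V, v * v = 1) {y x : X} {k : ℕ} (hy : y ^ 2 ^ k = 1) (hc : Commute y x) (hx : IsTiny V x) {v : V}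
    (hv : v ∈ (disp x : V →* V).range) : y • v = v := by
  by_cases hv1 : v = 1
  · rw [hv1, smul_one]
  set Y := (disp x : V →* V).range with hY
  obtain ⟨d1, d2, d3⟩ := orbit_distinct hV hx.odd hv hv1
  have hmem : ∀ u ∈ Y, x • u ∈ Y := fun u hu => smul_disp_range_of_commute (Commute.refl x) hu
  have hne : ∀ (z : X) (w : V), w ≠ 1 → z • w ≠ 1 := fun z w hw e =>
    hw (smul_left_cancel z (e.trans (smul_one z).symm))
  have hset : ({1, v, x • v, x • x • v} : Set V) = (Y : Set V) := by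
    refine Set.eq_of_subset_of_ncard_le ?_ ?_ (Set.toFinite _)
    · rintro z (rfl | rfl | rfl | rfl)
      · exact Subgroup.one_mem _
      · exact hv
      · exact hmem v hv
      · exact hmem _ (hmem v hv)
    · rw [← Nat.card_coe_set_eq, SetLike.coe_sort_coe, hx.2]
      exact le_of_eq (Set.ncard_eq_four.2 ⟨1, v, x • v, x • x • v, Ne.symm hv1, Ne.symm (hne x v hv1),
        Ne.symm (hne x _ (hne x v hv1)), Ne.symm d1, Ne.symm d2, Ne.symm d3, rfl⟩).symm
  obtain ⟨i, hi⟩ : ∃ i : ℕ, y • v = x ^ i • v := by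
    have h1 : y • v ∈ ({1, v, x • v, x • x • v} : Set V) := hset ▸ smul_disp_range_of_commute hc hv
    rcases h1 with h | h | h | h
    · exact absurd h (hne y v hv1)
    · exact ⟨0, by rw [pow_zero, one_smul, h]⟩
    · exact ⟨1, by rw [pow_one, h]⟩
    · exact ⟨2, by rw [h, sq, smul_smul]⟩
  have hit : ∀ n : ℕ, y ^ n • v = x ^ (i * n) • v := by
    intro n
    induction n with
    | zero => simp
    | succ n ih =>
      rw [pow_succ', ← smul_smul, ih, smul_smul, (hc.pow_right (i * n)).eq, ← smul_smul, hi, smul_smul, ← pow_add,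
        Nat.mul_succ]
  have h2 : x ^ (i * 2 ^ k) • v = v := by rw [← hit, hy, one_smul]
  obtain ⟨m, hm⟩ : ∃ m, i * 2 ^ k % 3 = m := ⟨_, rfl⟩
  rw [← pow_mod_orderOf, hx.1, hm] at h2
  have hm3 : m < 3 := hm ▸ Nat.mod_lt _ (by norm_num)
  interval_cases m
  · have h3 : 3 ∣ i := by
      have h4 : 3 ∣ i * 2 ^ k := Nat.dvd_of_mod_eq_zero hm
      exact (Nat.Coprime.pow_right k (by decide : Nat.Coprime 3 2)).dvd_of_dvd_mul_right h4
    obtain ⟨j, rfl⟩ := h3
    have hx3 : x ^ 3 = 1 := hx.1 ▸ pow_orderOf_eq_one x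
    rw [hi, pow_mul, hx3, one_pow, one_smul]
  · rw [pow_one] at h2
    exact absurd h2 d1
  · rw [sq, ← smul_smul] at h2
    exact absurd h2 d2

variable {G : Type*} [Group G] [Finite G]

theorem le_normalizer_omega_core (K : Subgroup G) :
    K ≤ Subgroup.normalizer (Cfsg.omegaCenterOf (Cfsg.pCoreOf 2 K) : Set G) :=
  (le_normalizer_pCoreOf K).trans (normalizer_le_normalizer_omegaCenterOf _)

/-- The structure of a component. -/
theorem jcomp_data {T K : Subgroup G} (hK : Cfsg.IsJComponent T K) :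
    ∃ s : ↥K, (s : G) ^ 3 ∈ Cfsg.pCoreOf 2 K ∧ (∀ k ∈ K, ∃ i : ℤ, k * ((s : G) ^ i)⁻¹ ∈ Cfsg.pCoreOf 2 K) ∧
      IsTiny ↥(Cfsg.omegaCenterOf (Cfsg.pCoreOf 2 K)) (imgHom (le_normalizer_omega_core K) s) ∧
      Cfsg.wOf K = ((disp (imgHom (le_normalizer_omega_core K) s) :
        ↥(Cfsg.omegaCenterOf (Cfsg.pCoreOf 2 K)) →* ↥(Cfsg.omegaCenterOf (Cfsg.pCoreOf 2 K))).range).map
          (Cfsg.omegaCenterOf (Cfsg.pCoreOf 2 K)).subtype := by
  haveI : Fact (Nat.Prime 3) := ⟨Nat.prime_three⟩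
  set R := Cfsg.pCoreOf 2 K with hR
  set U := Cfsg.omegaCenterOf R with hU
  have hRK : R ≤ K := pCoreOf_le K
  obtain ⟨hgen, -, hidx, -, hW4, -⟩ := hK
  obtain ⟨s, hs, hsR⟩ : ∃ s ∈ K, s ∉ R :=
    SetLike.exists_of_lt (lt_of_le_of_ne hRK fun he => by
      rw [← hR, he, Subgroup.relIndex_self] at hidx
      omega)
  set E := R ⊔ Subgroup.zpowers s with hE
  have hEK : E = K := by
    have hle : E ≤ K := sup_le hRK (Subgroup.zpowers_le.2 hs)
    have hmul := Subgroup.relIndex_mul_relIndex R E K le_sup_left hle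
    rw [hidx] at hmul
    rcases (Nat.dvd_prime Nat.prime_three).1 (Dvd.intro _ hmul) with h1 | h1
    · exact absurd (Subgroup.relIndex_eq_one.1 h1 (Subgroup.mem_sup_right (Subgroup.mem_zpowers s))) hsR
    · rw [h1] at hmul
      have : E.relIndex K = 1 := by omega
      exact le_antisymm hle (Subgroup.relIndex_eq_one.1 this)
  have hn : R.subgroupOf K |>.Normal := Subgroup.normal_subgroupOf_iff_le_normalizer hRK |>.2 (le_normalizer_pCoreOf K)
  have hdec : ∀ k ∈ K, ∃ i : ℤ, k * (s ^ i)⁻¹ ∈ R := by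
    intro k hk
    have hzn : Subgroup.zpowers s ≤ Subgroup.normalizer (R : Set G) :=
      (Subgroup.zpowers_le.2 hs).trans (le_normalizer_pCoreOf K)
    obtain ⟨c, hc, r, hr, rfl⟩ := exists_mul_of_mem_sup hzn
      (show k ∈ Subgroup.zpowers s ⊔ R by rw [sup_comm, ← hE, hEK]; exact hk)
    obtain ⟨i, rfl⟩ := Subgroup.mem_zpowers_iff.1 hc
    exact ⟨i, (Subgroup.mem_normalizer_iff.1 (hzn (Subgroup.zpow_mem _ (Subgroup.mem_zpowers s) i)) r).1 hr⟩
  have hs3 : s ^ 3 ∈ R := by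
    have h1 := (R.subgroupOf K).pow_index_mem ⟨s, hs⟩
    rw [← Subgroup.relIndex, hidx, Subgroup.mem_subgroupOf] at h1
    exact h1
  set p := imgHom (le_normalizer_omega_core K) with hp
  set x := p ⟨s, hs⟩ with hx
  have hker : ∀ r : ↥K, (r : G) ∈ R → p r = 1 := fun r hr => by
    rw [imgHom_eq_one_iff, Subgroup.mem_centralizer_iff]
    exact fun u hu => ((mem_omegaCenterOf.1 hu).2.1 _ hr).symm
  have hact : ∀ k : ↥K, p k ∈ Subgroup.zpowers x := by
    intro k
    obtain ⟨i, hi⟩ := hdec k k.2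
    have h1 : p (k * ((⟨s, hs⟩ : ↥K) ^ i)⁻¹) = 1 := hker _ hi
    rw [map_mul, map_inv, map_zpow, mul_inv_eq_one] at h1
    exact h1 ▸ zpow_mem (Subgroup.mem_zpowers x) i
  have hx3 : x ^ 3 = 1 := by rw [hx, ← map_pow]; exact hker _ hs3
  have hx1 : x ≠ 1 := by
    intro h1
    have hW : Cfsg.wOf K ≤ ⊥ := by
      rw [Cfsg.wOf, Subgroup.commutator_le]
      intro u hu k hk
      have h2 := hact ⟨k, hk⟩
      rw [h1, Subgroup.zpowers_one_eq_bot, Subgroup.mem_bot, imgHom_eq_one_iff, Subgroup.mem_centralizer_iff] at h2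
      rw [Subgroup.mem_bot, commutatorElement_def, h2 u hu, mul_inv_cancel_right, mul_inv_cancel]
    rw [le_bot_iff.1 hW, Subgroup.card_bot] at hW4
    omega
  have hord : orderOf x = 3 := orderOf_eq_prime hx3 hx1
  have hW : Cfsg.wOf K = ((disp x : ↥U →* ↥U).range).map U.subtype := by
    refine le_antisymm ?_ ?_
    · rw [Cfsg.wOf, Subgroup.commutator_le]
      intro u hu k hk
      have h1 : disp (p ⟨k, hk⟩) ⟨u, hu⟩ ∈ (disp x : ↥U →* ↥U).range := by
        by_cases hk1 : p ⟨k, hk⟩ = 1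
        · rw [mem_ker_disp.2 (by rw [hk1, one_smul])]; exact one_mem _
        · rcases eq_or_eq_inv_of_mem_zpowers hord (hact ⟨k, hk⟩) hk1 with e | e <;> rw [e]
          · exact ⟨_, rfl⟩
          · rw [← range_disp_inv x]; exact ⟨_, rfl⟩
      refine ⟨(disp (p ⟨k, hk⟩) ⟨u, hu⟩)⁻¹, inv_mem h1, ?_⟩
      change ((disp (p ⟨k, hk⟩) ⟨u, hu⟩ : ↥U) : G)⁻¹ = _
      rw [disp_coe, commutatorElement_def]
      simp only [mul_inv_rev, inv_inv, mul_assoc]
    · rintro _ ⟨_, ⟨u, rfl⟩, rfl⟩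
      change ((disp x u : ↥U) : G) ∈ Cfsg.wOf K
      rw [hx, disp_coe, Cfsg.wOf, Subgroup.commutator_comm]
      exact Subgroup.commutator_mem_commutator hs u.2
  refine ⟨⟨s, hs⟩, hs3, hdec, ⟨hord, ?_⟩, hW⟩
  rwa [hW, ← Nat.card_congr (Subgroup.equivMapOfInjective _ U.subtype U.subtype_injective).toEquiv] at hW4

/-- A subnormal subgroup generated by elements of odd order is normalised by the 2-core. -/
theorem pCoreOf_le_normalizer_of_subnormal {K X : Subgroup G} (hKX : K ≤ X)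
    (hgen : Subgroup.closure {g : G | g ∈ K ∧ Odd (orderOf g)} = K) (hsn : (K.subgroupOf X).IsSubnormal) :
    Cfsg.pCoreOf 2 X ≤ Subgroup.normalizer (K : Set G) := by
  set R := Cfsg.pCore 2 ↥X with hR
  have key : ∀ D : Subgroup ↥X, D.IsSubnormal → ∀ x ∈ D ⊔ R, Odd (orderOf x) → x ∈ D := by
    intro D hD
    induction hD with
    | top => exact fun x _ _ => Subgroup.mem_top x
    | step A B hAB hB hN ih =>
      intro x hx ho
      have hxB : x ∈ B := ih x ((sup_le_sup_right hAB R : A ⊔ R ≤ B ⊔ R) hx) ho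
      obtain ⟨a, ha, r, hr, rfl⟩ := exists_mul_of_mem_sup (A := A) (W := R)
        (by rw [Subgroup.normalizer_eq_top_iff.2 (pCoreTwoNormal _)]; exact le_top) hx
      have hrB : r ∈ B := by
        have := B.mul_mem (B.inv_mem (hAB ha)) hxB
        rwa [inv_mul_cancel_left] at this
      refine mem_of_odd_of_mem_sup ((H1.isPGroup_pCore 2 ↥X).to_le (inf_le_left : R ⊓ B ≤ R))
        (inf_le_right.trans ((Subgroup.normal_subgroupOf_iff_le_normalizer hAB).1 hN)) ?_ ho
      rw [sup_comm]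
      exact mul_mem (Subgroup.mem_sup_left ha) (Subgroup.mem_sup_right (Subgroup.mem_inf.2 ⟨hr, hrB⟩))
  intro r hr
  obtain ⟨r, hrR, rfl⟩ := hr
  refine mem_normalizer_of_forall fun k hk => ?_
  rw [← hgen] at hk
  induction hk using Subgroup.closure_induction with
  | mem y hy =>
    set yX : ↥X := ⟨y, hKX hy.1⟩
    have h1 : r * yX * r⁻¹ ∈ K.subgroupOf X ⊔ R :=
      mul_mem (mul_mem (Subgroup.mem_sup_right hrR) (Subgroup.mem_sup_left (Subgroup.mem_subgroupOf.2 hy.1)))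
        (Subgroup.mem_sup_right (inv_mem hrR))
    refine Subgroup.mem_subgroupOf.1 (key _ hsn _ h1 ?_)
    have : orderOf (r * yX * r⁻¹) = orderOf yX :=
      orderOf_injective (MulAut.conj r).toMonoidHom (MulAut.conj r).injective yX
    rw [this, Subgroup.orderOf_mk]
    exact hy.2
  | one => simp
  | mul p q _ _ hp hq => rw [← conj_mul]; exact mul_mem hp hq
  | inv p _ hp => rw [← conj_inv]; exact inv_mem hp

/-- The 2-core of a subnormal subgroup lies in the 2-core. -/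
theorem pCoreOf_le_pCoreOf_of_subnormal {K X : Subgroup G} (hKX : K ≤ X) (hsn : (K.subgroupOf X).IsSubnormal) :
    Cfsg.pCoreOf 2 K ≤ Cfsg.pCoreOf 2 X := by
  have h1 := Subgroup.map_mono (f := X.subtype) (H75.pCoreOf_le_of_subnormal (p := 2) hsn)
  rw [← H74.pCoreOf_map (p := 2) (K.subgroupOf X) X.subtype X.subtype_injective,
    Subgroup.map_subgroupOf_eq_of_le hKX] at h1
  exact h1

end H77
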