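import Mathlib.GroupTheory.Sylow
import Mathlib.GroupTheory.SpecificGroups.Cyclic
import Mathlib.NumberTheory.Basic
import Mathlib.RingTheory.Coprime.Lemmas
import Mathlib.RingTheory.Int.Basic

/-! An element normalising a cyclic Sylow subgroup and fixing a nontrivial element of it centralises it. -/

set_option autoImplicit false

namespace H77

theorem mem_centralizer_of_cyclic_sylow {G : Type*} [Group G] [Finite G] {p : ℕ} [hp : Fact p.Prime]
    (P : Sylow p G) [IsCyclic ↥(P : Subgroup G)] {x n : G} (hxP : x ∈ (P : Subgroup G)) (hx : x ≠ 1)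
    (hn : n ∈ Subgroup.normalizer ((P : Subgroup G) : Set G)) (hnx : n * x * n⁻¹ = x) :
    n ∈ Subgroup.centralizer ((P : Subgroup G) : Set G) := by
  obtain ⟨⟨a, haP⟩, ha⟩ := IsCyclic.exists_generator (α := ↥(P : Subgroup G))
  have hgen : ∀ y ∈ (P : Subgroup G), ∃ i : ℤ, y = a ^ i := by
    intro y hy
    obtain ⟨i, hi⟩ := Subgroup.mem_zpowers_iff.1 (ha ⟨y, hy⟩)
    exact ⟨i, by simpa using (congrArg Subtype.val hi).symm⟩
  obtain ⟨m, hm⟩ := hgen _ ((Subgroup.mem_normalizer_iff.1 hn a).1 haP)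
  obtain ⟨j, hj⟩ := hgen x hxP
  obtain ⟨k, hk⟩ := IsPGroup.iff_card.1 P.2
  have hord : a ^ ((p : ℤ) ^ k) = 1 := by
    have : (⟨a, haP⟩ : ↥(P : Subgroup G)) ^ (p ^ k) = 1 := hk ▸ pow_card_eq_one'
    have h := congrArg Subtype.val this
    rw [show ((p : ℤ) ^ k) = ((p ^ k : ℕ) : ℤ) by push_cast; ring, zpow_natCast]
    simpa using h
  have hpow : ∀ i : ℕ, ∀ y : G, y = a → n ^ i * y * (n ^ i)⁻¹ = a ^ (m ^ i) := by
    intro i
    induction i with
    | zero => intro y hy; simp [hy]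
    | succ i ih =>
      intro y hy
      calc n ^ (i + 1) * y * (n ^ (i + 1))⁻¹ = n ^ i * (n * a * n⁻¹) * (n ^ i)⁻¹ := by
            rw [hy, pow_succ]; group
        _ = n ^ i * a ^ m * (n ^ i)⁻¹ := by rw [hm]
        _ = (n ^ i * a * (n ^ i)⁻¹) ^ m := conj_zpow.symm
        _ = a ^ (m ^ (i + 1)) := by rw [ih a rfl, ← zpow_mul, pow_succ]
  -- m ≡ 1 modulo p
  have hpm : (p : ℤ) ∣ m - 1 := by
    have h1 : (a ^ (m - 1)) ^ j = 1 := by
      rw [← zpow_mul, sub_mul, one_mul, zpow_sub, zpow_mul, ← hm, conj_zpow, ← hj, hnx, mul_inv_cancel]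
    by_contra hp'
    have hco : IsCoprime ((p : ℤ) ^ k) (m - 1) :=
      ((Nat.prime_iff_prime_int.1 hp.out).irreducible.coprime_iff_not_dvd.2 hp').pow_left
    obtain ⟨u, v, huv⟩ := hco
    apply hx
    calc x = a ^ ((u * (p : ℤ) ^ k + v * (m - 1)) * j) := by rw [huv, one_mul]; exact hj
      _ = 1 := by
        rw [add_mul, zpow_add, mul_comm u, mul_assoc, zpow_mul, hord, one_zpow, one_mul,
          mul_comm v, mul_assoc, mul_comm v j, ← mul_assoc, zpow_mul, zpow_mul, h1, one_zpow]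
  have hdvd : ((p : ℤ) ^ k) ∣ m ^ (p ^ k) - 1 := by
    have h := dvd_sub_pow_of_dvd_sub (R := ℤ) (a := m) (b := 1) hpm k
    rw [one_pow] at h
    exact dvd_trans (pow_dvd_pow _ (Nat.le_succ k)) h
  have hCa : ∀ g : G, g * a = a * g → g ∈ Subgroup.centralizer ((P : Subgroup G) : Set G) := by
    intro g hg
    rw [Subgroup.mem_centralizer_iff]
    intro y hy
    obtain ⟨i, rfl⟩ := hgen y hy
    exact ((show Commute g a from hg).zpow_right i).eq.symm
  have hA : n ^ (p ^ k) ∈ Subgroup.centralizer ((P : Subgroup G) : Set G) := by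
    apply hCa
    obtain ⟨c, hc⟩ := hdvd
    have h := hpow (p ^ k) a rfl
    rw [show m ^ (p ^ k) = (p : ℤ) ^ k * c + 1 by omega, zpow_add, zpow_mul, hord, one_zpow,
      one_mul, zpow_one] at h
    calc n ^ (p ^ k) * a = (n ^ (p ^ k) * a * (n ^ (p ^ k))⁻¹) * n ^ (p ^ k) := by group
      _ = a * n ^ (p ^ k) := by rw [h]
  set N := Subgroup.normalizer ((P : Subgroup G) : Set G) with hNdef
  set r := (((P : Subgroup G)).subgroupOf N).index with hr
  have hB : n ^ r ∈ Subgroup.centralizer ((P : Subgroup G) : Set G) := by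
    haveI : ((P : Subgroup G).subgroupOf N).Normal := Subgroup.normal_subgroupOf_of_le_normalizer le_rfl
    have h := Subgroup.pow_index_mem ((P : Subgroup G).subgroupOf N) (⟨n, hn⟩ : ↥N)
    rw [Subgroup.mem_subgroupOf, Subgroup.coe_pow] at h
    apply hCa
    obtain ⟨i, hi⟩ := hgen _ h
    rw [hr, hi]
    exact (Commute.zpow_self a i).eq
  have hco : Nat.Coprime (p ^ k) r := by
    apply Nat.Coprime.pow_left
    rw [hp.out.coprime_iff_not_dvd, hr]
    have := (P.subtype (Subgroup.le_normalizer)).not_dvd_index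
    rwa [Sylow.coe_subtype] at this
  have hco' : IsCoprime ((p ^ k : ℕ) : ℤ) (r : ℤ) := Nat.isCoprime_iff_coprime.2 hco
  obtain ⟨u, v, huv⟩ := hco'
  have key : n = (n ^ (p ^ k)) ^ u * (n ^ r) ^ v := by
    rw [← zpow_natCast, ← zpow_natCast, ← zpow_mul, ← zpow_mul, ← zpow_add, mul_comm _ u, mul_comm _ v,
      huv, zpow_one]
  rw [key]
  exact Subgroup.mul_mem _ (Subgroup.zpow_mem _ hA u) (Subgroup.zpow_mem _ hB v)

end H77
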