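import Cfsg.Prelude.Def_Solvable
import Cfsg.Prelude.Def_Amalgam
import Cfsg.Agent.H1.Cores
import Cfsg.Agent.H77.Conj
import Mathlib.GroupTheory.Nilpotent
import Mathlib.GroupTheory.Subgroup.Centralizer

/-! Groups of characteristic `p` (`C(O_p) ≤ O_p`): inheritance lemmas, and Thompson's `A × B` lemma. -/

set_option autoImplicit false

namespace H77

variable {G : Type*} [Group G] {p : ℕ}

/-- Membership in the centralizer as a commutation rule. -/
theorem mem_cent {S : Subgroup G} {g : G} :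
    g ∈ Subgroup.centralizer (S : Set G) ↔ ∀ s ∈ S, g * s = s * g := by
  rw [Subgroup.mem_centralizer_iff]
  exact ⟨fun h s hs => (h s hs).symm, fun h s hs => (h s hs).symm⟩

theorem conj_eq_self_iff {g s : G} : g * s * g⁻¹ = s ↔ g * s = s * g := by
  rw [mul_inv_eq_iff_eq_mul]

/-- If `k n k⁻¹ = d n` with `k` fixing `d`, then powers of `k` act by powers of `d`. -/
theorem pow_conj_of_fix {k n d : G} (hd : k * d = d * k) (h : k * n * k⁻¹ = d * n) :
    ∀ i : ℕ, k ^ i * n * (k ^ i)⁻¹ = d ^ i * n := by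
  intro i
  induction i with
  | zero => simp
  | succ i ih =>
    have hc : k * d ^ i * k⁻¹ = d ^ i := conj_eq_self_iff.2 (Commute.pow_right hd i).eq
    calc k ^ (i + 1) * n * (k ^ (i + 1))⁻¹ = k * (k ^ i * n * (k ^ i)⁻¹) * k⁻¹ := by
          rw [pow_succ']; group
      _ = (k * d ^ i * k⁻¹) * (k * n * k⁻¹) := by rw [ih]; group
      _ = d ^ (i + 1) * n := by rw [hc, h, pow_succ]; group

/-- A `p`-element whose `orderOf k`-th power is trivial, `k` of order prime to `p`, is trivial. -/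
theorem eq_one_of_pow_orderOf [hp : Fact p.Prime] {d k : G} (hd : ∃ i : ℕ, d ^ p ^ i = 1)
    (hk : ¬ p ∣ orderOf k) (h : d ^ orderOf k = 1) : d = 1 := by
  obtain ⟨i, hi⟩ := hd
  rw [← orderOf_eq_one_iff]
  exact Nat.eq_one_of_dvd_coprimes ((hp.out.coprime_iff_not_dvd.2 hk).pow_left i)
    (orderOf_dvd_of_pow_eq_one hi) (orderOf_dvd_of_pow_eq_one h)

theorem exists_pow_eq_one_of_mem {P : Subgroup G} (hP : IsPGroup p ↥P) {d : G} (hd : d ∈ P) :
    ∃ i : ℕ, d ^ p ^ i = 1 := by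
  obtain ⟨i, hi⟩ := hP ⟨d, hd⟩
  exact ⟨i, by simpa using congrArg Subtype.val hi⟩

/-- A coprime element that moves `n` by a fixed element of a `p`-subgroup commutes with `n`. -/
theorem commute_of_fix [Fact p.Prime] {P : Subgroup G} (hP : IsPGroup p ↥P) {k n d : G} (hdP : d ∈ P)
    (hk : ¬ p ∣ orderOf k) (hd : k * d = d * k) (h : k * n * k⁻¹ = d * n) : k * n = n * k := by
  have h1 := pow_conj_of_fix hd h (orderOf k)
  rw [pow_orderOf_eq_one, one_mul, inv_one, mul_one] at h1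
  have h2 : d = 1 := eq_one_of_pow_orderOf (exists_pow_eq_one_of_mem hP hdP) hk
    (mul_eq_right.1 h1.symm)
  rw [h2, one_mul] at h
  exact conj_eq_self_iff.1 h

/-- If every element of order prime to `p` is trivial, we have a `p`-group. -/
theorem isPGroup_of_pPrime_trivial [Finite G] [hp : Fact p.Prime] {K : Subgroup G}
    (h : ∀ k ∈ K, ¬ p ∣ orderOf k → k = 1) : IsPGroup p ↥K := by
  rintro ⟨g, hg⟩
  obtain ⟨e, m, hm, he⟩ := Nat.exists_eq_pow_mul_and_not_dvd (orderOf_pos g).ne' p hp.out.ne_one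
  refine ⟨e, Subtype.ext ?_⟩
  show g ^ p ^ e = 1
  refine h _ (pow_mem hg _) ?_
  rw [orderOf_pow, he, Nat.gcd_eq_right (dvd_mul_right _ _), Nat.mul_div_cancel_left _ (pow_pos hp.out.pos e)]
  exact hm

theorem exists_mul_of_mem_sup {A W : Subgroup G} (h : A ≤ Subgroup.normalizer (W : Set G)) {x : G}
    (hx : x ∈ A ⊔ W) : ∃ a ∈ A, ∃ w ∈ W, a * w = x := by
  have h1 : x ∈ ((A ⊔ W : Subgroup G) : Set G) := hx
  rw [Subgroup.coe_mul_of_left_le_normalizer_right A W h] at h1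
  exact h1

/-- Thompson's `A × B` lemma, for one element. -/
theorem thompson_AxB [Finite G] [Fact p.Prime] {P A : Subgroup G} (hP : IsPGroup p ↥P) (hA : IsPGroup p ↥A)
    (hAP : A ≤ Subgroup.normalizer (P : Set G)) {k : G} (hk : ¬ p ∣ orderOf k)
    (hkP : ∀ x ∈ P, k * x * k⁻¹ ∈ P) (hkA : ∀ a ∈ A, k * a = a * k)
    (hfix : ∀ x ∈ P, (∀ a ∈ A, a * x = x * a) → k * x = x * k) : ∀ x ∈ P, k * x = x * k := by
  set W : Subgroup G := P ⊓ Subgroup.centralizer ({k} : Set G) with hW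
  have hWk : ∀ x, x ∈ W ↔ x ∈ P ∧ k * x = x * k := by
    intro x
    rw [hW, Subgroup.mem_inf, Subgroup.mem_centralizer_singleton_iff]
    exact ⟨fun h => ⟨h.1, h.2.symm⟩, fun h => ⟨h.1, h.2.symm⟩⟩
  suffices hWP : P ≤ W from fun x hx => ((hWk x).1 (hWP hx)).2
  have hAW : A ≤ Subgroup.normalizer (W : Set G) := by
    intro a ha
    refine mem_normalizer_of_forall fun w hw => ?_
    obtain ⟨hwP, hwk⟩ := (hWk w).1 hw
    refine (hWk _).2 ⟨(Subgroup.mem_normalizer_iff.1 (hAP ha) w).1 hwP, ?_⟩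
    have h1 : Commute k a := hkA a ha
    exact ((h1.mul_right hwk).mul_right h1.inv_right).eq
  have hH : IsPGroup p ↥(A ⊔ P) := hA.to_sup_of_normal_right' hP hAP
  by_contra hne
  have hlt : A ⊔ W < A ⊔ P := by
    refine lt_of_le_of_ne (sup_le_sup_left inf_le_left A) fun h => hne ?_
    intro x hx
    have hx2 : x ∈ A ⊔ W := by rw [h]; exact Subgroup.mem_sup_right hx
    obtain ⟨a, ha, w, hw, rfl⟩ := exists_mul_of_mem_sup hAW hx2
    refine (hWk _).2 ⟨hx, ?_⟩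
    exact ((show Commute k a from hkA a ha).mul_right ((hWk w).1 hw).2).eq
  -- an element of `P` outside `A ⊔ W` normalising it
  haveI := hH.isNilpotent
  have hlt' : (A ⊔ W).subgroupOf (A ⊔ P) < ⊤ :=
    lt_top_iff_ne_top.2 fun h => hlt.not_ge (Subgroup.subgroupOf_eq_top.1 h)
  obtain ⟨⟨y, hy⟩, hyN, hyW⟩ := SetLike.exists_of_lt (normalizerCondition_of_isNilpotent (G := ↥(A ⊔ P)) _ hlt')
  obtain ⟨a₀, ha₀, n, hn, rfl⟩ := exists_mul_of_mem_sup hAP hy
  have hnW : n ∉ A ⊔ W := fun h => hyW (Subgroup.mem_subgroupOf.2 (mul_mem (Subgroup.mem_sup_left ha₀) h))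
  have hnN : ∀ z ∈ A ⊔ W, n * z * n⁻¹ ∈ A ⊔ W := by
    intro z hz
    have hzH : z ∈ A ⊔ P := sup_le_sup_left inf_le_left A hz
    have h1 := (Subgroup.mem_normalizer_iff.1 hyN ⟨z, hzH⟩).1 (Subgroup.mem_subgroupOf.2 hz)
    rw [Subgroup.mem_subgroupOf] at h1
    simp only [Subgroup.coe_mul, Subgroup.coe_inv] at h1
    have h2 := mul_mem (mul_mem (inv_mem (Subgroup.mem_sup_left (T := W) ha₀)) h1)
      (Subgroup.mem_sup_left (T := W) ha₀)
    simpa [mul_assoc] using h2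
  apply hnW
  refine Subgroup.mem_sup_right ((hWk n).2 ⟨hn, ?_⟩)
  -- the element `n⁻¹ a n a⁻¹` lies in `W`
  have hWW : ∀ a ∈ A, n * a * n⁻¹ * a⁻¹ ∈ W := by
    intro a ha
    have h1 : n * a * n⁻¹ * a⁻¹ ∈ A ⊔ W :=
      mul_mem (hnN a (Subgroup.mem_sup_left ha)) (inv_mem (Subgroup.mem_sup_left ha))
    have h2 : n * a * n⁻¹ * a⁻¹ ∈ P := by
      have := mul_mem hn ((Subgroup.mem_normalizer_iff.1 (hAP ha) n⁻¹).1 (inv_mem hn))
      simpa [mul_assoc] using this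
    obtain ⟨a', ha', w, hw, he⟩ := exists_mul_of_mem_sup hAW h1
    refine (hWk _).2 ⟨h2, ?_⟩
    rw [← he]
    exact ((show Commute k a' from hkA a' ha').mul_right ((hWk w).1 hw).2).eq
  -- so `n⁻¹ k n k⁻¹` is centralised by `A`
  set e := k * n⁻¹ * k⁻¹ * n with he
  have heP : e ∈ P := mul_mem (hkP _ (inv_mem hn)) hn
  have heA : ∀ a ∈ A, a * e = e * a := by
    intro a ha
    obtain ⟨-, hwk⟩ := (hWk _).1 (hWW a ha)
    set w := n * a * n⁻¹ * a⁻¹ with hw
    have hak := conj_eq_self_iff.2 (hkA a ha)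
    have h1 : a * n⁻¹ * a⁻¹ = n⁻¹ * w := by rw [hw]; group
    have h2 : a * e * a⁻¹ = k * (a * n⁻¹ * a⁻¹) * k⁻¹ * (a * n * a⁻¹) := by
      have hc : Commute a k := (hkA a ha).symm
      rw [he]
      calc a * (k * n⁻¹ * k⁻¹ * n) * a⁻¹ = (a * k) * n⁻¹ * k⁻¹ * a⁻¹ * (a * n * a⁻¹) := by group
        _ = (k * a) * n⁻¹ * (k⁻¹ * a⁻¹) * (a * n * a⁻¹) := by rw [hc.eq]; group
        _ = (k * a) * n⁻¹ * (a⁻¹ * k⁻¹) * (a * n * a⁻¹) := by rw [hc.inv_inv.eq]
        _ = k * (a * n⁻¹ * a⁻¹) * k⁻¹ * (a * n * a⁻¹) := by group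
    have h3 : a * n * a⁻¹ = w⁻¹ * n := by rw [hw]; group
    have h4 : k * w * k⁻¹ = w := conj_eq_self_iff.2 hwk
    have h5 : a * e * a⁻¹ = e := by
      rw [h2, h1, h3, he]
      calc k * (n⁻¹ * w) * k⁻¹ * (w⁻¹ * n) = k * n⁻¹ * k⁻¹ * (k * w * k⁻¹) * w⁻¹ * n := by group
        _ = k * n⁻¹ * k⁻¹ * n := by rw [h4]; group
    exact conj_eq_self_iff.1 h5
  have hek : k * e = e * k := hfix e heP heA
  have hn' : k * n⁻¹ * k⁻¹ = e * n⁻¹ := by rw [he]; group
  exact (Commute.inv_right_iff.1 (show Commute k n⁻¹ from commute_of_fix hP heP hk hek hn')).eq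

/-! ### The `p`-core of a subgroup inside the ambient group -/

theorem pCoreOf_le (L : Subgroup G) : Cfsg.pCoreOf p L ≤ L := Subgroup.map_subtype_le _

theorem isPGroup_pCoreOf (L : Subgroup G) : IsPGroup p ↥(Cfsg.pCoreOf p L) :=
  (H1.isPGroup_pCore p ↥L).map _

theorem le_normalizer_pCoreOf [Finite G] (L : Subgroup G) :
    L ≤ Subgroup.normalizer (Cfsg.pCoreOf p L : Set G) := by
  intro l hl
  refine mem_normalizer_of_forall fun r hr => ?_
  obtain ⟨⟨x, hx⟩, hx', rfl⟩ := hr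
  exact ⟨⟨l, hl⟩ * ⟨x, hx⟩ * ⟨l, hl⟩⁻¹, (H1.pCore_normal' p ↥L).conj_mem _ hx' _, rfl⟩

theorem le_pCoreOf {L K : Subgroup G} (hKL : K ≤ L) (hK : IsPGroup p ↥K)
    (hn : L ≤ Subgroup.normalizer (K : Set G)) : K ≤ Cfsg.pCoreOf p L := by
  haveI := Subgroup.normal_subgroupOf_of_le_normalizer hn
  intro x hx
  exact ⟨⟨x, hKL hx⟩, H1.le_pCore (N := K.subgroupOf L) (hK.comap_subtype (K := L)) (Subgroup.mem_subgroupOf.2 hx), rfl⟩

theorem charP_subgroup_iff {L : Subgroup G} :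
    Subgroup.centralizer (Cfsg.pCore p ↥L : Set ↥L) ≤ Cfsg.pCore p ↥L ↔
      L ⊓ Subgroup.centralizer (Cfsg.pCoreOf p L : Set G) ≤ Cfsg.pCoreOf p L := by
  constructor
  · rintro h x ⟨hxL, hx⟩
    refine ⟨⟨x, hxL⟩, h ?_, rfl⟩
    rw [mem_cent]
    intro s hs
    exact Subtype.ext (mem_cent.1 hx _ ⟨s, hs, rfl⟩)
  · intro h x hx
    have h1 : (x : G) ∈ L ⊓ Subgroup.centralizer (Cfsg.pCoreOf p L : Set G) := by
      refine ⟨x.2, mem_cent.2 ?_⟩
      rintro _ ⟨s, hs, rfl⟩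
      exact congrArg Subtype.val (mem_cent.1 hx s hs)
    obtain ⟨y, hy, hyx⟩ := h h1
    rwa [← L.subtype_injective hyx]

/-- Criterion for characteristic `p`. -/
theorem charP_of_pPrime_trivial [Finite G] [Fact p.Prime] {L : Subgroup G}
    (h : ∀ k ∈ L, ¬ p ∣ orderOf k → (∀ r ∈ Cfsg.pCoreOf p L, k * r = r * k) → k = 1) :
    L ⊓ Subgroup.centralizer (Cfsg.pCoreOf p L : Set G) ≤ Cfsg.pCoreOf p L := by
  refine le_pCoreOf inf_le_left (isPGroup_of_pPrime_trivial fun k hk hk' => ?_) ?_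
  · exact h k hk.1 hk' (mem_cent.1 hk.2)
  · intro l hl
    refine mem_normalizer_of_forall fun c hc => ⟨L.mul_mem (L.mul_mem hl hc.1) (L.inv_mem hl), mem_cent.2 ?_⟩
    intro r hr
    have h1 : l⁻¹ * r * l ∈ Cfsg.pCoreOf p L := by
      have := (Subgroup.mem_normalizer_iff.1 (le_normalizer_pCoreOf L (inv_mem hl)) r).1 hr
      rwa [inv_inv] at this
    have h2 := mem_cent.1 hc.2 _ h1
    calc l * c * l⁻¹ * r = l * (c * (l⁻¹ * r * l)) * l⁻¹ := by group
      _ = l * ((l⁻¹ * r * l) * c) * l⁻¹ := by rw [h2]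
      _ = r * (l * c * l⁻¹) := by group

/-- A nontrivial element of order prime to `p` does not lie in a `p`-group. -/
theorem eq_one_of_mem_pGroup [Fact p.Prime] {P : Subgroup G} (hP : IsPGroup p ↥P) {k : G} (hk : k ∈ P)
    (hk' : ¬ p ∣ orderOf k) : k = 1 :=
  eq_one_of_pow_orderOf (exists_pow_eq_one_of_mem hP hk) hk' (pow_orderOf_eq_one k)

variable [Finite G] [Fact p.Prime]

omit [Finite G] [Fact p.Prime] in
theorem pCore_conj {q : G} (hq : q ∈ Cfsg.pCore p G) (g : G) : g * q * g⁻¹ ∈ Cfsg.pCore p G :=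
  (H1.pCore_normal' p G).conj_mem q hq g

/-- If `O_p(G)` is self-centralising, so is `O_p(L)` for every `L` normalised by `O_p(G)`. -/
theorem charP_of_normalized (hG : Subgroup.centralizer (Cfsg.pCore p G : Set G) ≤ Cfsg.pCore p G)
    {L : Subgroup G} (hL : Cfsg.pCore p G ≤ Subgroup.normalizer (L : Set G)) :
    L ⊓ Subgroup.centralizer (Cfsg.pCoreOf p L : Set G) ≤ Cfsg.pCoreOf p L := by
  refine charP_of_pPrime_trivial fun k hk hk' hcomm => ?_
  refine eq_one_of_mem_pGroup (H1.isPGroup_pCore p G) (hG (mem_cent.2 fun q hq => ?_)) hk'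
  have hQL : Cfsg.pCore p G ⊓ L ≤ Cfsg.pCoreOf p L := by
    refine le_pCoreOf inf_le_right (H1.isPGroup_pCore p G).to_inf_left fun l hl => ?_
    exact mem_normalizer_of_forall fun x hx => ⟨pCore_conj hx.1 l, L.mul_mem (L.mul_mem hl hx.2) (L.inv_mem hl)⟩
  have hd : k * q * k⁻¹ * q⁻¹ ∈ Cfsg.pCore p G ⊓ L := by
    refine Subgroup.mem_inf.2 ⟨mul_mem (pCore_conj hq k) (inv_mem hq), ?_⟩
    have := mul_mem hk ((Subgroup.mem_normalizer_iff.1 (hL hq) k⁻¹).1 (inv_mem hk))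
    simpa [mul_assoc] using this
  exact commute_of_fix (H1.isPGroup_pCore p G).to_inf_left hd hk' (hcomm _ (hQL hd)) (by group)

/-- A self-centralising normal subgroup of a Sylow subgroup is self-centralising. -/
theorem centralizer_le_of_sylow (hG : Subgroup.centralizer (Cfsg.pCore p G : Set G) ≤ Cfsg.pCore p G)
    (T : Sylow p G) {Q : Subgroup G} (hQT : Q ≤ (T : Subgroup G))
    (hQn : (T : Subgroup G) ≤ Subgroup.normalizer (Q : Set G))
    (hC : (T : Subgroup G) ⊓ Subgroup.centralizer (Q : Set G) ≤ Q) :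
    Subgroup.centralizer (Q : Set G) ≤ Q := by
  have hp : IsPGroup p ↥(Subgroup.centralizer (Q : Set G)) := by
    refine isPGroup_of_pPrime_trivial fun k hk hk' => ?_
    refine eq_one_of_mem_pGroup (H1.isPGroup_pCore p G) (hG (mem_cent.2 ?_)) hk'
    refine thompson_AxB (H1.isPGroup_pCore p G) (T.2.to_le hQT) ?_ hk' (fun x hx => pCore_conj hx k)
      (mem_cent.1 hk) ?_
    · intro a _
      exact mem_normalizer_of_forall fun x hx => pCore_conj hx a
    · intro x hx hxA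
      have h1 : x ∈ Q := hC ⟨H1.pCore_le_sylow T hx, mem_cent.2 fun a ha => (hxA a ha).symm⟩
      exact mem_cent.1 hk x h1
  have hn : (T : Subgroup G) ≤ Subgroup.normalizer (Subgroup.centralizer (Q : Set G) : Set G) := by
    intro t ht
    refine mem_normalizer_of_forall fun c hc => mem_cent.2 fun s hs => ?_
    have h1 : t⁻¹ * s * t ∈ Q := by
      have := (Subgroup.mem_normalizer_iff.1 (hQn (inv_mem ht)) s).1 hs
      rwa [inv_inv] at this
    calc t * c * t⁻¹ * s = t * (c * (t⁻¹ * s * t)) * t⁻¹ := by group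
      _ = t * ((t⁻¹ * s * t) * c) * t⁻¹ := by rw [mem_cent.1 hc _ h1]
      _ = s * (t * c * t⁻¹) := by group
  have h2 := T.3 (T.2.to_sup_of_normal_right' hp hn) le_sup_left
  exact fun c hc => hC ⟨h2 ▸ Subgroup.mem_sup_right hc, hc⟩

/-- Overgroups of a self-centralising normal subgroup of a Sylow subgroup have characteristic `p`. -/
theorem charP_of_sylow_selfcentralizing
    (hG : Subgroup.centralizer (Cfsg.pCore p G : Set G) ≤ Cfsg.pCore p G)
    (T : Sylow p G) {Q : Subgroup G} (hQT : Q ≤ (T : Subgroup G))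
    (hQn : (T : Subgroup G) ≤ Subgroup.normalizer (Q : Set G))
    (hC : (T : Subgroup G) ⊓ Subgroup.centralizer (Q : Set G) ≤ Q) {L : Subgroup G} (hQL : Q ≤ L) :
    L ⊓ Subgroup.centralizer (Cfsg.pCoreOf p L : Set G) ≤ Cfsg.pCoreOf p L := by
  set R := Cfsg.pCoreOf p L with hR
  set P := Cfsg.pCore p G with hP
  have hCQ := centralizer_le_of_sylow hG T hQT hQn hC
  have hPL : P ⊓ L ≤ R := by
    refine le_pCoreOf inf_le_right (H1.isPGroup_pCore p G).to_inf_left fun l hl => ?_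
    exact mem_normalizer_of_forall fun x hx => ⟨pCore_conj hx.1 l, L.mul_mem (L.mul_mem hl hx.2) (L.inv_mem hl)⟩
  have hPLn : ∀ l ∈ L, ∀ x ∈ P ⊓ L, l * x * l⁻¹ ∈ P ⊓ L := fun l hl x hx =>
    ⟨pCore_conj hx.1 l, L.mul_mem (L.mul_mem hl hx.2) (L.inv_mem hl)⟩
  -- elements of `L` centralising `R` and moving `P` inside `P ⊓ L`
  let S : Subgroup G :=
    { carrier := {l | l ∈ L ∧ (∀ r ∈ R, l * r = r * l) ∧ ∀ n ∈ P, l * n * l⁻¹ * n⁻¹ ∈ P ⊓ L}
      one_mem' := ⟨one_mem L, fun r _ => by simp, fun n _ => by simp⟩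
      mul_mem' := by
        rintro a b ⟨ha1, ha2, ha3⟩ ⟨hb1, hb2, hb3⟩
        refine ⟨mul_mem ha1 hb1, fun r hr => ((show Commute a r from ha2 r hr).mul_left (hb2 r hr)).eq,
          fun n hn => ?_⟩
        have := mul_mem (hPLn a ha1 _ (hb3 n hn)) (ha3 n hn)
        simpa [mul_assoc] using this
      inv_mem' := by
        rintro a ⟨ha1, ha2, ha3⟩
        refine ⟨inv_mem ha1, fun r hr => (show Commute a r from ha2 r hr).inv_left.eq, fun n hn => ?_⟩
        have hm : a⁻¹ * n * a ∈ P := by simpa using pCore_conj hn a⁻¹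
        have := inv_mem (ha3 _ hm)
        simpa [mul_assoc] using this }
  have hSp : IsPGroup p ↥S := by
    refine isPGroup_of_pPrime_trivial fun c hc hc' => ?_
    obtain ⟨-, h2, h3⟩ : c ∈ L ∧ (∀ r ∈ R, c * r = r * c) ∧ ∀ n ∈ P, c * n * c⁻¹ * n⁻¹ ∈ P ⊓ L := hc
    refine eq_one_of_mem_pGroup (H1.isPGroup_pCore p G) (hG (mem_cent.2 fun n hn => ?_)) hc'
    exact commute_of_fix (H1.isPGroup_pCore p G).to_inf_left (h3 n hn) hc' (h2 _ (hPL (h3 n hn))) (by group)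
  have hRn : ∀ l ∈ L, ∀ r ∈ R, l * r * l⁻¹ ∈ R := fun l hl r hr =>
    (Subgroup.mem_normalizer_iff.1 (le_normalizer_pCoreOf L hl) r).1 hr
  have hSn : L ≤ Subgroup.normalizer (S : Set G) := by
    intro l hl
    refine mem_normalizer_of_forall fun a ha => ?_
    obtain ⟨ha1, ha2, ha3⟩ : a ∈ L ∧ (∀ r ∈ R, a * r = r * a) ∧ ∀ n ∈ P, a * n * a⁻¹ * n⁻¹ ∈ P ⊓ L := ha
    refine ⟨mul_mem (mul_mem hl ha1) (inv_mem hl), fun r hr => ?_, fun n hn => ?_⟩
    · have h1 := ha2 _ (hRn l⁻¹ (inv_mem hl) r hr)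
      rw [inv_inv] at h1
      calc l * a * l⁻¹ * r = l * (a * (l⁻¹ * r * l)) * l⁻¹ := by group
        _ = l * ((l⁻¹ * r * l) * a) * l⁻¹ := by rw [h1]
        _ = r * (l * a * l⁻¹) := by group
    · have hm : l⁻¹ * n * l ∈ P := by simpa using pCore_conj hn l⁻¹
      have := hPLn l hl _ (ha3 _ hm)
      simpa [mul_assoc] using this
  have hSR : S ≤ R := le_pCoreOf (fun x hx => hx.1) hSp hSn
  refine charP_of_pPrime_trivial fun k hk hk' hcomm => ?_
  refine eq_one_of_mem_pGroup (T.2.to_le hQT) (hCQ (mem_cent.2 fun q hq => ?_)) hk'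
  -- `q` moves `P` inside `P ⊓ L`
  have hqP : ∀ q' ∈ Q, ∀ n ∈ P, q' * n * q'⁻¹ * n⁻¹ ∈ P ⊓ L := by
    intro q' hq' n hn
    refine Subgroup.mem_inf.2 ⟨mul_mem (pCore_conj hn q') (inv_mem hn), hQL ?_⟩
    have := mul_mem hq' ((Subgroup.mem_normalizer_iff.1 (hQn (H1.pCore_le_sylow T hn)) q'⁻¹).1 (inv_mem hq'))
    simpa [mul_assoc] using this
  have hcS : q * k * q⁻¹ * k⁻¹ ∈ S := by
    have hqL := hQL hq
    refine ⟨mul_mem (mul_mem (mul_mem hqL hk) (inv_mem hqL)) (inv_mem hk), fun r hr => ?_, fun n hn => ?_⟩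
    · have h1 := hcomm _ (hRn q⁻¹ (inv_mem hqL) r hr)
      rw [inv_inv] at h1
      have h2 : Commute (q * k * q⁻¹) r := by
        show _ = _
        calc q * k * q⁻¹ * r = q * (k * (q⁻¹ * r * q)) * q⁻¹ := by group
          _ = q * ((q⁻¹ * r * q) * k) * q⁻¹ := by rw [h1]
          _ = r * (q * k * q⁻¹) := by group
      exact (h2.mul_left (show Commute k r from hcomm r hr).inv_left).eq
    · have hm : k⁻¹ * n * k ∈ P := by simpa using pCore_conj hn k⁻¹
      have e1 := hqP q⁻¹ (inv_mem hq) _ hm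
      have e2 := hPLn k hk _ e1
      have e3 := mul_mem (hPLn q hqL _ e2) (hqP q hq n hn)
      simpa [mul_assoc] using e3
  set c := q * k * q⁻¹ * k⁻¹ with hc
  have hck : c * k = k * c := (hcomm _ (hSR hcS)).symm
  have hconj : (q * k * q⁻¹) ^ orderOf k = 1 := by rw [conj_pow, pow_orderOf_eq_one]; group
  have hpow : c ^ orderOf k = 1 := by
    rw [show q * k * q⁻¹ = c * k by rw [hc]; group, (show Commute c k from hck).mul_pow,
      pow_orderOf_eq_one, mul_one] at hconj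
    exact hconj
  have hc1 := eq_one_of_pow_orderOf (exists_pow_eq_one_of_mem hSp hcS) hk' hpow
  rw [hc, mul_inv_eq_one] at hc1
  exact (conj_eq_self_iff.1 hc1).symm

end H77

namespace H77

theorem charP_equiv {A B : Type*} [Group A] [Group B] {p : ℕ} (e : A ≃* B)
    (h : Subgroup.centralizer (Cfsg.pCore p A : Set A) ≤ Cfsg.pCore p A) :
    Subgroup.centralizer (Cfsg.pCore p B : Set B) ≤ Cfsg.pCore p B := by
  intro b hb
  rw [← H1.map_pCore_equiv p e] at hb ⊢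
  refine ⟨e.symm b, h (mem_cent.2 fun s hs => ?_), by simp⟩
  apply e.injective
  have := mem_cent.1 hb (e s) ⟨s, hs, rfl⟩
  simpa using this

end H77
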