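import Cfsg.Prelude.Def_SylowControl
import Mathlib.Data.List.OfFn
import Cfsg.Agent.H77.Conj

/-! Chains of Sylow subgroups linked through members of a family; control of intersections and of fusion. -/

set_option autoImplicit false

namespace H77

variable {G : Type*} [Group G] [Finite G] {p : ℕ} [Fact p.Prime]

theorem mem_sylowMembers_iff {𝓕 : Set (Subgroup G)} {S X : Subgroup G} (hS : IsPGroup p ↥S) :
    X ∈ Cfsg.sylowMembers p 𝓕 S ↔ X ∈ 𝓕 ∧ ¬ p ∣ (S ⊓ X).relIndex X := by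
  constructor
  · rintro ⟨hX, P, hP⟩
    refine ⟨hX, ?_⟩
    have : (S ⊓ X).subgroupOf X = (P : Subgroup ↥X) := by
      rw [← hP, Subgroup.subgroupOf, Subgroup.comap_map_eq_self_of_injective X.subtype_injective]
    rw [Subgroup.relIndex, this]
    exact P.not_dvd_index
  · rintro ⟨hX, h⟩
    refine ⟨hX, IsPGroup.toSylow (hS.to_inf_left.comap_subtype (K := X)) h, ?_⟩
    exact Subgroup.map_subgroupOf_eq_of_le inf_le_right

theorem mem_sylowMembers_of_le {𝓕 : Set (Subgroup G)} {S : Sylow p G} {X : Subgroup G} (hX : X ∈ 𝓕)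
    (hSX : (S : Subgroup G) ≤ X) : X ∈ Cfsg.sylowMembers p 𝓕 (S : Subgroup G) := by
  refine (mem_sylowMembers_iff S.2).2 ⟨hX, ?_⟩
  rw [inf_of_le_left hSX, Subgroup.relIndex]
  have := (S.subtype hSX).not_dvd_index
  rwa [Sylow.coe_subtype] at this

theorem sylowMembers_cmap {𝓕 : Set (Subgroup G)} (h𝓕 : Cfsg.IsNormalSet 𝓕) {S X : Subgroup G}
    (hS : IsPGroup p ↥S) (h : X ∈ Cfsg.sylowMembers p 𝓕 S) (g : G) :
    cmap g X ∈ Cfsg.sylowMembers p 𝓕 (cmap g S) := by
  rw [mem_sylowMembers_iff hS] at h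
  refine (mem_sylowMembers_iff (hS.map _)).2 ⟨?_, ?_⟩
  · have := h𝓕 X h.1 g⁻¹
    rwa [Cfsg.subgroupConjRight, inv_inv] at this
  · rw [← cmap_inf, Subgroup.relIndex_map_map_of_injective _ _ (MulAut.conj g).injective]
    exact h.2

/-- One step of a chain of Sylow subgroups above `D` through the family `𝓕`. -/
def ChainStep (p : ℕ) (𝓕 : Set (Subgroup G)) (D : Subgroup G) (a b : Sylow p G) : Prop :=
  ∃ (X : Subgroup G) (x : G), X ∈ Cfsg.sylowMembers p 𝓕 (a : Subgroup G) ∧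
    X ∈ Cfsg.sylowMembers p 𝓕 (b : Subgroup G) ∧ x ∈ X ∧
    Cfsg.subgroupConjRight x (b : Subgroup G) = (a : Subgroup G) ∧ D ≤ (b : Subgroup G) ⊓ X

omit [Finite G] [Fact p.Prime] in
theorem ChainStep.mono {𝓕 𝓕' : Set (Subgroup G)} (hsub : 𝓕 ⊆ 𝓕') {D D' : Subgroup G} (hD : D' ≤ D)
    {a b : Sylow p G} (h : ChainStep p 𝓕 D a b) : ChainStep p 𝓕' D' a b := by
  obtain ⟨X, x, ⟨hX, h1⟩, ⟨_, h2⟩, h3, h4, h5⟩ := h
  exact ⟨X, x, ⟨hsub hX, h1⟩, ⟨hsub hX, h2⟩, h3, h4, hD.trans h5⟩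

omit [Finite G] [Fact p.Prime] in
theorem chain_of_fin {𝓕 : Set (Subgroup G)} {D : Subgroup G} {n : ℕ} (c : Fin (n + 1) → Sylow p G)
    (h : ∀ i : Fin n, ChainStep p 𝓕 D (c i.castSucc) (c i.succ)) :
    Relation.ReflTransGen (ChainStep p 𝓕 D) (c 0) (c (Fin.last n)) := by
  suffices ∀ i : Fin (n + 1), Relation.ReflTransGen (ChainStep p 𝓕 D) (c 0) (c i) from this _
  intro i
  induction i using Fin.induction with
  | zero => exact Relation.ReflTransGen.refl
  | succ j ih => exact ih.tail (h j)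

omit [Finite G] [Fact p.Prime] in
theorem fin_of_chain {𝓕 : Set (Subgroup G)} {D : Subgroup G} {a b : Sylow p G}
    (h : Relation.ReflTransGen (ChainStep p 𝓕 D) a b) :
    ∃ (n : ℕ) (c : Fin (n + 1) → Sylow p G), c 0 = a ∧ c (Fin.last n) = b ∧
      ∀ i : Fin n, ChainStep p 𝓕 D (c i.castSucc) (c i.succ) := by
  induction h with
  | refl => exact ⟨0, fun _ => a, rfl, rfl, fun i => i.elim0⟩
  | @tail b c' _ hbc ih =>
    obtain ⟨n, c, h0, hn, hs⟩ := ih
    refine ⟨n + 1, Fin.snoc c c', ?_, Fin.snoc_last _ _, ?_⟩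
    · rw [← Fin.castSucc_zero, Fin.snoc_castSucc, h0]
    · intro i
      induction i using Fin.lastCases with
      | last => rw [Fin.snoc_castSucc, Fin.succ_last, Fin.snoc_last, hn]; exact hbc
      | cast j => rw [Fin.snoc_castSucc, Fin.succ_castSucc, Fin.snoc_castSucc]; exact hs j

omit [Finite G] [Fact p.Prime] in
theorem controls_iff_chain {𝓕 : Set (Subgroup G)} :
    Cfsg.ControlsSylowIntersections p 𝓕 ↔ ∀ S T : Sylow p G, S ≠ T →
      (S : Subgroup G) ⊓ (T : Subgroup G) ≠ ⊥ →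
      Relation.ReflTransGen (ChainStep p 𝓕 ((S : Subgroup G) ⊓ (T : Subgroup G))) S T := by
  constructor
  · intro h S T hne hD
    obtain ⟨n, c, X, x, h0, hn, hs⟩ := h S T hne hD
    rw [← h0, ← hn]
    refine chain_of_fin c fun i => ⟨X i, x i, ?_⟩
    rw [h0, hn]
    exact hs i
  · intro h S T hne hD
    obtain ⟨n, c, h0, hn, hs⟩ := fin_of_chain (h S T hne hD)
    choose X x hx using hs
    exact ⟨n, c, X, x, h0, hn, hx⟩

/-- A chain from `S` to `g • S` yields a factorization of `g`. -/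
theorem factor_of_chain {𝓕 : Set (Subgroup G)} (h𝓕 : Cfsg.IsNormalSet 𝓕) {D : Subgroup G}
    (S : Sylow p G) {n : ℕ} (c : Fin (n + 1) → Sylow p G) (X : Fin n → Subgroup G) (x : Fin n → G)
    (h0 : c 0 = S) {g : G} (hn : c (Fin.last n) = g • S)
    (hs : ∀ i : Fin n, X i ∈ Cfsg.sylowMembers p 𝓕 (c i.castSucc : Subgroup G) ∧
      X i ∈ Cfsg.sylowMembers p 𝓕 (c i.succ : Subgroup G) ∧ x i ∈ X i ∧
      Cfsg.subgroupConjRight (x i) (c i.succ : Subgroup G) = (c i.castSucc : Subgroup G) ∧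
      D ≤ (c i.succ : Subgroup G) ⊓ X i) :
    ∃ (Y : Fin n → Subgroup G) (y : Fin n → G) (y₀ : G),
      y₀ ∈ Subgroup.normalizer ((S : Subgroup G) : Set G) ∧
      (∀ i, Y i ∈ Cfsg.sylowMembers p 𝓕 (S : Subgroup G) ∧ y i ∈ Y i) ∧
      g = (List.ofFn y).prod * y₀ ∧
      ∀ i : Fin n, cmap (((List.ofFn y).take (i.val + 1)).prod)⁻¹ D ≤ (S : Subgroup G) ⊓ Y i := by
  classical
  let k : ℕ → G := fun m => Nat.rec 1 (fun i r => if h : i < n then x ⟨i, h⟩ * r else r) m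
  have hk0 : k 0 = 1 := rfl
  have hks : ∀ i : Fin n, k (i.val + 1) = x i * k i.val := fun i => by simp [k]
  have hc : ∀ i : Fin (n + 1), (c i : Subgroup G) = cmap (k i.val) (S : Subgroup G) := by
    intro i
    induction i using Fin.induction with
    | zero => rw [h0, Fin.val_zero, hk0, cmap_one]
    | succ j ih =>
      have h1 := (hs j).2.2.2.1
      rw [Cfsg.subgroupConjRight, ih, Fin.val_castSucc] at h1
      rw [Fin.val_succ, hks, ← cmap_cmap, ← h1]
      exact (cmap_cmap_inv _ _).symm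
  let y : Fin n → G := fun i => (k i.val)⁻¹ * x i * k i.val
  have hprod : ∀ i : ℕ, i ≤ n → ((List.ofFn y).take i).prod = k i := by
    intro i
    induction i with
    | zero => intro _; simp [hk0]
    | succ j ih =>
      intro hj
      rw [List.prod_take_succ _ _ (by simpa using hj), ih (by omega), List.getElem_ofFn,
        hks ⟨j, hj⟩]
      simp [y, mul_assoc]
  have hlast : (List.ofFn y).prod = k n := by
    have h := hprod n le_rfl
    rwa [List.take_of_length_le (by simp)] at h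
  refine ⟨fun i => cmap (k i.val)⁻¹ (X i), y, (k n)⁻¹ * g, ?_, ?_, by rw [hlast]; group, ?_⟩
  · apply mem_normalizer_of_cmap_eq
    rw [← cmap_cmap, ← sylow_smul_coe, ← hn, hc (Fin.last n)]
    simp [cmap_cmap, cmap_one]
  · intro i
    have h := sylowMembers_cmap h𝓕 (c i.castSucc).2 (hs i).1 (k i.val)⁻¹
    rw [hc i.castSucc, Fin.val_castSucc, cmap_inv_cmap] at h
    refine ⟨h, ?_⟩
    have h2 := conj_mem_cmap (g := (k i.val)⁻¹) (hs i).2.2.1
    simpa [y] using h2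
  · intro i
    have h := cmap_mono (k (i.val + 1))⁻¹ (hs i).2.2.2.2
    rw [cmap_inf, hc i.succ, Fin.val_succ, cmap_inv_cmap] at h
    rw [hprod _ i.2]
    refine h.trans (inf_le_inf_left _ ?_)
    rw [hks, mul_inv_rev, ← cmap_cmap]
    refine cmap_mono _ ?_
    rw [cmap_eq_of_mem_normalizer (Subgroup.le_normalizer ((X i).inv_mem (hs i).2.2.1))]

theorem controls_of_stronglyControls {𝓕 : Set (Subgroup G)} (h𝓕 : Cfsg.IsNormalSet 𝓕)
    (h : Cfsg.FamilyStronglyControlsFusion p 𝓕) : Cfsg.ControlsSylowIntersections p 𝓕 := by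
  classical
  intro S T hne hD
  obtain ⟨g, rfl⟩ := MulAction.exists_smul_eq G S T
  set D := (S : Subgroup G) ⊓ ((g • S : Sylow p G) : Subgroup G) with hDdef
  have hA : Cfsg.conjRight g (D : Set G) ⊆ (S : Set G) := by
    rintro _ ⟨d, hd, rfl⟩
    have h2 : d ∈ ((g • S : Sylow p G) : Subgroup G) := (Subgroup.mem_inf.1 hd).2
    rw [sylow_smul_coe, mem_cmap] at h2
    exact h2
  obtain ⟨n, Y, y, y₀, hy₀, hY, hg, hch⟩ := h S (D : Set G) g (fun d hd => (Subgroup.mem_inf.1 hd).1)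
    (by
      obtain ⟨d, hd, hd1⟩ := (Subgroup.bot_or_exists_ne_one D).resolve_left hD
      exact ⟨d, hd, hd1⟩) hA
  let k : ℕ → G := fun i => ((List.ofFn y).take i).prod
  have hks : ∀ i : Fin n, k (i.val + 1) = k i.val * y i := fun i => by
    simp only [k]
    rw [List.prod_take_succ _ _ (by simp), List.getElem_ofFn]
  refine ⟨n, fun i => k i.val • S, fun i => cmap (k i.val) (Y i),
    fun i => k i.val * y i * (k i.val)⁻¹, ?_, ?_, fun i => ?_⟩
  · simp [k]
  · have hkn : k n = (List.ofFn y).prod := by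
      simp only [k]; rw [List.take_of_length_le (by simp)]
    show k (Fin.last n).val • S = g • S
    rw [Fin.val_last, hg, hkn, mul_smul]
    congr 1
    exact (Sylow.smul_eq_iff_mem_normalizer.2 hy₀).symm
  · have hYk : cmap (k (i.val + 1)) (Y i) = cmap (k i.val) (Y i) := by
      rw [hks, ← cmap_cmap, cmap_eq_of_mem_normalizer (Subgroup.le_normalizer (hY i).2)]
    dsimp only
    refine ⟨?_, ?_, conj_mem_cmap (hY i).2, ?_, ?_⟩
    · rw [sylow_smul_coe, Fin.val_castSucc]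
      exact sylowMembers_cmap h𝓕 S.2 (hY i).1 _
    · rw [sylow_smul_coe, Fin.val_succ, ← hYk]
      exact sylowMembers_cmap h𝓕 S.2 (hY i).1 _
    · rw [sylow_smul_coe, sylow_smul_coe, Fin.val_succ, Fin.val_castSucc, hks]
      show cmap _ (cmap _ _) = _
      rw [cmap_cmap]
      congr 1
      group
    · intro d hd
      have h1 := hch i ⟨d, hd, rfl⟩
      rw [Subgroup.mem_inf, sylow_smul_coe, Fin.val_succ, mem_cmap, ← hYk, mem_cmap]
      exact ⟨h1.1, h1.2⟩

theorem stronglyControls_of_controls {𝓕 : Set (Subgroup G)} (h𝓕 : Cfsg.IsNormalSet 𝓕)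
    (h : Cfsg.ControlsSylowIntersections p 𝓕) : Cfsg.FamilyStronglyControlsFusion p 𝓕 := by
  classical
  intro S A g hAS ⟨a, haA, ha1⟩ hgA
  by_cases hgS : g • S = S
  · exact ⟨0, Fin.elim0, Fin.elim0, g, Sylow.smul_eq_iff_mem_normalizer.1 hgS, fun i => i.elim0,
      by simp, fun i => i.elim0⟩
  set D := (S : Subgroup G) ⊓ ((g • S : Sylow p G) : Subgroup G) with hDdef
  have hAD : ∀ d ∈ A, d ∈ D := by
    intro d hd
    refine Subgroup.mem_inf.2 ⟨hAS hd, ?_⟩
    rw [sylow_smul_coe, mem_cmap]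
    exact hgA ⟨d, hd, rfl⟩
  have hD : D ≠ ⊥ := fun h0 => ha1 (Subgroup.mem_bot.1 (h0 ▸ hAD a haA))
  obtain ⟨n, c, X, x, h0, hn, hs⟩ := h S (g • S) (Ne.symm hgS) hD
  obtain ⟨Y, y, y₀, hy₀, hY, hg, hch⟩ := factor_of_chain h𝓕 (D := D) S c X x h0 hn hs
  refine ⟨n, Y, y, y₀, hy₀, hY, hg, fun i => ?_⟩
  rintro _ ⟨d, hd, rfl⟩
  have := hch i (conj_mem_cmap (hAD d hd))
  rw [inv_inv] at this
  exact Subgroup.mem_inf.1 this

end H77
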