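import Cfsg.Prelude.Def_SylowChains
import Cfsg.Agent.H77.SylowChain
import Mathlib.GroupTheory.Nilpotent

/-! Regularity for normalizer functors: lifting chains, and the induction of Alperin type. -/

set_option autoImplicit false

namespace H77

variable {G : Type*} [Group G] [Finite G] {p : ℕ} [Fact p.Prime]

/-- Normalisers grow in `p`-groups. -/
theorem normalizer_inf_gt {D S : Subgroup G} (hS : IsPGroup p ↥S) (hDS : D < S) :
    D < S ⊓ Subgroup.normalizer (D : Set G) := by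
  haveI := hS.isNilpotent
  have hlt : D.subgroupOf S < ⊤ := lt_top_iff_ne_top.2 fun h => hDS.not_ge (Subgroup.subgroupOf_eq_top.1 h)
  obtain ⟨n, hn, hn'⟩ := SetLike.exists_of_lt (normalizerCondition_of_isNilpotent (G := ↥S) _ hlt)
  refine lt_of_le_of_ne (le_inf hDS.le Subgroup.le_normalizer) fun h => hn' ?_
  rw [Subgroup.mem_subgroupOf, h]
  refine ⟨n.2, mem_normalizer_of_forall fun a ha => ?_⟩
  have h1 := (Subgroup.mem_normalizer_iff.1 hn ⟨a, hDS.le ha⟩).1 (Subgroup.mem_subgroupOf.2 ha)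
  simpa [Subgroup.mem_subgroupOf] using h1

/-- If a member of a family contains a Sylow subgroup, it contains every Sylow subgroup meeting it in a
Sylow subgroup of it. -/
theorem sylow_le_of_member {S P : Sylow p G} {X : Subgroup G} {𝓕 : Set (Subgroup G)}
    (hP : (P : Subgroup G) ≤ X) (h : X ∈ Cfsg.sylowMembers p 𝓕 (S : Subgroup G)) :
    (S : Subgroup G) ≤ X := by
  have hm := (mem_sylowMembers_iff S.2).1 h
  obtain ⟨k, hk⟩ := IsPGroup.iff_card.1 S.2
  have h1 : p ^ k ∣ Nat.card ↥((S : Subgroup G) ⊓ X : Subgroup G) * ((S : Subgroup G) ⊓ X).relIndex X := by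
    rw [← Subgroup.relIndex_bot_left, Subgroup.relIndex_mul_relIndex _ _ _ bot_le inf_le_right,
      Subgroup.relIndex_bot_left, ← hk, show Nat.card ↥(S : Subgroup G) = Nat.card ↥(P : Subgroup G) from
        Nat.card_congr (Sylow.equiv S P).toEquiv]
    exact Subgroup.card_dvd_of_le hP
  have h2 : p ^ k ∣ Nat.card ↥((S : Subgroup G) ⊓ X : Subgroup G) :=
    (Nat.Coprime.pow_left k ((Fact.out : p.Prime).coprime_iff_not_dvd.2 hm.2)).dvd_of_dvd_mul_right h1
  have h3 : (S : Subgroup G) ⊓ X = (S : Subgroup G) :=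
    Subgroup.eq_of_le_of_card_ge inf_le_left (hk ▸ Nat.le_of_dvd Nat.card_pos h2)
  exact h3 ▸ inf_le_right

theorem exists_sylow_eq_map {M : Subgroup G} (S : Sylow p G) (hS : (S : Subgroup G) ≤ M)
    (a : Sylow p ↥M) : ∃ U : Sylow p G, (U : Subgroup G) = (a : Subgroup ↥M).map M.subtype := by
  obtain ⟨k, hk⟩ := MulAction.exists_smul_eq (↥M) (S.subtype hS) a
  refine ⟨(k : G) • S, ?_⟩
  rw [← hk, sylow_smul_coe, sylow_smul_coe, Sylow.coe_subtype]
  show cmap (k : G) (S : Subgroup G) = (((S : Subgroup G).subgroupOf M).map (MulAut.conj k).toMonoidHom).map M.subtype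
  conv_lhs => rw [← Subgroup.map_subgroupOf_eq_of_le hS]
  rw [Subgroup.map_map, cmap, Subgroup.map_map]
  congr 1

theorem normalizer_mem_functorFamily {f : Subgroup G → Set (Subgroup G)} (R : Sylow p G) {F : Subgroup G}
    (hF : F ∈ f (R : Subgroup G)) : Subgroup.normalizer (F : Set G) ∈ Cfsg.functorFamily p f ⊤ := by
  refine ⟨R.subtype le_top, F, ?_, by rw [top_inf_eq]⟩
  rwa [Sylow.coe_subtype, Subgroup.map_subgroupOf_eq_of_le le_top]

theorem functorFamily_top_normal {f : Subgroup G → Set (Subgroup G)}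
    (hf : Cfsg.IsNormalizerFunctor p f) : Cfsg.IsNormalSet (Cfsg.functorFamily p f (⊤ : Subgroup G)) := by
  rintro X ⟨P, F, hF, rfl⟩ g
  obtain ⟨R, hR⟩ := exists_sylow_eq_map (default : Sylow p G) le_top P
  rw [← hR] at hF
  have h := (hf _ R.2).2 g⁻¹
  have : cmap g⁻¹ F ∈ f ((g⁻¹ • R : Sylow p G) : Subgroup G) := by
    rw [sylow_smul_coe, cmap, h]; exact ⟨F, hF, rfl⟩
  rw [top_inf_eq]
  show cmap g⁻¹ (Subgroup.normalizer (F : Set G)) ∈ _
  rw [cmap_normalizer]
  exact normalizer_mem_functorFamily _ this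

theorem chain_cmap {𝓕 : Set (Subgroup G)} (h𝓕 : Cfsg.IsNormalSet 𝓕) {D : Subgroup G} (g : G)
    {a b : Sylow p G} (h : Relation.ReflTransGen (ChainStep p 𝓕 D) a b) :
    Relation.ReflTransGen (ChainStep p 𝓕 (cmap g D)) (g • a) (g • b) := by
  refine Relation.ReflTransGen.lift (fun c => g • c) ?_ _ _ h
  rintro c d ⟨X, x, h1, h2, h3, h4, h5⟩
  refine ⟨cmap g X, g * x * g⁻¹, ?_, ?_, conj_mem_cmap h3, ?_, ?_⟩
  · rw [sylow_smul_coe]; exact sylowMembers_cmap h𝓕 c.2 h1 g
  · rw [sylow_smul_coe]; exact sylowMembers_cmap h𝓕 d.2 h2 g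
  · show cmap _ _ = _
    rw [sylow_smul_coe, sylow_smul_coe, ← h4]
    show _ = cmap g (cmap x⁻¹ _)
    rw [cmap_cmap, cmap_cmap]
    congr 1
    group
  · rw [sylow_smul_coe, ← cmap_inf]; exact cmap_mono g h5

/-- A chain inside a regular subgroup. -/
theorem chain_in_regular {f : Subgroup G → Set (Subgroup G)} {M : Subgroup G}
    (hreg : Cfsg.IsFunctorRegular p f M) {a b : Sylow p ↥M} {D : Subgroup ↥M} (hD : D ≠ ⊥)
    (ha : D ≤ (a : Subgroup ↥M)) (hb : D ≤ (b : Subgroup ↥M)) :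
    Relation.ReflTransGen
      (ChainStep p ((fun X : Subgroup G => X.subgroupOf M) '' Cfsg.functorFamily p f M) D) a b := by
  by_cases hab : a = b
  · rw [hab]
  · refine Relation.ReflTransGen.lift id (fun _ _ h => ?_) _ _
      (controls_iff_chain.1 hreg a b hab fun h => hD (le_bot_iff.1 (h ▸ le_inf ha hb)))
    exact h.mono subset_rfl (le_inf ha hb)

/-- Data of a step in a regular subgroup. -/
theorem step_in_regular {f : Subgroup G → Set (Subgroup G)} (hf : Cfsg.IsNormalizerFunctor p f)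
    {M : Subgroup G} {a b : Sylow p ↥M} {D : Subgroup ↥M}
    (h : ChainStep p ((fun X : Subgroup G => X.subgroupOf M) '' Cfsg.functorFamily p f M) D a b) :
    ∃ (R : Sylow p ↥M) (F : Subgroup G) (y : G), F ∈ f ((R : Subgroup ↥M).map M.subtype) ∧
      F ≤ (R : Subgroup ↥M).map M.subtype ∧
      Subgroup.normalizer (((R : Subgroup ↥M).map M.subtype : Subgroup G) : Set G) ≤
        Subgroup.normalizer (F : Set G) ∧
      (a : Subgroup ↥M).map M.subtype ≤ Subgroup.normalizer (F : Set G) ∧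
      (b : Subgroup ↥M).map M.subtype ≤ Subgroup.normalizer (F : Set G) ∧
      y ∈ M ∧ y ∈ Subgroup.normalizer (F : Set G) ∧
      (b : Subgroup ↥M).map M.subtype = cmap y ((a : Subgroup ↥M).map M.subtype) ∧
      D ≤ (b : Subgroup ↥M) := by
  obtain ⟨X, x, h1, h2, h3, h4, h5⟩ := h
  obtain ⟨X₀, ⟨R, F, hF, rfl⟩, rfl⟩ := h1.1
  obtain ⟨hF1, hF2⟩ := (hf _ (R.2.map M.subtype)).1 F hF
  have hRX : (R : Subgroup ↥M) ≤ (M ⊓ Subgroup.normalizer (F : Set G)).subgroupOf M := by
    intro r hr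
    rw [Subgroup.mem_subgroupOf]
    exact ⟨r.2, hF2 (Subgroup.le_normalizer ⟨r, hr, rfl⟩)⟩
  refine ⟨R, F, (x : G), hF, hF1, hF2, ?_, ?_, x.2, (Subgroup.mem_subgroupOf.1 h3).2, ?_, h5.trans inf_le_left⟩
  · rintro _ ⟨z, hz, rfl⟩
    exact (Subgroup.mem_subgroupOf.1 (sylow_le_of_member hRX h1 hz)).2
  · rintro _ ⟨z, hz, rfl⟩
    exact (Subgroup.mem_subgroupOf.1 (sylow_le_of_member hRX h2 hz)).2
  · rw [← h4]
    show _ = cmap (x : G) ((cmap x⁻¹ (b : Subgroup ↥M)).map M.subtype)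
    conv_lhs => rw [← cmap_cmap_inv x (b : Subgroup ↥M)]
    simp only [cmap, Subgroup.map_map]
    congr 1

/-- Chains between Sylow subgroups of `G` contained in a regular subgroup. -/
theorem chain_of_regular {f : Subgroup G → Set (Subgroup G)} (hf : Cfsg.IsNormalizerFunctor p f)
    {M : Subgroup G} (hreg : Cfsg.IsFunctorRegular p f M) {U T : Sylow p G} (hU : (U : Subgroup G) ≤ M)
    (hT : (T : Subgroup G) ≤ M) {D : Subgroup G} (hD : D ≠ ⊥) (hDU : D ≤ (U : Subgroup G))
    (hDT : D ≤ (T : Subgroup G)) :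
    Relation.ReflTransGen (ChainStep p (Cfsg.functorFamily p f ⊤) D) U T := by
  have hDM : D ≤ M := hDU.trans hU
  have hch := chain_in_regular hreg (a := U.subtype hU) (b := T.subtype hT) (D := D.subgroupOf M)
    (by rwa [ne_eq, Subgroup.subgroupOf_eq_bot, disjoint_iff, inf_of_le_left hDM])
    (by rw [Sylow.coe_subtype]; exact fun x hx => hDU hx)
    (by rw [Sylow.coe_subtype]; exact fun x hx => hDT hx)
  suffices ∀ b, Relation.ReflTransGen
      (ChainStep p ((fun X : Subgroup G => X.subgroupOf M) '' Cfsg.functorFamily p f M) (D.subgroupOf M))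
      (U.subtype hU) b →
      ∀ B : Sylow p G, (B : Subgroup G) = (b : Subgroup ↥M).map M.subtype →
        Relation.ReflTransGen (ChainStep p (Cfsg.functorFamily p f ⊤) D) U B from
    this _ hch T (by rw [Sylow.coe_subtype, Subgroup.map_subgroupOf_eq_of_le hT])
  intro b hb
  induction hb with
  | refl =>
    intro B hB
    rw [Sylow.coe_subtype, Subgroup.map_subgroupOf_eq_of_le hU] at hB
    rw [Sylow.ext hB]
  | @tail a b _ hstep ih =>
    intro B hB
    obtain ⟨A, hA⟩ := exists_sylow_eq_map U hU a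
    refine (ih A hA).tail ?_
    obtain ⟨R, F, y, hF, -, -, ha, hb, -, hy, hyb, hDb⟩ := step_in_regular hf hstep
    obtain ⟨R', hR'⟩ := exists_sylow_eq_map U hU R
    rw [← hR'] at hF
    rw [← hA] at ha hyb
    rw [← hB] at hb hyb
    have hfam := normalizer_mem_functorFamily R' hF
    refine ⟨_, y, mem_sylowMembers_of_le hfam ha, mem_sylowMembers_of_le hfam hb, hy, ?_, ?_⟩
    · show cmap y⁻¹ _ = _
      rw [hyb, cmap_inv_cmap]
    · have hDB : D ≤ (B : Subgroup G) := fun x hx =>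
        hB.symm ▸ (⟨⟨x, hDM hx⟩, hDb (Subgroup.mem_subgroupOf.2 hx), rfl⟩ :
          x ∈ (b : Subgroup ↥M).map M.subtype)
      exact le_inf hDB (hDB.trans hb)

end H77
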