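import Cfsg.Agent.H77.ActTwo
import Mathlib.Data.Set.Finite.Lemmas
import Mathlib.Tactic.Linarith

/-!
Elements of order 3 with a four-group commutator, transvections, and the key offender computation.
-/

set_option autoImplicit false

namespace H77

variable {X V : Type*} [Group X] [CommGroup V] [MulDistribMulAction X V]

/-- An element of order 3 whose commutator group on `V` has order 4. -/
def IsTiny (V : Type*) [CommGroup V] [MulDistribMulAction X V] (x : X) : Prop :=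
  orderOf x = 3 ∧ Nat.card ↥(disp x : V →* V).range = 4

/-- An involution whose commutator group on `V` has order 2. -/
def IsTransv (V : Type*) [CommGroup V] [MulDistribMulAction X V] (a : X) : Prop :=
  a * a = 1 ∧ Nat.card ↥(disp a : V →* V).range = 2

/-- The best-offender inequality. -/
def IsOffer (V : Type*) [CommGroup V] [MulDistribMulAction X V] (A : Subgroup X) : Prop :=
  ∀ B : Subgroup X, B ≤ A →
    Nat.card ↥B * Nat.card ↥(fixBy B : Subgroup V) ≤ Nat.card ↥A * Nat.card ↥(fixBy A : Subgroup V)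

variable (hV : ∀ v : V, v * v = 1)
include hV

theorem range_inf_ker_eq_bot {x : X} (hodd : Odd (orderOf x)) :
    (disp x : V →* V).range ⊓ (disp x).ker = ⊥ := by
  rw [eq_bot_iff]
  intro v hv
  exact Subgroup.mem_bot.2 (range_disp_fix_eq_one hV hodd (Subgroup.mem_inf.1 hv).1
    (mem_ker_disp.1 (Subgroup.mem_inf.1 hv).2))

/-- `V = [V,x] × C_V(x)` for `x` of odd order. -/
theorem exists_range_mul_ker [Finite V] {x : X} (hodd : Odd (orderOf x)) (v : V) :
    ∃ r ∈ (disp x : V →* V).range, ∃ k ∈ (disp x : V →* V).ker, r * k = v := by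
  let f : ↥(disp x : V →* V).range × ↥(disp x : V →* V).ker → V := fun z => (z.1 : V) * (z.2 : V)
  have hinj : Function.Injective f := by
    intro u w h
    have h1 : ((w.1 : V))⁻¹ * (u.1 : V) = (w.2 : V) * ((u.2 : V))⁻¹ := by
      rw [eq_mul_inv_iff_mul_eq, mul_assoc, inv_mul_eq_iff_eq_mul]
      exact h
    have h2 : ((w.1 : V))⁻¹ * (u.1 : V) ∈ (disp x : V →* V).range ⊓ (disp x).ker :=
      Subgroup.mem_inf.2 ⟨mul_mem (inv_mem w.1.2) u.1.2, h1 ▸ mul_mem w.2.2 (inv_mem u.2.2)⟩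
    rw [range_inf_ker_eq_bot hV hodd, Subgroup.mem_bot] at h2
    refine Prod.ext (Subtype.ext (inv_mul_eq_one.1 h2).symm) (Subtype.ext ?_)
    rw [h2] at h1
    exact (mul_inv_eq_one.1 h1.symm).symm
  have hbij : Function.Bijective f := (Nat.bijective_iff_injective_and_card f).2
    ⟨hinj, by rw [Nat.card_prod, ← card_eq_range_mul_ker]⟩
  obtain ⟨⟨⟨r, hr⟩, ⟨k, hk⟩⟩, h⟩ := hbij.2 v
  exact ⟨r, hr, k, hk, h⟩

theorem eq_one_of_fix_range_ker [Finite V] [FaithfulSMul X V] {g x : X} (hodd : Odd (orderOf x))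
    (h1 : ∀ v ∈ (disp x : V →* V).range, g • v = v) (h2 : ∀ v ∈ (disp x : V →* V).ker, g • v = v) :
    g = 1 := by
  apply FaithfulSMul.eq_of_smul_eq_smul (α := V)
  intro v
  obtain ⟨r, hr, k, hk, rfl⟩ := exists_range_mul_ker hV hodd v
  rw [smul_mul', h1 r hr, h2 k hk, one_smul]

/-- Three distinct nontrivial images under an element of odd order without fixed points. -/
theorem orbit_distinct {x : X} (hodd : Odd (orderOf x)) {w : V} (hw : w ∈ (disp x : V →* V).range)
    (hw1 : w ≠ 1) : x • w ≠ w ∧ x • x • w ≠ w ∧ x • x • w ≠ x • w := by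
  refine ⟨fun h => hw1 (range_disp_fix_eq_one hV hodd hw h), fun h => ?_, fun h => ?_⟩
  · obtain ⟨k, hk⟩ := hodd
    have hp : (x * x) ^ (k + 1) • w = w := by
      have : x * x ∈ MulAction.stabilizer X w := by rw [MulAction.mem_stabilizer_iff, ← smul_smul, h]
      exact MulAction.mem_stabilizer_iff.1 (pow_mem this _)
    have he : (x * x) ^ (k + 1) = x := by
      rw [← sq, ← pow_mul, show 2 * (k + 1) = (2 * k + 1) + 1 by ring, pow_succ, ← hk, pow_orderOf_eq_one, one_mul]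
    rw [he] at hp
    exact hw1 (range_disp_fix_eq_one hV ⟨k, hk⟩ hw hp)
  · exact hw1 (range_disp_fix_eq_one hV hodd hw (smul_left_cancel x h))

/-- A nontrivial invariant subgroup of a four-group commutator is all of it. -/
theorem range_irreducible [Finite V] {x : X} (hodd : Odd (orderOf x))
    (h4 : Nat.card ↥(disp x : V →* V).range = 4) {W : Subgroup V} (hW : W ≤ (disp x : V →* V).range)
    (hinv : ∀ w ∈ W, x • w ∈ W) {w : V} (hw : w ∈ W) (hw1 : w ≠ 1) : W = (disp x : V →* V).range := by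
  have hxw : x • w ≠ 1 := fun h => hw1 (smul_left_cancel x (h.trans (smul_one x).symm))
  have h2 : ({1, w, x • w} : Set V) ⊆ (W : Set V) := by
    rintro z (rfl | rfl | rfl)
    · exact W.one_mem
    · exact hw
    · exact hinv w hw
  have h3 : ({1, w, x • w} : Set V).ncard = 3 :=
    Set.ncard_eq_three.2 ⟨1, w, x • w, hw1.symm, hxw.symm, (orbit_distinct hV hodd (hW hw) hw1).1.symm, rfl⟩
  have h5 : 3 ≤ Nat.card ↥W := by
    rw [← h3, ← SetLike.coe_sort_coe, Nat.card_coe_set_eq]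
    exact Set.ncard_le_ncard h2 (Set.toFinite _)
  have h6 : Nat.card ↥W ∣ 4 := h4 ▸ Subgroup.card_dvd_of_le hW
  apply Subgroup.eq_of_le_of_card_ge hW
  rw [h4]
  have h7 := Nat.le_of_dvd (by norm_num) h6
  rcases Nat.lt_or_ge (Nat.card ↥W) 4 with h | h
  · have h8 : Nat.card ↥W = 3 := by omega
    rw [h8] at h6; norm_num at h6
  · exact h

/-- An element with a four-group commutator has trivial cube. -/
theorem cube_eq_one [Finite V] [FaithfulSMul X V] {x : X} (hodd : Odd (orderOf x))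
    (h4 : Nat.card ↥(disp x : V →* V).range = 4) : x ^ 3 = 1 := by
  refine eq_one_of_fix_range_ker hV hodd (fun w hw => ?_) (fun v hv => ?_)
  · by_cases hw1 : w = 1
    · rw [hw1, smul_one]
    have hmem : ∀ u ∈ (disp x : V →* V).range, x • u ∈ (disp x : V →* V).range := fun u hu =>
      smul_disp_range_of_commute (Commute.refl x) hu
    obtain ⟨d1, d2, d3⟩ := orbit_distinct hV hodd hw hw1
    have hxw : x • w ≠ 1 := fun h => hw1 (smul_left_cancel x (h.trans (smul_one x).symm))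
    have hxxw : x • x • w ≠ 1 := fun h => hxw (smul_left_cancel x (h.trans (smul_one x).symm))
    have hset : ({1, w, x • w, x • x • w} : Set V) = ((disp x : V →* V).range : Set V) := by
      refine Set.eq_of_subset_of_ncard_le ?_ ?_ (Set.toFinite _)
      · rintro z (rfl | rfl | rfl | rfl)
        · exact Subgroup.one_mem _
        · exact hw
        · exact hmem w hw
        · exact hmem _ (hmem w hw)
      · rw [← Nat.card_coe_set_eq, SetLike.coe_sort_coe, h4]
        exact le_of_eq (Set.ncard_eq_four.2 ⟨1, w, x • w, x • x • w, Ne.symm hw1, Ne.symm hxw, Ne.symm hxxw,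
          Ne.symm d1, Ne.symm d2, Ne.symm d3, rfl⟩).symm
    have h3 : x • x • x • w ∈ ({1, w, x • w, x • x • w} : Set V) := hset ▸ hmem _ (hmem _ (hmem w hw))
    rw [show x ^ 3 = x * (x * x) by rw [pow_succ', sq], ← smul_smul, ← smul_smul]
    rcases h3 with h | h | h | h
    · exact absurd (smul_left_cancel x (h.trans (smul_one x).symm)) hxxw
    · exact h
    · exact absurd (smul_left_cancel x h) d2
    · exact absurd (smul_left_cancel x h) d3
  · have : x ∈ MulAction.stabilizer X v := mem_ker_disp.1 hv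
    exact MulAction.mem_stabilizer_iff.1 (pow_mem this 3)

/-- Fixed points of an inverting involution in an invariant subgroup of `[V,x]`. -/
theorem card_eq_sq [Finite V] {x a : X} (hodd : Odd (orderOf x)) (ha : a * a = 1)
    (hax : a * x * a⁻¹ = x⁻¹) {W : Subgroup V} (hW : W ≤ (disp x : V →* V).range)
    (hxW : ∀ w ∈ W, x • w ∈ W) (haW : ∀ w ∈ W, a • w ∈ W) :
    Nat.card ↥(W.map (disp a)) = Nat.card ↥(W ⊓ (disp a : V →* V).ker) ∧
      Nat.card ↥W = Nat.card ↥(W ⊓ (disp a : V →* V).ker) * Nat.card ↥(W ⊓ (disp a : V →* V).ker) := by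
  set W0 := W ⊓ (disp a : V →* V).ker with hW0
  have h1 : W.map (disp a) ≤ W0 := by
    rintro _ ⟨w, hw, rfl⟩
    exact Subgroup.mem_inf.2 ⟨W.mul_mem (haW w hw) (W.inv_mem hw),
      mem_ker_disp.2 (disp_disp_of_involution hV ha w)⟩
  have hle : Nat.card ↥(W.map (disp a)) ≤ Nat.card ↥W0 :=
    Nat.le_of_dvd Nat.card_pos (Subgroup.card_dvd_of_le h1)
  have hW' := card_eq_map_mul_inf W (disp a)
  let f : ↥W0 × ↥W0 → ↥W := fun z => ⟨(z.1 : V) * x • (z.2 : V),
    W.mul_mem (Subgroup.mem_inf.1 z.1.2).1 (hxW _ (Subgroup.mem_inf.1 z.2.2).1)⟩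
  have hinj : Function.Injective f := by
    intro u w h
    have h : (u.1 : V) * x • (u.2 : V) = (w.1 : V) * x • (w.2 : V) := congrArg Subtype.val h
    have h2 : x • ((u.2 : V) * (w.2 : V)⁻¹) = (u.1 : V)⁻¹ * (w.1 : V) := by
      rw [smul_mul', smul_inv', eq_inv_mul_iff_mul_eq, ← mul_assoc, h, mul_inv_cancel_right]
    set y : V := (u.2 : V) * (w.2 : V)⁻¹ with hy
    have hy0 : y ∈ W0 := W0.mul_mem u.2.2 (W0.inv_mem w.2.2)
    have hxy : x • y ∈ W0 := h2 ▸ W0.mul_mem (W0.inv_mem u.1.2) w.1.2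
    have hay : a • (x • y) = x⁻¹ • y := by
      rw [← hax, smul_smul]
      conv_rhs => rw [← mem_ker_disp.1 (Subgroup.mem_inf.1 hy0).2]
      rw [smul_smul]; congr 1; group
    rw [mem_ker_disp.1 (Subgroup.mem_inf.1 hxy).2] at hay
    have hy1 : y = 1 := by
      by_contra hne
      exact (orbit_distinct hV hodd (hW (Subgroup.mem_inf.1 hy0).1) hne).2.1 (by
        rw [hay, smul_inv_smul])
    rw [hy1, smul_one] at h2
    refine Prod.ext (Subtype.ext (inv_mul_eq_one.1 h2.symm)) (Subtype.ext ?_)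
    rw [hy] at hy1
    exact mul_inv_eq_one.1 hy1
  have hge := Nat.card_le_card_of_injective f hinj
  rw [Nat.card_prod] at hge
  have hp : 0 < Nat.card ↥W0 := Nat.card_pos
  have heq : Nat.card ↥(W.map (disp a)) = Nat.card ↥W0 := by
    refine le_antisymm hle (Nat.le_of_mul_le_mul_right ?_ hp)
    rw [← hW']; exact hge
  exact ⟨heq, by rw [hW', heq]⟩

/-- The key computation: an inverted odd element against a best offender. -/
theorem key_four [Finite X] [Finite V] [FaithfulSMul X V] {A B : Subgroup X} (hoff : IsOffer V A) (hBA : B ≤ A)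
    (hcard : Nat.card ↥A = 2 * Nat.card ↥B) (hB2 : ∀ b ∈ B, b * b = 1)
    (hBc : ∀ b ∈ B, ∀ b' ∈ B, Commute b b') {a x : X} (haA : a ∈ A) (hAgen : A ≤ B ⊔ Subgroup.zpowers a)
    (ha : a * a = 1) (hBa : ∀ b ∈ B, Commute b a) (hBx : ∀ b ∈ B, Commute b x) (hodd : Odd (orderOf x))
    (hx1 : x ≠ 1) (hax : a * x * a⁻¹ = x⁻¹) :
    Nat.card ↥(disp x : V →* V).range = 4 ∧ orderOf x = 3 ∧
      ∀ b ∈ B, ∀ v ∈ (disp x : V →* V).range, b • v = v := by
  classical
  set Y := (disp x : V →* V).range with hY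
  set d := (disp a : V →* V) with hd
  have hfixA : ∀ v, v ∈ (fixBy A : Subgroup V) ↔ v ∈ (fixBy B : Subgroup V) ∧ v ∈ d.ker := by
    intro v
    refine ⟨fun h => ⟨fun b hb => h b (hBA hb), mem_ker_disp.2 (h a haA)⟩, fun h c hc => ?_⟩
    have hle : B ⊔ Subgroup.zpowers a ≤ MulAction.stabilizer X v :=
      sup_le (fun b hb => h.1 b hb) (Subgroup.zpowers_le.2 (mem_ker_disp.1 h.2))
    exact hle (hAgen hc)
  have hB0 : 0 < Nat.card ↥B := Nat.card_pos
  set U := (fixBy B : Subgroup V) with hU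
  have hUa : U ⊓ d.ker = (fixBy A : Subgroup V) := by
    ext v; rw [Subgroup.mem_inf, hfixA]
  have hUmap : Nat.card ↥(U.map d) ≤ 2 := by
    have h1 := hoff B hBA
    rw [hcard, ← hU, card_eq_map_mul_inf U d, hUa] at h1
    have hp : 0 < Nat.card ↥(fixBy A : Subgroup V) := Nat.card_pos
    by_contra h
    have h2 : 3 * (Nat.card ↥B * Nat.card ↥(fixBy A : Subgroup V)) ≤
        Nat.card ↥(U.map d) * (Nat.card ↥B * Nat.card ↥(fixBy A : Subgroup V)) :=
      Nat.mul_le_mul_right _ (by omega)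
    nlinarith
  set U' := U ⊓ Y with hU'
  have hU'x : ∀ w ∈ U', x • w ∈ U' := fun w hw => Subgroup.mem_inf.2
    ⟨smul_fixBy hBx (Subgroup.mem_inf.1 hw).1, smul_disp_range_of_commute (Commute.refl x) (Subgroup.mem_inf.1 hw).2⟩
  have hU'a : ∀ w ∈ U', a • w ∈ U' := fun w hw => Subgroup.mem_inf.2
    ⟨smul_fixBy hBa (Subgroup.mem_inf.1 hw).1, smul_disp_range_of_inv hax (Subgroup.mem_inf.1 hw).2⟩
  obtain ⟨hU'1, hU'2⟩ := card_eq_sq hV hodd ha hax inf_le_right hU'x hU'a
  have hU'ne : U' ≠ ⊥ := by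
    intro h
    apply hx1
    apply FaithfulSMul.eq_of_smul_eq_smul (α := V)
    intro v
    rw [one_smul]
    refine fix_of_elementary hV hodd B hB2 hBc (fun b hb => (hBx b hb).symm) ⊤ (fun _ _ => Subgroup.mem_top _)
      (fun _ _ _ _ => Subgroup.mem_top _) (fun w _ hw => ?_) v (Subgroup.mem_top _)
    have hmem : disp x w ∈ U' :=
      Subgroup.mem_inf.2 ⟨U.mul_mem (smul_fixBy hBx hw) (U.inv_mem hw), ⟨w, rfl⟩⟩
    rw [h, Subgroup.mem_bot] at hmem
    exact mem_ker_disp.1 hmem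
  have hU'0 : Nat.card ↥(U' ⊓ d.ker) = 2 := by
    have h1 : Nat.card ↥(U'.map d) ≤ 2 :=
      (Nat.le_of_dvd Nat.card_pos (Subgroup.card_dvd_of_le (Subgroup.map_mono inf_le_left))).trans hUmap
    have h3 : Nat.card ↥(U' ⊓ d.ker) ≤ 2 := hU'1.symm.le.trans h1
    have h2 : Nat.card ↥(U' ⊓ d.ker) ≠ 1 := fun h => hU'ne (Subgroup.card_eq_one.1 (by rw [hU'2, h]))
    have h4 : 0 < Nat.card ↥(U' ⊓ d.ker) := Nat.card_pos
    omega
  obtain ⟨-, hY2⟩ := card_eq_sq hV hodd ha hax (le_refl Y)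
    (fun w hw => smul_disp_range_of_commute (Commute.refl x) hw) (fun w hw => smul_disp_range_of_inv hax hw)
  set Y0 := Y ⊓ d.ker with hY0
  have hsub0 : U' ⊓ d.ker ≤ Y0 := inf_le_inf_right _ inf_le_right
  suffices hY0le : Y0 ≤ U' ⊓ d.ker by
    have he : Y0 = U' ⊓ d.ker := le_antisymm hY0le hsub0
    have h4 : Nat.card ↥Y = 4 := by rw [hY2, he, hU'0]
    have hYU : Y ≤ U' :=
      ((Subgroup.eq_of_le_of_card_ge (inf_le_right : U' ≤ Y) (by rw [hU'2, h4, hU'0])).symm).le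
    refine ⟨h4, ?_, fun b hb v hv => (Subgroup.mem_inf.1 (hYU hv)).1 b hb⟩
    haveI : Fact (Nat.Prime 3) := ⟨Nat.prime_three⟩
    exact orderOf_eq_prime (cube_eq_one hV hodd h4) hx1
  by_contra hcon
  -- choose a point outside with the largest stabilizer modulo `U'`
  set Z := {y : V | y ∈ Y0 ∧ y ∉ U' ⊓ d.ker} with hZ
  have hZne : Z.Nonempty := by
    obtain ⟨y, hy1, hy2⟩ := SetLike.not_le_iff_exists.1 hcon
    exact ⟨y, hy1, hy2⟩
  obtain ⟨y, hyZ, hymax⟩ := Set.exists_max_image Z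
    (fun z => {b : X | b ∈ B ∧ disp b z ∈ U' ⊓ d.ker}.ncard) (Set.toFinite _) hZne
  obtain ⟨hy0, hyU⟩ := hyZ
  have hdy : ∀ b ∈ B, disp b y ∈ U' ⊓ d.ker := by
    by_contra hno
    push Not at hno
    obtain ⟨b, hbB, hb⟩ := hno
    have hy' : disp b y ∈ Y0 := by
      refine Subgroup.mem_inf.2
        ⟨Y.mul_mem (smul_disp_range_of_commute (hBx b hbB) (Subgroup.mem_inf.1 hy0).1)
          (Y.inv_mem (Subgroup.mem_inf.1 hy0).1), mem_ker_disp.2 ?_⟩
      rw [smul_disp, ← (hBa b hbB).eq, mul_inv_cancel_right, mem_ker_disp.1 (Subgroup.mem_inf.1 hy0).2]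
    have hsub : {c : X | c ∈ B ∧ disp c y ∈ U' ⊓ d.ker} ⊂
        {c : X | c ∈ B ∧ disp c (disp b y) ∈ U' ⊓ d.ker} := by
      refine (Set.ssubset_iff_of_subset ?_).2 ⟨b, ⟨hbB, ?_⟩, fun h => hb h.2⟩
      · rintro c ⟨hc, hcy⟩
        refine ⟨hc, ?_⟩
        have h1 : disp c (disp b y) = disp b (disp c y) := by
          rw [disp_apply c (disp b y), disp_apply b (disp c y), disp_apply, disp_apply, smul_mul', smul_mul',
            smul_inv', smul_inv', smul_smul, smul_smul, (hBc c hc b hbB).eq, mul_inv, mul_inv, inv_inv]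
          simp only [mul_assoc, mul_left_comm, mul_comm, inv_inv]
        rw [h1, mem_ker_disp.2 ((Subgroup.mem_inf.1 (Subgroup.mem_inf.1 hcy).1).1 b hbB)]
        exact Subgroup.one_mem _
      · rw [mem_ker_disp.2 (disp_disp_of_involution hV (hB2 b hbB) y)]
        exact Subgroup.one_mem _
    exact absurd (Set.ncard_lt_ncard hsub (Set.toFinite _)) (not_lt.2 (hymax _ ⟨hy', hb⟩))
  set C := B ⊓ MulAction.stabilizer X y with hC
  have hBC : Nat.card ↥B ≤ 2 * Nat.card ↥C := by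
    by_cases hall : B ≤ MulAction.stabilizer X y
    · rw [show C = B from inf_eq_left.2 hall]; omega
    obtain ⟨b, hbB, hby⟩ := SetLike.not_le_iff_exists.1 hall
    obtain ⟨u, u', huu', huniv⟩ := Nat.card_eq_two_iff.1 hU'0
    have htwo : ∀ s t r : V, s ∈ U' ⊓ d.ker → t ∈ U' ⊓ d.ker → s ≠ 1 → t ≠ 1 → s = t := by
      intro s t _ hs ht hs1 ht1
      by_contra hst
      have h3 : ({1, s, t} : Set V).ncard = 3 :=
        Set.ncard_eq_three.2 ⟨1, s, t, Ne.symm hs1, Ne.symm ht1, hst, rfl⟩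
      have h4 : ({1, s, t} : Set V) ⊆ ((U' ⊓ d.ker : Subgroup V) : Set V) := by
        rintro z (rfl | rfl | rfl)
        · exact Subgroup.one_mem _
        · exact hs
        · exact ht
      have := Set.ncard_le_ncard h4 (Set.toFinite _)
      rw [h3, ← Nat.card_coe_set_eq, SetLike.coe_sort_coe, hU'0] at this
      omega
    have hcov : ∀ c ∈ B, c ∈ C ∨ b * c ∈ C := by
      intro c hc
      by_cases hcy : c • y = y
      · exact Or.inl (Subgroup.mem_inf.2 ⟨hc, hcy⟩)
      · refine Or.inr (Subgroup.mem_inf.2 ⟨B.mul_mem hbB hc, ?_⟩)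
        rw [MulAction.mem_stabilizer_iff, ← smul_smul, smul_eq_disp_mul c y, smul_mul',
          ((Subgroup.mem_inf.1 (Subgroup.mem_inf.1 (hdy c hc)).1).1 b hbB), smul_eq_disp_mul b y,
          htwo (disp c y) (disp b y) 1 (hdy c hc) (hdy b hbB) (fun h => hcy (mem_ker_disp.1 h))
            (fun h => hby (mem_ker_disp.1 h)), ← mul_assoc, hV, one_mul]
    let f : ↥B → ↥C ⊕ ↥C := fun c =>
      if h : (c : X) ∈ C then Sum.inl ⟨c, h⟩ else Sum.inr ⟨b * c, (hcov c c.2).resolve_left h⟩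
    have hf : Function.Injective f := by
      intro c c' h
      simp only [f] at h
      split_ifs at h with h1 h2
      · exact Subtype.ext (congrArg (Sum.elim (fun z : ↥C => (z : X)) (fun z : ↥C => (z : X))) h :)
      · exact Subtype.ext (mul_left_cancel (congrArg (Sum.elim (fun z : ↥C => (z : X)) (fun z : ↥C => (z : X))) h :))
    have := Nat.card_le_card_of_injective f hf
    rw [Nat.card_sum] at this
    omega
  set F := (fixBy C : Subgroup V) with hF
  have hAF : (fixBy A : Subgroup V) < F ⊓ d.ker := by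
    refine lt_of_le_of_ne (fun v hv => Subgroup.mem_inf.2
      ⟨fun c hc => hv c (hBA (Subgroup.mem_inf.1 hc).1), ((hfixA v).1 hv).2⟩) fun h => ?_
    have hyA : y ∈ (fixBy A : Subgroup V) := by
      rw [h]; exact Subgroup.mem_inf.2 ⟨fun c hc => (Subgroup.mem_inf.1 hc).2, (Subgroup.mem_inf.1 hy0).2⟩
    exact hyU (Subgroup.mem_inf.2
      ⟨Subgroup.mem_inf.2 ⟨((hfixA y).1 hyA).1, (Subgroup.mem_inf.1 hy0).1⟩, (Subgroup.mem_inf.1 hy0).2⟩)
  have hAF2 : 2 * Nat.card ↥(fixBy A : Subgroup V) ≤ Nat.card ↥(F ⊓ d.ker) := by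
    obtain ⟨q, hq⟩ := Subgroup.card_dvd_of_le hAF.le
    rcases Nat.lt_or_ge q 2 with hq2 | hq2
    · exfalso
      refine hAF.ne (Subgroup.eq_of_le_of_card_ge hAF.le ?_)
      rw [hq]
      calc Nat.card ↥(fixBy A : Subgroup V) * q ≤ Nat.card ↥(fixBy A : Subgroup V) * 1 := Nat.mul_le_mul_left _ (by omega)
        _ = _ := mul_one _
    · rw [hq, mul_comm 2]; exact Nat.mul_le_mul_left _ hq2
  set W := F ⊓ Y with hW
  have hCa : ∀ c ∈ C, Commute c a := fun c hc => hBa c (Subgroup.mem_inf.1 hc).1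
  have hCx : ∀ c ∈ C, Commute c x := fun c hc => hBx c (Subgroup.mem_inf.1 hc).1
  have hWx : ∀ w ∈ W, x • w ∈ W := fun w hw => Subgroup.mem_inf.2
    ⟨smul_fixBy hCx (Subgroup.mem_inf.1 hw).1, smul_disp_range_of_commute (Commute.refl x) (Subgroup.mem_inf.1 hw).2⟩
  have hWa : ∀ w ∈ W, a • w ∈ W := fun w hw => Subgroup.mem_inf.2
    ⟨smul_fixBy hCa (Subgroup.mem_inf.1 hw).1, smul_disp_range_of_inv hax (Subgroup.mem_inf.1 hw).2⟩
  obtain ⟨hW1, -⟩ := card_eq_sq hV hodd ha hax inf_le_right hWx hWa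
  have hW4 : 4 ≤ Nat.card ↥(W ⊓ d.ker) := by
    have hlt : U' ⊓ d.ker < W ⊓ d.ker := by
      refine lt_of_le_of_ne (inf_le_inf_right _ (inf_le_inf_right _ fun v hv c hc => hv c (Subgroup.mem_inf.1 hc).1)) fun h => hyU ?_
      rw [h]
      exact Subgroup.mem_inf.2 ⟨Subgroup.mem_inf.2 ⟨fun c hc => (Subgroup.mem_inf.1 hc).2, (Subgroup.mem_inf.1 hy0).1⟩,
        (Subgroup.mem_inf.1 hy0).2⟩
    obtain ⟨q, hq⟩ := Subgroup.card_dvd_of_le hlt.le
    rcases Nat.lt_or_ge q 2 with hq2 | hq2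
    · exfalso
      refine hlt.ne (Subgroup.eq_of_le_of_card_ge hlt.le ?_)
      rw [hq, hU'0]; omega
    · rw [hq, hU'0]; omega
  have hFmap : 4 ≤ Nat.card ↥(F.map d) :=
    le_trans (hW1.symm ▸ hW4) (Nat.le_of_dvd Nat.card_pos (Subgroup.card_dvd_of_le (Subgroup.map_mono inf_le_left)))
  have h1 := hoff C (inf_le_left.trans hBA)
  rw [hcard, ← hF, card_eq_map_mul_inf F d] at h1
  have hp : 0 < Nat.card ↥(fixBy A : Subgroup V) := Nat.card_pos
  have hC0 : 0 < Nat.card ↥C := Nat.card_pos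
  have h8 : Nat.card ↥C * (4 * (2 * Nat.card ↥(fixBy A : Subgroup V))) ≤
      Nat.card ↥C * (Nat.card ↥(F.map d) * Nat.card ↥(F ⊓ d.ker)) :=
    Nat.mul_le_mul_left _ (Nat.mul_le_mul hFmap hAF2)
  nlinarith

end H77
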