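import Cfsg.Agent.H77.ThompsonTwo
import Cfsg.Agent.H77.Tiny
import Mathlib.GroupTheory.Subgroup.Centralizer

/-!
A subgroup normalising `Ω₁(Z(X))` acting on it by conjugation: the image group and offenders.
-/

set_option autoImplicit false

namespace H77

variable {G : Type*} [Group G]

/-- `Ω₁(Z(X))` is a commutative group. -/
instance omegaCenterCommGroup (X : Subgroup G) : CommGroup ↥(Cfsg.omegaCenterOf X) :=
  { (inferInstance : Group ↥(Cfsg.omegaCenterOf X)) with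
    mul_comm := fun a b => Subtype.ext (elem_comm (omegaCenterOf_elem X) a.2 b.2) }

theorem omega_sq {X : Subgroup G} (v : ↥(Cfsg.omegaCenterOf X)) : v * v = 1 :=
  Subtype.ext (elem_sq (omegaCenterOf_elem X) v.2)

variable {X N : Subgroup G} (h : N ≤ Subgroup.normalizer (Cfsg.omegaCenterOf X : Set G))

/-- Conjugation of `N` on `Ω₁(Z(X))`. -/
def conjOn : ↥N →* MulAut ↥(Cfsg.omegaCenterOf X) :=
  (Cfsg.omegaCenterOf X).normalizerMonoidHom.comp (Subgroup.inclusion h)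

/-- The group induced by `N` on `Ω₁(Z(X))`. -/
abbrev imgGroup : Subgroup (MulAut ↥(Cfsg.omegaCenterOf X)) := (conjOn h).range

/-- The map of `N` onto the induced group. -/
def imgHom : ↥N →* ↥(imgGroup h) := (conjOn h).rangeRestrict

theorem imgHom_surjective : Function.Surjective (imgHom h) := (conjOn h).rangeRestrict_surjective

theorem imgHom_smul_coe (l : ↥N) (v : ↥(Cfsg.omegaCenterOf X)) :
    ((imgHom h l • v : ↥(Cfsg.omegaCenterOf X)) : G) = (l : G) * (v : G) * (l : G)⁻¹ := rfl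

theorem disp_coe (l : ↥N) (v : ↥(Cfsg.omegaCenterOf X)) :
    ((disp (imgHom h l) v : ↥(Cfsg.omegaCenterOf X)) : G) = (l : G) * (v : G) * (l : G)⁻¹ * (v : G)⁻¹ := rfl

theorem smul_eq_iff (l : ↥N) (v : ↥(Cfsg.omegaCenterOf X)) :
    imgHom h l • v = v ↔ (l : G) * (v : G) = (v : G) * (l : G) := by
  rw [Subtype.ext_iff, imgHom_smul_coe, mul_inv_eq_iff_eq_mul]

theorem imgHom_eq_one_iff (l : ↥N) :
    imgHom h l = 1 ↔ (l : G) ∈ Subgroup.centralizer (Cfsg.omegaCenterOf X : Set G) := by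
  rw [Subgroup.mem_centralizer_iff]
  constructor
  · intro h1 v hv
    have h2 : imgHom h l • (⟨v, hv⟩ : ↥(Cfsg.omegaCenterOf X)) = ⟨v, hv⟩ := by rw [h1, one_smul]
    exact ((smul_eq_iff h l _).1 h2).symm
  · intro h1
    apply FaithfulSMul.eq_of_smul_eq_smul (α := ↥(Cfsg.omegaCenterOf X))
    intro v
    rw [one_smul, smul_eq_iff]
    exact (h1 v v.2).symm

/-- The image in the induced group of a subgroup. -/
def imgOf (A : Subgroup G) : Subgroup ↥(imgGroup h) := (A.subgroupOf N).map (imgHom h)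

theorem mem_imgOf {A : Subgroup G} {x : ↥(imgGroup h)} :
    x ∈ imgOf h A ↔ ∃ l : ↥N, (l : G) ∈ A ∧ imgHom h l = x := by
  simp [imgOf, Subgroup.mem_map, Subgroup.mem_subgroupOf]

theorem imgHom_mem_imgOf {A : Subgroup G} {l : ↥N} (hl : (l : G) ∈ A) : imgHom h l ∈ imgOf h A :=
  (mem_imgOf h).2 ⟨l, hl, rfl⟩

theorem mem_fixBy_imgOf {A : Subgroup G} (hAN : A ≤ N) (v : ↥(Cfsg.omegaCenterOf X)) :
    v ∈ (fixBy (imgOf h A) : Subgroup ↥(Cfsg.omegaCenterOf X)) ↔
      (v : G) ∈ Cfsg.omegaCenterOf X ⊓ Subgroup.centralizer (A : Set G) := by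
  rw [mem_fixBy, Subgroup.mem_inf, Subgroup.mem_centralizer_iff]
  constructor
  · intro h1
    exact ⟨v.2, fun a ha => (smul_eq_iff h ⟨a, hAN ha⟩ v).1 (h1 _ (imgHom_mem_imgOf h ha))⟩
  · rintro ⟨-, h1⟩ x hx
    obtain ⟨l, hl, rfl⟩ := (mem_imgOf h).1 hx
    exact (smul_eq_iff h l v).2 (h1 _ hl)

theorem card_fixBy_imgOf {A : Subgroup G} (hAN : A ≤ N) :
    Nat.card ↥(fixBy (imgOf h A) : Subgroup ↥(Cfsg.omegaCenterOf X)) =
      Nat.card ↥(Cfsg.omegaCenterOf X ⊓ Subgroup.centralizer (A : Set G) : Subgroup G) :=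
  Nat.card_congr
    { toFun := fun z => ⟨(z.1 : G), (mem_fixBy_imgOf h hAN z.1).1 z.2⟩
      invFun := fun z => ⟨⟨z, (Subgroup.mem_inf.1 z.2).1⟩, (mem_fixBy_imgOf h hAN _).2 z.2⟩
      left_inv := fun _ => rfl
      right_inv := fun _ => rfl }

/-- Images of elementary abelian subgroups of largest order are best offenders. -/
theorem isOffer_imgOf [Finite G] {S A : Subgroup G} (hA : A ∈ mea S) (hXS : Cfsg.omegaCenterOf X ≤ S)
    (hAN : A ≤ N) : IsOffer ↥(Cfsg.omegaCenterOf X) (imgOf h A) := by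
  intro B hB
  set k : ↥A →* ↥(imgGroup h) := (imgHom h).comp (Subgroup.inclusion hAN) with hk
  have hkr : k.range = imgOf h A := by
    ext x
    rw [MonoidHom.mem_range, mem_imgOf]
    exact ⟨fun ⟨a, ha⟩ => ⟨Subgroup.inclusion hAN a, a.2, ha⟩,
      fun ⟨l, hl, he⟩ => ⟨⟨l, hl⟩, he⟩⟩
  set A' := (B.comap k).map A.subtype with hA'
  have hA'A : A' ≤ A := Subgroup.map_subtype_le _
  have himg : imgOf h A' = B := by
    ext x
    rw [mem_imgOf]
    constructor
    · rintro ⟨l, ⟨a, ha, hal⟩, rfl⟩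
      have : l = Subgroup.inclusion hAN a := Subtype.ext hal.symm
      rw [this]
      exact ha
    · intro hx
      obtain ⟨a, rfl⟩ := MonoidHom.mem_range.1 (hkr ▸ hB hx : x ∈ k.range)
      exact ⟨Subgroup.inclusion hAN a, ⟨a, hx, rfl⟩, rfl⟩
  have hcA : Nat.card ↥(imgOf h A) * Nat.card ↥k.ker = Nat.card ↥A := by
    rw [← hkr, ← Subgroup.index_ker, Subgroup.index_mul_card]
  have hcA' : Nat.card ↥B * Nat.card ↥k.ker = Nat.card ↥A' := by
    set M := B.comap k with hM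
    have h1 := Subgroup.index_mul_card (k.comp M.subtype).ker
    rw [Subgroup.index_ker, MonoidHom.range_comp, Subgroup.range_subtype,
      Subgroup.map_comap_eq_self (hkr.symm ▸ hB)] at h1
    have h2 : Nat.card ↥(k.comp M.subtype).ker = Nat.card ↥k.ker := by
      rw [← MonoidHom.comap_ker]
      exact Nat.card_congr (Subgroup.subgroupOfEquivOfLe (fun a ha => by
        rw [hM, Subgroup.mem_comap, MonoidHom.mem_ker.1 ha]; exact B.one_mem)).toEquiv
    rw [h2] at h1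
    rw [h1, hA', ← Nat.card_congr (M.equivMapOfInjective A.subtype A.subtype_injective).toEquiv]
  have h3 := mea_offender hA (omegaCenterOf_elem X) hXS hA'A
  rw [← hcA, ← hcA', ← card_fixBy_imgOf h hAN, ← card_fixBy_imgOf h (hA'A.trans hAN), himg] at h3
  refine Nat.le_of_mul_le_mul_right ?_ (Nat.card_pos (α := ↥k.ker))
  calc Nat.card ↥B * Nat.card ↥(fixBy B : Subgroup ↥(Cfsg.omegaCenterOf X)) * Nat.card ↥k.ker
      = Nat.card ↥B * Nat.card ↥k.ker * Nat.card ↥(fixBy B : Subgroup ↥(Cfsg.omegaCenterOf X)) := by ring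
    _ ≤ _ := h3
    _ = _ := by ring

theorem imgOf_sq {A : Subgroup G} (hA : Cfsg.IsElementaryAbelian 2 A) :
    ∀ a ∈ imgOf h A, a * a = 1 := by
  intro a ha
  obtain ⟨l, hl, rfl⟩ := (mem_imgOf h).1 ha
  rw [← map_mul, show l * l = 1 from Subtype.ext (elem_sq hA hl), map_one]

theorem imgOf_comm {A : Subgroup G} (hA : Cfsg.IsElementaryAbelian 2 A) :
    ∀ a ∈ imgOf h A, ∀ b ∈ imgOf h A, a * b = b * a := by
  intro a ha b hb
  obtain ⟨l, hl, rfl⟩ := (mem_imgOf h).1 ha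
  obtain ⟨m, hm, rfl⟩ := (mem_imgOf h).1 hb
  rw [← map_mul, ← map_mul, show l * m = m * l from Subtype.ext (elem_comm hA hl hm)]

end H77
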