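import Mathlib.GroupTheory.PGroup
import Mathlib.GroupTheory.Sylow
import Mathlib.Data.Fintype.Powerset
import Mathlib.GroupTheory.Index
import Mathlib.GroupTheory.OrderOfElement
import Mathlib.Algebra.Group.Subgroup.Finite
import Mathlib.GroupTheory.GroupAction.Basic
import Mathlib.Tactic.Group
import Mathlib.Algebra.Group.Action.Basic

/-!
A finite group acting faithfully on an elementary abelian 2-group: displacement maps, elements of odd
order with a four-group commutator, and best offenders.
-/

set_option autoImplicit false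

namespace H77

variable {X V : Type*} [Group X] [CommGroup V] [MulDistribMulAction X V]

/-- The displacement map `v ↦ (x • v) v⁻¹`. -/
def disp (x : X) : V →* V :=
  MonoidHom.mk' (fun v => x • v * v⁻¹) fun a b => by
    rw [smul_mul', mul_inv, mul_mul_mul_comm]

theorem disp_apply (x : X) (v : V) : disp x v = x • v * v⁻¹ := rfl

theorem smul_eq_disp_mul (x : X) (v : V) : x • v = disp x v * v := by
  rw [disp_apply, inv_mul_cancel_right]

theorem mem_ker_disp {x : X} {v : V} : v ∈ (disp x).ker ↔ x • v = v := by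
  rw [MonoidHom.mem_ker, disp_apply, mul_inv_eq_one]

/-- Points fixed by a subgroup. -/
def fixBy (A : Subgroup X) : Subgroup V where
  carrier := {v | ∀ a ∈ A, a • v = v}
  one_mem' := fun a _ => smul_one a
  mul_mem' := fun {u v} hu hv a ha => by rw [smul_mul', hu a ha, hv a ha]
  inv_mem' := fun {u} hu a ha => by rw [smul_inv', hu a ha]

theorem mem_fixBy {A : Subgroup X} {v : V} : v ∈ (fixBy A : Subgroup V) ↔ ∀ a ∈ A, a • v = v := Iff.rfl

theorem smul_disp (g x : X) (v : V) : g • disp x v = disp (g * x * g⁻¹) (g • v) := by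
  simp [disp_apply, smul_mul', smul_inv', smul_smul, mul_assoc]

theorem smul_disp_range (g x : X) {v : V} (hv : v ∈ (disp x : V →* V).range) :
    g • v ∈ (disp (g * x * g⁻¹) : V →* V).range := by
  obtain ⟨u, rfl⟩ := hv
  exact ⟨g • u, (smul_disp g x u).symm⟩

theorem range_disp_inv (x : X) : (disp x⁻¹ : V →* V).range = (disp x).range := by
  have key : ∀ z : X, (disp z⁻¹ : V →* V).range ≤ (disp z).range := by
    rintro z _ ⟨v, rfl⟩
    refine ⟨(z⁻¹ • v)⁻¹, ?_⟩
    simp [disp_apply, smul_inv', smul_smul, mul_comm]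
  refine le_antisymm (key x) ?_
  have := key x⁻¹
  rwa [inv_inv] at this

theorem smul_disp_range_of_commute {g x : X} (h : Commute g x) {v : V} (hv : v ∈ (disp x : V →* V).range) :
    g • v ∈ (disp x : V →* V).range := by
  have h1 := smul_disp_range g x hv
  rwa [h.eq, mul_inv_cancel_right] at h1

theorem smul_disp_range_of_inv {g x : X} (h : g * x * g⁻¹ = x⁻¹) {v : V} (hv : v ∈ (disp x : V →* V).range) :
    g • v ∈ (disp x : V →* V).range := by
  have h1 := smul_disp_range g x hv
  rwa [h, range_disp_inv] at h1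

theorem smul_fixBy {g : X} {A : Subgroup X} (h : ∀ a ∈ A, Commute a g) {v : V} (hv : v ∈ (fixBy A : Subgroup V)) :
    g • v ∈ (fixBy A : Subgroup V) := by
  intro a ha
  rw [smul_smul, (h a ha).eq, ← smul_smul, hv a ha]

theorem card_eq_map_mul_inf (W : Subgroup V) (f : V →* V) :
    Nat.card ↥W = Nat.card ↥(W.map f) * Nat.card ↥(W ⊓ f.ker) := by
  have h1 := Subgroup.index_mul_card (f.comp W.subtype).ker
  rw [Subgroup.index_ker, MonoidHom.range_comp, Subgroup.range_subtype] at h1
  rw [← h1]
  congr 1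
  refine Nat.card_congr
    { toFun := fun z => ⟨(z : ↥W), Subgroup.mem_inf.2 ⟨(z : ↥W).2, z.2⟩⟩
      invFun := fun z => ⟨⟨(z : V), (Subgroup.mem_inf.1 z.2).1⟩, (Subgroup.mem_inf.1 z.2).2⟩
      left_inv := fun z => rfl
      right_inv := fun z => rfl }

theorem card_eq_range_mul_ker (f : V →* V) : Nat.card V = Nat.card ↥f.range * Nat.card ↥f.ker := by
  rw [← Subgroup.index_ker, Subgroup.index_mul_card]

/-- Orbits of a fixed displacement. -/
theorem pow_smul_of_fix {x : X} {v d : V} (hd : x • d = d) (hv : x • v = d * v) (i : ℕ) :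
    x ^ i • v = d ^ i * v := by
  induction i with
  | zero => simp
  | succ i ih =>
    rw [pow_succ', ← smul_smul, ih, smul_mul', smul_pow', hd, hv, pow_succ, mul_assoc]

variable (hV : ∀ v : V, v * v = 1)
include hV

theorem inv_eq (v : V) : v⁻¹ = v := inv_eq_of_mul_eq_one_left (hV v)

theorem pow_odd_eq {n : ℕ} (hn : Odd n) (d : V) : d ^ n = d := by
  obtain ⟨k, rfl⟩ := hn
  rw [pow_succ, pow_mul, pow_two, hV, one_pow, one_mul]

/-- If `x` of odd order displaces `v` by a point it fixes, it fixes `v`. -/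
theorem fix_of_disp_fix {x : X} (hodd : Odd (orderOf x)) {v : V} (h : x • disp x v = disp x v) :
    x • v = v := by
  have h1 := pow_smul_of_fix (d := disp x v) h (smul_eq_disp_mul x v) (orderOf x)
  rw [pow_orderOf_eq_one, one_smul, pow_odd_eq hV hodd] at h1
  rw [smul_eq_disp_mul x v, ← h1]

theorem range_disp_fix_eq_one {x : X} (hodd : Odd (orderOf x)) {v : V}
    (hv : v ∈ (disp x : V →* V).range) (hfix : x • v = v) : v = 1 := by
  obtain ⟨u, rfl⟩ := hv
  have := fix_of_disp_fix hV hodd hfix
  rw [disp_apply, this, mul_inv_cancel]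

theorem disp_disp_of_involution {b : X} (hb : b * b = 1) (v : V) : b • disp b v = disp b v := by
  rw [disp_apply, smul_mul', smul_inv', smul_smul, hb, one_smul, inv_eq hV, inv_eq hV v, mul_comm]

/-- An odd element commuting with an involution and fixing its fixed points fixes everything. -/
theorem fix_of_involution {x b : X} (hodd : Odd (orderOf x)) (hb : b * b = 1) (hc : Commute x b)
    (h : ∀ v : V, b • v = v → x • v = v) (v : V) : x • v = v := by
  apply fix_of_disp_fix hV hodd
  apply h
  rw [smul_disp, ← hc.eq, mul_inv_cancel_right]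
  rw [smul_eq_disp_mul b v, map_mul]
  have h2 : disp x (disp b v) = 1 :=
    mem_ker_disp.2 (h _ (disp_disp_of_involution hV hb v))
  rw [h2, one_mul]

/-- An odd element commuting with an elementary abelian 2-group and fixing its fixed points fixes everything. -/
theorem fix_of_elementary [Finite X] {x : X} (hodd : Odd (orderOf x)) :
    ∀ (B : Subgroup X), (∀ b ∈ B, b * b = 1) → (∀ b ∈ B, ∀ b' ∈ B, Commute b b') → (∀ b ∈ B, Commute x b) →
      ∀ W : Subgroup V, (∀ w ∈ W, x • w ∈ W) → (∀ b ∈ B, ∀ w ∈ W, b • w ∈ W) →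
      (∀ w ∈ W, (∀ b ∈ B, b • w = w) → x • w = w) → ∀ w ∈ W, x • w = w := by
  intro B
  induction B using (Finite.to_wellFoundedLT (α := Subgroup X)).induction with
  | _ B IH => ?_
  intro hB2 hBc hxB W hxW hBW hfix w hw
  by_cases hbot : B = ⊥
  · exact hfix w hw fun b hb => by rw [hbot, Subgroup.mem_bot] at hb; rw [hb, one_smul]
  obtain ⟨M, hM, -⟩ := (IsCoatomic.eq_top_or_exists_le_coatom (⊥ : Subgroup ↥B)).resolve_left (fun h => hbot (by
    rw [eq_bot_iff]
    intro b hb
    have : (⟨b, hb⟩ : ↥B) ∈ (⊥ : Subgroup ↥B) := h ▸ Subgroup.mem_top _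
    simpa using this))
  set B' := M.map B.subtype with hB'
  have hB'B : B' ≤ B := Subgroup.map_subtype_le _
  have hlt : B' < B := lt_of_le_of_ne hB'B fun h => hM.1 (by
    apply Subgroup.map_injective B.subtype_injective
    rw [← hB', h, ← MonoidHom.range_eq_map, Subgroup.range_subtype])
  obtain ⟨b, hb, hbB'⟩ := SetLike.exists_of_lt hlt
  have hgen : ∀ c ∈ B, c ∈ B' ⊔ Subgroup.zpowers b := by
    intro c hc
    have hlt' : M < M ⊔ Subgroup.zpowers (⟨b, hb⟩ : ↥B) := lt_of_le_of_ne le_sup_left fun h => hbB'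
      ⟨⟨b, hb⟩, h ▸ Subgroup.mem_sup_right (Subgroup.mem_zpowers _), rfl⟩
    have : (⟨c, hc⟩ : ↥B) ∈ M ⊔ Subgroup.zpowers (⟨b, hb⟩ : ↥B) := (hM.2 _ hlt') ▸ Subgroup.mem_top _
    have h2 := Subgroup.mem_map_of_mem B.subtype this
    rw [Subgroup.map_sup, MonoidHom.map_zpowers] at h2
    exact h2
  refine IH B' hlt (fun c hc => hB2 c (hB'B hc)) (fun c hc c' hc' => hBc c (hB'B hc) c' (hB'B hc'))
    (fun c hc => hxB c (hB'B hc)) W hxW (fun c hc => hBW c (hB'B hc)) ?_ w hw
  intro u hu hufix
  apply fix_of_disp_fix hV hodd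
  -- the displacement of `u` is fixed by `b` as well, hence by all of `B`
  have hd : disp x u ∈ W := W.mul_mem (hxW u hu) (W.inv_mem hu)
  refine hfix _ hd ?_
  have hb' : b • disp x u = disp x u := by
    rw [smul_disp, ← (hxB b hb).eq, mul_inv_cancel_right, smul_eq_disp_mul b u, map_mul]
    have hdb : disp b u ∈ W := W.mul_mem (hBW b hb u hu) (W.inv_mem hu)
    have h2 : disp x (disp b u) = 1 := by
      refine mem_ker_disp.2 (hfix _ hdb fun c hc => ?_)
      have : B' ⊔ Subgroup.zpowers b ≤ MulAction.stabilizer X (disp b u) := by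
        refine sup_le (fun c' hc' => ?_) (Subgroup.zpowers_le.2 ?_)
        · rw [MulAction.mem_stabilizer_iff, smul_disp, (hBc c' (hB'B hc') b hb).eq, mul_inv_cancel_right, hufix c' hc']
        · rw [MulAction.mem_stabilizer_iff, disp_disp_of_involution hV (hB2 b hb)]
      exact MulAction.mem_stabilizer_iff.1 (this (hgen c hc))
    rw [h2, one_mul]
  intro c hc
  have : B' ⊔ Subgroup.zpowers b ≤ MulAction.stabilizer X (disp x u) := by
    refine sup_le (fun c' hc' => ?_) (Subgroup.zpowers_le.2 (MulAction.mem_stabilizer_iff.2 hb'))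
    rw [MulAction.mem_stabilizer_iff, smul_disp, ← (hxB c' (hB'B hc')).eq, mul_inv_cancel_right, hufix c' hc']
  exact MulAction.mem_stabilizer_iff.1 (this (hgen c hc))

end H77
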