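import Cfsg.Agent.H77.TopTransfer

/-! The induction showing that functor normalisers and singular maximal local subgroups control intersections. -/

set_option autoImplicit false

namespace H77

variable {G : Type*} [Group G] [Finite G] {p : ℕ} [Fact p.Prime]

theorem sylow_card_eq {M : Subgroup G} (a b : Sylow p ↥M) :
    Nat.card ↥((a : Subgroup ↥M).map M.subtype) = Nat.card ↥((b : Subgroup ↥M).map M.subtype) := by
  rw [Subgroup.card_map_of_injective M.subtype_injective, Subgroup.card_map_of_injective M.subtype_injective]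
  exact Nat.card_congr (Sylow.equiv a b).toEquiv

theorem exists_maximalPLocal {Q : Subgroup G} (hQ : IsPGroup p ↥Q) (hQ1 : Q ≠ ⊥) :
    ∃ M : Subgroup G, Cfsg.IsMaximalPLocal p M ∧ Subgroup.normalizer (Q : Set G) ≤ M := by
  obtain ⟨M, ⟨hM, hQM⟩, hmax⟩ :=
    (Set.toFinite {N : Subgroup G | Cfsg.IsPLocal p N ∧ Subgroup.normalizer (Q : Set G) ≤ N}).exists_maximal
      ⟨_, ⟨Q, hQ, hQ1, rfl⟩, le_rfl⟩
  exact ⟨M, ⟨hM, fun N hN hMN => le_antisymm (hmax ⟨hN, hQM.trans hMN⟩ hMN) hMN⟩, hQM⟩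

theorem inf_eq_of_sylow_map_le {M : Subgroup G} (P : Sylow p ↥M) (A : Sylow p G)
    (h : (P : Subgroup ↥M).map M.subtype ≤ (A : Subgroup G)) :
    (A : Subgroup G) ⊓ M = (P : Subgroup ↥M).map M.subtype := by
  refine le_antisymm ?_ (le_inf h (Subgroup.map_subtype_le _))
  have h3 : (A : Subgroup G).subgroupOf M = (P : Subgroup ↥M) :=
    P.3 (A.2.comap_subtype (K := M)) fun x hx => h ⟨x, hx, rfl⟩
  rintro x ⟨hxA, hxM⟩
  exact ⟨⟨x, hxM⟩, h3 ▸ hxA, rfl⟩

section
variable (f : Subgroup G → Set (Subgroup G)) (𝓕 : Set (Subgroup G)) (D : Subgroup G)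

/-- Any two Sylow subgroups sharing a subgroup strictly larger than `D` above `D` are linked. -/
def LinkAbove : Prop :=
  ∀ (A B : Sylow p G) (E : Subgroup G), E ≤ (A : Subgroup G) → E ≤ (B : Subgroup G) → D ≤ E →
    Nat.card ↥D < Nat.card ↥E → Relation.ReflTransGen (ChainStep p 𝓕 D) A B

theorem link_in_local (hf : Cfsg.IsNormalizerFunctor p f)
    (hf1 : ∀ P : Subgroup G, IsPGroup p ↥P → P ≠ ⊥ → ∀ F ∈ f P, F ≠ ⊥)
    (h1 : Cfsg.functorFamily p f ⊤ ⊆ 𝓕)
    (h2 : {M | Cfsg.IsMaximalPLocal p M ∧ ¬ Cfsg.IsFunctorRegular p f M} ⊆ 𝓕)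
    (hD : D ≠ ⊥) (hlink : LinkAbove (p := p) 𝓕 D) :
    ∀ (r : ℕ) (M : Subgroup G) (P : Sylow p ↥M) (x : G), Cfsg.IsMaximalPLocal p M → x ∈ M →
      Nat.card G - Nat.card ↥((P : Subgroup ↥M).map M.subtype) = r →
      Nat.card ↥D < Nat.card ↥((P : Subgroup ↥M).map M.subtype) →
      D ≤ (P : Subgroup ↥M).map M.subtype → D ≤ cmap x ((P : Subgroup ↥M).map M.subtype) →
      ∀ A B : Sylow p G, (P : Subgroup ↥M).map M.subtype ≤ (A : Subgroup G) →
        cmap x ((P : Subgroup ↥M).map M.subtype) ≤ (B : Subgroup G) →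
        Relation.ReflTransGen (ChainStep p 𝓕 D) A B := by
  intro r
  induction r using Nat.strong_induction_on with
  | _ r IH => ?_
  intro M P x hM hx hr hcard hDP hDx A B hA hB
  set P' := (P : Subgroup ↥M).map M.subtype with hP'
  have hcardx : Nat.card ↥D < Nat.card ↥(cmap x P') := by rwa [card_cmap]
  have hAx : cmap x P' ≤ ((x • A : Sylow p G) : Subgroup G) := by
    rw [sylow_smul_coe]; exact cmap_mono x hA
  refine Relation.ReflTransGen.trans ?_ (hlink (x • A) B _ hAx hB hDx hcardx)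
  by_cases hreg : Cfsg.IsFunctorRegular p f M
  swap
  · refine Relation.ReflTransGen.single ⟨M, x, ?_, ?_, hx, ?_, ?_⟩
    · refine (mem_sylowMembers_iff A.2).2 ⟨h2 ⟨hM, hreg⟩, ?_⟩
      rw [inf_eq_of_sylow_map_le P A hA, Subgroup.relIndex, Subgroup.subgroupOf,
        Subgroup.comap_map_eq_self_of_injective M.subtype_injective]
      exact P.not_dvd_index
    · refine (mem_sylowMembers_iff (x • A).2).2 ⟨h2 ⟨hM, hreg⟩, ?_⟩
      have hxM : cmap x M = M := cmap_eq_of_mem_normalizer (Subgroup.le_normalizer hx)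
      conv in (_ ⊓ M) => rw [← hxM]
      conv in (Subgroup.relIndex _ M) => arg 2; rw [← hxM]
      rw [sylow_smul_coe, ← cmap_inf, Subgroup.relIndex_map_map_of_injective _ _ (MulAut.conj x).injective,
        inf_eq_of_sylow_map_le P A hA, Subgroup.relIndex, Subgroup.subgroupOf,
        Subgroup.comap_map_eq_self_of_injective M.subtype_injective]
      exact P.not_dvd_index
    · show cmap x⁻¹ _ = _
      rw [sylow_smul_coe, cmap_inv_cmap]
    · refine le_inf (hDx.trans hAx) (hDP.trans (Subgroup.map_subtype_le _))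
  -- regular case
  set x' : ↥M := ⟨x, hx⟩
  have hxP : ((x' • P : Sylow p ↥M) : Subgroup ↥M).map M.subtype = cmap x P' := by
    rw [sylow_smul_coe, hP']
    simp only [cmap, Subgroup.map_map]
    congr 1
  have hDM : D ≤ M := hDP.trans (Subgroup.map_subtype_le _)
  have hDle : ∀ c : Sylow p ↥M, D ≤ (c : Subgroup ↥M).map M.subtype ↔ D.subgroupOf M ≤ (c : Subgroup ↥M) := by
    intro c
    constructor
    · intro h z hz
      obtain ⟨w, hw, hwz⟩ := h (Subgroup.mem_subgroupOf.1 hz)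
      rwa [← M.subtype_injective hwz]
    · intro h z hz
      exact ⟨⟨z, hDM hz⟩, h (Subgroup.mem_subgroupOf.2 hz), rfl⟩
  have hch := chain_in_regular hreg (a := P) (b := x' • P) (D := D.subgroupOf M)
    (by rwa [ne_eq, Subgroup.subgroupOf_eq_bot, disjoint_iff, inf_of_le_left hDM])
    ((hDle P).1 hDP) ((hDle _).1 (hxP.symm ▸ hDx))
  suffices ∀ b, Relation.ReflTransGen
      (ChainStep p ((fun X : Subgroup G => X.subgroupOf M) '' Cfsg.functorFamily p f M) (D.subgroupOf M)) P b →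
      D ≤ (b : Subgroup ↥M).map M.subtype ∧
      ∀ B' : Sylow p G, (b : Subgroup ↥M).map M.subtype ≤ (B' : Subgroup G) →
        Relation.ReflTransGen (ChainStep p 𝓕 D) A B' from (this _ hch).2 _ (hxP.symm ▸ hAx)
  intro b hb
  induction hb with
  | refl => exact ⟨hDP, fun B' hB' => hlink A B' P' hA hB' hDP hcard⟩
  | @tail a b _ hstep ih =>
    obtain ⟨hDa, ihA⟩ := ih
    obtain ⟨R, F, y, hF, hFR, hNR, ha, hb, -, hy, hyb, hDb⟩ := step_in_regular hf hstep
    have hDb' : D ≤ (b : Subgroup ↥M).map M.subtype := (hDle b).2 hDb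
    refine ⟨hDb', fun B' hB' => ?_⟩
    obtain ⟨A', hA'⟩ := (a.2.map M.subtype).exists_le_sylow
    refine (ihA A' hA').trans ?_
    obtain ⟨Rh, hRh⟩ := (R.2.map M.subtype).exists_le_sylow
    have hcR : Nat.card ↥D < Nat.card ↥((R : Subgroup ↥M).map M.subtype) := sylow_card_eq P R ▸ hcard
    have hRne : (R : Subgroup ↥M).map M.subtype ≠ ⊥ := by
      intro h
      rw [h, Subgroup.card_bot] at hcR
      exact absurd hcR (not_lt.2 Nat.card_pos)
    rcases eq_or_lt_of_le hRh with hfull | hlt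
    · -- `R` is a Sylow subgroup of `G`
      have hfull' : ∀ c : Sylow p ↥M, ∀ C : Sylow p G, (c : Subgroup ↥M).map M.subtype ≤ (C : Subgroup G) →
          (C : Subgroup G) = (c : Subgroup ↥M).map M.subtype := by
        intro c C hC
        refine (Subgroup.eq_of_le_of_card_ge hC ?_).symm
        rw [sylow_card_eq c R, hfull]
        exact le_of_eq (Nat.card_congr (Sylow.equiv C Rh).toEquiv)
      rw [hfull] at hF
      have hfam := h1 (normalizer_mem_functorFamily Rh hF)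
      have eA := hfull' a A' hA'
      have eB := hfull' b B' hB'
      refine Relation.ReflTransGen.single ⟨_, y, mem_sylowMembers_of_le hfam (eA ▸ ha),
        mem_sylowMembers_of_le hfam (eB ▸ hb), hy, ?_, ?_⟩
      · show cmap y⁻¹ _ = _
        rw [eA, eB, hyb, cmap_inv_cmap]
      · rw [eB]; exact le_inf hDb' (hDb'.trans hb)
    · -- otherwise the normalizer of `F` has a larger Sylow subgroup
      have hFne : F ≠ ⊥ := hf1 _ (R.2.map M.subtype) hRne F hF
      obtain ⟨M', hM', hNM'⟩ := exists_maximalPLocal ((R.2.map M.subtype).to_le hFR) hFne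
      have hgt := normalizer_inf_gt Rh.2 hlt
      set R' := (Rh : Subgroup G) ⊓ Subgroup.normalizer (((R : Subgroup ↥M).map M.subtype : Subgroup G) : Set G)
      have hR'M : R' ≤ M' := inf_le_right.trans (hNR.trans hNM')
      obtain ⟨P₂, hP₂⟩ := ((a.2.map M.subtype).comap_subtype (K := M')).exists_le_sylow
      obtain ⟨Q₂, hQ₂⟩ := ((Rh.2.to_inf_left : IsPGroup p ↥R').comap_subtype (K := M')).exists_le_sylow
      have hle : (a : Subgroup ↥M).map M.subtype ≤ (P₂ : Subgroup ↥M').map M'.subtype :=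
        fun z hz => ⟨⟨z, hNM' (ha hz)⟩, hP₂ (by simpa [Subgroup.mem_subgroupOf] using hz), rfl⟩
      have hbig : Nat.card ↥((R : Subgroup ↥M).map M.subtype) < Nat.card ↥((P₂ : Subgroup ↥M').map M'.subtype) := by
        rw [sylow_card_eq P₂ Q₂]
        refine lt_of_lt_of_le ?_ (Nat.le_of_dvd Nat.card_pos (Subgroup.card_dvd_of_le
          (fun z hz => ⟨⟨z, hR'M hz⟩, hQ₂ (Subgroup.mem_subgroupOf.2 hz), rfl⟩ :
            R' ≤ (Q₂ : Subgroup ↥M').map M'.subtype)))
        by_contra hle'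
        exact hgt.ne (Subgroup.eq_of_le_of_card_ge hgt.le (not_lt.1 hle'))
      obtain ⟨A₂, hA₂⟩ := (P₂.2.map M'.subtype).exists_le_sylow
      obtain ⟨B₂, hB₂⟩ := ((P₂.2.map M'.subtype).map (MulAut.conj y).toMonoidHom).exists_le_sylow
      have hca : Nat.card ↥D < Nat.card ↥((a : Subgroup ↥M).map M.subtype) := sylow_card_eq P a ▸ hcard
      refine (hlink A' A₂ _ hA' (hle.trans hA₂) hDa hca).trans (Relation.ReflTransGen.trans ?_
        (hlink B₂ B' _ ((cmap_mono y hle).trans hB₂) (hyb ▸ hB') (hyb ▸ hDb') (by rwa [card_cmap])))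
      refine IH _ ?_ M' P₂ y hM' (hNM' hy) rfl (lt_trans hcR hbig) (hDa.trans hle)
        (hDb'.trans (hyb ▸ cmap_mono y hle)) A₂ B₂ hA₂ hB₂
      have h3 : Nat.card ↥((P₂ : Subgroup ↥M').map M'.subtype) ≤ Nat.card G :=
        Nat.le_of_dvd Nat.card_pos (Subgroup.card_subgroup_dvd_card _)
      rw [← hr, sylow_card_eq P R]
      omega

end

theorem alperin_chain (f : Subgroup G → Set (Subgroup G)) (𝓕 : Set (Subgroup G))
    (hf : Cfsg.IsNormalizerFunctor p f)
    (hf1 : ∀ P : Subgroup G, IsPGroup p ↥P → P ≠ ⊥ → ∀ F ∈ f P, F ≠ ⊥)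
    (h1 : Cfsg.functorFamily p f ⊤ ⊆ 𝓕)
    (h2 : {M | Cfsg.IsMaximalPLocal p M ∧ ¬ Cfsg.IsFunctorRegular p f M} ⊆ 𝓕) :
    ∀ (n : ℕ) (S T : Sylow p G), Nat.card G - Nat.card ↥((S : Subgroup G) ⊓ (T : Subgroup G) : Subgroup G) = n →
      (S : Subgroup G) ⊓ (T : Subgroup G) ≠ ⊥ →
      Relation.ReflTransGen (ChainStep p 𝓕 ((S : Subgroup G) ⊓ (T : Subgroup G))) S T := by
  intro n
  induction n using Nat.strong_induction_on with
  | _ n IH => ?_
  intro S T hn hne
  by_cases hST : S = T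
  · rw [hST]
  set D := (S : Subgroup G) ⊓ (T : Subgroup G) with hD
  have hlink : LinkAbove (p := p) 𝓕 D := by
    intro A B E hEA hEB hDE hlt
    have hE : E ≤ (A : Subgroup G) ⊓ (B : Subgroup G) := le_inf hEA hEB
    have hcE := Nat.le_of_dvd Nat.card_pos (Subgroup.card_dvd_of_le hE)
    have hcG := Nat.le_of_dvd Nat.card_pos
      (Subgroup.card_subgroup_dvd_card ((A : Subgroup G) ⊓ (B : Subgroup G)))
    refine Relation.ReflTransGen.lift id (fun _ _ h => ChainStep.mono subset_rfl (hDE.trans hE) h) _ _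
      (IH _ ?_ A B rfl fun h => ?_)
    · rw [← hn]
      omega
    · rw [h, Subgroup.card_bot] at hcE
      have := Nat.card_pos (α := ↥D)
      omega
  obtain ⟨M, hM, hNM⟩ := exists_maximalPLocal (S.2.to_inf_left : IsPGroup p ↥D) hne
  have hlt : ∀ U V : Sylow p G, U ≠ V → (U : Subgroup G) ⊓ (V : Subgroup G) < (U : Subgroup G) :=
    fun U V h => lt_of_le_of_ne inf_le_left fun h' =>
      h (Sylow.ext (U.3 V.2 (inf_eq_left.1 h')).symm)
  have hS' := normalizer_inf_gt S.2 (hlt S T hST)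
  have hT' := normalizer_inf_gt T.2 (show D < (T : Subgroup G) from by
    rw [hD, inf_comm]; exact hlt T S (Ne.symm hST))
  rw [← hD] at hS'
  obtain ⟨P, hP⟩ := ((S.2.to_inf_left : IsPGroup p ↥((S : Subgroup G) ⊓ Subgroup.normalizer (D : Set G) : Subgroup G)).comap_subtype (K := M)).exists_le_sylow
  obtain ⟨Q, hQ⟩ := ((T.2.to_inf_left : IsPGroup p ↥((T : Subgroup G) ⊓ Subgroup.normalizer (D : Set G) : Subgroup G)).comap_subtype (K := M)).exists_le_sylow
  obtain ⟨x, hx⟩ := MulAction.exists_smul_eq (↥M) P Q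
  have hxQ : cmap (x : G) ((P : Subgroup ↥M).map M.subtype) = (Q : Subgroup ↥M).map M.subtype := by
    rw [← hx, sylow_smul_coe]
    simp only [cmap, Subgroup.map_map]
    congr 1
  have hP' : (S : Subgroup G) ⊓ Subgroup.normalizer (D : Set G) ≤ (P : Subgroup ↥M).map M.subtype :=
    fun z hz => ⟨⟨z, hNM (Subgroup.mem_inf.1 hz).2⟩, hP (by simpa [Subgroup.mem_subgroupOf] using hz), rfl⟩
  have hQ' : (T : Subgroup G) ⊓ Subgroup.normalizer (D : Set G) ≤ (Q : Subgroup ↥M).map M.subtype :=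
    fun z hz => ⟨⟨z, hNM (Subgroup.mem_inf.1 hz).2⟩, hQ (by simpa [Subgroup.mem_subgroupOf] using hz), rfl⟩
  have cardlt : ∀ {E : Subgroup G}, D < E → Nat.card ↥D < Nat.card ↥E := fun {E} h => by
    by_contra hle
    exact h.ne (Subgroup.eq_of_le_of_card_ge h.le (not_lt.1 hle))
  obtain ⟨A, hA⟩ := (P.2.map M.subtype).exists_le_sylow
  obtain ⟨B, hB⟩ := (Q.2.map M.subtype).exists_le_sylow
  refine (hlink S A _ inf_le_left (hP'.trans hA) hS'.le (cardlt hS')).trans (Relation.ReflTransGen.trans ?_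
    (hlink B T _ (hQ'.trans hB) inf_le_left hT'.le (cardlt hT')))
  refine link_in_local f 𝓕 D hf hf1 h1 h2 hne hlink _ M P (x : G) hM x.2 rfl ?_ (hS'.le.trans hP')
    (hxQ ▸ hT'.le.trans hQ') A B hA (hxQ ▸ hB)
  exact lt_of_lt_of_le (cardlt hS') (Nat.le_of_dvd Nat.card_pos (Subgroup.card_dvd_of_le hP'))

end H77
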