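import Cfsg.Agent.H77.JZero

/-!
The distance argument for two groups sharing a Sylow 2-subgroup `T`, each with an elementary abelian normal
subgroup on which `T` induces a group of order 2 of transvections.
-/

set_option autoImplicit false

namespace H77

variable {G : Type*} [Group G]

/-- The last vertex type at distance `n`. -/
def tgt : ℕ → Bool → Bool
  | 0, i => i
  | n + 1, i => tgt n (!i)

theorem tgt_succ : ∀ (n : ℕ) (i : Bool), tgt (n + 1) i = !tgt n i
  | 0, _ => rfl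
  | n + 1, i => tgt_succ n (!i)

theorem tgt_add : ∀ (n m : ℕ) (i : Bool), tgt (n + m) i = tgt m (tgt n i)
  | 0, m, i => by rw [Nat.zero_add]; rfl
  | n + 1, m, i => by rw [Nat.succ_add]; exact tgt_add n m (!i)

theorem tgt_tgt : ∀ (n : ℕ) (i : Bool), tgt n (tgt n i) = i
  | 0, _ => rfl
  | n + 1, i => by
    show tgt n (!tgt (n + 1) i) = i
    rw [tgt_succ, Bool.not_not]
    exact tgt_tgt n i

/-- Products along paths of length `n` starting at `i`. -/
def Reach (P : Bool → Subgroup G) : ℕ → Bool → G → Prop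
  | 0, i, g => g ∈ P i
  | n + 1, i, g => ∃ p ∈ P i, ∃ h, Reach P n (!i) h ∧ g = p * h

section Reach

variable {P : Bool → Subgroup G}

theorem reach_left : ∀ {n : ℕ} {i : Bool} {g p : G}, p ∈ P i → Reach P n i g → Reach P n i (p * g)
  | 0, i, _, _, hp, hg => (P i).mul_mem hp hg
  | _ + 1, i, _, _, hp, ⟨q, hq, h, hh, e⟩ => ⟨_, (P i).mul_mem hp hq, h, hh, by rw [e, mul_assoc]⟩

theorem reach_right : ∀ {n : ℕ} {i : Bool} {g p : G}, Reach P n i g → p ∈ P (tgt n i) → Reach P n i (g * p)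
  | 0, i, _, _, hg, hp => (P i).mul_mem hg hp
  | _ + 1, _, _, p, ⟨q, hq, h, hh, e⟩, hp => ⟨q, hq, h * p, reach_right hh hp, by rw [e, mul_assoc]⟩

theorem reach_succ {n : ℕ} {i : Bool} {g : G} (hg : Reach P n (!i) g) : Reach P (n + 1) i g :=
  ⟨1, (P i).one_mem, g, hg, (one_mul g).symm⟩

theorem reach_back {n : ℕ} {i : Bool} {g : G} (hg : Reach P n i g) : Reach P (n + 1) (!i) g :=
  reach_succ (by rwa [Bool.not_not])

theorem tgt_back (n : ℕ) (i : Bool) : tgt (n + 1) (!i) = tgt n i := by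
  show tgt n (!!i) = _
  rw [Bool.not_not]

theorem reach_snoc : ∀ {n : ℕ} {i : Bool} {g p : G}, Reach P n i g → p ∈ P (!tgt n i) →
    Reach P (n + 1) i (g * p)
  | 0, _, g, p, hg, hp => ⟨g, hg, p, hp, rfl⟩
  | _ + 1, _, _, p, ⟨q, hq, h, hh, e⟩, hp => ⟨q, hq, h * p, reach_snoc hh hp, by rw [e, mul_assoc]⟩

theorem reach_last : ∀ {n : ℕ} {i : Bool} {g : G}, Reach P (n + 1) i g →
    ∃ h, Reach P n i h ∧ ∃ p ∈ P (tgt (n + 1) i), g = h * p
  | 0, _, _, ⟨q, hq, h, hh, e⟩ => ⟨q, hq, h, hh, e⟩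
  | _ + 1, _, _, ⟨q, hq, h, hh, e⟩ => by
    obtain ⟨h', hh', p, hp, e'⟩ := reach_last hh
    exact ⟨q * h', ⟨q, hq, h', hh', rfl⟩, p, hp, by rw [e, e', mul_assoc]⟩

theorem reach_append : ∀ {n m : ℕ} {i : Bool} {g g' : G}, Reach P n i g → Reach P m (tgt n i) g' →
    Reach P (n + m) i (g * g')
  | 0, m, i, g, g', hg, hg' => by
    rw [Nat.zero_add]
    exact reach_left hg hg'
  | n + 1, m, i, g, g', ⟨q, hq, h, hh, e⟩, hg' => by
    rw [Nat.succ_add]
    exact ⟨q, hq, h * g', reach_append hh hg', by rw [e, mul_assoc]⟩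

theorem reach_inv : ∀ {n : ℕ} {i : Bool} {g : G}, Reach P n i g → Reach P n (tgt n i) g⁻¹
  | 0, i, _, hg => (P i).inv_mem hg
  | n + 1, i, _, ⟨q, hq, h, hh, e⟩ => by
    have h1 := reach_inv hh
    rw [e, mul_inv_rev]
    show Reach P (n + 1) (tgt n (!i)) (h⁻¹ * q⁻¹)
    refine reach_snoc h1 ?_
    rw [tgt_tgt, Bool.not_not]
    exact (P i).inv_mem hq

end Reach

/-- The standing hypotheses of the distance argument. -/
structure Amalgam (T : Subgroup G) (P Q V : Bool → Subgroup G) (z : Bool → G) : Prop where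
  pgroup : IsPGroup 2 ↥T
  T_le : ∀ i, T ≤ P i
  Q_le : ∀ i, Q i ≤ T
  V_le : ∀ i, V i ≤ Q i
  V_el : ∀ i, Cfsg.IsElementaryAbelian 2 (V i)
  V_ne : ∀ i, V i ≠ ⊥
  Q_norm : ∀ i, P i ≤ Subgroup.normalizer (Q i : Set G)
  V_norm : ∀ i, P i ≤ Subgroup.normalizer (V i : Set G)
  Q_eq : ∀ i, ∀ x ∈ P i, (∀ v ∈ V i, x * v = v * x) → x ∈ Q i
  Q_comm : ∀ i, ∀ x ∈ Q i, ∀ v ∈ V i, x * v = v * x
  idx : ∀ i, ∀ x ∈ T, ∀ y ∈ T, x ∉ Q i → y ∉ Q i → x * y ∈ Q i
  Q_lt : ∀ i, ∃ t ∈ T, t ∉ Q i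
  P_gt : ∀ i, ∃ p ∈ P i, p ∉ T
  z_mem : ∀ i j, z i ∈ V j
  act : ∀ i, ∀ t ∈ T, ∀ v ∈ V i, t * v * t⁻¹ = v ∨ t * v * t⁻¹ = v * z i
  z_cen : ∀ i, ∀ t ∈ T, t * z i = z i * t
  gen : ∀ i, ∀ p ∈ P i, p ∉ T → ∀ H : Subgroup G, T ≤ H → cmap p T ≤ H → P i ≤ H
  free : ∀ N : Subgroup G, IsPGroup 2 ↥N → (∀ i, P i ≤ Subgroup.normalizer (N : Set G)) → N = ⊥

variable [Finite G]

theorem sup_le_normalizer_sup {H A B : Subgroup G} (hA : H ≤ Subgroup.normalizer (A : Set G))
    (hB : H ≤ Subgroup.normalizer (B : Set G)) : H ≤ Subgroup.normalizer ((A ⊔ B : Subgroup G) : Set G) :=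
  fun g hg => mem_normalizer_of_cmap_eq (by
    show Subgroup.map _ _ = _
    rw [Subgroup.map_sup]
    exact congrArg₂ (· ⊔ ·) (cmap_eq_of_mem_normalizer (hA hg)) (cmap_eq_of_mem_normalizer (hB hg)))

namespace Amalgam

variable {T : Subgroup G} {P Q V : Bool → Subgroup G} {z : Bool → G} (h : Amalgam T P Q V z)
include h

theorem V_le_T (i : Bool) : V i ≤ T := (h.V_le i).trans (h.Q_le i)

theorem V_sq (i : Bool) {v : G} (hv : v ∈ V i) : v * v = 1 := elem_sq (h.V_el i) hv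

theorem V_inv (i : Bool) {v : G} (hv : v ∈ V i) : v⁻¹ = v := inv_eq_of_mul_eq_one_left (h.V_sq i hv)

theorem z_inv (i : Bool) : (z i)⁻¹ = z i := h.V_inv i (h.z_mem i i)

theorem z_comm (i j : Bool) {v : G} (hv : v ∈ V j) : z i * v = v * z i := elem_comm (h.V_el j) (h.z_mem i j) hv

theorem cmap_V {i : Bool} {p : G} (hp : p ∈ P i) : cmap p (V i) = V i :=
  cmap_eq_of_mem_normalizer (h.V_norm i hp)

theorem cmap_Q {i : Bool} {p : G} (hp : p ∈ P i) : cmap p (Q i) = Q i :=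
  cmap_eq_of_mem_normalizer (h.Q_norm i hp)

theorem Q_le_cmap_T {i : Bool} {p : G} (hp : p ∈ P i) : Q i ≤ cmap p T :=
  (h.cmap_Q hp).symm.le.trans (cmap_mono p (h.Q_le i))

theorem act_conj {g x s : G} {i : Bool} (hs : s ∈ cmap g T) (hx : x ∈ cmap g (V i)) :
    s * x * s⁻¹ = x ∨ s * x * s⁻¹ = x * (g * z i * g⁻¹) := by
  rw [mem_cmap] at hs hx
  rcases h.act i _ hs _ hx with e | e
  · refine Or.inl ?_
    have e' := congrArg (fun y => g * y * g⁻¹) e
    convert e' using 1 <;> group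
  · refine Or.inr ?_
    have e' := congrArg (fun y => g * y * g⁻¹) e
    convert e' using 1 <;> group

theorem comm_z {i : Bool} {t v : G} (ht : t ∈ T) (hv : v ∈ V i) (hne : t * v ≠ v * t) :
    t * v * t⁻¹ = v * z i :=
  (h.act i t ht v hv).resolve_left fun e => hne (mul_inv_eq_iff_eq_mul.1 e)

theorem z_ne_one (i : Bool) : z i ≠ 1 := by
  intro h1
  obtain ⟨t, ht, htQ⟩ := h.Q_lt i
  refine htQ (h.Q_eq i t (h.T_le i ht) fun v hv => ?_)
  by_contra hne
  have e := h.comm_z ht hv hne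
  rw [h1, mul_one, mul_inv_eq_iff_eq_mul] at e
  exact hne e

theorem Q_not_le (i : Bool) : ¬ Q i ≤ Q (!i) := by
  intro hle
  have heq : Q i = Q (!i) := by
    refine le_antisymm hle fun x hx => ?_
    by_contra hxi
    obtain ⟨t, ht, htQ⟩ := h.Q_lt (!i)
    have h1 := h.idx i x (h.Q_le _ hx) t ht hxi (fun hti => htQ (hle hti))
    have h2 := (Q (!i)).mul_mem ((Q (!i)).inv_mem hx) (hle h1)
    rw [inv_mul_cancel_left] at h2
    exact htQ h2
  have hN := h.free (Q i) (h.pgroup.to_le (h.Q_le i)) fun j => by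
    rcases Bool.eq_or_eq_not j i with rfl | rfl
    · exact h.Q_norm _
    · rw [heq]; exact h.Q_norm _
  exact h.V_ne i (le_bot_iff.1 (hN ▸ h.V_le i))

theorem exists_noncomm (i : Bool) : ∃ q ∈ Q i, ∃ v ∈ V (!i), q * v ≠ v * q := by
  by_contra hcon
  push Not at hcon
  exact h.Q_not_le i fun q hq => h.Q_eq _ q (h.T_le _ (h.Q_le i hq)) (hcon q hq)

/-- The join of the two `V`'s is normal if an element outside `Q_i` acts suitably. -/
theorem join_normal {i : Bool} {r x : G} (hr : r ∈ P i) (hrT : r ∉ T) (hx : x ∈ T) (hxQ : x ∉ Q i)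
    (hact : ∀ s ∈ cmap r (V (!i)), s * x * s⁻¹ = x ∨ s * x * s⁻¹ = x * z i) :
    P i ≤ Subgroup.normalizer ((V i ⊔ V (!i) : Subgroup G) : Set G) := by
  set U := V i ⊔ cmap r (V (!i)) with hU
  have hxi : x⁻¹ ∈ Subgroup.normalizer (U : Set G) := by
    have hxV : ∀ v ∈ V i, x⁻¹ * v * x ∈ U := fun v hv => by
      refine Subgroup.mem_sup_left ?_
      have := (Subgroup.mem_normalizer_iff.1 (inv_mem (h.V_norm i (h.T_le i hx))) v).1 hv
      rwa [inv_inv] at this
    refine mem_normalizer_of_forall fun a ha => ?_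
    rw [inv_inv]
    rw [hU, Subgroup.sup_eq_closure] at ha
    induction ha using Subgroup.closure_induction with
    | mem a ha =>
      rcases ha with ha | ha
      · exact hxV a ha
      · rcases hact a ha with e | e
        · rw [mul_inv_eq_iff_eq_mul] at e
          rw [mul_assoc, e, inv_mul_cancel_left]
          exact Subgroup.mem_sup_right ha
        · rw [mul_inv_eq_iff_eq_mul] at e
          rw [mul_assoc, e, mul_assoc x, inv_mul_cancel_left]
          exact U.mul_mem (Subgroup.mem_sup_left (h.z_mem i i)) (Subgroup.mem_sup_right ha)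
    | one => simp
    | mul p q _ _ hp hq =>
      rw [show x⁻¹ * (p * q) * x = x⁻¹ * p * x * (x⁻¹ * q * x) by group]
      exact mul_mem hp hq
    | inv p _ hp =>
      rw [show x⁻¹ * p⁻¹ * x = (x⁻¹ * p * x)⁻¹ by group]
      exact inv_mem hp
  have hrTU : cmap r T ≤ Subgroup.normalizer (U : Set G) := by
    refine sup_le_normalizer_sup ?_ ?_
    · calc cmap r T ≤ cmap r (P i) := cmap_mono r (h.T_le i)
        _ = P i := cmap_eq_of_mem_normalizer (Subgroup.le_normalizer hr)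
        _ ≤ _ := h.V_norm i
    · rw [← cmap_normalizer]
      exact cmap_mono r ((h.T_le _).trans (h.V_norm _))
  have hTU : T ≤ Subgroup.normalizer (U : Set G) := by
    intro t ht
    by_cases htQ : t ∈ Q i
    · exact hrTU (h.Q_le_cmap_T hr htQ)
    · have h1 : x⁻¹ * t ∈ Q i :=
        h.idx i x⁻¹ (T.inv_mem hx) t ht (fun h0 => hxQ (by simpa using (Q i).inv_mem h0)) htQ
      have h2 := mul_mem (inv_mem hxi) (hrTU (h.Q_le_cmap_T hr h1))
      simpa using h2
  have hPU := h.gen i r hr hrT _ hTU hrTU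
  have he : U = V i ⊔ V (!i) := by
    rw [← cmap_eq_of_mem_normalizer (hPU ((P i).inv_mem hr)), hU]
    show Subgroup.map _ _ = _
    rw [Subgroup.map_sup]
    exact congrArg₂ (· ⊔ ·) (h.cmap_V ((P i).inv_mem hr)) (cmap_inv_cmap r _)
  exact he ▸ hPU

/-- If the join of two commuting `V`'s is normal in `P_i`, then `z_{!i}` is central in `P_i`. -/
theorem fix_of_join {i : Bool} (hcom : ∀ a ∈ V i, ∀ b ∈ V (!i), a * b = b * a)
    (hU : P i ≤ Subgroup.normalizer ((V i ⊔ V (!i) : Subgroup G) : Set G)) {p : G} (hp : p ∈ P i) :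
    p * z (!i) = z (!i) * p := by
  obtain ⟨q, hq, v, hv, hne⟩ := h.exists_noncomm i
  have e1 := h.comm_z (h.Q_le i hq) hv hne
  have hn : V i ≤ Subgroup.normalizer (V (!i) : Set G) := (h.V_le_T i).trans ((h.T_le _).trans (h.V_norm _))
  obtain ⟨a, ha, b, hb, hab⟩ := exists_mul_of_mem_sup hn
    ((Subgroup.mem_normalizer_iff.1 (hU hp) v).1 (Subgroup.mem_sup_right hv))
  set q' := p * q * p⁻¹ with hq'
  have hq'Q : q' ∈ Q i := (Subgroup.mem_normalizer_iff.1 (h.Q_norm i hp) q).1 hq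
  have e2 : q' * (p * v * p⁻¹) * q'⁻¹ = p * v * p⁻¹ * (p * z (!i) * p⁻¹) := by
    calc q' * (p * v * p⁻¹) * q'⁻¹ = p * (q * v * q⁻¹) * p⁻¹ := by rw [hq']; group
      _ = _ := by rw [e1]; group
  have e3 : q' * (a * b) * q'⁻¹ = a * (q' * b * q'⁻¹) := by
    calc q' * (a * b) * q'⁻¹ = (q' * a) * b * q'⁻¹ := by group
      _ = (a * q') * b * q'⁻¹ := by rw [h.Q_comm i q' hq'Q a ha]
      _ = _ := by group
  rcases h.act _ q' (h.Q_le i hq'Q) b hb with e | e
  · exfalso
    rw [e] at e3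
    rw [← hab, e3, left_eq_mul, conj_eq_one_iff] at e2
    exact h.z_ne_one _ e2
  · rw [e] at e3
    rw [← hab, e3, ← mul_assoc a] at e2
    exact mul_inv_eq_iff_eq_mul.1 (mul_left_cancel e2).symm

/-- The two `V`'s do not commute, or one `P_i` centralises `z_{!i}` and `V_i` has a non-commuting conjugate
of some `V_k` at the conjugate point. -/
theorem noncomm_or_crit : (∃ x ∈ V true, ∃ y ∈ V false, x * y ≠ y * x) ∨
    ((∀ x ∈ V true, ∀ y ∈ V false, x * y = y * x) ∧
    ∃ i, (∀ p ∈ P i, p * z (!i) = z (!i) * p) ∧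
      ∃ g k, g * z k * g⁻¹ = z i ∧ ∃ x ∈ cmap g (V k), ∃ v ∈ V i, x * v ≠ v * x) := by
  classical
  refine or_iff_not_imp_left.2 fun hno => ?_
  push Not at hno
  refine ⟨hno, ?_⟩
  have hcom : ∀ i, ∀ a ∈ V i, ∀ b ∈ V (!i), a * b = b * a := by
    rintro (_ | _) a ha b hb
    · exact (hno b hb a ha).symm
    · exact hno a ha b hb
  let Fail : ℕ → Prop := fun n => ∃ i g, Reach P n i g ∧ ∃ x ∈ cmap g (V (tgt n i)), ∃ v ∈ V i, x * v ≠ v * x
  have hex : ∃ n, Fail n := by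
    by_contra hcon
    simp only [Fail, not_exists, not_and, not_not] at hcon
    set S : Bool → Set G := fun i => {x | ∃ n g, Reach P n i g ∧ x ∈ cmap g (V (tgt n i))} with hS
    have hcomm : ∀ i, ∀ x ∈ S i, ∀ y ∈ S i, x * y = y * x := by
      rintro i x ⟨n, g, hg, hx⟩ y ⟨m, g', hg', hy⟩
      have hr : Reach P (n + m) (tgt n i) (g⁻¹ * g') :=
        reach_append (reach_inv hg) (by rw [tgt_tgt]; exact hg')
      have hy' : g⁻¹ * y * g ∈ cmap (g⁻¹ * g') (V (tgt (n + m) (tgt n i))) := by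
        rw [tgt_add, tgt_tgt, mem_cmap]
        convert mem_cmap.1 hy using 1
        group
      have e := hcon (n + m) (tgt n i) (g⁻¹ * g') hr _ hy' _ (mem_cmap.1 hx)
      have e' := congrArg (fun w => g * w * g⁻¹) e
      symm
      convert e' using 1 <;> group
    have hsub : ∀ i, S i ⊆ S (!i) := fun i x ⟨n, g, hg, hx⟩ =>
      ⟨n + 1, g, reach_back hg, by rw [tgt_back]; exact hx⟩
    have hSeq : S false = S true := Set.Subset.antisymm (hsub false) (hsub true)
    set N := Subgroup.closure (S true) with hN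
    have hsq : ∀ y ∈ S true, y * y = 1 := by
      rintro y ⟨n, g, -, hy⟩
      obtain ⟨v, hv, rfl⟩ := hy
      rw [← map_mul, h.V_sq _ hv, map_one]
    have hNp : IsPGroup 2 ↥N := by
      have key : ∀ y ∈ N, y * y = 1 ∧ ∀ w ∈ S true, y * w = w * y := by
        intro y hy
        induction hy using Subgroup.closure_induction with
        | mem y hy => exact ⟨hsq y hy, hcomm true y hy⟩
        | one => exact ⟨one_mul 1, fun w _ => by simp⟩
        | mul p q hpN _ hp hq =>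
          have hqp : Commute q p := by
            have : p ∈ Subgroup.centralizer ({q} : Set G) := by
              refine (Subgroup.closure_le _).2 ?_ hpN
              intro w hw
              exact Subgroup.mem_centralizer_singleton_iff.2 (hq.2 w hw).symm
            exact (Subgroup.mem_centralizer_singleton_iff.1 this).symm
          exact ⟨by rw [hqp.mul_mul_mul_comm, hp.1, hq.1, one_mul],
            fun w hw => ((show Commute p w from hp.2 w hw).mul_left (hq.2 w hw)).eq⟩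
        | inv p _ hp => exact ⟨by rw [← mul_inv_rev, hp.1, inv_one],
            fun w hw => (show Commute p w from hp.2 w hw).inv_left.eq⟩
      exact fun y => ⟨1, Subtype.ext (by rw [pow_one, sq]; exact (key y y.2).1)⟩
    have hPN : ∀ i, P i ≤ Subgroup.normalizer (N : Set G) := by
      intro i p hp
      have hNi : N = Subgroup.closure (S i) := by cases i <;> [rw [hN, hSeq]; rfl]
      rw [hNi]
      refine mem_normalizer_of_cmap_eq (Subgroup.eq_of_le_of_card_ge ?_ (card_cmap p _).ge)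
      show Subgroup.map _ _ ≤ _
      rw [MonoidHom.map_closure, Subgroup.closure_le]
      rintro _ ⟨y, ⟨n, g, hg, hy⟩, rfl⟩
      refine Subgroup.subset_closure ⟨n, p * g, reach_left hp hg, ?_⟩
      rw [← cmap_cmap]
      exact ⟨y, hy, rfl⟩
    refine h.V_ne true (le_bot_iff.1 (h.free N hNp hPN ▸ fun v hv =>
      Subgroup.subset_closure ⟨0, 1, (P true).one_mem, ?_⟩))
    show v ∈ cmap 1 (V true)
    rwa [cmap_one]
  set b := Nat.find hex with hb
  have hcomn : ∀ {n i g}, n < b → Reach P n i g → ∀ x ∈ cmap g (V (tgt n i)), ∀ v ∈ V i, x * v = v * x := by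
    intro n i g hn hg x hx v hv
    by_contra hne
    exact Nat.find_min hex hn ⟨i, g, hg, x, hx, v, hv, hne⟩
  have hleP : ∀ {n i g}, n ≤ b → Reach P n i g → cmap g (V (tgt n i)) ≤ P i := by
    intro n
    induction n with
    | zero => intro i g _ hg; exact (h.cmap_V hg).le.trans ((h.V_le_T i).trans (h.T_le i))
    | succ n ih =>
      rintro i _ hn ⟨p, hp, g, hg, rfl⟩
      rw [← cmap_cmap]
      refine (cmap_mono p ?_).trans (cmap_eq_of_mem_normalizer (Subgroup.le_normalizer hp)).le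
      intro y hy
      exact h.T_le i (h.Q_le _ (h.Q_eq _ y (ih (Nat.le_of_succ_le hn) hg hy)
        fun v hv => hcomn (Nat.lt_of_succ_le hn) hg y hy v hv))
  have hleQ : ∀ {n i g}, n < b → Reach P n i g → cmap g (V (tgt n i)) ≤ Q i := fun hn hg y hy =>
    h.Q_eq _ y (hleP hn.le hg hy) fun v hv => hcomn hn hg y hy v hv
  have hrev : ∀ {n i g}, n < b → Reach P n i g → V i ≤ cmap g T := by
    intro n i g hn hg v hv
    have h1 := hleQ hn (reach_inv hg)
    rw [tgt_tgt] at h1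
    rw [mem_cmap]
    exact h.Q_le _ (h1 (mem_cmap.2 (by simpa [mul_assoc] using hv)))
  obtain ⟨i, g, hg, x, hx, v, hv, hne⟩ := Nat.find_spec hex
  have hb2 : ∃ m, b = m + 2 := by
    rcases hbm : b with _ | _ | m
    · exfalso
      rw [← hb, hbm] at hg hx
      rw [show tgt 0 i = i from rfl, h.cmap_V hg] at hx
      exact hne (elem_comm (h.V_el i) hx hv)
    · exfalso
      rw [← hb, hbm] at hg hx
      obtain ⟨p, hp, q, hq, rfl⟩ := hg
      rw [← cmap_cmap, show tgt 1 i = !i from rfl, h.cmap_V hq, mem_cmap] at hx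
      have h1 : p⁻¹ * v * p ∈ V i := by
        have := (Subgroup.mem_normalizer_iff.1 (inv_mem (h.V_norm i hp)) v).1 hv
        rwa [inv_inv] at this
      have e' := congrArg (fun w => p * w * p⁻¹) (hcom i _ h1 _ hx).symm
      exact hne (by convert e' using 1 <;> group)
    · exact ⟨m, rfl⟩
  obtain ⟨m, hm⟩ := hb2
  -- move the far end into `Q_{!i}`
  rw [← hb, hm] at hg hx
  obtain ⟨p0, hp0, g1, hg1, rfl⟩ := hg
  set j := !i with hj
  obtain ⟨h0, hh0, pk, hpk, rfl⟩ := reach_last hg1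
  set k := tgt (m + 1) j with hk
  set k' := tgt m j with hk'
  have htk : tgt (m + 2) i = k := rfl
  rw [htk, ← cmap_cmap, ← cmap_cmap h0 pk, h.cmap_V hpk, mem_cmap] at hx
  set y := p0⁻¹ * x * p0 with hy
  set w := p0⁻¹ * v * p0 with hw
  have hwV : w ∈ V i := by
    have := (Subgroup.mem_normalizer_iff.1 (inv_mem (h.V_norm i hp0)) v).1 hv
    rwa [inv_inv] at this
  have hyw : y * w ≠ w * y := by
    intro e
    have e' := congrArg (fun w => p0 * w * p0⁻¹) e
    simp only [hy, hw] at e'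
    exact hne (by convert e' using 1 <;> group)
  have hmb : m + 1 < b := by omega
  have hh0' : Reach P (m + 1) j h0 := by
    have := reach_snoc hh0 ((P (!tgt m j)).one_mem)
    rwa [mul_one] at this
  have hyQ : y ∈ Q j := hleQ hmb hh0' hx
  have hyT : y ∈ T := h.Q_le _ hyQ
  have hyi : y ∉ Q i := fun h0' => hyw (h.Q_comm i y h0' w hwV)
  have hh0i : Reach P (m + 1) i h0 := reach_succ hh0
  have hViT : V i ≤ cmap h0 T := hrev hmb hh0i
  have e1 : y * w * y⁻¹ = w * z i := h.comm_z hyT hwV hyw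
  have e2 : w * y * w⁻¹ = y * (h0 * z k * h0⁻¹) :=
    (h.act_conj (hViT hwV) hx).resolve_left fun e => hyw (mul_inv_eq_iff_eq_mul.1 e).symm
  set c := h0 * z k * h0⁻¹ with hcdef
  have hzc : c = z i := by
    have hy1 : y * y = 1 := by
      obtain ⟨u, hu, hue⟩ := hx
      rw [← hue, ← map_mul, h.V_sq k hu, map_one]
    have hyi' : y⁻¹ = y := inv_eq_of_mul_eq_one_left hy1
    have hwi := h.V_inv i hwV
    rw [hyi'] at e1
    rw [hwi] at e2
    calc c = y * (w * y * w) := by rw [e2, ← mul_assoc, hy1, one_mul]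
      _ = (y * w * y) * w := by group
      _ = z i := by rw [e1, ← h.z_comm i i hwV, mul_assoc, h.V_sq i hwV, mul_one]
  refine ⟨i, ?_, h0, k, hzc, y, hx, w, hwV, hyw⟩
  -- `P_i` centralises `z_j`
  obtain ⟨p, hp, hpT⟩ := h.P_gt i
  have hXp : Reach P (m + 1) i (p⁻¹ * h0) := reach_left ((P i).inv_mem hp) hh0i
  have hXpk : tgt (m + 1) i = k' := rfl
  have hXp' : Reach P (m + 2) j (p⁻¹ * h0) := reach_back hXp
  have hXpk' : tgt (m + 2) j = k' := by rw [hj, tgt_back, hXpk]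
  intro q hq
  by_cases hII : ∀ s ∈ cmap p (V j), ∀ x' ∈ cmap h0 (V k'), s * x' = x' * s
  · refine h.fix_of_join (hcom i) (h.join_normal hp hpT hyT hyi fun s hs => ?_) hq
    have hsP : h0⁻¹ * s * h0 ∈ P k' := by
      have hr := reach_inv hXp'
      have hle := hleP (show m + 2 ≤ b by omega) hr
      rw [tgt_tgt, hXpk', mul_inv_rev, inv_inv, ← cmap_cmap] at hle
      exact hle (mem_cmap.2 (by simpa [mul_assoc] using hs))
    have hsQ : h0⁻¹ * s * h0 ∈ Q k' := h.Q_eq _ _ hsP fun u hu => by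
      have e := hII s hs _ (conj_mem_cmap hu)
      have e' := congrArg (fun w => h0⁻¹ * w * h0) e
      convert e' using 1 <;> group
    rw [← hzc]
    exact h.act_conj (mem_cmap.2 (h.Q_le _ hsQ)) hx
  · push Not at hII
    obtain ⟨s, hs, x', hx', hne'⟩ := hII
    rw [mem_cmap] at hs
    have hx1 : p⁻¹ * x' * p ∈ cmap (p⁻¹ * h0) (V k') := by
      rw [mem_cmap]; convert mem_cmap.1 hx' using 1; group
    set x1 := p⁻¹ * x' * p with hx1def
    set s1 := p⁻¹ * s * p with hs1def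
    have hne1 : x1 * s1 ≠ s1 * x1 := by
      intro e
      have e' := congrArg (fun w => p * w * p⁻¹) e
      simp only [hx1def, hs1def] at e'
      exact hne' (by symm; convert e' using 1 <;> group)
    have hx1T : x1 ∈ T := h.Q_le _ (hleQ hmb hXp (hXpk.symm ▸ hx1))
    have e3 : x1 * s1 * x1⁻¹ = s1 * z j := h.comm_z hx1T hs hne1
    have hzj : z j ∈ cmap (p⁻¹ * h0) (V k') := by
      have hs1P : (p⁻¹ * h0)⁻¹ * s1 * (p⁻¹ * h0) ∈ P k' := by
        have hle := hleP (show m + 2 ≤ b by omega) (reach_inv hXp')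
        rw [tgt_tgt, hXpk'] at hle
        exact hle (mem_cmap.2 (by simpa [mul_assoc] using hs))
      have hn : s1 ∈ Subgroup.normalizer (cmap (p⁻¹ * h0) (V k') : Set G) := by
        rw [← cmap_normalizer, mem_cmap]
        exact h.V_norm k' hs1P
      have h3 : s1⁻¹ * x1 * s1 ∈ cmap (p⁻¹ * h0) (V k') := by
        have := (Subgroup.mem_normalizer_iff.1 (inv_mem hn) x1).1 hx1
        rwa [inv_inv] at this
      have e4 : s1⁻¹ * x1 * s1 = z j * x1 := by
        calc s1⁻¹ * x1 * s1 = s1⁻¹ * (x1 * s1 * x1⁻¹) * x1 := by group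
          _ = z j * x1 := by rw [e3]; group
      have := mul_mem h3 (inv_mem hx1)
      rwa [e4, mul_inv_cancel_right] at this
    -- `p z_j p⁻¹` lies in the penultimate conjugate, so commutes with `y`
    set R := p * z j * p⁻¹ with hR
    have hRXp : R ∈ cmap h0 (V k') := by
      rw [mem_cmap] at hzj ⊢
      convert hzj using 1
      rw [hR]; group
    have hyR : y * R = R * y := by
      have h1 : (h0⁻¹ * y * h0) * (h0⁻¹ * R * h0) = (h0⁻¹ * R * h0) * (h0⁻¹ * y * h0) := by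
        have hk2 : k = !k' := tgt_succ m j
        exact (hcom k' _ (mem_cmap.1 hRXp) _ (hk2 ▸ mem_cmap.1 hx)).symm
      have e' := congrArg (fun w => h0 * w * h0⁻¹) h1
      convert e' using 1 <;> group
    set C := Subgroup.centralizer ({R} : Set G) with hC
    have hpTC : cmap p T ≤ C := by
      rintro _ ⟨t, ht, rfl⟩
      rw [hC, Subgroup.mem_centralizer_singleton_iff]
      show p * t * p⁻¹ * R = R * (p * t * p⁻¹)
      calc p * t * p⁻¹ * R = p * (t * z j) * p⁻¹ := by rw [hR]; group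
        _ = p * (z j * t) * p⁻¹ := by rw [h.z_cen j t ht]
        _ = _ := by rw [hR]; group
    have hTC : T ≤ C := by
      intro t ht
      by_cases htQ : t ∈ Q i
      · exact hpTC (h.Q_le_cmap_T hp htQ)
      · have h1 : y⁻¹ * t ∈ Q i :=
          h.idx i y⁻¹ (T.inv_mem hyT) t ht (fun h0 => hyi (by simpa using (Q i).inv_mem h0)) htQ
        have h2 := mul_mem (Subgroup.mem_centralizer_singleton_iff.2 hyR : y ∈ C) (hpTC (h.Q_le_cmap_T hp h1))
        simpa using h2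
    have hPC := h.gen i p hp hpT C hTC hpTC
    have hRz : R = z j := by
      have := Subgroup.mem_centralizer_singleton_iff.1 (hPC hp)
      rw [hR] at this ⊢
      have e' := congrArg (fun w => p⁻¹ * w) this
      convert e' using 1 <;> group
    have := Subgroup.mem_centralizer_singleton_iff.1 (hPC hq)
    rwa [hRz] at this

/-- The squares of `Q_i` in terms of `Q_t ∩ Q_f`. -/
def sqOf (X : Subgroup G) : Subgroup G := Subgroup.closure {y : G | ∃ q ∈ X, y = q * q}

omit h [Finite G] in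
theorem sqOf_mono {X Y : Subgroup G} (hle : X ≤ Y) : sqOf X ≤ sqOf Y :=
  Subgroup.closure_mono fun _ ⟨q, hq, e⟩ => ⟨q, hle hq, e⟩

theorem sqOf_eq_bot (hle : ∀ i, sqOf (Q i) ≤ sqOf (Q true ⊓ Q false)) (i : Bool) : sqOf (Q i) = ⊥ := by
  set D := sqOf (Q true ⊓ Q false) with hD
  have he : ∀ i, sqOf (Q i) = D := fun i => le_antisymm (hle i)
    (by cases i <;> [exact sqOf_mono inf_le_right; exact sqOf_mono inf_le_left])
  have hp : IsPGroup 2 ↥D := h.pgroup.to_le ((Subgroup.closure_le _).2 (by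
    rintro _ ⟨q, hq, rfl⟩
    exact T.mul_mem (h.Q_le _ (Subgroup.mem_inf.1 hq).1) (h.Q_le _ (Subgroup.mem_inf.1 hq).1)))
  rw [he i]
  refine h.free D hp fun j p hp => ?_
  rw [← he j]
  refine mem_normalizer_of_cmap_eq (Subgroup.eq_of_le_of_card_ge ?_ (card_cmap p _).ge)
  show Subgroup.map _ _ ≤ _
  rw [sqOf, MonoidHom.map_closure, Subgroup.closure_le]
  rintro _ ⟨_, ⟨q, hq, rfl⟩, rfl⟩
  exact Subgroup.subset_closure ⟨p * q * p⁻¹, (Subgroup.mem_normalizer_iff.1 (h.Q_norm j hp) q).1 hq,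
    by simp [mul_assoc]⟩

/-- If both sides have non-commuting conjugates fixed at the centre, there is a contradiction. -/
theorem not_both_sides (hcom : ∀ i, ∀ a ∈ V i, ∀ b ∈ V (!i), a * b = b * a)
    (hz : ∀ i, ∀ p ∈ P (!i), p * z i = z i * p)
    (hs : ∀ i, ∃ s ∈ P (!i), s ^ 3 ∈ T ∧ ∃ x ∈ cmap s (V i), ∃ v ∈ V i, x * v ≠ v * x) : False := by
  set Dq := sqOf (Q true ⊓ Q false) with hDq
  have hmemD : ∀ {i : Bool} {q : G}, q ∈ Q i → q ∈ Q (!i) → q ∈ Q true ⊓ Q false := by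
    rintro (_ | _) q h1 h2
    · exact Subgroup.mem_inf.2 ⟨h2, h1⟩
    · exact Subgroup.mem_inf.2 ⟨h1, h2⟩
  have key : ∀ i, z i ∈ Dq ∧ sqOf (Q (!i)) ≤ Dq := by
    intro i
    obtain ⟨s, hs, hs3, x0, hx0, v0, hv0, hne0⟩ := hs i
    have hVQ : V i ≤ Q (!i) := fun u hu =>
      h.Q_eq _ u (h.T_le _ (h.V_le_T i hu)) fun w hw => hcom i u hu w hw
    have hsV : ∀ p ∈ P (!i), cmap p (V i) ≤ Q (!i) := fun p hp => (cmap_mono p hVQ).trans (h.cmap_Q hp).le
    have hact : ∀ c ∈ Q (!i), ∀ u ∈ cmap s (V i), c * u * c⁻¹ = u ∨ c * u * c⁻¹ = u * z i := by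
      intro c hc u hu
      have := h.act_conj (h.Q_le_cmap_T hs hc) hu
      rwa [hz i s hs, mul_inv_cancel_right] at this
    have hsqs : ∀ p, ∀ u ∈ cmap p (V i), u * u = 1 := by
      rintro p _ ⟨u, hu, rfl⟩
      rw [← map_mul, h.V_sq i hu, map_one]
    -- the other conjugate
    have hx0Q : x0 ∉ Q i := fun h0 => hne0 (h.Q_comm i x0 h0 v0 hv0)
    have hx0T : x0 ∈ T := h.Q_le _ (hsV s hs hx0)
    have hc0 : s⁻¹ * v0 * s ∈ cmap s⁻¹ (V i) := mem_cmap.2 (by simpa [mul_assoc] using hv0)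
    have hc0ne : (s⁻¹ * v0 * s) * (s⁻¹ * x0 * s) ≠ (s⁻¹ * x0 * s) * (s⁻¹ * v0 * s) := by
      intro e
      have e' := congrArg (fun w => s * w * s⁻¹) e
      exact hne0 (by symm; convert e' using 1 <;> group)
    have hc0Q : s⁻¹ * v0 * s ∉ Q i := fun h0 => hc0ne (h.Q_comm i _ h0 _ (mem_cmap.1 hx0))
    obtain ⟨b, hb, c, hc, hbi, hci, hbc⟩ : ∃ b ∈ cmap s (V i), ∃ c ∈ cmap s⁻¹ (V i),
        b ∉ Q i ∧ c ∉ Q i ∧ b * c ≠ c * b := by
      by_contra hcon
      push Not at hcon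
      have hall : ∀ b ∈ cmap s (V i), ∀ c ∈ cmap s⁻¹ (V i), c ∉ Q i → b * c = c * b := by
        intro b hb c hc hci
        by_cases hbi : b ∈ Q i
        · have h1 : b * x0 ∉ Q i := fun h0 => hx0Q (by simpa using (Q i).mul_mem ((Q i).inv_mem hbi) h0)
          have e1 : Commute (b * x0) c := hcon _ (mul_mem hb hx0) c hc h1 hci
          have e2 : Commute x0 c := hcon x0 hx0 c hc hx0Q hci
          have := e1.mul_left e2.inv_left
          rwa [mul_inv_cancel_right] at this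
        · exact hcon b hb c hc hbi hci
      have hall' : ∀ b ∈ cmap s (V i), ∀ c ∈ cmap s⁻¹ (V i), b * c = c * b := by
        intro b hb c hc
        by_cases hci : c ∈ Q i
        · set c0 := s⁻¹ * v0 * s
          have h1 : c * c0 ∉ Q i := fun h0 => hc0Q (by simpa using (Q i).mul_mem ((Q i).inv_mem hci) h0)
          have e1 : Commute b (c * c0) := hall b hb _ (mul_mem hc hc0) h1
          have e2 : Commute b c0 := hall b hb c0 hc0 hc0Q
          have := e1.mul_right e2.inv_right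
          rwa [mul_inv_cancel_right] at this
        · exact hall b hb c hc hci
      -- conjugate by `s`
      have hb' : s⁻¹ * (s⁻¹ * v0 * s) * s ∈ cmap s (V i) := by
        have e : cmap s (V i) = cmap (s⁻¹ * s⁻¹) (V i) := by
          have es : s = s⁻¹ * s⁻¹ * s ^ 3 := by group
          conv_lhs => rw [es, ← cmap_cmap, h.cmap_V (h.T_le i hs3)]
        rw [e, mem_cmap]
        convert hv0 using 1
        group
      have hc' : s⁻¹ * (s⁻¹ * x0 * s) * s ∈ cmap s⁻¹ (V i) := mem_cmap.2 (by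
        convert mem_cmap.1 hx0 using 1; group)
      have e := hall' _ hb' _ hc'
      have e' := congrArg (fun w => s * w * s⁻¹) e
      exact hc0ne (by convert e' using 1 <;> group)
    have hbQ := hsV s hs hb
    have hcQ := hsV s⁻¹ ((P (!i)).inv_mem hs) hc
    have hbcD : b * c ∈ Q true ⊓ Q false :=
      hmemD (h.idx i b (h.Q_le _ hbQ) c (h.Q_le _ hcQ) hbi hci) ((Q (!i)).mul_mem hbQ hcQ)
    have hb1 := hsqs s b hb
    have hc1 := hsqs s⁻¹ c hc
    have hzD : z i ∈ Dq := by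
      have e : c * b * c⁻¹ = b * z i :=
        (hact c hcQ b hb).resolve_left fun e => hbc (mul_inv_eq_iff_eq_mul.1 e).symm
      refine Subgroup.subset_closure ⟨b * c, hbcD, ?_⟩
      calc z i = b * (b * z i) := by rw [← mul_assoc, hb1, one_mul]
        _ = b * (c * b * c⁻¹) := by rw [e]
        _ = b * c * (b * c) := by rw [inv_eq_of_mul_eq_one_left hc1]; group
    refine ⟨hzD, (Subgroup.closure_le _).2 ?_⟩
    rintro _ ⟨q, hq, rfl⟩
    by_cases hqi : q ∈ Q i
    · exact Subgroup.subset_closure ⟨q, hmemD hqi hq, rfl⟩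
    · set d := b * q with hd
      have hdD : d ∈ Q true ⊓ Q false :=
        hmemD (h.idx i b (h.Q_le _ hbQ) q (h.Q_le _ hq) hbi hqi) ((Q (!i)).mul_mem hbQ hq)
      have hqd : q = b * d := by rw [hd, ← mul_assoc, hb1, one_mul]
      have hdQ : d ∈ Q (!i) := (Q (!i)).mul_mem hbQ hq
      have hd2 : d * d ∈ Dq := Subgroup.subset_closure ⟨d, hdD, rfl⟩
      have hqq : q * q = b * (d * b * d⁻¹) * (d * d) := by rw [hqd]; group
      rcases hact d hdQ b hb with e | e
      · rw [hqq, e, hb1, one_mul]; exact hd2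
      · rw [hqq, e, ← mul_assoc b b, hb1, one_mul]; exact mul_mem hzD hd2
  have hbot := h.sqOf_eq_bot (fun i => by
    have h1 := (key (!i)).2
    rwa [Bool.not_not] at h1) true
  have h1 : z true ∈ sqOf (Q true) := (sqOf_mono inf_le_left : Dq ≤ _) (key true).1
  rw [hbot, Subgroup.mem_bot] at h1
  exact h.z_ne_one true h1

/-- One-sided non-commuting conjugates make the join normal. -/
theorem join_of_oneSided {i : Bool} (hcom : ∀ a ∈ V i, ∀ b ∈ V (!i), a * b = b * a)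
    (hz : ∀ p ∈ P (!i), p * z i = z i * p) {p x : G} (hp : p ∈ P (!i)) (hx : x ∈ cmap p (V i)) (hxQ : x ∉ Q i)
    (hone : ∀ r ∈ P i, ∀ a ∈ cmap r (V (!i)), ∀ b ∈ V (!i), a * b = b * a) :
    P i ≤ Subgroup.normalizer ((V i ⊔ V (!i) : Subgroup G) : Set G) := by
  obtain ⟨r, hr, hrT⟩ := h.P_gt i
  have hVQ : V i ≤ Q (!i) := fun u hu =>
    h.Q_eq _ u (h.T_le _ (h.V_le_T i hu)) fun w hw => hcom u hu w hw
  have hVQ' : V (!i) ≤ Q i := fun u hu =>
    h.Q_eq _ u (h.T_le _ (h.V_le_T _ hu)) fun w hw => (hcom w hw u hu).symm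
  have hxQj : x ∈ Q (!i) := (h.cmap_Q hp).le (cmap_mono p hVQ hx)
  refine h.join_normal hr hrT (h.Q_le _ hxQj) hxQ fun s hs => ?_
  have hsT : s ∈ T := h.Q_le _ ((h.cmap_Q hr).le (cmap_mono r hVQ' hs))
  have hsQ : s ∈ Q (!i) := h.Q_eq _ s (h.T_le _ hsT) fun b hb => hone r hr s hs b hb
  have := h.act_conj (h.Q_le_cmap_T hp hsQ) hx
  rwa [hz p hp, mul_inv_cancel_right] at this

section NonComm

variable {i : Bool} {x y : G} (hx : x ∈ V i) (hy : y ∈ V (!i)) (hxy : x * y ≠ y * x)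
include hx hy hxy

theorem nc_z : z (!i) = z i := by
  have e1 := h.comm_z (h.V_le_T _ hy) hx (Ne.symm hxy)
  have e2 := h.comm_z (h.V_le_T _ hx) hy hxy
  rw [h.V_inv _ hy] at e1
  rw [h.V_inv _ hx] at e2
  calc z (!i) = y * (x * y * x) := by rw [e2, ← mul_assoc, h.V_sq _ hy, one_mul]
    _ = (y * x * y) * x := by group
    _ = z i := by rw [e1, ← h.z_comm i i hx, mul_assoc, h.V_sq i hx, mul_one]

theorem nc_sqOf_le : sqOf (Q i) ≤ sqOf (Q i ⊓ Q (!i)) := by
  have hxj : x ∉ Q (!i) := fun h0 => hxy (h.Q_comm _ x h0 y hy)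
  refine (Subgroup.closure_le _).2 ?_
  rintro _ ⟨q, hq, rfl⟩
  by_cases hqj : q ∈ Q (!i)
  · exact Subgroup.subset_closure ⟨q, Subgroup.mem_inf.2 ⟨hq, hqj⟩, rfl⟩
  · refine Subgroup.subset_closure ⟨x * q, Subgroup.mem_inf.2
      ⟨(Q i).mul_mem (h.V_le i hx) hq, h.idx _ x (h.V_le_T i hx) q (h.Q_le i hq) hxj hqj⟩, ?_⟩
    have hc : Commute x q := (h.Q_comm i q hq x hx).symm
    rw [hc.symm.mul_mul_mul_comm, h.V_sq i hx, one_mul]

theorem nc_Q_sq : ∀ q ∈ Q i, q * q = 1 := by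
  intro q hq
  have h1 := h.nc_sqOf_le hx hy hxy
  have h2 := h.nc_sqOf_le (i := !i) (x := y) (y := x) hy (by rwa [Bool.not_not]) (Ne.symm hxy)
  rw [Bool.not_not, inf_comm] at h2
  have hle : ∀ j, sqOf (Q j) ≤ sqOf (Q true ⊓ Q false) := by
    have e : Q i ⊓ Q (!i) = Q true ⊓ Q false := by cases i <;> [exact inf_comm _ _; rfl]
    intro j
    rcases Bool.eq_or_eq_not j i with rfl | rfl
    · exact e ▸ h1
    · exact e ▸ h2
  have h3 : q * q ∈ sqOf (Q i) := Subgroup.subset_closure ⟨q, hq, rfl⟩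
  rwa [h.sqOf_eq_bot hle i, Subgroup.mem_bot] at h3

theorem nc_Q_sq' : ∀ q ∈ Q (!i), q * q = 1 :=
  h.nc_Q_sq (i := !i) hy (by rwa [Bool.not_not]) (Ne.symm hxy)

theorem nc_Q_comm : ∀ q ∈ Q i, ∀ q' ∈ Q i, q * q' = q' * q := by
  intro q hq q' hq'
  have hi : ∀ r ∈ Q i, r⁻¹ = r := fun r hr => inv_eq_of_mul_eq_one_left (h.nc_Q_sq hx hy hxy r hr)
  have h1 := hi _ ((Q i).mul_mem hq hq')
  rw [mul_inv_rev, hi q hq, hi q' hq'] at h1
  exact h1.symm

theorem nc_T_cases {t : G} (ht : t ∈ T) : t ∈ Q (!i) ∨ x * t ∈ Q (!i) :=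
  or_iff_not_imp_left.2 fun htQ =>
    h.idx _ x (h.V_le_T i hx) t ht (fun h0 => hxy (h.Q_comm _ x h0 y hy)) htQ

theorem nc_inf_central {d : G} (hd : d ∈ Q i) (hd' : d ∈ Q (!i)) : ∀ t ∈ T, t * d = d * t := by
  intro t ht
  have hcj := h.nc_Q_comm (i := !i) hy (by rwa [Bool.not_not] : x ∈ V (!!i)) (Ne.symm hxy)
  rcases h.nc_T_cases hx hy hxy ht with h1 | h1
  · exact hcj t h1 d hd'
  · have e1 : Commute (x * t) d := hcj _ h1 d hd'
    have e2 : Commute x d := (h.Q_comm i d hd x hx).symm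
    have := e2.inv_left.mul_left e1
    rwa [inv_mul_cancel_left] at this

/-- If the central involutions of `T` lie in `V_i`, then `Q_i = V_i`. -/
theorem nc_Q_eq (hΩ : ∀ d ∈ T, d * d = 1 → (∀ t ∈ T, t * d = d * t) → d ∈ V i) : Q i = V i := by
  refine le_antisymm (fun q hq => ?_) (h.V_le i)
  have hd : ∀ d ∈ Q i, d ∈ Q (!i) → d ∈ V i := fun d hd hd' =>
    hΩ d (h.Q_le i hd) (h.nc_Q_sq hx hy hxy d hd) (h.nc_inf_central hx hy hxy hd hd')
  rcases h.nc_T_cases hx hy hxy (h.Q_le i hq) with h1 | h1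
  · exact hd q hq h1
  · have := (V i).mul_mem hx (hd _ ((Q i).mul_mem (h.V_le i hx) hq) h1)
    rwa [← mul_assoc, h.V_sq i hx, one_mul] at this

theorem nc_invol {t : G} (ht : t ∈ T) (h2 : t * t = 1) : t ∈ Q i ∨ t ∈ Q (!i) := by
  refine or_iff_not_imp_right.2 fun htj => ?_
  by_contra hti
  set d := x * t with hd
  have hdj : d ∈ Q (!i) := (h.nc_T_cases hx hy hxy ht).resolve_left htj
  have htd : t = x * d := by rw [hd, ← mul_assoc, h.V_sq i hx, one_mul]
  have hdi : d ∉ Q i := fun h0 => hti (htd ▸ (Q i).mul_mem (h.V_le i hx) h0)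
  have hd2 := h.nc_Q_sq' hx hy hxy d hdj
  have hdc : d * x = x * d := by
    rw [htd] at h2
    calc d * x = (x * x) * (d * x) * (d * d) := by rw [h.V_sq i hx, hd2, one_mul, mul_one]
      _ = x * (x * d * (x * d)) * d := by group
      _ = x * d := by rw [h2, mul_one]
  -- `d` then centralises `V_i`
  refine hdi (h.Q_eq i d (h.T_le i (h.Q_le _ hdj)) fun v hv => ?_)
  rcases h.nc_T_cases hx hy hxy (h.V_le_T i hv) with h1 | h1
  · exact (h.nc_inf_central hx hy hxy (h.V_le i hv) h1 d (h.Q_le _ hdj))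
  · have e1 : Commute d (x * v) :=
      h.nc_inf_central hx hy hxy ((Q i).mul_mem (h.V_le i hx) (h.V_le i hv)) h1 d (h.Q_le _ hdj)
    have := (show Commute d x from hdc).inv_right.mul_right e1
    rwa [inv_mul_cancel_left] at this

end NonComm

end Amalgam

end H77
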