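import Cfsg.Agent.H77.TinyPairs
import Cfsg.Agent.H1.Cores
import Mathlib.Data.Finset.Card
import Mathlib.Data.Fintype.Prod

/-!
A best offender permutes the four-group commutators of tiny elements of a normal 3-subgroup trivially.
-/

set_option autoImplicit false

namespace H77

variable {X V : Type*} [Group X] [CommGroup V] [MulDistribMulAction X V]

variable (hV : ∀ v : V, v * v = 1)
include hV

/-- An involution commuting with a tiny element fixes its commutator group. -/
theorem invol_fix_range [Finite V] {b x : X} (hb : b * b = 1) (hc : Commute b x) (hx : IsTiny V x) {v : V}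
    (hv : v ∈ (disp x : V →* V).range) : b • v = v := by
  set Y := (disp x : V →* V).range with hY
  set W0 := Y ⊓ (disp b : V →* V).ker with hW0
  have hinv : ∀ w ∈ W0, x • w ∈ W0 := fun w hw => Subgroup.mem_inf.2
    ⟨smul_disp_range_of_commute (Commute.refl x) (Subgroup.mem_inf.1 hw).1,
      mem_ker_disp.2 (by rw [smul_smul, hc.eq, ← smul_smul, mem_ker_disp.1 (Subgroup.mem_inf.1 hw).2])⟩
  obtain ⟨w, hw, hw1⟩ : ∃ w ∈ W0, w ≠ 1 := by
    obtain ⟨w, hw, hw1⟩ : ∃ w ∈ Y, w ≠ 1 := by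
      refine (Subgroup.bot_or_exists_ne_one Y).resolve_left fun h0 => ?_
      have h4 := hx.2
      rw [← hY, h0, Subgroup.card_bot] at h4
      omega
    by_cases hfix : b • w = w
    · exact ⟨w, Subgroup.mem_inf.2 ⟨hw, mem_ker_disp.2 hfix⟩, hw1⟩
    · exact ⟨disp b w, Subgroup.mem_inf.2 ⟨Y.mul_mem (smul_disp_range_of_commute hc hw) (Y.inv_mem hw),
        mem_ker_disp.2 (disp_disp_of_involution hV hb w)⟩, fun h => hfix (mem_ker_disp.1 h)⟩
  have h := range_irreducible hV hx.odd hx.2 inf_le_left hinv hw hw1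
  exact mem_ker_disp.1 (Subgroup.mem_inf.1 (h.ge hv : v ∈ W0)).2

/-- The commutator groups of independent tiny elements. -/
theorem blocks_card [Finite X] [Finite V] [FaithfulSMul X V] (P : Subgroup X) (hP : IsPGroup 3 ↥P) (I : Finset X)
    (hI : ∀ y ∈ I, IsTiny V y ∧ y ∈ P)
    (hne : ∀ y ∈ I, ∀ z ∈ I, Subgroup.zpowers y = Subgroup.zpowers z → y = z) :
    4 ^ I.card ≤ Nat.card ↥(⨆ y ∈ I, (disp y : V →* V).range : Subgroup V) ∧
      (⨆ y ∈ I, (disp y : V →* V).range : Subgroup V) ⊓ (⨅ y ∈ I, (disp y : V →* V).ker) = ⊥ := by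
  classical
  induction I using Finset.induction with
  | empty => simp [Subgroup.card_bot]
  | @insert y I hy ih =>
    obtain ⟨ih1, ih2⟩ := ih (fun z hz => hI z (Finset.mem_insert_of_mem hz))
      (fun z hz w hw => hne z (Finset.mem_insert_of_mem hz) w (Finset.mem_insert_of_mem hw))
    obtain ⟨hyt, hyP⟩ := hI y (Finset.mem_insert_self y I)
    have hker : (⨆ z ∈ I, (disp z : V →* V).range : Subgroup V) ≤ (disp y : V →* V).ker := by
      refine iSup₂_le fun z hz => fun v hv => mem_ker_disp.2 ?_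
      obtain ⟨hzt, hzP⟩ := hI z (Finset.mem_insert_of_mem hz)
      refine (tiny_disjoint hV hyt hzt (tiny_commute hV P hP y z hyP hzP hyt hzt) fun e => hy ?_).1 v hv
      exact (hne y (Finset.mem_insert_self y I) z (Finset.mem_insert_of_mem hz) e) ▸ hz
    have hsup : (⨆ z ∈ insert y I, (disp z : V →* V).range : Subgroup V) =
        (disp y : V →* V).range ⊔ ⨆ z ∈ I, (disp z : V →* V).range := Finset.iSup_insert _ _ _
    rw [hsup]
    refine ⟨?_, ?_⟩
    · have hdisj : (disp y : V →* V).range ⊓ (⨆ z ∈ I, (disp z : V →* V).range) = ⊥ :=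
        le_bot_iff.1 ((inf_le_inf_left _ hker).trans (range_inf_ker_eq_bot hV hyt.odd).le)
      refine le_trans ?_ (card_sup_of_disjoint hV hdisj)
      rw [Finset.card_insert_of_notMem hy, pow_succ, mul_comm, hyt.2]
      exact Nat.mul_le_mul_left 4 ih1
    · rw [eq_bot_iff]
      intro u hu
      obtain ⟨hu1, hu2⟩ := Subgroup.mem_inf.1 hu
      obtain ⟨r, hr, p, hp, rfl⟩ := Subgroup.mem_sup.1 hu1
      rw [Finset.iInf_insert, Subgroup.mem_inf] at hu2
      have hr1 : r = 1 := by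
        refine range_disp_fix_eq_one hV hyt.odd hr (mem_ker_disp.1 ?_)
        have := mul_mem hu2.1 (inv_mem (hker hp))
        rwa [mul_inv_cancel_right] at this
      subst hr1
      rw [one_mul] at hu2 ⊢
      exact ih2.le (Subgroup.mem_inf.2 ⟨hp, hu2.2⟩)

/-- A best offender fixes each block. -/
theorem offer_fix_block [Finite X] [Finite V] [FaithfulSMul X V] {A : Subgroup X} (hA2 : ∀ a ∈ A, a * a = 1)
    (hAc : ∀ a ∈ A, ∀ b ∈ A, a * b = b * a) (hoff : IsOffer V A) {x : X} (hx : IsTiny V x)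
    (hx3 : x ∈ Cfsg.pCore 3 X) {a : X} (ha : a ∈ A) : a * x * a⁻¹ ∈ Subgroup.zpowers x := by
  classical
  haveI : Fintype X := Fintype.ofFinite X
  set f : X → X := fun c => c * x * c⁻¹ with hf
  set O : Finset X := (Finset.univ.filter (· ∈ A)).image f with hO
  have hOmem : ∀ y ∈ O, ∃ c ∈ A, c * x * c⁻¹ = y := by
    intro y hy
    obtain ⟨c, hc, rfl⟩ := Finset.mem_image.1 hy
    exact ⟨c, (Finset.mem_filter.1 hc).2, rfl⟩
  have hOtiny : ∀ y ∈ O, IsTiny V y ∧ y ∈ Cfsg.pCore 3 X := by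
    intro y hy
    obtain ⟨c, -, rfl⟩ := hOmem y hy
    exact ⟨hx.conj c, (H1.pCore_normal' 3 X).conj_mem x hx3 c⟩
  have hfO : ∀ c ∈ A, c * x * c⁻¹ ∈ O := fun c hc =>
    Finset.mem_image.2 ⟨c, Finset.mem_filter.2 ⟨Finset.mem_univ c, hc⟩, rfl⟩
  set B := A ⊓ Subgroup.centralizer ({x} : Set X) with hB
  -- orbit and stabiliser
  have hAB : Nat.card ↥A ≤ O.card * Nat.card ↥B := by
    have hrep : ∀ y : ↥O, ∃ c, c ∈ A ∧ c * x * c⁻¹ = (y : X) := fun y => hOmem y y.2
    choose rep hrepA hrepx using hrep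
    let g : ↥A → ↥O × ↥B := fun c =>
      (⟨(c : X) * x * (c : X)⁻¹, hfO c c.2⟩,
        ⟨(rep ⟨(c : X) * x * (c : X)⁻¹, hfO c c.2⟩)⁻¹ * (c : X), Subgroup.mem_inf.2
          ⟨A.mul_mem (A.inv_mem (hrepA _)) c.2, Subgroup.mem_centralizer_singleton_iff.2 (by
            have h := hrepx ⟨(c : X) * x * (c : X)⁻¹, hfO c c.2⟩
            set d := rep ⟨(c : X) * x * (c : X)⁻¹, hfO c c.2⟩
            have h' : (d⁻¹ * (c : X)) * x * (d⁻¹ * (c : X))⁻¹ = x := by
              calc (d⁻¹ * (c : X)) * x * (d⁻¹ * (c : X))⁻¹ = d⁻¹ * ((c : X) * x * (c : X)⁻¹) * d := by group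
                _ = d⁻¹ * (d * x * d⁻¹) * d := by rw [h]
                _ = x := by group
            exact mul_inv_eq_iff_eq_mul.1 h')⟩⟩)
    have hg : Function.Injective g := by
      intro c c' he
      simp only [g, Prod.mk.injEq, Subtype.mk.injEq] at he
      obtain ⟨he1, he2⟩ := he
      have : rep ⟨(c : X) * x * (c : X)⁻¹, hfO c c.2⟩ = rep ⟨(c' : X) * x * (c' : X)⁻¹, hfO c' c'.2⟩ := by
        congr 1; exact Subtype.ext he1
      rw [this] at he2
      exact Subtype.ext (mul_left_cancel he2)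
    have := Nat.card_le_card_of_injective g hg
    rwa [Nat.card_prod, Nat.card_eq_fintype_card (α := ↥O), Fintype.card_coe] at this
  -- representatives of the blocks
  set Z : Finset (Subgroup X) := O.image Subgroup.zpowers with hZ
  have hZrep : ∀ z : ↥Z, ∃ y, y ∈ O ∧ Subgroup.zpowers y = (z : Subgroup X) := fun z => by
    obtain ⟨y, hy, he⟩ := Finset.mem_image.1 z.2
    exact ⟨y, hy, he⟩
  choose zr hzrO hzrz using hZrep
  set I : Finset X := (Finset.univ : Finset ↥Z).image zr with hI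
  have hzinj : Function.Injective zr := fun z w he =>
    Subtype.ext (by rw [← hzrz z, ← hzrz w, he])
  have hIcard : I.card = Z.card := by
    rw [hI, Finset.card_image_of_injective _ hzinj, Finset.card_univ, Fintype.card_coe]
  obtain ⟨hPcard, hPker⟩ := blocks_card hV (Cfsg.pCore 3 X) (H1.isPGroup_pCore 3 X) I
    (fun y hy => by obtain ⟨z, -, rfl⟩ := Finset.mem_image.1 hy; exact hOtiny _ (hzrO z))
    (fun y hy w hw he => by
      obtain ⟨z, -, rfl⟩ := Finset.mem_image.1 hy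
      obtain ⟨z', -, rfl⟩ := Finset.mem_image.1 hw
      rw [hzrz, hzrz] at he
      rw [Subtype.ext he])
  set P : Subgroup V := ⨆ y ∈ I, (disp y : V →* V).range with hPdef
  have hxyI : ∀ y ∈ O, ∃ w ∈ I, y ∈ Subgroup.zpowers w := by
    intro y hy
    let z : ↥Z := ⟨Subgroup.zpowers y, Finset.mem_image.2 ⟨y, hy, rfl⟩⟩
    exact ⟨zr z, Finset.mem_image.2 ⟨z, Finset.mem_univ z, rfl⟩, (hzrz z).symm ▸ Subgroup.mem_zpowers y⟩
  -- fixed points
  have hPfix : P ≤ fixBy B := by
    refine iSup₂_le fun y hy v hv b hb => ?_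
    obtain ⟨hbA, hbx⟩ := Subgroup.mem_inf.1 hb
    obtain ⟨z, -, rfl⟩ := Finset.mem_image.1 hy
    obtain ⟨c, hc, hce⟩ := hOmem _ (hzrO z)
    refine invol_fix_range hV (hA2 b hbA) ?_ (hOtiny _ (hzrO z)).1 hv
    rw [← hce]
    have h1 : Commute b c := hAc b hbA c hc
    have h2 : Commute b x := Subgroup.mem_centralizer_singleton_iff.1 hbx
    exact (h1.mul_right h2).mul_right h1.inv_right
  set F : Subgroup V := fixBy A ⊓ P with hF
  have hFinj : ∀ u ∈ F, disp x u = 1 → u = 1 := by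
    intro u hu h1
    obtain ⟨huA, huP⟩ := Subgroup.mem_inf.1 hu
    refine Subgroup.mem_bot.1 (hPker.le (Subgroup.mem_inf.2 ⟨huP, ?_⟩))
    simp only [Subgroup.mem_iInf]
    intro y hy
    obtain ⟨z, -, rfl⟩ := Finset.mem_image.1 hy
    obtain ⟨c, hc, hce⟩ := hOmem _ (hzrO z)
    rw [mem_ker_disp, ← hce, ← smul_smul, ← smul_smul,
      (inv_smul_eq_iff).2 (huA c hc).symm, mem_ker_disp.1 h1, huA c hc]
  have hFcard : Nat.card ↥F = Nat.card ↥(F.map (disp x : V →* V)) := by
    rw [card_eq_map_mul_inf F (disp x : V →* V),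
      show F ⊓ (disp x : V →* V).ker = ⊥ from eq_bot_iff.2 fun u hu =>
        Subgroup.mem_bot.2 (hFinj u (Subgroup.mem_inf.1 hu).1 (MonoidHom.mem_ker.1 (Subgroup.mem_inf.1 hu).2)),
      Subgroup.card_bot, mul_one]
  have hle : Nat.card ↥(fixBy A : Subgroup V) * Nat.card ↥P ≤ Nat.card ↥(fixBy B : Subgroup V) * Nat.card ↥F := by
    let m : ↥(fixBy A : Subgroup V) × ↥P →* V := (Subgroup.subtype _).coprod (Subgroup.subtype _)
    have h1 := Subgroup.index_mul_card m.ker
    rw [Subgroup.index_ker, Nat.card_prod] at h1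
    rw [← h1]
    refine Nat.mul_le_mul (Nat.le_of_dvd Nat.card_pos (Subgroup.card_dvd_of_le ?_)) ?_
    · rintro _ ⟨⟨u, w⟩, rfl⟩
      exact mul_mem (show (u : V) ∈ fixBy B from fun b hb => u.2 b (Subgroup.mem_inf.1 hb).1) (hPfix w.2)
    · have hmem : ∀ z : ↥m.ker, ((z : _).1.2 : V) ∈ F := by
        rintro ⟨⟨u, w⟩, hz⟩
        have hz' : (u : V) * (w : V) = 1 := hz
        refine Subgroup.mem_inf.2 ⟨?_, w.2⟩
        rw [eq_inv_of_mul_eq_one_right hz']
        exact inv_mem u.2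
      refine Nat.card_le_card_of_injective (fun z => (⟨_, hmem z⟩ : ↥F)) ?_
      rintro ⟨⟨u, w⟩, hz⟩ ⟨⟨u', w'⟩, hz'⟩ he
      have he' : (w : V) = (w' : V) := by simpa using he
      have e1 : (u : V) * (w : V) = 1 := hz
      have e2 : (u' : V) * (w' : V) = 1 := hz'
      rw [he', ← e2] at e1
      exact Subtype.ext (Prod.ext (Subtype.ext (mul_right_cancel e1)) (Subtype.ext he'))
  have hoffB := hoff B inf_le_left
  have hkey : Nat.card ↥P ≤ O.card * Nat.card ↥F := by
    have hp1 : 0 < Nat.card ↥(fixBy A : Subgroup V) := Nat.card_pos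
    have hp2 : 0 < Nat.card ↥B := Nat.card_pos
    have h1 : Nat.card ↥(fixBy A : Subgroup V) * Nat.card ↥P * Nat.card ↥B ≤
        O.card * Nat.card ↥F * Nat.card ↥(fixBy A : Subgroup V) * Nat.card ↥B := by
      calc Nat.card ↥(fixBy A : Subgroup V) * Nat.card ↥P * Nat.card ↥B
          ≤ Nat.card ↥(fixBy B : Subgroup V) * Nat.card ↥F * Nat.card ↥B := Nat.mul_le_mul_right _ hle
        _ = Nat.card ↥B * Nat.card ↥(fixBy B : Subgroup V) * Nat.card ↥F := by ring
        _ ≤ Nat.card ↥A * Nat.card ↥(fixBy A : Subgroup V) * Nat.card ↥F := Nat.mul_le_mul_right _ hoffB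
        _ ≤ O.card * Nat.card ↥B * Nat.card ↥(fixBy A : Subgroup V) * Nat.card ↥F :=
            Nat.mul_le_mul_right _ (Nat.mul_le_mul_right _ hAB)
        _ = _ := by ring
    have h2 := Nat.le_of_mul_le_mul_right h1 hp2
    rw [mul_comm] at h2
    exact Nat.le_of_mul_le_mul_right h2 hp1
  -- the numerical contradiction
  suffices hZ1 : Z.card ≤ 1 by
    have h1 : Subgroup.zpowers x ∈ Z := Finset.mem_image.2 ⟨x, by simpa using hfO 1 A.one_mem, rfl⟩
    have h2 : Subgroup.zpowers (a * x * a⁻¹) ∈ Z := Finset.mem_image.2 ⟨_, hfO a ha, rfl⟩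
    rw [Finset.card_le_one.1 hZ1 _ h1 _ h2]
    exact Subgroup.mem_zpowers _
  have hP4 : 4 ^ Z.card ≤ Nat.card ↥P := hIcard ▸ hPcard
  have hnum : ∀ n : ℕ, 4 ^ n ≤ 4 * n → n ≤ 1 := by
    intro n hn
    by_contra h2
    push Not at h2
    have h3 : ∀ k : ℕ, 4 * (k + 2) < 4 ^ (k + 2) := by
      intro k
      induction k with
      | zero => norm_num
      | succ k ih => rw [show k + 1 + 2 = k + 2 + 1 from rfl, pow_succ]; omega
    have := h3 (n - 2)
    rw [Nat.sub_add_cancel h2] at this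
    omega
  refine hnum _ ?_
  by_cases hinv : ∃ b ∈ A, b * x * b⁻¹ = x⁻¹
  · obtain ⟨b, hb, hbx⟩ := hinv
    have hO2 : O.card ≤ 2 * Z.card := by
      rw [hZ]
      refine Finset.card_le_mul_card_image _ 2 fun z _ => ?_
      rcases (O.filter fun y => Subgroup.zpowers y = z).eq_empty_or_nonempty with h0 | ⟨y0, hy0⟩
      · rw [h0]; simp
      obtain ⟨hy0O, hy0z⟩ := Finset.mem_filter.1 hy0
      refine le_trans (Finset.card_le_card (t := {y0, y0⁻¹}) fun y hy => ?_) Finset.card_le_two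
      obtain ⟨hyO, hyz⟩ := Finset.mem_filter.1 hy
      have hy1 : y ≠ 1 := fun e => by have := (hOtiny y hyO).1.1; rw [e, orderOf_one] at this; omega
      rcases eq_or_eq_inv_of_mem_zpowers (hOtiny y0 hy0O).1.1 (hy0z ▸ hyz ▸ Subgroup.mem_zpowers y) hy1 with e | e
      · exact Finset.mem_insert.2 (Or.inl e)
      · exact Finset.mem_insert.2 (Or.inr (Finset.mem_singleton.2 e))
    set Y := (disp x : V →* V).range with hY
    have hsq := card_eq_sq hV hx.odd (hA2 b hb) hbx (le_refl Y)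
      (fun w hw => smul_disp_range_of_commute (Commute.refl x) hw) (fun w hw => smul_disp_range_of_inv hbx hw)
    set k := Nat.card ↥(Y ⊓ (disp b : V →* V).ker : Subgroup V)
    have hk : k ≤ 2 := by
      have h4 : k * k = 4 := by rw [← hsq.2]; exact hx.2
      by_contra h5
      push Not at h5
      have : 9 ≤ k * k := Nat.mul_le_mul h5 h5
      omega
    -- images of fixed points are determined by `x⁻¹`-twisted fixed points
    have hF2 : Nat.card ↥(F.map (disp x : V →* V)) ≤ 2 := by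
      have hF' : Nat.card ↥(F.map (disp x : V →* V)) ≤ Nat.card ↥(Y ⊓ (disp (x * b) : V →* V).ker : Subgroup V) := by
        refine Nat.le_of_dvd Nat.card_pos (Subgroup.card_dvd_of_le ?_)
        rintro _ ⟨u, hu, rfl⟩
        refine Subgroup.mem_inf.2 ⟨⟨u, rfl⟩, mem_ker_disp.2 ?_⟩
        have hbu : b • u = u := (Subgroup.mem_inf.1 hu).1 b hb
        rw [← smul_smul, smul_disp, hbx, hbu, disp_apply, disp_apply, smul_mul', smul_inv', smul_smul,
          mul_inv_cancel, one_smul, inv_eq hV, inv_eq hV, mul_comm]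
      refine hF'.trans ?_
      have hxb2 : x * b * (x * b) = 1 := by
        calc x * b * (x * b) = x * (b * x * b⁻¹) * (b * b) := by group
          _ = 1 := by rw [hbx, hA2 b hb]; group
      have hxbx : x * b * x * (x * b)⁻¹ = x⁻¹ := by
        calc x * b * x * (x * b)⁻¹ = x * (b * x * b⁻¹) * x⁻¹ := by group
          _ = x⁻¹ := by rw [hbx]; group
      have hsq' := card_eq_sq hV hx.odd hxb2 hxbx (le_refl Y)
        (fun w hw => smul_disp_range_of_commute (Commute.refl x) hw) (fun w hw => smul_disp_range_of_inv hxbx hw)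
      have h4 : Nat.card ↥(Y ⊓ (disp (x * b) : V →* V).ker : Subgroup V) *
          Nat.card ↥(Y ⊓ (disp (x * b) : V →* V).ker : Subgroup V) = 4 := by rw [← hsq'.2]; exact hx.2
      by_contra h5
      push Not at h5
      have h6 := Nat.mul_le_mul h5 h5
      omega
    calc 4 ^ Z.card ≤ Nat.card ↥P := hP4
      _ ≤ O.card * Nat.card ↥F := hkey
      _ ≤ 2 * Z.card * 2 := Nat.mul_le_mul hO2 (hFcard ▸ hF2)
      _ = 4 * Z.card := by ring
  · have hO1 : O.card ≤ Z.card := by
      refine (Finset.card_image_of_injOn ?_).ge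
      intro y hy w hw he
      obtain ⟨c, hc, rfl⟩ := hOmem y hy
      obtain ⟨d, hd, rfl⟩ := hOmem w hw
      have he' : c * x * c⁻¹ ∈ Subgroup.zpowers (d * x * d⁻¹) := he ▸ Subgroup.mem_zpowers _
      have hne1 : c * x * c⁻¹ ≠ 1 := fun e => by
        have := (hOtiny _ hy).1.1
        rw [e, orderOf_one] at this
        omega
      rcases eq_or_eq_inv_of_mem_zpowers (hOtiny _ hw).1.1 he' hne1 with e | e
      · exact e
      · exfalso
        refine hinv ⟨d⁻¹ * c, A.mul_mem (A.inv_mem hd) hc, ?_⟩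
        calc d⁻¹ * c * x * (d⁻¹ * c)⁻¹ = d⁻¹ * (c * x * c⁻¹) * d := by group
          _ = d⁻¹ * (d * x * d⁻¹)⁻¹ * d := by rw [e]
          _ = x⁻¹ := by group
    have hF4 : Nat.card ↥(F.map (disp x : V →* V)) ≤ 4 := by
      rw [← hx.2]
      exact Nat.le_of_dvd Nat.card_pos (Subgroup.card_dvd_of_le (by rintro _ ⟨u, -, rfl⟩; exact ⟨u, rfl⟩))
    calc 4 ^ Z.card ≤ Nat.card ↥P := hP4
      _ ≤ O.card * Nat.card ↥F := hkey
      _ ≤ Z.card * 4 := Nat.mul_le_mul hO1 (hFcard ▸ hF4)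
      _ = 4 * Z.card := by ring

end H77
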