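import Cfsg.Agent.H77.CharP
import Cfsg.Agent.H1.CoprimeAction
import Cfsg.Agent.H79.CoprimeGen

/-! A noncyclic elementary abelian group all of whose elements have the same fixed points (or commutators) on a normal `p`-subgroup. -/

set_option autoImplicit false

namespace H77

open scoped commutatorElement

variable {G : Type*} [Group G] [Finite G] {p : ℕ} [Fact p.Prime]

omit [Fact p.Prime] in
theorem not_dvd_orderOf {R : Subgroup G} (hR : ¬ p ∣ Nat.card ↥R) {k : G} (hk : k ∈ R) :
    ¬ p ∣ orderOf k := fun h => hR (h.trans (Subgroup.orderOf_dvd_natCard R hk))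

theorem commutator_centralizes_of_same (E : Subgroup G) [E.Normal] (hE : IsPGroup p ↥E) (U R : Subgroup G)
    [IsMulCommutative ↥U] (hexp : ∀ u ∈ U, u ^ p = 1) (hnc : ¬ IsCyclic ↥U) (hR : ¬ p ∣ Nat.card ↥R)
    (hRU : U ≤ Subgroup.normalizer (R : Set G))
    (hcond : (∀ u ∈ U, u ≠ 1 → E ⊓ Subgroup.centralizer (U : Set G) = E ⊓ Subgroup.centralizer ({u} : Set G)) ∨
      (∀ u ∈ U, u ≠ 1 → ⁅E, U⁆ = ⁅E, Subgroup.zpowers u⁆)) :
    ⁅R, U⁆ ≤ Subgroup.centralizer (E : Set G) := by
  have hp : p.Prime := Fact.out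
  have hUp : IsPGroup p ↥U := fun a => ⟨1, Subtype.ext (by simpa using hexp a a.2)⟩
  set K := ⁅R, U⁆ with hK
  have hKR : K ≤ R := H1.commutator_le_left_of_le_normalizer hRU
  have hUK : U ≤ Subgroup.normalizer (K : Set G) := H1.right_le_normalizer_commutator
  have hcopR : (Nat.card ↥R).Coprime p := (hp.coprime_iff_not_dvd.2 hR).symm
  have hcopK : (Nat.card ↥K).Coprime p := hcopR.coprime_dvd_left (Subgroup.card_dvd_of_le hKR)
  have conjE : ∀ g : G, ∀ e ∈ E, g * e * g⁻¹ ∈ E := fun g e he => (inferInstance : E.Normal).conj_mem e he g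
  rcases hcond with hc | hc
  · set C := E ⊓ Subgroup.centralizer (U : Set G) with hC
    have hRC : R ≤ Subgroup.normalizer (C : Set G) := by
      refine H79.le_of_centralizers_le hexp hnc hRU hcopR fun u hu hu1 r hr => ?_
      obtain ⟨hrR, hru⟩ := Subgroup.mem_inf.1 hr
      rw [Subgroup.mem_centralizer_singleton_iff] at hru
      refine mem_normalizer_of_forall fun c hc' => ?_
      rw [hc u hu hu1] at hc' ⊢
      obtain ⟨hcE, hcu⟩ := Subgroup.mem_inf.1 hc'
      rw [Subgroup.mem_centralizer_singleton_iff] at hcu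
      refine Subgroup.mem_inf.2 ⟨conjE r c hcE, Subgroup.mem_centralizer_singleton_iff.2 ?_⟩
      exact (((show Commute r u from hru).mul_left hcu).mul_left (show Commute r u from hru).inv_left).eq
    have hKC : K ≤ Subgroup.centralizer (C : Set G) := by
      rw [hK, Subgroup.commutator_le]
      intro r hr v hv
      refine mem_cent.2 fun c hc' => ?_
      have h1 : r⁻¹ * c * r ∈ C := by
        have := (Subgroup.mem_normalizer_iff.1 (hRC (R.inv_mem hr)) c).1 hc'
        rwa [inv_inv] at this
      have h2 : Commute v⁻¹ c := ((show Commute c v from mem_cent.1 (Subgroup.mem_inf.1 hc').2 v hv |>.symm |>.symm).symm).inv_left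
      have h3 : Commute v (r⁻¹ * c * r) :=
        (show Commute (r⁻¹ * c * r) v from mem_cent.1 (Subgroup.mem_inf.1 h1).2 v hv).symm
      rw [commutatorElement_def]
      calc r * v * r⁻¹ * v⁻¹ * c = r * v * r⁻¹ * (v⁻¹ * c) := by group
        _ = r * v * r⁻¹ * (c * v⁻¹) := by rw [h2.eq]
        _ = r * (v * (r⁻¹ * c * r)) * r⁻¹ * v⁻¹ := by group
        _ = r * ((r⁻¹ * c * r) * v) * r⁻¹ * v⁻¹ := by rw [h3.eq]
        _ = c * (r * v * r⁻¹ * v⁻¹) := by group
    refine H79.le_of_centralizers_le hexp hnc hUK hcopK fun u hu hu1 k hk => ?_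
    obtain ⟨hkK, hku⟩ := Subgroup.mem_inf.1 hk
    rw [Subgroup.mem_centralizer_singleton_iff] at hku
    refine mem_cent.2 (thompson_AxB hE (hUp.to_le (Subgroup.zpowers_le.2 hu)) ?_
      (not_dvd_orderOf hR (hKR hkK)) (conjE k) ?_ ?_)
    · exact fun g _ => mem_normalizer_of_forall (conjE g)
    · intro a ha
      obtain ⟨i, rfl⟩ := Subgroup.mem_zpowers_iff.1 ha
      exact ((show Commute k u from hku).zpow_right i).eq
    · intro x hx hxu
      refine mem_cent.1 (hKC hkK) x ?_
      rw [hc u hu hu1]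
      exact Subgroup.mem_inf.2 ⟨hx, Subgroup.mem_centralizer_singleton_iff.2
        (hxu u (Subgroup.mem_zpowers u)).symm⟩
  · set D := ⁅E, U⁆ with hD
    have hDE : D ≤ E := Subgroup.commutator_le_left E U
    have hED : E ≤ Subgroup.normalizer (D : Set G) := H1.left_le_normalizer_commutator
    have hUD : U ≤ Subgroup.normalizer (D : Set G) := H1.right_le_normalizer_commutator
    have hRD : R ≤ Subgroup.normalizer (D : Set G) := by
      refine H79.le_of_centralizers_le hexp hnc hRU hcopR fun u hu hu1 r hr => ?_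
      obtain ⟨hrR, hru⟩ := Subgroup.mem_inf.1 hr
      rw [Subgroup.mem_centralizer_singleton_iff] at hru
      refine mem_normalizer_of_forall fun d hd => ?_
      rw [hc u hu hu1] at hd ⊢
      have : D.map (MulAut.conj r).toMonoidHom ≤ D := by
        rw [hc u hu hu1, Subgroup.map_le_iff_le_comap, Subgroup.commutator_le]
        intro e he w hw
        rw [Subgroup.mem_comap, map_commutatorElement]
        refine Subgroup.commutator_mem_commutator (conjE r e he) ?_
        obtain ⟨i, rfl⟩ := Subgroup.mem_zpowers_iff.1 hw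
        have : r * u ^ i * r⁻¹ = u ^ i := conj_eq_self_iff.2 ((show Commute r u from hru).zpow_right i).eq
        simpa [this] using hw
      rw [hc u hu hu1] at this
      exact this ⟨d, hd, rfl⟩
    let S : Subgroup G :=
      { carrier := {g | g ∈ Subgroup.normalizer (D : Set G) ∧ ∀ e ∈ E, g * e * g⁻¹ * e⁻¹ ∈ D}
        one_mem' := ⟨one_mem _, fun e _ => by simp⟩
        mul_mem' := by
          rintro a b ⟨ha1, ha2⟩ ⟨hb1, hb2⟩
          refine ⟨mul_mem ha1 hb1, fun e he => ?_⟩
          have := mul_mem ((Subgroup.mem_normalizer_iff.1 ha1 _).1 (hb2 e he)) (ha2 e he)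
          simpa [mul_assoc] using this
        inv_mem' := by
          rintro a ⟨ha1, ha2⟩
          refine ⟨inv_mem ha1, fun e he => ?_⟩
          have hm := ha2 _ (conjE a⁻¹ e he)
          have := inv_mem hm
          simpa [mul_assoc] using this }
    have hUS : U ≤ S := by
      intro v hv
      refine ⟨hUD hv, fun e he => ?_⟩
      have := inv_mem (Subgroup.commutator_mem_commutator he hv)
      simpa [commutatorElement_def, mul_assoc] using this
    have hKS : K ≤ S := by
      rw [hK, Subgroup.commutator_le]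
      intro r hr v hv
      obtain ⟨hv1, hv2⟩ : v ∈ Subgroup.normalizer (D : Set G) ∧ ∀ e ∈ E, v * e * v⁻¹ * e⁻¹ ∈ D := hUS hv
      have h1 : r * v * r⁻¹ ∈ S := by
        refine ⟨mul_mem (mul_mem (hRD hr) hv1) (inv_mem (hRD hr)), fun e he => ?_⟩
        have := (Subgroup.mem_normalizer_iff.1 (hRD hr) _).1 (hv2 _ (conjE r⁻¹ e he))
        simpa [mul_assoc] using this
      rw [commutatorElement_def]
      exact mul_mem h1 (inv_mem (hUS hv))
    refine H79.le_of_centralizers_le hexp hnc hUK hcopK fun u hu hu1 k hk => ?_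
    obtain ⟨hkK, hku⟩ := Subgroup.mem_inf.1 hk
    rw [Subgroup.mem_centralizer_singleton_iff] at hku
    set C := E ⊓ Subgroup.centralizer ({k} : Set G) with hC
    suffices hEC : E ≤ C from mem_cent.2 fun e he =>
      (Subgroup.mem_centralizer_singleton_iff.1 (Subgroup.mem_inf.1 (hEC he)).2).symm
    -- `E = D C`
    have hEDC : E ≤ D ⊔ C := by
      intro e he
      obtain ⟨hk1, hk2⟩ : k ∈ Subgroup.normalizer (D : Set G) ∧ ∀ e ∈ E, k * e * k⁻¹ * e⁻¹ ∈ D := hKS hkK
      have hcop : (Nat.card ↥D).Coprime (Nat.card ↥(Subgroup.zpowers k)) := by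
        obtain ⟨n, hn⟩ := IsPGroup.iff_card.1 (hE.to_le hDE)
        rw [hn, Nat.card_zpowers]
        exact (hp.coprime_iff_not_dvd.2 (not_dvd_orderOf hR (hKR hkK))).pow_left n
      have hfix : ∀ a ∈ Subgroup.zpowers k, e⁻¹ * (a * e * a⁻¹) ∈ D := by
        intro a ha
        obtain ⟨-, ha2⟩ : a ∈ Subgroup.normalizer (D : Set G) ∧ ∀ e ∈ E, a * e * a⁻¹ * e⁻¹ ∈ D :=
          (Subgroup.zpowers_le.2 (hKS hkK)) ha
        have := (Subgroup.mem_normalizer_iff.1 (hED (inv_mem he)) _).1 (ha2 e he)
        simpa [mul_assoc] using this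
      obtain ⟨c, hc1, hc2⟩ := H1.exists_fixed_mem_coset (Subgroup.zpowers_le.2 hk1) hcop
        (Or.inl (by haveI := (hE.to_le hDE).isNilpotent; infer_instance)) (k := e) hfix
      have hcE : c ∈ E := by
          have := mul_mem he (hDE hc2)
          simpa using this
      have hcC : c ∈ C := Subgroup.mem_inf.2 ⟨hcE, Subgroup.mem_centralizer_singleton_iff.2
          (mem_cent.1 hc1 k (Subgroup.mem_zpowers k))⟩
      have := mul_mem (Subgroup.mem_sup_right (S := D) hcC) (inv_mem (Subgroup.mem_sup_left (T := C) hc2))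
      simpa using this
    set Z := Subgroup.zpowers u with hZ
    have huC : Z ≤ Subgroup.normalizer (C : Set G) := by
      refine Subgroup.zpowers_le.2 (mem_normalizer_of_forall fun x hx => ?_)
      obtain ⟨hxE, hxk⟩ := Subgroup.mem_inf.1 hx
      rw [Subgroup.mem_centralizer_singleton_iff] at hxk
      refine Subgroup.mem_inf.2 ⟨conjE u x hxE, Subgroup.mem_centralizer_singleton_iff.2 ?_⟩
      have h1 : Commute u k := (show Commute k u from hku).symm
      exact ((h1.mul_left hxk).mul_left h1.inv_left).eq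
    set H := Z ⊔ E with hH
    have hHp : IsPGroup p ↥H :=
      (hUp.to_le (Subgroup.zpowers_le.2 hu)).to_sup_of_normal_right' hE fun g _ => mem_normalizer_of_forall (conjE g)
    by_cases htop : Z ⊔ C = H
    · intro e he
      obtain ⟨a, ha, c, hc', hac⟩ := exists_mul_of_mem_sup huC (x := e)
        (by rw [htop, hH]; exact Subgroup.mem_sup_right he)
      rw [← hac]
      refine mul_mem (Subgroup.mem_inf.2 ⟨?_, Subgroup.mem_centralizer_singleton_iff.2 ?_⟩) hc'
      · have := mul_mem he (inv_mem (Subgroup.mem_inf.1 hc').1)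
        rw [← hac] at this
        simpa using this
      · obtain ⟨i, rfl⟩ := Subgroup.mem_zpowers_iff.1 ha
        exact ((show Commute k u from hku).zpow_right i).eq.symm
    · exfalso
      have hle : Z ⊔ C ≤ H := sup_le_sup_left inf_le_left Z
      obtain ⟨M, hM, hCM⟩ := (IsCoatomic.eq_top_or_exists_le_coatom ((Z ⊔ C).subgroupOf H)).resolve_left
        (fun h => htop (le_antisymm hle (Subgroup.subgroupOf_eq_top.1 h)))
      haveI := hHp.isNilpotent
      haveI : M.Normal := Subgroup.NormalizerCondition.normal_of_coatom M Group.normalizerCondition_of_isNilpotent hM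
      have hM' : Z ⊔ C ≤ M.map H.subtype := fun z hz =>
        ⟨⟨z, hle hz⟩, hCM (Subgroup.mem_subgroupOf.2 hz), rfl⟩
      have hDM : D ≤ M.map H.subtype := by
        rw [hc u hu hu1, Subgroup.commutator_le]
        intro e he w hw
        obtain ⟨⟨w', hwH⟩, hw', hwe⟩ := hM' (Subgroup.mem_sup_left hw)
        have hwe' : w' = w := hwe
        subst hwe'
        have he' : e ∈ H := Subgroup.mem_sup_right he
        exact ⟨(⟨e, he'⟩ : ↥H) * ⟨w', hwH⟩ * (⟨e, he'⟩ : ↥H)⁻¹ * (⟨w', hwH⟩ : ↥H)⁻¹,
          M.mul_mem ((inferInstance : M.Normal).conj_mem _ hw' _) (M.inv_mem hw'), rfl⟩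
      have hHM : H ≤ M.map H.subtype :=
        sup_le (le_sup_left.trans hM') (hEDC.trans (sup_le hDM (le_sup_right.trans hM')))
      apply hM.1
      rw [eq_top_iff]
      intro z _
      obtain ⟨y, hy, hyz⟩ := hHM z.2
      rwa [← H.subtype_injective hyz]

end H77
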