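import Cfsg.Agent.H69.FpfSixtyFour
import Cfsg.Agent.H29.ThreeInvolutions
import Cfsg.Agent.H31.FpfThree
import Mathlib

/-!
2-groups with an involutory automorphism whose fixed points form a central four-group and a
commuting fixed-point-free automorphism of order three.
-/

set_option autoImplicit false

namespace H77.FourCent

open Subgroup
open scoped commutatorElement

/-- In a set of four elements containing `1` and invariant under a fixed-point-free automorphism of
order three the latter is transitive on the rest. -/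
theorem fpf_trans {T : Type*} [Group T] [Finite T] {ρ : MulAut T} (h : H69.Fpf.IsFpf ρ)
    {P : T → Prop} (h1 : P 1) (hmap : ∀ x, P x → P (ρ x)) (hcard : Nat.card {x : T // P x} = 4)
    {x y : T} (hx1 : x ≠ 1) (hx : P x) (hy1 : y ≠ 1) (hy : P y) :
    ∃ j : ℕ, (ρ ^ j) x = y := by
  classical
  letI := Fintype.ofFinite T
  have h4 : (Finset.univ.filter P).card = 4 := by
    rw [← hcard, Nat.card_eq_fintype_card, Fintype.card_subtype]
  have a1 : ρ x ≠ x := fun e => hx1 (h.2 x e)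
  have a2 : ρ (ρ x) ≠ x := fun e => a1 (by
    have := congrArg ρ e; rw [h.1] at this; exact this.symm)
  have a3 : ρ (ρ x) ≠ ρ x := fun e => a1 (ρ.injective e)
  have b1 : ρ x ≠ 1 := fun e => hx1 (ρ.injective (e.trans (map_one ρ).symm))
  have b2 : ρ (ρ x) ≠ 1 := fun e => b1 (ρ.injective (e.trans (map_one ρ).symm))
  have hset : ({1, x, ρ x, ρ (ρ x)} : Finset T) = Finset.univ.filter P := by
    refine Finset.eq_of_subset_of_card_le ?_ ?_
    · simp [Finset.insert_subset_iff, h1, hx, hmap x hx, hmap _ (hmap x hx)]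
    · rw [h4]
      simp [Ne.symm hx1, Ne.symm b1, Ne.symm b2, Ne.symm a1, Ne.symm a2, Ne.symm a3]
  have hyS : y ∈ ({1, x, ρ x, ρ (ρ x)} : Finset T) := by rw [hset]; simp [hy]
  simp only [Finset.mem_insert, Finset.mem_singleton] at hyS
  rcases hyS with e | e | e | e
  · exact absurd e hy1
  · exact ⟨0, by simp [e]⟩
  · exact ⟨1, by simp [e]⟩
  · exact ⟨2, by simp [e, pow_two]⟩

/-- The hypotheses. -/
structure Data {T : Type*} [Group T] (τ ρ : MulAut T) (V : Subgroup T) : Prop where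
  /-- a 2-group -/
  two : IsPGroup 2 T
  /-- central -/
  cen : V ≤ center T
  /-- four elements -/
  card : Nat.card V = 4
  /-- exponent two -/
  sq : ∀ v ∈ V, v * v = 1
  /-- involution -/
  inv : ∀ g, τ (τ g) = g
  /-- commuting -/
  comm : ∀ g, τ (ρ g) = ρ (τ g)
  /-- fixed points -/
  fix : ∀ g, τ g = g ↔ g ∈ V
  /-- order three, fixed-point-free -/
  fpf : H69.Fpf.IsFpf ρ

variable {T : Type*} [Group T] [Finite T] {τ ρ : MulAut T} {V : Subgroup T}

/-- `card K = card ker * card range`. -/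
theorem card_ker_range {K A : Type*} [Group K] [Group A] (f : K →* A) :
    Nat.card K = Nat.card f.ker * Nat.card f.range := by
  rw [← Subgroup.index_ker, Subgroup.card_mul_index]

omit [Finite T] in
theorem mapV (h : Data τ ρ V) {v : T} (hv : v ∈ V) : ρ v ∈ V := by
  rw [← h.fix, h.comm, (h.fix v).2 hv]

omit [Finite T] in
theorem conjV (h : Data τ ρ V) {v : T} (hv : v ∈ V) (g : T) : g * v = v * g :=
  mem_center_iff.1 (h.cen hv) g

theorem transV (h : Data τ ρ V) {x y : T} (hx1 : x ≠ 1) (hx : x ∈ V) (hy1 : y ≠ 1) (hy : y ∈ V) :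
    ∃ j : ℕ, (ρ ^ j) x = y :=
  fpf_trans h.fpf (P := fun g => g ∈ V) V.one_mem (fun _ hg => mapV h hg) h.card hx1 hx hy1 hy

theorem le_of_mem (h : Data τ ρ V) {M : Subgroup T} (hM : ∀ g ∈ M, ρ g ∈ M) {v : T} (hv : v ∈ V)
    (hv1 : v ≠ 1) (hvM : v ∈ M) : V ≤ M := by
  intro y hy
  by_cases hy1 : y = 1
  · rw [hy1]; exact M.one_mem
  obtain ⟨j, rfl⟩ := transV h hv1 hv hy1 hy
  clear hy hy1
  induction j with
  | zero => simpa using hvM
  | succ j ih => rw [pow_succ', MulAut.mul_apply]; exact hM _ ih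

theorem exists_card_eq (h : Data τ ρ V) (K : Subgroup T) : ∃ k, Nat.card K = 2 ^ k := by
  haveI : Fact (Nat.Prime 2) := ⟨Nat.prime_two⟩
  exact IsPGroup.iff_card.1 (h.two.to_subgroup K)

/-- A fixed coset outside a smaller invariant subgroup. -/
theorem exists_fixed_mod (h : Data τ ρ V) {K N : Subgroup T} (hNK : N ≤ K) (hne : N ≠ K)
    (hN : ∀ g ∈ N, τ g ∈ N) (hK : ∀ g ∈ K, τ g ∈ K) :
    ∃ x ∈ K, x ∉ N ∧ x⁻¹ * τ x ∈ N := by
  classical
  haveI : Fact (Nat.Prime 2) := ⟨Nat.prime_two⟩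
  letI := Fintype.ofFinite (K ⧸ N.subgroupOf K)
  let f : K ⧸ N.subgroupOf K → K ⧸ N.subgroupOf K :=
    Quotient.map' (fun k => ⟨τ k, hK _ k.2⟩) fun a b hab => by
      rw [QuotientGroup.leftRel_apply, mem_subgroupOf] at hab ⊢
      have := hN _ hab
      simp only [Subgroup.coe_mul, InvMemClass.coe_inv, map_mul, map_inv] at this ⊢
      exact this
  have hf : ∀ k : K, f (QuotientGroup.mk k) = QuotientGroup.mk ⟨τ k, hK _ k.2⟩ := fun k => rfl
  have hinv : Function.Involutive f := fun q => by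
    obtain ⟨k, rfl⟩ := QuotientGroup.mk_surjective q
    rw [hf, hf]
    exact congrArg QuotientGroup.mk (Subtype.ext (h.inv k))
  have hdvd : 2 ∣ Fintype.card (K ⧸ N.subgroupOf K) := by
    rw [← Nat.card_eq_fintype_card, ← Subgroup.index_eq_card]
    obtain ⟨a, ha⟩ := exists_card_eq h K
    obtain ⟨i, -, hi⟩ := (Nat.dvd_prime_pow Nat.prime_two).1
      (ha ▸ (N.subgroupOf K).index_dvd_card)
    rw [hi]
    refine dvd_pow_self 2 fun hi0 => hne ?_
    rw [hi0, pow_zero, Subgroup.index_eq_one, subgroupOf_eq_top] at hi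
    exact le_antisymm hNK hi
  have h0 : f (QuotientGroup.mk 1) = QuotientGroup.mk 1 := by
    rw [hf]; exact congrArg QuotientGroup.mk (Subtype.ext (map_one τ))
  obtain ⟨b, hb, hb1⟩ := Equiv.Perm.exists_fixed_point_of_prime' (n := 1) hdvd
    (σ := Function.Involutive.toPerm f hinv) (a := QuotientGroup.mk 1)
    (Equiv.ext fun q => by simp [pow_two, hinv q]) h0
  obtain ⟨k, rfl⟩ := QuotientGroup.mk_surjective b
  refine ⟨k, k.2, fun hkN => hb1 ?_, ?_⟩
  · rw [QuotientGroup.eq, mem_subgroupOf]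
    simpa using N.inv_mem hkN
  · have e : (QuotientGroup.mk k : K ⧸ N.subgroupOf K) = QuotientGroup.mk ⟨τ k, hK _ k.2⟩ :=
      (hb.symm.trans (hf k))
    rw [QuotientGroup.eq, mem_subgroupOf] at e
    simpa using e

/-- An invariant subgroup of index at most four over an invariant one is spanned by one orbit. -/
theorem gen_pair (h : Data τ ρ V) {K N : Subgroup T} (hN : ∀ g ∈ N, ρ g ∈ N)
    (hK : ∀ g ∈ K, ρ g ∈ K) (hNK : N ≤ K) (hcard : Nat.card K ≤ 4 * Nat.card N) {x : T}
    (hxK : x ∈ K) (hxN : x ∉ N) : K = N ⊔ zpowers x ⊔ zpowers (ρ x) := by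
  set J := N ⊔ zpowers x ⊔ zpowers (ρ x) with hJ
  have hxJ : x ∈ J := mem_sup_left (mem_sup_right (mem_zpowers x))
  have hrJ : ρ x ∈ J := mem_sup_right (mem_zpowers _)
  have hJK : J ≤ K := sup_le (sup_le hNK (zpowers_le.2 hxK)) (zpowers_le.2 (hK x hxK))
  have hJinv : ∀ g ∈ J, ρ g ∈ J := by
    have : J ≤ J.comap ρ.toMonoidHom := by
      refine sup_le (sup_le (fun g hg => mem_sup_left (mem_sup_left (hN g hg)))
        (zpowers_le.2 hrJ)) (zpowers_le.2 ?_)
      show ρ (ρ x) ∈ J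
      rw [H69.Fpf.rho_sq h.fpf]
      exact inv_mem (mul_mem hxJ hrJ)
    exact fun g hg => this hg
  have hNJ : N ≤ J := le_sup_left.trans le_sup_left
  obtain ⟨a, ha⟩ := exists_card_eq h N
  obtain ⟨b, hb⟩ := exists_card_eq h J
  have hlt : Nat.card N < Nat.card J := by
    refine lt_of_le_of_ne (Nat.le_of_dvd Nat.card_pos (card_dvd_of_le hNJ)) fun e => hxN ?_
    rw [eq_of_le_of_card_ge hNJ e.ge]
    exact hxJ
  have m1 := H69.Fpf.restrict h.fpf hN
  have m2 := H69.Fpf.restrict h.fpf hJinv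
  rw [ha] at hlt m1
  rw [hb] at hlt m2
  have hab : a < b := (Nat.pow_lt_pow_iff_right (by norm_num)).1 hlt
  have hab2 : a + 2 ≤ b := by
    by_contra hc
    have hb' : b = a + 1 := by omega
    rw [hb', pow_succ, Nat.mul_mod, m1] at m2
    omega
  refine (eq_of_le_of_card_ge hJK ?_).symm
  rw [hb]
  refine hcard.trans ?_
  rw [ha, show 4 * 2 ^ a = 2 ^ (a + 2) by rw [pow_add]; ring]
  exact Nat.pow_le_pow_right (by norm_num) hab2

theorem comm_pair (h : Data τ ρ V) {K N : Subgroup T} (hN : ∀ g ∈ N, ρ g ∈ N)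
    (hK : ∀ g ∈ K, ρ g ∈ K) (hNK : N ≤ K) (hcard : Nat.card K ≤ 4 * Nat.card N)
    (hNc : N ≤ center T) {x : T} (hxK : x ∈ K) (hxN : x ∉ N) :
    ∀ a ∈ K, ∀ b ∈ K, a * b = b * a := by
  have hK' := gen_pair h hN hK hNK hcard hxK hxN
  have hle : K ≤ centralizer ({x, ρ x} : Set T) := by
    rw [hK']
    refine sup_le (sup_le (hNc.trans (center_le_centralizer _)) (zpowers_le.2 ?_)) (zpowers_le.2 ?_)
    · rintro y (rfl | rfl)
      · rfl
      · exact (H69.Fpf.commute_rho h.fpf x).symm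
    · rintro y (rfl | rfl)
      · exact H69.Fpf.commute_rho h.fpf y
      · rfl
  have hle2 : K ≤ centralizer (K : Set T) := by
    nth_rewrite 1 [hK']
    refine sup_le (sup_le (hNc.trans (center_le_centralizer _)) (zpowers_le.2 ?_)) (zpowers_le.2 ?_)
    · exact fun b hb => (mem_centralizer_iff.1 (hle hb) x (Or.inl rfl)).symm
    · exact fun b hb => (mem_centralizer_iff.1 (hle hb) (ρ x) (Or.inr rfl)).symm
  exact fun a ha b hb => mem_centralizer_iff.1 (hle2 hb) a ha

/-- The points fixed modulo a central invariant subgroup. -/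
def modFix (τ : MulAut T) (N : Subgroup T) (hN : N ≤ center T) : Subgroup T where
  carrier := {x | x⁻¹ * τ x ∈ N}
  one_mem' := by simp
  mul_mem' := by
    intro a b ha hb
    show (a * b)⁻¹ * τ (a * b) ∈ N
    have e : (a * b)⁻¹ * τ (a * b) = a⁻¹ * τ a * (b⁻¹ * τ b) := by
      calc (a * b)⁻¹ * τ (a * b) = b⁻¹ * (a⁻¹ * τ a) * τ b := by rw [map_mul]; group
        _ = _ := by rw [mem_center_iff.1 (hN ha) b⁻¹, mul_assoc]
    rw [e]
    exact N.mul_mem ha hb
  inv_mem' := by
    intro a ha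
    show a⁻¹⁻¹ * τ a⁻¹ ∈ N
    have e : a⁻¹⁻¹ * τ a⁻¹ = (a⁻¹ * τ a)⁻¹ := by
      calc a⁻¹⁻¹ * τ a⁻¹ = a * (a⁻¹ * τ a)⁻¹ * a⁻¹ := by rw [map_inv]; group
        _ = _ := by rw [mem_center_iff.1 (hN.trans le_rfl (N.inv_mem ha)) a, mul_inv_cancel_right]
    rw [e]
    exact N.inv_mem ha

omit [Finite T] in
theorem mem_modFix {N : Subgroup T} {hN : N ≤ center T} {x : T} :
    x ∈ modFix τ N hN ↔ x⁻¹ * τ x ∈ N := Iff.rfl

/-- The displacement as a homomorphism. -/
def dispHom (τ : MulAut T) (N : Subgroup T) (hN : N ≤ center T) : modFix τ N hN →* N :=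
  MonoidHom.mk' (fun x => ⟨(x : T)⁻¹ * τ x, x.2⟩) fun a b => Subtype.ext (by
    show ((a : T) * b)⁻¹ * τ ((a : T) * b) = (a : T)⁻¹ * τ a * ((b : T)⁻¹ * τ b)
    calc ((a : T) * b)⁻¹ * τ ((a : T) * b) = (b : T)⁻¹ * ((a : T)⁻¹ * τ a) * τ b := by
          rw [map_mul]; group
      _ = _ := by rw [mem_center_iff.1 (hN a.2) (b : T)⁻¹, mul_assoc])

theorem modFix_rho (h : Data τ ρ V) {N : Subgroup T} (hN : N ≤ center T) (hNρ : ∀ g ∈ N, ρ g ∈ N) :
    ∀ g ∈ modFix τ N hN, ρ g ∈ modFix τ N hN := fun g hg => by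
  rw [mem_modFix, h.comm, ← map_inv, ← map_mul]
  exact hNρ _ hg

theorem modFix_tau (h : Data τ ρ V) {N : Subgroup T} (hN : N ≤ center T) (hNτ : ∀ g ∈ N, τ g ∈ N) :
    ∀ g ∈ modFix τ N hN, τ g ∈ modFix τ N hN := fun g hg => by
  have := hNτ _ hg
  rwa [map_mul, map_inv] at this

theorem le_modFix {N : Subgroup T} (hN : N ≤ center T) (hNτ : ∀ g ∈ N, τ g ∈ N) :
    N ≤ modFix τ N hN := fun g hg => N.mul_mem (N.inv_mem hg) (hNτ g hg)

theorem tauV (h : Data τ ρ V) : ∀ g ∈ V, τ g ∈ V := fun g hg => by rwa [(h.fix g).2 hg]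

/-- The fixed points modulo `V` have order at most `16`. -/
theorem card_modFix_V_le (h : Data τ ρ V) : Nat.card (modFix τ V h.cen) ≤ 16 := by
  rw [card_ker_range (dispHom τ V h.cen)]
  have h1 : Nat.card (dispHom τ V h.cen).ker ≤ 4 := by
    rw [← h.card]
    refine Nat.card_le_card_of_injective (fun x => (⟨((x : modFix τ V h.cen) : T), (h.fix _).1 ?_⟩ : V)) ?_
    · exact (inv_mul_eq_one.1 (congrArg Subtype.val (MonoidHom.mem_ker.1 x.2))).symm
    · intro a b e
      exact Subtype.ext (Subtype.ext (congrArg (fun z : V => (z : T)) e))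
  have h2 : Nat.card (dispHom τ V h.cen).range ≤ 4 := h.card ▸ Subgroup.card_le_card_group _
  exact (Nat.mul_le_mul h1 h2).trans le_rfl

theorem card_modFix_V (h : Data τ ρ V) (hne : V ≠ ⊤) :
    Nat.card (modFix τ V h.cen) = 16 ∧ ∃ x ∈ modFix τ V h.cen, x ∉ V := by
  obtain ⟨x, -, hxV, hx⟩ := exists_fixed_mod h le_top hne (tauV h) fun g _ => mem_top _
  refine ⟨?_, x, hx, hxV⟩
  have hle := card_modFix_V_le h
  obtain ⟨b, hb⟩ := exists_card_eq h (modFix τ V h.cen)
  have hm := H69.Fpf.restrict h.fpf (modFix_rho h h.cen fun g => mapV h)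
  have hlt : 4 < Nat.card (modFix τ V h.cen) := by
    rw [← h.card]
    refine lt_of_le_of_ne (Nat.le_of_dvd Nat.card_pos (card_dvd_of_le (le_modFix h.cen (tauV h)))) ?_
    intro e
    exact hxV ((eq_of_le_of_card_ge (le_modFix h.cen (tauV h)) e.ge).symm ▸ hx)
  rw [hb] at hle hm hlt ⊢
  have h5 : b ≤ 4 := by
    by_contra hc
    have := (Nat.pow_le_pow_right (by norm_num : 1 ≤ 2) (by omega : 5 ≤ b)).trans hle
    norm_num at this
  interval_cases b <;> omega

/-- An automorphism restricted to an invariant subgroup. -/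
def res (φ : MulAut T) (K : Subgroup T) (hK : ∀ g ∈ K, φ g ∈ K) (hK' : ∀ g ∈ K, φ.symm g ∈ K) :
    MulAut K where
  toFun k := ⟨φ k, hK _ k.2⟩
  invFun k := ⟨φ.symm k, hK' _ k.2⟩
  left_inv k := Subtype.ext (φ.symm_apply_apply k)
  right_inv k := Subtype.ext (φ.apply_symm_apply k)
  map_mul' a b := Subtype.ext (map_mul φ (a : T) b)

theorem Data.restrict (h : Data τ ρ V) (K : Subgroup T) (hVK : V ≤ K)
    (hτ : ∀ g ∈ K, τ g ∈ K) (hρ : ∀ g ∈ K, ρ g ∈ K) :
    ∃ τ' ρ' : MulAut K, Data τ' ρ' (V.subgroupOf K) ∧ (∀ k : K, (τ' k : T) = τ k) ∧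
      (∀ k : K, (ρ' k : T) = ρ k) := by
  have hρ' : ∀ g ∈ K, ρ.symm g ∈ K := fun g hg => by
    have : ρ.symm g = ρ (ρ g) := by rw [MulEquiv.symm_apply_eq, h.fpf.1]
    rw [this]; exact hρ _ (hρ _ hg)
  have hτ' : ∀ g ∈ K, τ.symm g ∈ K := fun g hg => by
    have : τ.symm g = τ g := by rw [MulEquiv.symm_apply_eq, h.inv]
    rw [this]; exact hτ _ hg
  refine ⟨res τ K hτ hτ', res ρ K hρ hρ', ?_, fun k => rfl, fun k => rfl⟩
  refine ⟨h.two.to_subgroup K, fun k hk => mem_center_iff.2 fun g => Subtype.ext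
    (mem_center_iff.1 (h.cen (mem_subgroupOf.1 hk)) g), ?_, fun k hk => Subtype.ext
    (h.sq k (mem_subgroupOf.1 hk)), fun k => Subtype.ext (h.inv k),
    fun k => Subtype.ext (h.comm k), fun k => ?_, ⟨fun k => Subtype.ext (h.fpf.1 k), fun k hk =>
      Subtype.ext (h.fpf.2 k (congrArg Subtype.val hk))⟩⟩
  · rw [Nat.card_congr (subgroupOfEquivOfLe hVK).toEquiv, h.card]
  · rw [mem_subgroupOf, ← h.fix]
    exact Subtype.ext_iff

/-- Abelian case: elementary of order 16, or every involution lies in `V`. -/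
theorem abelian_cases (h : Data τ ρ V) (hab : ∀ x y : T, x * y = y * x) :
    (Nat.card T = 16 ∧ ∀ x : T, x * x = 1) ∨ ∀ x : T, x * x = 1 → x ∈ V := by
  refine or_iff_not_imp_right.2 fun hex => ?_
  push Not at hex
  obtain ⟨e, he, heV⟩ := hex
  letI : CommGroup T := { (inferInstance : Group T) with mul_comm := hab }
  have hd : ∀ g, g * τ g ∈ V := fun g => (h.fix _).1 (by rw [map_mul, h.inv, hab])
  have hfV : e⁻¹ * τ e ∈ V := by
    rw [inv_eq_of_mul_eq_one_right he]; exact hd e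
  have hf1 : e⁻¹ * τ e ≠ 1 := fun e1 => heV ((h.fix e).1 (inv_mul_eq_one.1 e1).symm)
  have hsurj : ∀ v ∈ V, ∃ f, f * f = 1 ∧ f⁻¹ * τ f = v := by
    intro v hv
    by_cases hv1 : v = 1
    · exact ⟨1, by simp, by simp [hv1]⟩
    obtain ⟨j, hj⟩ := transV h hf1 hfV hv1 hv
    refine ⟨(ρ ^ j) e, by rw [← map_mul, he, map_one], ?_⟩
    rw [← hj, map_mul, map_inv]
    congr 1
    clear hj
    induction j with
    | zero => simp
    | succ j ih => rw [pow_succ', MulAut.mul_apply, MulAut.mul_apply, h.comm, ih]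
  have key : ∀ y : T, (y * y) * (y * y) = 1 → y * y = 1 := by
    intro y hy
    set s := y * τ y with hs
    have hsV : s ∈ V := hd y
    have hyyV : y * y ∈ V := by
      refine (h.fix _).1 ?_
      have h1 : y * y * τ (y * y) = 1 := by
        have := h.sq s hsV
        rw [hs, mul_mul_mul_comm] at this
        rwa [map_mul]
      rw [eq_inv_of_mul_eq_one_right h1]
      exact inv_eq_of_mul_eq_one_right hy
    obtain ⟨f, hf2, hf⟩ := hsurj (y * y * s) (V.mul_mem hyyV hsV)
    have hτf : τ f = f * (y * y * s) := by rw [← hf, mul_inv_cancel_left]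
    have hτy : τ y = y⁻¹ * s := by rw [hs, inv_mul_cancel_left]
    have hfix : τ (y * f) = y * f := by
      rw [map_mul, hτf, hτy]
      calc y⁻¹ * s * (f * (y * y * s)) = y⁻¹ * y * (y * f) * (s * s) := by
            simp only [mul_assoc, mul_comm, mul_left_comm]
        _ = y * f := by rw [inv_mul_cancel, one_mul, h.sq s hsV, mul_one]
    have := h.sq _ ((h.fix _).1 hfix)
    rwa [mul_mul_mul_comm, hf2, mul_one] at this
  have hexp : ∀ x : T, x * x = 1 := by
    have : ∀ k : ℕ, ∀ x : T, x ^ (2 ^ k) = 1 → x * x = 1 := by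
      intro k
      induction k with
      | zero => intro x hx; rw [pow_zero, pow_one] at hx; rw [hx, one_mul]
      | succ k ih =>
        intro x hx
        exact key x (ih (x * x) (by rwa [← pow_two, ← pow_mul, ← pow_succ']))
    intro x
    obtain ⟨k, hk⟩ := h.two x
    exact this k x hk
  refine ⟨?_, hexp⟩
  have htop : modFix τ V h.cen = ⊤ := top_le_iff.1 fun x _ => by
    rw [mem_modFix, inv_eq_of_mul_eq_one_right (hexp x)]; exact hd x
  rw [← (card_modFix_V h fun hV => heV (hV ▸ mem_top e)).1, htop, card_top]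

theorem class_two (h : Data τ ρ V) (a b : T) : ⁅a, b⁆ ∈ center T := by
  refine H31.FpfThree.commutator_mem_center_of_fpf ρ (MulEquiv.ext fun g => ?_) h.fpf.2
    (fun x hx => ?_) a b
  · simp [pow_succ, h.fpf.1 g]
  · obtain ⟨k, hk⟩ := h.two x
    rw [← orderOf_eq_one_iff]
    have hd1 : orderOf x ∣ 3 := orderOf_dvd_of_pow_eq_one hx
    have hd2 : orderOf x ∣ 2 ^ k := orderOf_dvd_of_pow_eq_one hk
    exact Nat.eq_one_of_dvd_coprimes (Nat.Coprime.pow_right k (by decide)) hd1 hd2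

/-- Commutation with a fixed element is a homomorphism. -/
def commHom (h : ∀ a b : T, ⁅a, b⁆ ∈ center T) (k : T) : T →* center T :=
  MonoidHom.mk' (fun g => ⟨⁅k, g⁆, h k g⟩) fun a b => Subtype.ext (by
    show ⁅k, a * b⁆ = ⁅k, a⁆ * ⁅k, b⁆
    calc ⁅k, a * b⁆ = ⁅k, a⁆ * (a * ⁅k, b⁆ * a⁻¹) := by simp only [commutatorElement_def]; group
      _ = ⁅k, a⁆ * ⁅k, b⁆ := by rw [mem_center_iff.1 (h k b) a, mul_inv_cancel_right])

/-- If `V` is not the whole centre, `T` is abelian. -/
theorem center_eq (h : Data τ ρ V) (hna : ¬ ∀ x y : T, x * y = y * x) : center T = V := by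
  by_contra hne
  apply hna
  haveI : Fact (Nat.Prime 2) := ⟨Nat.prime_two⟩
  set Z := center T with hZdef
  have hVZ : V ≤ Z := h.cen
  have hZρ : ∀ g ∈ Z, ρ g ∈ Z := H69.Fpf.center_map
  have hZτ : ∀ g ∈ Z, τ g ∈ Z := H69.Fpf.center_map
  by_cases htop : Z = ⊤
  · exact fun x y => mem_center_iff.1 (htop ▸ mem_top y : y ∈ Z) x
  -- `W ≤ Z`
  obtain ⟨x₀, hx₀Z, hx₀V, hx₀⟩ := exists_fixed_mod h hVZ (Ne.symm hne) (tauV h) hZτ
  have hVtop : V ≠ ⊤ := fun e => hx₀V (e ▸ mem_top x₀)
  have hW16 := (card_modFix_V h hVtop).1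
  have hWZ : modFix τ V h.cen ≤ Z := by
    rw [gen_pair h (fun g => mapV h) (modFix_rho h h.cen fun g => mapV h)
      (le_modFix h.cen (tauV h)) (by rw [hW16, h.card]) (mem_modFix.2 hx₀) hx₀V]
    exact sup_le (sup_le hVZ (zpowers_le.2 hx₀Z)) (zpowers_le.2 (hZρ _ hx₀Z))
  have hZ16 : 16 ≤ Nat.card Z := hW16 ▸ Nat.le_of_dvd Nat.card_pos (card_dvd_of_le hWZ)
  -- the fixed points modulo `Z`
  set W2 := modFix τ Z le_rfl with hW2
  have hZW2 : Z ≤ W2 := le_modFix le_rfl hZτ
  obtain ⟨x₁, -, hx₁Z, hx₁⟩ := exists_fixed_mod h le_top htop hZτ fun g _ => mem_top _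
  have hW2card : Nat.card W2 ≤ 4 * Nat.card Z := by
    let I : Subgroup Z := (Z.subgroupOf W2).map (dispHom τ Z le_rfl)
    let e : Z ≃ Z.subgroupOf W2 := (subgroupOfEquivOfLe hZW2).symm.toEquiv
    have hI : I.index ≤ 4 := by
      have h1 := I.card_mul_index
      have h2 := card_ker_range ((dispHom τ Z le_rfl).comp (Z.subgroupOf W2).subtype)
      rw [MonoidHom.range_comp, range_subtype, ← Nat.card_congr e] at h2
      have h3 : Nat.card ((dispHom τ Z le_rfl).comp (Z.subgroupOf W2).subtype).ker ≤ 4 := by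
        rw [← h.card]
        refine Nat.card_le_card_of_injective (fun x =>
          (⟨(((x : Z.subgroupOf W2) : W2) : T), (h.fix _).1 ?_⟩ : V)) ?_
        · exact (inv_mul_eq_one.1 (congrArg Subtype.val (MonoidHom.mem_ker.1 x.2))).symm
        · intro a b e
          exact Subtype.ext (Subtype.ext (Subtype.ext (congrArg (fun z : V => (z : T)) e)))
      have h4 : Nat.card I * I.index ≤ 4 * Nat.card I := by
        rw [h1, h2]; exact Nat.mul_le_mul_right _ h3
      rw [mul_comm 4] at h4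
      exact Nat.le_of_mul_le_mul_left h4 Nat.card_pos
    haveI : I.Normal := ⟨fun a ha g => by
      have : g * a * g⁻¹ = a := Subtype.ext (by
        show (g : T) * a * (g : T)⁻¹ = a
        rw [mem_center_iff.1 a.2 (g : T), mul_inv_cancel_right])
      rwa [this]⟩
    let ψ := (QuotientGroup.mk' I).comp (dispHom τ Z le_rfl)
    rw [card_ker_range ψ, mul_comm]
    refine Nat.mul_le_mul ((Subgroup.card_le_card_group _).trans (I.index_eq_card ▸ hI)) ?_
    rw [Nat.card_congr e]
    refine Nat.card_le_card_of_injective (fun x => (⟨(x : W2), ?_⟩ : Z.subgroupOf W2)) ?_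
    · have hx : dispHom τ Z le_rfl (x : W2) ∈ I := (QuotientGroup.eq_one_iff _).1 x.2
      obtain ⟨z, hz, hze⟩ := hx
      have e1 : ((z : W2) : T)⁻¹ * τ ((z : W2) : T) = ((x : W2) : T)⁻¹ * τ ((x : W2) : T) :=
        congrArg (fun w : Z => (w : T)) hze
      have hfix : (((x : W2) : T) * ((z : W2) : T)⁻¹) ∈ V := (h.fix _).1 (by
        rw [map_mul, map_inv]
        have e2 : τ ((x : W2) : T) = ((x : W2) : T) * (((z : W2) : T)⁻¹ * τ ((z : W2) : T)) := by
          rw [e1, mul_inv_cancel_left]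
        rw [e2]; group)
      rw [mem_subgroupOf]
      have := Z.mul_mem (hVZ hfix) (mem_subgroupOf.1 hz)
      simpa using this
    · intro a b e
      exact Subtype.ext (congrArg (fun w : Z.subgroupOf W2 => (w : W2)) e)
  have hW2ρ : ∀ g ∈ W2, ρ g ∈ W2 := modFix_rho h le_rfl hZρ
  have hW2τ : ∀ g ∈ W2, τ g ∈ W2 := modFix_tau h le_rfl hZτ
  have hW2ab := comm_pair h hZρ hW2ρ hZW2 hW2card le_rfl (mem_modFix.2 hx₁) hx₁Z
  obtain ⟨τ', ρ', h', -, -⟩ := h.restrict W2 (hVZ.trans hZW2) hW2τ hW2ρ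
  have hW2inv : ∀ g ∈ W2, g * g = 1 → g ∈ V := by
    rcases abelian_cases h' (fun a b => Subtype.ext (hW2ab _ a.2 _ b.2)) with ⟨h16, -⟩ | hall
    · exfalso
      refine hx₁Z ?_
      rw [eq_of_le_of_card_ge hZW2 (h16 ▸ hZ16)]
      exact mem_modFix.2 hx₁
    · exact fun g hg hg2 => mem_subgroupOf.1 (hall ⟨g, hg⟩ (Subtype.ext hg2))
  -- squares in the centre
  let sqz : Z →* Z := MonoidHom.mk' (fun z => z * z) fun a b => Subtype.ext (by
    show (a : T) * b * ((a : T) * b) = (a : T) * a * ((b : T) * b)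
    exact (Commute.mul_mul_mul_comm (mem_center_iff.1 a.2 (b : T)) _ _))
  set R := sqz.range with hR
  have hRidx : R.index ≤ 4 := by
    have h1 := R.card_mul_index
    have h2 := card_ker_range sqz
    have h3 : Nat.card sqz.ker ≤ 4 := by
      rw [← h.card]
      refine Nat.card_le_card_of_injective (fun x => (⟨((x : Z) : T), ?_⟩ : V)) ?_
      · exact hW2inv _ (hZW2 (x : Z).2) (congrArg Subtype.val (MonoidHom.mem_ker.1 x.2))
      · intro a b e
        exact Subtype.ext (Subtype.ext (congrArg (fun z : V => (z : T)) e))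
    have h4 : Nat.card R * R.index ≤ 4 * Nat.card R := by
      rw [h1, h2]; exact Nat.mul_le_mul_right _ h3
    rw [mul_comm 4] at h4
    exact Nat.le_of_mul_le_mul_left h4 Nat.card_pos
  have hVR : V ≤ R.map Z.subtype := by
    have hRne : R ≠ ⊥ := by
      intro e
      have h1 := R.card_mul_index
      rw [e, card_bot, one_mul, ← e] at h1
      omega
    obtain ⟨r, hr⟩ := exists_prime_orderOf_dvd_card' 2 (G := R) (by
      obtain ⟨k, hk⟩ := IsPGroup.iff_card.1 ((h.two.to_subgroup Z).to_subgroup R)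
      rw [hk]
      refine dvd_pow_self 2 fun hk0 => hRne (eq_bot_of_card_eq _ ?_)
      rw [hk, hk0, pow_zero])
    have hr2 : r * r = 1 := by rw [← pow_two, ← hr]; exact pow_orderOf_eq_one r
    have hrV : ((r : Z) : T) ∈ V := hW2inv _ (hZW2 (r : Z).2)
      (congrArg (fun u : R => ((u : Z) : T)) hr2)
    refine le_of_mem h ?_ hrV (fun e => ?_) ⟨r, r.2, rfl⟩
    · rintro _ ⟨w, ⟨u, rfl⟩, rfl⟩
      refine ⟨sqz ⟨ρ u, hZρ _ u.2⟩, ⟨_, rfl⟩, ?_⟩
      show ρ (u : T) * ρ (u : T) = ρ ((u : T) * u)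
      rw [map_mul]
    · rw [orderOf_eq_one_iff.2 (Subtype.ext (Subtype.ext e) : r = 1)] at hr
      omega
  have hsqZ : ∀ x y : T, y * y ∈ Z → ⁅x, y⁆ ∈ V := by
    intro x y hy
    refine hW2inv _ (hZW2 (class_two h x y)) ?_
    have e := congrArg Subtype.val (map_mul (commHom (class_two h) x) y y)
    have e2 : ⁅x, y * y⁆ = 1 := commutatorElement_eq_one_iff_mul_comm.2 (mem_center_iff.1 hy x)
    exact e.symm.trans e2
  have hsqmul : ∀ a b : T, a * b * (a * b) = a * a * (b * b) * ⁅a⁻¹, b⁆ := fun a b => by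
    rw [show a * b * (a * b) = a * a * ⁅a⁻¹, b⁆ * (b * b) by
      simp only [commutatorElement_def]; group,
      mul_assoc (a * a), ← mem_center_iff.1 (class_two h a⁻¹ b) (b * b), ← mul_assoc]
  -- `T1`
  let T1 : Subgroup T :=
    { carrier := {x | x * x ∈ Z}
      one_mem' := by simp
      mul_mem' := fun {a b} ha hb => by
        show a * b * (a * b) ∈ Z
        rw [hsqmul]
        exact Z.mul_mem (Z.mul_mem ha hb) (class_two h _ _)
      inv_mem' := fun {a} ha => by
        show a⁻¹ * a⁻¹ ∈ Z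
        rw [← mul_inv_rev]
        exact Z.inv_mem ha }
  have hmemT1 : ∀ x, x ∈ T1 ↔ x * x ∈ Z := fun x => Iff.rfl
  have hZT1 : Z ≤ T1 := fun z hz => (hmemT1 z).2 (Z.mul_mem hz hz)
  let K1 : Subgroup T :=
    { carrier := {x | x * x ∈ R.map Z.subtype}
      one_mem' := ⟨1, R.one_mem, by simp⟩
      mul_mem' := fun {a b} ha hb => by
        show a * b * (a * b) ∈ R.map Z.subtype
        rw [hsqmul]
        exact mul_mem (mul_mem ha hb) (hVR (hsqZ _ _ (map_subtype_le R hb)))
      inv_mem' := fun {a} ha => by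
        show a⁻¹ * a⁻¹ ∈ R.map Z.subtype
        rw [← mul_inv_rev]
        exact inv_mem ha }
  have hK1 : K1 = Z := by
    by_contra hne1
    have hZK1 : Z ≤ K1 := fun z hz => ⟨sqz ⟨z, hz⟩, ⟨_, rfl⟩, rfl⟩
    obtain ⟨x, hxK, hxZ, hx⟩ := exists_fixed_mod h hZK1 (Ne.symm hne1) hZτ (fun g hg => by
      obtain ⟨w, ⟨u, rfl⟩, hu⟩ := hg
      refine ⟨sqz ⟨τ u, hZτ _ u.2⟩, ⟨_, rfl⟩, ?_⟩
      have hu' : (u : T) * u = g * g := hu
      show τ (u : T) * τ (u : T) = τ g * τ g
      rw [← map_mul, ← map_mul, hu'])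
    obtain ⟨w, ⟨z, rfl⟩, hz⟩ := hxK
    have hz' : (z : T) * z = x * x := hz
    refine hxZ ?_
    have hxz : (x * (z : T)⁻¹) ∈ V := by
      refine hW2inv _ (W2.mul_mem (mem_modFix.2 hx) (W2.inv_mem (hZW2 z.2))) ?_
      calc x * (z : T)⁻¹ * (x * (z : T)⁻¹) = x * x * ((z : T)⁻¹ * (z : T)⁻¹) :=
            Commute.mul_mul_mul_comm (mem_center_iff.1 (Z.inv_mem z.2) x).symm _ _
        _ = 1 := by rw [← hz', ← mul_inv_rev, mul_inv_cancel]
    have := Z.mul_mem (hVZ hxz) z.2
    simpa using this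
  have hT1card : Nat.card T1 ≤ 4 * Nat.card Z := by
    haveI : R.Normal := ⟨fun a ha g => by
      have : g * a * g⁻¹ = a := Subtype.ext (by
        show (g : T) * a * (g : T)⁻¹ = a
        rw [mem_center_iff.1 a.2 (g : T), mul_inv_cancel_right])
      rwa [this]⟩
    let q : T1 →* Z ⧸ R := MonoidHom.mk' (fun x => QuotientGroup.mk ⟨(x : T) * x, x.2⟩) fun a b => by
      obtain ⟨w, hw, hwe⟩ := hVR (hsqZ ((a : T))⁻¹ b b.2)
      rw [← QuotientGroup.mk_mul]
      refine (QuotientGroup.eq.2 ?_).symm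
      refine (congrArg (· ∈ R) (Subtype.ext ?_ : _ = w)).mpr hw
      show ((a : T) * a * ((b : T) * b))⁻¹ * (((a : T) * b) * ((a : T) * b)) = (w : T)
      rw [hsqmul, inv_mul_cancel_left]
      exact hwe.symm
    rw [card_ker_range q, mul_comm]
    refine Nat.mul_le_mul ((Subgroup.card_le_card_group _).trans (R.index_eq_card ▸ hRidx)) ?_
    refine Nat.card_le_card_of_injective (fun x => (⟨((x : T1) : T), ?_⟩ : Z)) ?_
    · have hx : (⟨((x : T1) : T) * (x : T1), (x : T1).2⟩ : Z) ∈ R :=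
        (QuotientGroup.eq_one_iff _).1 x.2
      exact hK1.le (show ((x : T1) : T) ∈ K1 from ⟨_, hx, rfl⟩)
    · intro a b e
      exact Subtype.ext (Subtype.ext (congrArg (fun z : Z => (z : T)) e))
  -- `T/Z` is homocyclic
  obtain ⟨σ, hσ, hσe⟩ := H69.Fpf.quotient h.fpf (N := Z) hZρ
  have hQab : ∀ a b : T ⧸ Z, a * b = b * a := by
    intro a b
    obtain ⟨a, rfl⟩ := QuotientGroup.mk_surjective a
    obtain ⟨b, rfl⟩ := QuotientGroup.mk_surjective b
    rw [← commutatorElement_eq_one_iff_mul_comm, ← QuotientGroup.mk'_apply,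
      ← QuotientGroup.mk'_apply, ← map_commutatorElement]
    exact (QuotientGroup.eq_one_iff _).2 (class_two h a b)
  have hQ2 : IsPGroup 2 (T ⧸ Z) := h.two.to_quotient Z
  have hfour : Nat.card {x : T ⧸ Z // x * x = 1} = 4 := by
    let e : {x : T ⧸ Z // x * x = 1} ≃ T1.map (QuotientGroup.mk' Z) :=
      { toFun := fun x => ⟨x.1, by
          obtain ⟨g, hg⟩ := QuotientGroup.mk_surjective x.1
          refine ⟨g, (hmemT1 g).2 ((QuotientGroup.eq_one_iff _).1 ?_), hg⟩
          rw [QuotientGroup.mk_mul, hg]; exact x.2⟩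
        invFun := fun x => ⟨x.1, by
          obtain ⟨g, hg, hge⟩ := x.2
          rw [← hge]; exact (QuotientGroup.eq_one_iff _).2 ((hmemT1 g).1 hg)⟩
        left_inv := fun x => rfl
        right_inv := fun x => rfl }
    rw [Nat.card_congr e]
    have hinv : ∀ q ∈ T1.map (QuotientGroup.mk' Z), σ q ∈ T1.map (QuotientGroup.mk' Z) := by
      rintro _ ⟨g, hg, rfl⟩
      refine ⟨ρ g, ?_, (hσe g).symm⟩
      rw [SetLike.mem_coe, hmemT1, ← map_mul]
      exact hZρ _ hg
    have m1 := H69.Fpf.restrict hσ hinv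
    have h1 := card_ker_range ((QuotientGroup.mk' Z).comp T1.subtype)
    rw [MonoidHom.range_comp, range_subtype] at h1
    have h2 : Nat.card ((QuotientGroup.mk' Z).comp T1.subtype).ker = Nat.card Z := by
      rw [← MonoidHom.comap_ker, QuotientGroup.ker_mk']
      exact Nat.card_congr (subgroupOfEquivOfLe hZT1).toEquiv
    rw [h2, mul_comm (Nat.card Z)] at h1
    have h3 : Nat.card (T1.map (QuotientGroup.mk' Z)) ≤ 4 :=
      Nat.le_of_mul_le_mul_right (h1 ▸ hT1card) Nat.card_pos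
    have h4 : Nat.card (T1.map (QuotientGroup.mk' Z)) ≠ 1 := by
      intro h5
      haveI : Nontrivial (T ⧸ Z) := QuotientGroup.nontrivial_iff.2 htop
      obtain ⟨a, ha⟩ := exists_prime_orderOf_dvd_card' 2 (G := T ⧸ Z) (by
        obtain ⟨k, hk⟩ := IsPGroup.iff_card.1 hQ2
        rw [hk]
        refine dvd_pow_self 2 fun hk0 => ?_
        rw [hk0, pow_zero] at hk
        exact absurd hk (Finite.one_lt_card (α := T ⧸ Z)).ne')
      have h6 := (e ⟨a, by rw [← pow_two, ← ha]; exact pow_orderOf_eq_one a⟩).2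
      have h7 : a ∈ T1.map (QuotientGroup.mk' Z) := h6
      rw [eq_bot_of_card_eq _ h5, mem_bot] at h7
      rw [h7, orderOf_one] at ha
      omega
    have : 0 < Nat.card (T1.map (QuotientGroup.mk' Z)) := Nat.card_pos
    omega
  obtain ⟨n, -, ⟨eh⟩⟩ := Cfsg.Agent.H29.ThreeInv.homocyclic hQ2 hQab hfour
    (k := σ) fun x y hx1 hx hy1 hy => fpf_trans hσ (P := fun u => u * u = 1) (one_mul 1)
      (fun u hu => by rw [← map_mul, hu, map_one]) hfour hx1 hx hy1 hy
  obtain ⟨a, ha⟩ := QuotientGroup.mk_surjective (eh.symm (Multiplicative.ofAdd (1, 0)))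
  obtain ⟨b, hb⟩ := QuotientGroup.mk_surjective (eh.symm (Multiplicative.ofAdd (0, 1)))
  have hgen : ∀ S : Subgroup T, a ∈ S → b ∈ S → Z ≤ S → S = ⊤ := by
    intro S haS hbS hZS
    refine top_le_iff.1 fun g _ => ?_
    obtain ⟨i, hi⟩ := ZMod.natCast_zmod_surjective (eh (QuotientGroup.mk g)).toAdd.1
    obtain ⟨j, hj⟩ := ZMod.natCast_zmod_surjective (eh (QuotientGroup.mk g)).toAdd.2
    have hz : (a ^ i * b ^ j)⁻¹ * g ∈ Z := by
      rw [← QuotientGroup.eq]
      apply eh.injective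
      apply Multiplicative.toAdd.injective
      rw [QuotientGroup.mk_mul, QuotientGroup.mk_pow, QuotientGroup.mk_pow, ha, hb, map_mul,
        map_pow, map_pow, eh.apply_symm_apply, eh.apply_symm_apply]
      ext <;> simp [hi, hj]
    have := S.mul_mem (S.mul_mem (S.pow_mem haS i) (S.pow_mem hbS j)) (hZS hz)
    rwa [mul_inv_cancel_left] at this
  set c := ⁅a, b⁆ with hc
  have hcZ : c ∈ Z := class_two h a b
  set M := (zpowers c).subgroupOf Z with hM
  have hone : ∀ {k g : T}, k * g = g * k → (commHom (class_two h) k g : center T) ∈ M := by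
    intro k g e
    rw [hM, mem_subgroupOf]
    show ⁅k, g⁆ ∈ zpowers c
    rw [commutatorElement_eq_one_iff_mul_comm.2 e]; exact one_mem _
  have hA : M.comap (commHom (class_two h) a) = ⊤ := by
    refine hgen _ (hone rfl) ?_ fun z hz => hone (mem_center_iff.1 hz a)
    show (commHom (class_two h) a b : center T) ∈ M
    exact mem_subgroupOf.2 (mem_zpowers c)
  have hB : M.comap (commHom (class_two h) b) = ⊤ := by
    refine hgen _ ?_ (hone rfl) fun z hz => hone (mem_center_iff.1 hz b)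
    show (commHom (class_two h) b a : center T) ∈ M
    refine mem_subgroupOf.2 ?_
    show ⁅b, a⁆ ∈ zpowers c
    rw [← commutatorElement_inv a b]; exact inv_mem (mem_zpowers c)
  have hall : ∀ k g : T, ⁅k, g⁆ ∈ zpowers c := by
    intro k
    have hk : M.comap (commHom (class_two h) k) = ⊤ := by
      have hswap : ∀ u v : T, ⁅u, v⁆ ∈ zpowers c → (commHom (class_two h) v u : center T) ∈ M :=
        fun u v huv => mem_subgroupOf.2 (by
          show ⁅v, u⁆ ∈ zpowers c
          rw [← commutatorElement_inv u v]; exact inv_mem huv)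
      refine hgen _ (hswap a k ?_) (hswap b k ?_) fun z hz => hone (mem_center_iff.1 hz k)
      · exact mem_subgroupOf.1 (show (commHom (class_two h) a k : center T) ∈ M from
          (hA.symm ▸ mem_top k : k ∈ M.comap (commHom (class_two h) a)))
      · exact mem_subgroupOf.1 (show (commHom (class_two h) b k : center T) ∈ M from
          (hB.symm ▸ mem_top k : k ∈ M.comap (commHom (class_two h) b)))
    exact fun g => mem_subgroupOf.1 (show (commHom (class_two h) k g : center T) ∈ M from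
      (hk.symm ▸ mem_top g : g ∈ M.comap (commHom (class_two h) k)))
  -- the cyclic group is trivial
  have hcρ : ∀ g ∈ zpowers c, ρ g ∈ zpowers c := by
    intro g hg
    obtain ⟨i, rfl⟩ := mem_zpowers_iff.1 hg
    rw [map_zpow]
    refine zpow_mem ?_ i
    rw [hc, map_commutatorElement]
    exact hall _ _
  have hc1 : c = 1 := by
    by_contra hne1
    obtain ⟨w, hw⟩ := exists_prime_orderOf_dvd_card' 2 (G := zpowers c) (by
      obtain ⟨k, hk⟩ := exists_card_eq h (zpowers c)
      rw [hk]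
      refine dvd_pow_self 2 fun hk0 => hne1 ?_
      rw [hk0, pow_zero] at hk
      exact mem_bot.1 (eq_bot_of_card_eq _ hk ▸ mem_zpowers c))
    have hw2 : w * w = 1 := by rw [← pow_two, ← hw]; exact pow_orderOf_eq_one w
    have hw1 : w ≠ 1 := fun e => by rw [e, orderOf_one] at hw; omega
    have huniq : ∀ u : zpowers c, u ≠ 1 → u * u = 1 → u = w := by
      classical
      letI := Fintype.ofFinite (zpowers c)
      intro u hu1 hu2
      by_contra huw
      have := IsCyclic.card_pow_eq_one_le (α := zpowers c) (n := 2) (by norm_num)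
      have h3 : ({1, u, w} : Finset (zpowers c)) ⊆ Finset.univ.filter fun v => v ^ 2 = 1 := by
        simp [Finset.insert_subset_iff, pow_two, hu2, hw2]
      have h4 := (Finset.card_le_card h3).trans this
      rw [Finset.card_eq_three.2 ⟨1, u, w, Ne.symm hu1, Ne.symm hw1, huw, rfl⟩] at h4
      omega
    have hρw : (⟨ρ (w : T), hcρ _ w.2⟩ : zpowers c) = w := huniq _
      (fun e => hw1 (Subtype.ext (ρ.injective ((congrArg Subtype.val e).trans (map_one ρ).symm))))
      (Subtype.ext (by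
        show ρ (w : T) * ρ (w : T) = 1
        rw [← map_mul, show (w : T) * w = 1 from congrArg Subtype.val hw2, map_one]))
    exact hw1 (Subtype.ext (h.fpf.2 _ (congrArg Subtype.val hρw)))
  intro x y
  rw [← commutatorElement_eq_one_iff_mul_comm]
  have := hall x y
  rw [hc1, zpowers_one_eq_bot, mem_bot] at this
  exact this

/-- The nonabelian case. -/
theorem nonabelian (h : Data τ ρ V) (hna : ¬ ∀ x y : T, x * y = y * x) :
    Nat.card T = 64 ∧ Nat.card (center T) = 4 ∧ H69.Fpf.Class2 T ∧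
      (Nat.card {x : T // x * x = 1} = 4 ∨ ∃ u v : T, u * u = 1 ∧ v * v = 1 ∧ ⁅u, v⁆ ≠ 1) := by
  haveI : Fact (Nat.Prime 2) := ⟨Nat.prime_two⟩
  have hZ : center T = V := center_eq h hna
  have hc : ∀ a b : T, ⁅a, b⁆ ∈ V := fun a b => hZ ▸ class_two h a b
  have hsq : ∀ g : T, g * g ∈ V := by
    intro g
    rw [← hZ, mem_center_iff]
    intro k
    rw [← commutatorElement_eq_one_iff_mul_comm]
    have e := congrArg Subtype.val (map_mul (commHom (class_two h) k) g g)
    exact e.trans (h.sq _ (hc k g))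
  have hc2 : H69.Fpf.Class2 T := ⟨fun z hz => h.sq z (hZ ▸ hz), class_two h, fun g => hZ ▸ hsq g⟩
  have hVtop : V ≠ ⊤ := fun e => hna fun x y => mem_center_iff.1 (h.cen (e ▸ mem_top y)) x
  obtain ⟨hW16, x₀, hx₀, hx₀V⟩ := card_modFix_V h hVtop
  set W := modFix τ V h.cen with hW
  have hWρ : ∀ g ∈ W, ρ g ∈ W := modFix_rho h h.cen fun g => mapV h
  have hWτ : ∀ g ∈ W, τ g ∈ W := modFix_tau h h.cen (tauV h)
  have hVW : V ≤ W := le_modFix h.cen (tauV h)
  have hWab := comm_pair h (fun g => mapV h) hWρ hVW (by rw [hW16, h.card]) h.cen hx₀ hx₀V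
  have hWtop : W ≠ ⊤ := fun e => hna fun x y => hWab x (e ▸ mem_top x) y (e ▸ mem_top y)
  -- the order
  have hδ : ∀ x : T, x⁻¹ * τ x ∈ W := fun x => by
    rw [hW, mem_modFix]
    have e : (x⁻¹ * τ x)⁻¹ * τ (x⁻¹ * τ x) = ((x⁻¹ * τ x) * (x⁻¹ * τ x))⁻¹ := by
      rw [map_mul, map_inv, h.inv]; group
    rw [e]; exact V.inv_mem (hsq _)
  have hVn : V.Normal := ⟨fun v hv g => by rwa [conjV h hv g, mul_inv_cancel_right]⟩
  have hQab : ∀ a b : T, (QuotientGroup.mk a : T ⧸ V) * QuotientGroup.mk b =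
      QuotientGroup.mk b * QuotientGroup.mk a := fun a b => by
    rw [← commutatorElement_eq_one_iff_mul_comm, ← QuotientGroup.mk'_apply,
      ← QuotientGroup.mk'_apply, ← map_commutatorElement]
    exact (QuotientGroup.eq_one_iff _).2 (hc a b)
  let ψ : T →* T ⧸ V := MonoidHom.mk' (fun x => QuotientGroup.mk (x⁻¹ * τ x)) fun a b => by
    rw [← QuotientGroup.mk_mul]
    rw [show (a * b)⁻¹ * τ (a * b) = b⁻¹ * (a⁻¹ * τ a) * τ b by rw [map_mul]; group,
      show a⁻¹ * τ a * (b⁻¹ * τ b) = (a⁻¹ * τ a) * b⁻¹ * τ b by group,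
      QuotientGroup.mk_mul, QuotientGroup.mk_mul, hQab, ← QuotientGroup.mk_mul,
      ← QuotientGroup.mk_mul]
  have hT64 : Nat.card T = 64 := by
    have h1 := card_ker_range ψ
    have hker : Nat.card ψ.ker ≤ 16 := by
      rw [← hW16]
      refine Nat.card_le_card_of_injective (fun x => (⟨(x : T), ?_⟩ : W)) fun a b e => ?_
      · rw [hW, mem_modFix]
        exact (QuotientGroup.eq_one_iff (N := V) _).1 (MonoidHom.mem_ker.1 x.2)
      · exact Subtype.ext (congrArg (fun z : W => (z : T)) e)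
    have hrange : Nat.card ψ.range ≤ 4 := by
      have hle : ψ.range ≤ W.map (QuotientGroup.mk' V) := by
        rintro _ ⟨x, rfl⟩; exact ⟨_, hδ x, rfl⟩
      refine (Nat.le_of_dvd Nat.card_pos (card_dvd_of_le hle)).trans ?_
      have h2 := card_ker_range ((QuotientGroup.mk' V).comp W.subtype)
      rw [MonoidHom.range_comp, range_subtype, ← MonoidHom.comap_ker, QuotientGroup.ker_mk',
        show Nat.card (V.comap W.subtype) = 4 from
          (Nat.card_congr (subgroupOfEquivOfLe hVW).toEquiv).trans h.card, hW16] at h2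
      omega
    have hle : Nat.card T ≤ 64 := h1 ▸ (Nat.mul_le_mul hker hrange).trans le_rfl
    obtain ⟨k, hk⟩ := IsPGroup.iff_card.1 h.two
    have hlt : 16 < Nat.card T := by
      rw [← hW16, ← card_top (G := T)]
      refine lt_of_le_of_ne (Nat.le_of_dvd Nat.card_pos (card_dvd_of_le le_top)) fun e => hWtop ?_
      exact eq_of_le_of_card_ge le_top e.ge
    have hm := H69.Fpf.card_mod_three h.fpf
    rw [hk] at hle hlt hm ⊢
    have hk6 : k ≤ 6 := by
      by_contra hlt7
      have := (Nat.pow_le_pow_right (by norm_num : 1 ≤ 2) (by omega : 7 ≤ k)).trans hle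
      norm_num at this
    interval_cases k <;> omega
  -- no involution of `W` outside `V`
  have hWinv : ∀ g ∈ W, g * g = 1 → g ∈ V := by
    obtain ⟨τ', ρ', h', -, -⟩ := h.restrict W hVW hWτ hWρ
    rcases abelian_cases h' (fun a b => Subtype.ext (hWab _ a.2 _ b.2)) with ⟨-, hel⟩ | hall
    · exfalso
      obtain ⟨x, hxW⟩ : ∃ x, x ∉ W := by
        by_contra hcon; push Not at hcon; exact hWtop (top_le_iff.1 fun g _ => hcon g)
      set w := x⁻¹ * τ x with hw
      have hwW : w ∈ W := hδ x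
      have hwV : w ∉ V := fun e => hxW e
      have hw2 : w * w = 1 := congrArg Subtype.val (hel ⟨w, hwW⟩)
      have hxw : ⁅x, w⁆ = 1 := by
        have h1 := (h.fix _).2 (hsq x)
        rw [map_mul, show τ x = x * w by rw [hw, mul_inv_cancel_left]] at h1
        rw [commutatorElement_eq_one_iff_mul_comm]
        have h2 : w * (x * w) = x := by
          apply mul_left_cancel (a := x)
          rw [← mul_assoc]; exact h1
        calc x * w = w * w * (x * w) := by rw [hw2, one_mul]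
          _ = w * (w * (x * w)) := by group
          _ = w * x := by rw [h2]
      have hxρw : ⁅x, ρ w⁆ = 1 := by
        rw [H69.Fpf.comm_cross hc2 h.fpf, hxw, map_one, map_one]
      set M := centralizer (W : Set T) with hMdef
      have hWgen := gen_pair h (fun g => mapV h) hWρ hVW (by rw [hW16, h.card]) hwW hwV
      have hxM : x ∈ M := by
        have : W ≤ centralizer ({x} : Set T) := by
          rw [hWgen]
          exact sup_le (sup_le (h.cen.trans (center_le_centralizer _))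
            (zpowers_le.2 (mem_centralizer_singleton_iff.2
              (commutatorElement_eq_one_iff_mul_comm.1 hxw).symm)))
            (zpowers_le.2 (mem_centralizer_singleton_iff.2
              (commutatorElement_eq_one_iff_mul_comm.1 hxρw).symm))
        exact mem_centralizer_iff.2 fun g hg => mem_centralizer_singleton_iff.1 (this hg)
      have hWM : W ≤ M := fun a ha => mem_centralizer_iff.2 fun b hb => hWab b hb a ha
      have hMρ : ∀ g ∈ M, ρ g ∈ M := fun g hg => mem_centralizer_iff.2 fun b hb => by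
        have hb' : ρ (ρ b) ∈ W := hWρ _ (hWρ _ hb)
        have := congrArg ρ (mem_centralizer_iff.1 hg _ hb')
        rwa [map_mul, map_mul, h.fpf.1] at this
      obtain ⟨k, hk⟩ := exists_card_eq h M
      have hlt : 16 < Nat.card M := by
        rw [← hW16]
        refine lt_of_le_of_ne (Nat.le_of_dvd Nat.card_pos (card_dvd_of_le hWM)) fun e => hxW ?_
        rw [eq_of_le_of_card_ge hWM e.ge]; exact hxM
      have hle : Nat.card M ≤ 64 := hT64 ▸ Subgroup.card_le_card_group M
      have hm := H69.Fpf.restrict h.fpf hMρ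
      rw [hk] at hlt hle hm
      have hk6 : k ≤ 6 := by
        by_contra hlt7
        have := (Nat.pow_le_pow_right (by norm_num : 1 ≤ 2) (by omega : 7 ≤ k)).trans hle
        norm_num at this
      have hk' : k = 6 := by interval_cases k <;> omega
      have hMtop : M = ⊤ := eq_top_of_card_eq M (by rw [hk, hk', hT64]; norm_num)
      refine hwV (hZ ▸ mem_center_iff.2 fun g => ?_)
      exact (mem_centralizer_iff.1 (hMtop ▸ mem_top g : g ∈ M) w hwW).symm
    · exact fun g hg hg2 => mem_subgroupOf.1 (hall ⟨g, hg⟩ (Subtype.ext hg2))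
  refine ⟨hT64, by rw [hZ, h.card], hc2, ?_⟩
  by_cases hall : ∀ x : T, x * x = 1 → x ∈ V
  · left
    rw [← h.card]
    exact Nat.card_congr
      { toFun := fun x => ⟨x.1, hall _ x.2⟩
        invFun := fun x => ⟨x.1, h.sq _ x.2⟩
        left_inv := fun x => rfl
        right_inv := fun x => rfl }
  push Not at hall
  obtain ⟨u, hu, huV⟩ := hall
  refine Or.inr ⟨u, τ u, hu, by rw [← map_mul, hu, map_one], fun hcom => ?_⟩
  set C := centralizer ({u} : Set T) with hC
  have hmemC : ∀ g, g ∈ C ↔ ⁅u, g⁆ = 1 := fun g => by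
    rw [hC, mem_centralizer_singleton_iff, commutatorElement_eq_one_iff_mul_comm]
    exact eq_comm
  have hCρ : ∀ g ∈ C, ρ g ∈ C := fun g hg => by
    rw [hmemC, H69.Fpf.comm_cross hc2 h.fpf, (hmemC g).1 hg, map_one, map_one]
  have hVC : V ≤ C := h.cen.trans (center_le_centralizer _)
  have huC : u ∈ C := mem_centralizer_singleton_iff.2 rfl
  have hτuC : τ u ∈ C := (hmemC _).2 hcom
  have hC16 : Nat.card C ≤ 4 * Nat.card V := by
    obtain ⟨k, hk⟩ := exists_card_eq h C
    have hle : Nat.card C ≤ 64 := hT64 ▸ Subgroup.card_le_card_group C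
    have hne : Nat.card C ≠ 64 := fun e => huV (hZ ▸ mem_center_iff.2 fun g => by
      have := eq_top_of_card_eq C (e.trans hT64.symm)
      exact mem_centralizer_singleton_iff.1 (this ▸ mem_top g : g ∈ C))
    have hm := H69.Fpf.restrict h.fpf hCρ
    rw [h.card, hk]
    rw [hk] at hle hm hne
    have hk6 : k ≤ 6 := by
      by_contra hlt7
      have := (Nat.pow_le_pow_right (by norm_num : 1 ≤ 2) (by omega : 7 ≤ k)).trans hle
      norm_num at this
    interval_cases k <;> omega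
  have hgenu := gen_pair h (fun g => mapV h) hCρ hVC hC16 huC huV
  have hCab := comm_pair h (fun g => mapV h) hCρ hVC hC16 h.cen huC huV
  have hCsq : ∀ g ∈ C, g * g = 1 := by
    let E : Subgroup T :=
      { carrier := {g | g ∈ C ∧ g * g = 1}
        one_mem' := ⟨C.one_mem, one_mul 1⟩
        mul_mem' := fun {a b} ha hb => ⟨C.mul_mem ha.1 hb.1, by
          rw [Commute.mul_mul_mul_comm (hCab b hb.1 a ha.1), ha.2, hb.2, one_mul]⟩
        inv_mem' := fun {a} ha => ⟨C.inv_mem ha.1, by rw [← mul_inv_rev, ha.2, inv_one]⟩ }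
    have hle : C ≤ E := by
      nth_rewrite 1 [hgenu]
      exact sup_le (sup_le (fun v hv => ⟨hVC hv, h.sq v hv⟩) (zpowers_le.2 ⟨huC, hu⟩))
        (zpowers_le.2 ⟨hCρ u huC, by rw [← map_mul, hu, map_one]⟩)
    exact fun g hg => (hle hg).2
  have hCτ : ∀ g ∈ C, τ g ∈ C := by
    have : C ≤ C.comap τ.toMonoidHom := by
      nth_rewrite 1 [hgenu]
      refine sup_le (sup_le (fun v hv => hVC (tauV h v hv)) (zpowers_le.2 hτuC)) (zpowers_le.2 ?_)
      show τ (ρ u) ∈ C
      rw [h.comm]; exact hCρ _ hτuC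
    exact fun g hg => this hg
  obtain ⟨y, hyC, hyV, hy⟩ := exists_fixed_mod h hVC (fun e => huV (e ▸ huC)) (tauV h) hCτ
  exact hyV (hWinv y (mem_modFix.2 hy) (hCsq y hyC))

end H77.FourCent
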