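import Cfsg.Agent.H77.FourCentralizer

/-!
The automorphisms of `T` induced by normalising elements satisfy the hypotheses of
`H77.FourCent.Data`.
-/

set_option autoImplicit false

namespace H77.FourCent

open Subgroup

/-- An automorphism of order three fixing a nontrivial element of a four-group fixes it
pointwise. -/
theorem fix_four {W : Type*} [Group W] [Finite W] (hW : Nat.card W = 4) (f : MulAut W)
    (hf : ∀ g, f (f (f g)) = g) {v : W} (hv : v ≠ 1) (hfv : f v = v) (a : W) : f a = a := by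
  classical
  letI := Fintype.ofFinite W
  by_contra a1
  have ha1 : a ≠ 1 := fun e => a1 (by rw [e, map_one])
  have hav : a ≠ v := fun e => a1 (by rw [e, hfv])
  have b1 : f a ≠ 1 := fun e => ha1 (f.injective (e.trans (map_one f).symm))
  have b2 : f (f a) ≠ 1 := fun e => b1 (f.injective (e.trans (map_one f).symm))
  have c1 : f a ≠ v := fun e => hav (f.injective (e.trans hfv.symm))
  have c2 : f (f a) ≠ v := fun e => c1 (f.injective (e.trans hfv.symm))
  have a2 : f (f a) ≠ a := fun e => a1 (by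
    have := congrArg f e; rw [hf] at this; exact this.symm)
  have a3 : f (f a) ≠ f a := fun e => a1 (f.injective e)
  have h5 := Finset.card_le_univ ({1, v, a, f a, f (f a)} : Finset W)
  rw [← Nat.card_eq_fintype_card, hW] at h5
  simp [Ne.symm hv, Ne.symm ha1, Ne.symm hav, Ne.symm a1, Ne.symm b1, Ne.symm b2, Ne.symm c1,
    Ne.symm c2, Ne.symm a2, Ne.symm a3] at h5

/-- Conjugations by commuting normalising elements of orders two and three. -/
theorem setup {G : Type*} [Group G] [Finite G] (T V : Subgroup G) (hT : IsPGroup 2 T)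
    (hVT : V ≤ T ⊓ centralizer (T : Set G))
    (hV : Nat.card V = 4 ∧ ∀ v ∈ V, v ^ 2 = 1) (t ρ : G) (ht : orderOf t = 2)
    (hρ : orderOf ρ = 3) (htn : t ∈ normalizer (V : Set G) ⊓ normalizer (T : Set G))
    (hρn : ρ ∈ normalizer (V : Set G) ⊓ normalizer (T : Set G)) (htρ : t * ρ = ρ * t)
    (hVρ : ⁅V, zpowers ρ⁆ = V) (hCt : T ⊓ centralizer ({t} : Set G) = V) :
    ∃ τ σ : MulAut T, Data τ σ (V.subgroupOf T) := by
  haveI : Fact (Nat.Prime 2) := ⟨Nat.prime_two⟩
  set τ : MulAut T := T.normalizerMonoidHom ⟨t, htn.2⟩ with hτdef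
  set σ : MulAut T := T.normalizerMonoidHom ⟨ρ, hρn.2⟩ with hσdef
  have hτ : ∀ x : T, (τ x : G) = t * x * t⁻¹ := fun x => rfl
  have hσ : ∀ x : T, (σ x : G) = ρ * x * ρ⁻¹ := fun x => rfl
  have ht2 : t * t = 1 := by rw [← pow_two, ← ht, pow_orderOf_eq_one]
  have hρ3 : ρ * ρ * ρ = 1 := by rw [← pow_three', ← hρ, pow_orderOf_eq_one]
  have hinv : ∀ g, τ (τ g) = g := fun g => Subtype.ext (by
    rw [hτ, hτ, show t * (t * (g : G) * t⁻¹) * t⁻¹ = t * t * g * (t * t)⁻¹ by group, ht2]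
    group)
  have hcomm : ∀ g, τ (σ g) = σ (τ g) := fun g => Subtype.ext (by
    rw [hτ, hσ, hσ, hτ, show t * (ρ * (g : G) * ρ⁻¹) * t⁻¹ = t * ρ * g * (t * ρ)⁻¹ by group,
      htρ]
    group)
  have h3 : ∀ g, σ (σ (σ g)) = g := fun g => Subtype.ext (by
    rw [hσ, hσ, hσ, show ρ * (ρ * (ρ * (g : G) * ρ⁻¹) * ρ⁻¹) * ρ⁻¹ =
      ρ * ρ * ρ * g * (ρ * ρ * ρ)⁻¹ by group, hρ3]
    group)
  have hfix : ∀ g, τ g = g ↔ g ∈ V.subgroupOf T := fun g => by
    rw [mem_subgroupOf, ← hCt, Subtype.ext_iff, hτ, mem_inf, mem_centralizer_singleton_iff,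
      mul_inv_eq_iff_eq_mul]
    exact ⟨fun e => ⟨g.2, e.symm⟩, fun e => e.2.symm⟩
  have hcardV : Nat.card (V.subgroupOf T) = 4 := by
    rw [Nat.card_congr (subgroupOfEquivOfLe (hVT.trans inf_le_left)).toEquiv, hV.1]
  -- `ρ` fixes only `1` in `V`
  have hVfix : ∀ g, g ∈ V.subgroupOf T → σ g = g → g = 1 := by
    intro g hg hgfix
    by_contra hg1
    have hnV := mem_normalizer_iff.1 hρn.1
    let f : MulAut V := V.normalizerMonoidHom ⟨ρ, hρn.1⟩
    have hf : ∀ x : V, (f x : G) = ρ * x * ρ⁻¹ := fun x => rfl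
    have hall : ∀ a : V, f a = a := fix_four hV.1 f (fun x => Subtype.ext (by
      rw [hf, hf, hf, show ρ * (ρ * (ρ * (x : G) * ρ⁻¹) * ρ⁻¹) * ρ⁻¹ =
        ρ * ρ * ρ * x * (ρ * ρ * ρ)⁻¹ by group, hρ3]
      group)) (v := ⟨g, hg⟩) (fun e => hg1 (Subtype.ext (show (g : G) = 1 from
        congrArg Subtype.val e))) (Subtype.ext (by
        rw [hf]; exact (hσ g).symm.trans (congrArg Subtype.val hgfix)))
    have hbot : ⁅V, zpowers ρ⁆ = ⊥ := by
      rw [commutator_eq_bot_iff_le_centralizer]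
      intro a ha
      rw [mem_centralizer_iff]
      intro b hb
      have hρa : ρ * a = a * ρ := by
        have := congrArg Subtype.val (hall ⟨a, ha⟩)
        rw [hf] at this
        exact mul_inv_eq_iff_eq_mul.1 this
      obtain ⟨i, rfl⟩ := mem_zpowers_iff.1 hb
      exact ((show Commute ρ a from hρa).zpow_left i).eq
    rw [hVρ] at hbot
    have := hV.1
    rw [hbot, Subgroup.card_bot] at this
    omega
  refine ⟨τ, σ, hT, fun g hg => mem_center_iff.2 fun k => Subtype.ext ?_, hcardV, fun v hv => ?_,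
    hinv, hcomm, hfix, h3, fun g hg => ?_⟩
  · exact mem_centralizer_iff.1 (hVT hg).2 k k.2
  · exact Subtype.ext (by rw [Subgroup.coe_mul, ← pow_two]; exact hV.2 _ hv)
  -- fixed points of `ρ` in `T`
  by_contra hg1
  set C : Subgroup T := σ.toMonoidHom.eqLocus (MonoidHom.id T) with hC
  have hmemC : ∀ x, x ∈ C ↔ σ x = x := fun x => Iff.rfl
  obtain ⟨k, hk⟩ := IsPGroup.iff_card.1 (hT.to_subgroup C)
  obtain ⟨c, hc⟩ := exists_prime_orderOf_dvd_card' 2 (G := C) (by
    rw [hk]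
    refine dvd_pow_self 2 fun hk0 => hg1 ?_
    rw [hk0, pow_zero] at hk
    exact mem_bot.1 (eq_bot_of_card_eq _ hk ▸ (hmemC g).2 hg))
  have hτC : ∀ x ∈ C, τ x ∈ C := fun x hx => (hmemC _).2 (by
    rw [← hcomm, (hmemC x).1 hx])
  have hinj : Function.Injective
      (fun x : C => (⟨(x : T)⁻¹ * τ x, C.mul_mem (C.inv_mem x.2) (hτC _ x.2)⟩ : C)) := by
    intro x y e
    have e' : (x : T)⁻¹ * τ x = (y : T)⁻¹ * τ y := congrArg Subtype.val e
    have hmem : τ ((y : T) * (x : T)⁻¹) = (y : T) * (x : T)⁻¹ := by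
      rw [map_mul, map_inv, eq_comm, eq_mul_inv_iff_mul_eq, mul_assoc, e', mul_inv_cancel_left]
    have h1 := hVfix _ ((hfix _).1 hmem) (by
      rw [map_mul, map_inv, (hmemC _).1 x.2, (hmemC _).1 y.2])
    exact Subtype.ext (mul_inv_eq_one.1 h1).symm
  obtain ⟨x, hx⟩ := Finite.surjective_of_injective hinj c
  have hx' : (x : T)⁻¹ * τ x = c := congrArg Subtype.val hx
  have hc2 : (c : T) * c = 1 := congrArg Subtype.val
    (show c * c = 1 by rw [← pow_two, ← hc]; exact pow_orderOf_eq_one c)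
  have hcfix : τ (c : T) = c := by
    rw [← hx', map_mul, map_inv, hinv, show (τ (x : T))⁻¹ * (x : T) = ((x : T)⁻¹ * τ x)⁻¹ by group,
      hx', inv_eq_of_mul_eq_one_right hc2]
  have hc1 := hVfix _ ((hfix _).1 hcfix) ((hmemC _).1 c.2)
  rw [show c = 1 from Subtype.ext hc1, orderOf_one] at hc
  omega

end H77.FourCent
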