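import Cfsg.Prelude.Def_IsolatedElements
import Mathlib.GroupTheory.Sylow
import Cfsg.Agent.H77.Conj
import Mathlib.GroupTheory.Nilpotent

/-! Isolated `p`-elements. -/

set_option autoImplicit false

namespace H77

variable {G : Type*} [Group G] [Finite G] {p : ℕ} [Fact p.Prime]

omit [Finite G] [Fact p.Prime] in
theorem isPGroup_zpowers {x : G} (hx : ∃ k : ℕ, orderOf x = p ^ k) : IsPGroup p ↥(Subgroup.zpowers x) := by
  obtain ⟨k, hk⟩ := hx
  exact IsPGroup.of_card (n := k) (by rw [Nat.card_zpowers, hk])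

theorem isolated_commute {P : Subgroup G} (hP : IsPGroup p ↥P) {x : G} (hxP : x ∈ P)
    (hiso : Cfsg.IsIsolated x) {y : G} (hy : y ∈ P) : Commute x y := by
  have hnc : NormalizerCondition ↥P := by haveI := hP.isNilpotent; exact normalizerCondition_of_isNilpotent
  set C : Subgroup ↥P := Subgroup.centralizer ({(⟨x, hxP⟩ : ↥P)} : Set ↥P) with hC
  have htop : C = ⊤ := by
    by_contra hne
    obtain ⟨n, hn, hn'⟩ := SetLike.exists_of_lt (hnc C (lt_top_iff_ne_top.2 hne))
    apply hn'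
    have hxC : (⟨x, hxP⟩ : ↥P) ∈ C := Subgroup.mem_centralizer_singleton_iff.2 rfl
    have h1 := (Subgroup.mem_normalizer_iff.1 hn _).1 hxC
    rw [hC, Subgroup.mem_centralizer_singleton_iff] at h1
    have h2 : Commute x ((n : G) * x * (n : G)⁻¹) := by
      have := congrArg (Subtype.val) h1
      simp only [Subgroup.coe_mul, Subgroup.coe_inv] at this
      exact this.symm
    have h3 := hiso (n : G) h2
    rw [hC, Subgroup.mem_centralizer_singleton_iff]
    apply Subtype.ext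
    simp only [Subgroup.coe_mul]
    calc (n : G) * x = ((n : G) * x * (n : G)⁻¹) * n := by group
      _ = x * n := by rw [h3]
  have : (⟨y, hy⟩ : ↥P) ∈ C := htop ▸ Subgroup.mem_top _
  rw [hC, Subgroup.mem_centralizer_singleton_iff] at this
  exact (congrArg Subtype.val this).symm

theorem isolated_conj_eq {P : Subgroup G} (hP : IsPGroup p ↥P) {x g : G} (hxP : x ∈ P)
    (hgP : g * x * g⁻¹ ∈ P) (hiso : Cfsg.IsIsolated x) : g * x * g⁻¹ = x :=
  hiso g (isolated_commute hP hxP hiso hgP)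

/-- An isolated `p`-element and a conjugate of it inside a subgroup `H` are conjugate in `H`. -/
theorem isolated_exists_fix {H : Subgroup G} {x g : G} (hx : ∃ k : ℕ, orderOf x = p ^ k)
    (hxH : x ∈ H) (hgH : g * x * g⁻¹ ∈ H) (hiso : Cfsg.IsIsolated x) :
    ∃ h ∈ H, (h * g) * x * (h * g)⁻¹ = x := by
  obtain ⟨P, hP⟩ := ((isPGroup_zpowers hx).comap_subtype (K := H)).exists_le_sylow
  have hg : ∃ k : ℕ, orderOf (g * x * g⁻¹) = p ^ k := by
    obtain ⟨k, hk⟩ := hx
    refine ⟨k, ?_⟩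
    rw [← hk]
    exact orderOf_injective (MulAut.conj g).toMonoidHom (MulAut.conj g).injective x
  obtain ⟨Q, hQ⟩ := ((isPGroup_zpowers hg).comap_subtype (K := H)).exists_le_sylow
  obtain ⟨h, hh⟩ := MulAction.exists_smul_eq (↥H) Q P
  refine ⟨(h : G), h.2, ?_⟩
  have hxP : x ∈ (P : Subgroup ↥H).map H.subtype :=
    ⟨⟨x, hxH⟩, hP (by simp [Subgroup.mem_subgroupOf]), rfl⟩
  have hgP : ((h : G) * g) * x * ((h : G) * g)⁻¹ ∈ (P : Subgroup ↥H).map H.subtype := by
    refine ⟨h * ⟨g * x * g⁻¹, hgH⟩ * h⁻¹, ?_, by simp [mul_assoc]⟩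
    rw [← hh, sylow_smul_coe]
    exact conj_mem_cmap (hQ (by simp [Subgroup.mem_subgroupOf]))
  exact isolated_conj_eq (P.2.map _) hxP hgP hiso

end H77
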