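import Cfsg.Agent.H77.JPairNC

/-!
`T` is not a Sylow 2-subgroup of `G`: the two components are exchanged by `u ∈ N_S(T) \ T`.
-/

set_option autoImplicit false

namespace H77

variable {G : Type*} [Group G]

/-- An outside component whose top contains `T`. -/
structure Nice (M T K L : Subgroup G) : Prop where
  comp : Cfsg.IsJComponent T K
  out : ¬ K ≤ M
  top : IsTop T K L
  T_le : T ≤ L

variable [Finite G]

theorem omegaCenterOf_ne_bot {S : Subgroup G} (hS : IsPGroup 2 ↥S) (hS1 : S ≠ ⊥) :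
    Cfsg.omegaCenterOf S ≠ ⊥ := by
  haveI : Fact (Nat.Prime 2) := ⟨Nat.prime_two⟩
  haveI : Nontrivial ↥S := (Subgroup.nontrivial_iff_ne_bot S).2 hS1
  have hZ1 : Nontrivial ↥(Subgroup.center ↥S) := hS.center_nontrivial
  obtain ⟨n, hn0, hn⟩ := (hS.to_subgroup (Subgroup.center ↥S)).nontrivial_iff_card.1 hZ1
  obtain ⟨⟨x, hx⟩, hx2⟩ := exists_prime_orderOf_dvd_card' (G := ↥(Subgroup.center ↥S)) 2
    (hn ▸ dvd_pow_self 2 hn0.ne')
  rw [Subgroup.orderOf_mk, ← Subgroup.orderOf_coe] at hx2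
  intro h0
  have hmem : (x : G) ∈ Cfsg.omegaCenterOf S := mem_omegaCenterOf.2 ⟨x.2,
    fun y hy => congrArg Subtype.val (Subgroup.mem_center_iff.1 hx ⟨y, hy⟩),
    by rw [← sq, ← hx2, pow_orderOf_eq_one]⟩
  rw [h0, Subgroup.mem_bot] at hmem
  rw [hmem, orderOf_one] at hx2
  omega

theorem eq_of_mem_card_two {A : Subgroup G} (hA : Nat.card ↥A = 2) {y x : G} (hy : y ∈ A) (hy1 : y ≠ 1)
    (hx : x ∈ A) : x = 1 ∨ x = y := by
  have hset : ({1, y} : Set G) = (A : Set G) := by
    refine Set.eq_of_subset_of_ncard_le ?_ ?_ (Set.toFinite _)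
    · rintro v (rfl | rfl)
      · exact A.one_mem
      · exact hy
    · rw [← Nat.card_coe_set_eq, SetLike.coe_sort_coe, hA, Set.ncard_pair (Ne.symm hy1)]
  have : x ∈ ({1, y} : Set G) := hset ▸ hx
  simpa using this

theorem exists_ne_one_of_card_two {A : Subgroup G} (hA : Nat.card ↥A = 2) : ∃ y ∈ A, y ≠ 1 :=
  (Subgroup.bot_or_exists_ne_one A).resolve_left fun h0 => by rw [h0, Subgroup.card_bot] at hA; omega

theorem vK_eq_wOf_sup_yOf {T K : Subgroup G} (hT : IsPGroup 2 ↥T) (hK : Cfsg.IsJComponent T K) :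
    vK T K = Cfsg.wOf K ⊔ yOf T K := by
  refine le_antisymm (fun x hx => ?_) (sup_le le_sup_left (yOf_le.trans le_sup_right))
  obtain ⟨w, hw, y, hy, rfl⟩ := mem_vK hT hK hx
  exact mul_mem (Subgroup.mem_sup_left hw) (Subgroup.mem_sup_right hy)

namespace Nice

variable {M T K L : Subgroup G} (n : Nice M T K L) (h : MCtx M T)
include n h

theorem ctx : JCtx T L := h.ctx_of_T_le n.top.maxLocal.1 (h.top_not_le n.out n.top) n.T_le

theorem uniq {L' : Subgroup G} (hL' : IsTop T K L') : L' = L := h.top_unique n.comp n.out hL' n.top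

end Nice

theorem MCtx.exists_nice {M T : Subgroup G} (h : MCtx M T) : ∃ K L, Nice M T K L := by
  obtain ⟨K, hK⟩ := h.exists_outside
  obtain ⟨L, hL, hTL, -⟩ := h.exists_top_T hK
  exact ⟨K, L, hK.1.1, hK.2.1, hL, hTL⟩

/-- The situation `T < S`. -/
structure ACtx (M T : Subgroup G) (S : Sylow 2 G) (u : G) (K L : Subgroup G) : Prop where
  mctx : MCtx M T
  T_le_S : T ≤ (S : Subgroup G)
  S_M : Subgroup.normalizer (Cfsg.thompsonSubgroupOf 2 (S : Subgroup G) : Set G) ≤ M
  u_mem : u ∈ (S : Subgroup G)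
  u_norm : u ∈ Subgroup.normalizer (T : Set G)
  u_not : u ∉ T
  nice : Nice M T K L

theorem exists_u {T : Subgroup G} {S : Sylow 2 G} (hTS : T ≤ (S : Subgroup G)) (hne : T ≠ (S : Subgroup G)) :
    ∃ u ∈ (S : Subgroup G), u ∈ Subgroup.normalizer (T : Set G) ∧ u ∉ T := by
  haveI : Fact (Nat.Prime 2) := ⟨Nat.prime_two⟩
  obtain ⟨u, hu, huT⟩ := SetLike.exists_of_lt (normalizer_inf_gt S.2 (lt_of_le_of_ne hTS hne))
  exact ⟨u, (Subgroup.mem_inf.1 hu).1, (Subgroup.mem_inf.1 hu).2, huT⟩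

namespace ACtx

variable {M T : Subgroup G} {S : Sylow 2 G} {u : G} {K L : Subgroup G} (a : ACtx M T S u K L)
include a

theorem u_J : u ∈ Subgroup.normalizer (Cfsg.thompsonSubgroupOf 2 T : Set G) :=
  normalizer_le_normalizer_thompson T a.u_norm

theorem u_M : u ∈ M := a.mctx.normalizer_J_le a.u_J

theorem inter_top : (S : Subgroup G) ⊓ L = T :=
  sylTwo_inf_sylow (a.nice.ctx a.mctx).sylT a.T_le_S

theorem u_not_L : u ∉ L := fun hu => a.u_not (a.inter_top ▸ Subgroup.mem_inf.2 ⟨a.u_mem, hu⟩)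

theorem nice_u : Nice M T (cmap u K) (cmap u L) :=
  ⟨a.mctx.cmap_comp a.nice.comp a.u_J, a.mctx.cmap_not_le a.nice.out a.u_M, isTop_cmap a.u_J a.nice.top,
    (cmap_eq_of_mem_normalizer a.u_norm).symm.le.trans (cmap_mono u a.nice.T_le)⟩

theorem shift : ACtx M T S u (cmap u K) (cmap u L) :=
  ⟨a.mctx, a.T_le_S, a.S_M, a.u_mem, a.u_norm, a.u_not, a.nice_u⟩

theorem top_ne : L ≠ cmap u L := fun he =>
  a.u_not_L (maximalTwoLocal_normalizer_le a.nice.top.maxLocal (mem_normalizer_of_cmap_eq he.symm))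

theorem small : Nat.card ↥(zOf T) ≤ 4 :=
  a.mctx.card_zOf_le_four a.nice.comp a.nice.out a.nice.top a.nice_u.comp a.nice_u.out a.nice_u.top a.top_ne

theorem card_yOf_le : Nat.card ↥(yOf T K) ≤ 2 := by
  have h1 := card_zOf_eq a.mctx.T_pgroup a.nice.comp
  have h2 := a.small
  omega

/-- `K` is the only outside component in its top. -/
theorem single {K' : Subgroup G} (hK' : Cfsg.IsJComponent T K') (hK'M : ¬ K' ≤ M) (hK'L : K' ≤ L) : K' = K := by
  by_contra hne
  have hT := a.mctx.T_pgroup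
  have htop' : IsTop T K' L := ⟨a.nice.top.maxLocal, hK'L, a.nice.top.J_le⟩
  obtain ⟨z, hz⟩ := exists_pt hT a.nice.comp
  obtain ⟨z', hz'⟩ := exists_pt hT hK'
  have h1 : z' ∈ yOf T K :=
    a.mctx.same_top a.nice.comp a.nice.out a.nice.top hK' hK'L (Ne.symm hne) hz'
  have h2 : z ∈ yOf T K' := a.mctx.same_top hK' hK'M htop' a.nice.comp a.nice.top.comp_le hne hz
  have hzz : z ≠ z' := fun e => pt_not_mem_yOf a.nice.comp hz (e ▸ h1)
  have hd : ∀ {K1 K2 : Subgroup G}, Cfsg.IsJComponent T K1 → ¬ K1 ≤ M → IsTop T K1 L →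
      Cfsg.IsJComponent T K2 → ¬ K2 ≤ M → IsTop T K2 L →
      ∀ x ∈ yOf T K1, ∀ x' ∈ yOf T K2, x ≠ 1 → u * x' * u⁻¹ ≠ x := by
    intro K1 K2 hc1 hm1 ht1 hc2 hm2 ht2 x hx x' hx' hx1 e
    refine a.top_ne (a.mctx.top_eq_of_common hc1 hm1 ht1 (a.mctx.cmap_comp hc2 a.u_J)
      (a.mctx.cmap_not_le hm2 a.u_M) (isTop_cmap a.u_J ht2) hx ?_ hx1)
    rw [yOf_cmap a.u_J, ← e]
    exact conj_mem_cmap hx'
  have e1 := hd a.nice.comp a.nice.out a.nice.top a.nice.comp a.nice.out a.nice.top z' h1 z' h1 hz'.ne_one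
  have e2 := hd a.nice.comp a.nice.out a.nice.top hK' hK'M htop' z' h1 z h2 hz'.ne_one
  have e3 := hd hK' hK'M htop' a.nice.comp a.nice.out a.nice.top z h2 z' h1 hz.ne_one
  have e4 := hd hK' hK'M htop' hK' hK'M htop' z h2 z h2 hz.ne_one
  set p := u * z * u⁻¹ with hp
  set q := u * z' * u⁻¹ with hq
  have hpq : p ≠ q := fun e => hzz (mul_left_cancel (mul_right_cancel e))
  have hp1 : p ≠ 1 := fun e => hz.ne_one (conj_eq_one_iff.1 e)
  have hq1 : q ≠ 1 := fun e => hz'.ne_one (conj_eq_one_iff.1 e)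
  have hsub : ({1, z, z', p, q} : Set G) ⊆ (zOf T : Set G) := by
    rintro x (rfl | rfl | rfl | rfl | rfl)
    · exact Subgroup.one_mem _
    · exact hz.mem_Z
    · exact hz'.mem_Z
    · exact (zOf_cmap a.u_J) ▸ conj_mem_cmap hz.mem_Z
    · exact (zOf_cmap a.u_J) ▸ conj_mem_cmap hz'.mem_Z
  have h5 : ({1, z, z', p, q} : Set G).ncard = 5 := by
    rw [Set.ncard_insert_of_notMem (by
        simp [Ne.symm hz.ne_one, Ne.symm hz'.ne_one, Ne.symm hp1, Ne.symm hq1]) (Set.toFinite _),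
      Set.ncard_eq_four.2 ⟨z, z', p, q, hzz, Ne.symm e4, Ne.symm e3, Ne.symm e2, Ne.symm e1, hpq, rfl⟩]
  have h3 := Set.ncard_le_ncard hsub (Set.toFinite _)
  rw [h5, ← Nat.card_coe_set_eq, SetLike.coe_sort_coe] at h3
  have := a.small
  omega

theorem norm : T ≤ Subgroup.normalizer (K : Set G) := by
  intro t ht
  have htJ := normalizer_le_normalizer_thompson T (Subgroup.le_normalizer ht)
  refine mem_normalizer_of_cmap_eq (a.single (a.mctx.cmap_comp a.nice.comp htJ)
    (a.mctx.cmap_not_le a.nice.out (a.mctx.T_le ht)) ?_)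
  exact (cmap_mono t a.nice.top.comp_le).trans
    (cmap_eq_of_mem_normalizer (Subgroup.le_normalizer (a.nice.T_le ht))).le

theorem central : ∀ x ∈ zOf T, ∀ t ∈ T, t * x = x * t :=
  a.mctx.central_of_normalizes a.nice.comp a.small a.norm

theorem norm1 : Norm1 T K L := ⟨a.nice.ctx a.mctx, a.nice.comp, a.nice.top.comp_le, a.norm, a.central⟩

theorem omega_T : Cfsg.omegaCenterOf T = zOf T := omegaCenterOf_eq_zOf a.central

theorem omega_S_le : Cfsg.omegaCenterOf (S : Subgroup G) ≤ zOf T :=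
  (a.mctx.omega_sylow_le a.T_le_S).trans (omegaCenterOf_le_zOf T)

theorem omega_S_ne : Cfsg.omegaCenterOf (S : Subgroup G) ≠ ⊥ :=
  omegaCenterOf_ne_bot S.2 fun h0 => a.mctx.T_ne (le_bot_iff.1 (h0 ▸ a.T_le_S))

theorem eq_two (h2 : Nat.card ↥(zOf T) = 2) : Cfsg.omegaCenterOf (S : Subgroup G) = zOf T := by
  refine Subgroup.eq_of_le_of_card_ge a.omega_S_le ?_
  have h1 : Nat.card ↥(Cfsg.omegaCenterOf (S : Subgroup G)) ≠ 1 := fun e =>
    a.omega_S_ne (Subgroup.card_eq_one.1 e)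
  have h0 : 0 < Nat.card ↥(Cfsg.omegaCenterOf (S : Subgroup G)) := Nat.card_pos
  omega

/-- The three points of `Z₀` when it has order 4. -/
theorem four_points (h4 : Nat.card ↥(zOf T) = 4) :
    ∃ y c, y ∈ yOf T K ∧ y ≠ 1 ∧ c ∈ Cfsg.omegaCenterOf (S : Subgroup G) ∧ c ≠ 1 ∧ u * c * u⁻¹ = c ∧
      u * y * u⁻¹ ≠ y ∧ c ≠ y ∧ c ≠ u * y * u⁻¹ ∧ u * (u * y * u⁻¹) * u⁻¹ = y ∧
      (∀ x ∈ zOf T, x = 1 ∨ x = y ∨ x = u * y * u⁻¹ ∨ x = c) ∧
      ∀ x ∈ Cfsg.omegaCenterOf (S : Subgroup G), x = 1 ∨ x = c := by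
  have hY : Nat.card ↥(yOf T K) = 2 := by
    have := card_zOf_eq a.mctx.T_pgroup a.nice.comp
    omega
  obtain ⟨y, hy, hy1⟩ := exists_ne_one_of_card_two hY
  obtain ⟨c, hc, hc1⟩ := (Subgroup.bot_or_exists_ne_one _).resolve_left a.omega_S_ne
  have hcS : ∀ x ∈ Cfsg.omegaCenterOf (S : Subgroup G), u * x * u⁻¹ = x := fun x hx => by
    rw [(mem_omegaCenterOf.1 hx).2.1 u a.u_mem, mul_inv_cancel_right]
  set y' := u * y * u⁻¹ with hy'
  have hy'Y : y' ∈ yOf T (cmap u K) := by rw [yOf_cmap a.u_J]; exact conj_mem_cmap hy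
  have hne : y' ≠ y := fun e => a.top_ne (a.mctx.top_eq_of_common a.nice.comp a.nice.out a.nice.top
    a.nice_u.comp a.nice_u.out a.nice_u.top hy (e ▸ hy'Y) hy1)
  have hy'1 : y' ≠ 1 := fun e => hy1 (conj_eq_one_iff.1 e)
  have hcy : c ≠ y := fun e => hne (by rw [hy', ← e, hcS c hc])
  have hcy' : c ≠ y' := by
    intro e
    have e1 := hcS c hc
    rw [e, hy'] at e1
    exact hne (mul_left_cancel (mul_right_cancel e1))
  have hy'Z : y' ∈ zOf T := yOf_le hy'Y
  have hset : ({1, y, y', c} : Set G) = (zOf T : Set G) := by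
    refine Set.eq_of_subset_of_ncard_le ?_ ?_ (Set.toFinite _)
    · rintro x (rfl | rfl | rfl | rfl)
      · exact Subgroup.one_mem _
      · exact yOf_le hy
      · exact hy'Z
      · exact a.omega_S_le hc
    · rw [← Nat.card_coe_set_eq, SetLike.coe_sort_coe, h4]
      exact le_of_eq (Set.ncard_eq_four.2 ⟨1, y, y', c, Ne.symm hy1, Ne.symm hy'1, Ne.symm hc1, Ne.symm hne,
        Ne.symm hcy, Ne.symm hcy', rfl⟩).symm
  have hall : ∀ x ∈ zOf T, x = 1 ∨ x = y ∨ x = y' ∨ x = c := fun x hx => by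
    have : x ∈ ({1, y, y', c} : Set G) := hset ▸ hx
    simpa using this
  refine ⟨y, c, hy, hy1, hc, hc1, hcS c hc, hne, hcy, hcy', ?_, hall, fun x hx => ?_⟩
  · rcases hall _ ((zOf_cmap a.u_J) ▸ conj_mem_cmap hy'Z) with e | e | e | e
    · exact absurd (conj_eq_one_iff.1 e) hy'1
    · exact e
    · exact absurd (mul_left_cancel (mul_right_cancel (e.trans hy'))) hne
    · exact absurd (mul_left_cancel (mul_right_cancel (e.trans (hcS c hc).symm))) (Ne.symm hcy')
  · rcases hall x (a.omega_S_le hx) with e | e | e | e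
    · exact Or.inl e
    · exact absurd (by rw [hy', ← e, hcS x hx]) hne
    · exact absurd (mul_left_cancel (mul_right_cancel ((hcS x hx).trans e) ) |>.symm.trans e).symm hne
    · exact Or.inr e

theorem only_two (h4 : Nat.card ↥(zOf T) = 4) {K' : Subgroup G} (hK' : Cfsg.IsJComponent T K')
    (hK'M : ¬ K' ≤ M) : K' = K ∨ K' = cmap u K := by
  obtain ⟨y, c, hy, hy1, -, -, -, -, -, -, -, hall, hZ⟩ := a.four_points h4
  obtain ⟨L', hL'⟩ := a.mctx.exists_top hK'
  obtain ⟨x, hx, hx1⟩ := exists_ne_one_of_card_two (A := yOf T K') (by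
    have := card_zOf_eq a.mctx.T_pgroup hK'
    omega)
  rcases hall x (yOf_le hx) with e | e | e | e
  · exact absurd e hx1
  · subst e
    have := a.mctx.top_eq_of_common a.nice.comp a.nice.out a.nice.top hK' hK'M hL' hy hx hx1
    exact Or.inl (a.single hK' hK'M (this ▸ hL'.comp_le))
  · subst e
    have := a.mctx.top_eq_of_common a.nice_u.comp a.nice_u.out a.nice_u.top hK' hK'M hL'
      (yOf_cmap a.u_J ▸ conj_mem_cmap hy) hx hx1
    exact Or.inr (a.shift.single hK' hK'M (this ▸ hL'.comp_le))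
  · subst e
    refine absurd (fun w hw => ?_) (a.mctx.omega_sylow_not_le_yOf a.S_M hK'M)
    rcases hZ w hw with e | e <;> subst e
    · exact Subgroup.one_mem _
    · exact hx

theorem cmap_cmap_eq (h4 : Nat.card ↥(zOf T) = 4) : cmap u (cmap u K) = K := by
  refine (a.only_two h4 a.shift.nice_u.comp a.shift.nice_u.out).resolve_right fun e => ?_
  have h1 := a.shift.top_ne
  refine h1 (a.shift.nice.uniq a.mctx ?_).symm
  have h2 := a.shift.nice_u.top
  rwa [e] at h2

theorem relIndex_two (h4 : Nat.card ↥(zOf T) = 4) :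
    (L ⊓ Subgroup.centralizer (zOf T : Set G)).relIndex (Subgroup.normalizer (zOf T : Set G)) = 2 := by
  haveI : Fact (Nat.Prime 2) := ⟨Nat.prime_two⟩
  obtain ⟨y, c, hy, hy1, hcS, hc1, huc, hne, hcy, hcy', huu, hall, -⟩ := a.four_points h4
  set y' := u * y * u⁻¹ with hy'
  set H := L ⊓ Subgroup.centralizer (zOf T : Set G) with hH
  have hy'Y : y' ∈ yOf T (cmap u K) := by rw [yOf_cmap a.u_J]; exact conj_mem_cmap hy
  have hinj : ∀ (g : G) {p q : G}, g * p * g⁻¹ = g * q * g⁻¹ → p = q := fun g p q e =>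
    mul_left_cancel (mul_right_cancel e)
  -- no element of `N(Z₀)` moves `c`
  have hcfix : ∀ g ∈ Subgroup.normalizer (zOf T : Set G), g * c * g⁻¹ = c := by
    intro g hg
    have hcy1 : ∀ {K1 L1 : Subgroup G}, ACtx M T S u K1 L1 → ∀ x ∈ yOf T K1, x ≠ 1 → g * c * g⁻¹ ≠ x := by
      intro K1 L1 a1 x hx hx1 e
      have hSL : cmap g (S : Subgroup G) ≤ L1 := by
        refine le_trans ?_ (a1.mctx.centralizer_le_top a1.nice.comp a1.nice.out a1.nice.top hx hx1)
        rintro _ ⟨s, hs, rfl⟩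
        rw [Subgroup.mem_centralizer_singleton_iff, ← e]
        show g * s * g⁻¹ * (g * c * g⁻¹) = g * c * g⁻¹ * (g * s * g⁻¹)
        calc g * s * g⁻¹ * (g * c * g⁻¹) = g * (s * c) * g⁻¹ := by group
          _ = g * (c * s) * g⁻¹ := by rw [(mem_omegaCenterOf.1 hcS).2.1 s hs]
          _ = _ := by group
      obtain ⟨x', -, hle⟩ := exists_cmap_le_sylTwo (a1.nice.ctx a1.mctx).sylT
        (S.2.map _ : IsPGroup 2 ↥(cmap g (S : Subgroup G))) hSL
      have h1 := Nat.le_of_dvd Nat.card_pos (Subgroup.card_dvd_of_le hle)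
      rw [card_cmap, card_cmap] at h1
      exact a1.u_not ((Subgroup.eq_of_le_of_card_ge a1.T_le_S h1).symm ▸ a1.u_mem)
    rcases hall _ ((Subgroup.mem_normalizer_iff.1 hg c).1 (a.omega_S_le hcS)) with e | e | e | e
    · exact absurd (conj_eq_one_iff.1 e) hc1
    · exact absurd e (hcy1 a y hy hy1)
    · exact absurd e (hcy1 a.shift y' hy'Y (fun e1 => hy1 (conj_eq_one_iff.1 e1)))
    · exact e
  have hfix : ∀ g ∈ Subgroup.normalizer (zOf T : Set G), g * y * g⁻¹ = y → g ∈ H := by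
    intro g hg hgy
    have hC : g ∈ Subgroup.centralizer (zOf T : Set G) := by
      refine Subgroup.mem_centralizer_iff.2 fun x hx => ?_
      symm
      rw [← mul_inv_eq_iff_eq_mul]
      rcases hall x hx with e | e | e | e
      · rw [e]; group
      · rw [e]; exact hgy
      · subst e
        rcases hall _ ((Subgroup.mem_normalizer_iff.1 hg y').1 hx) with e | e | e | e
        · exact absurd (conj_eq_one_iff.1 (conj_eq_one_iff.1 e)) hy1
        · exact absurd (hinj g (e.trans hgy.symm)) hne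
        · exact e
        · exact absurd (hinj g (e.trans (hcfix g hg).symm)) (Ne.symm hcy')
      · rw [e]; exact hcfix g hg
    refine Subgroup.mem_inf.2 ⟨a.mctx.centralizer_le_top a.nice.comp a.nice.out a.nice.top hy hy1 ?_, hC⟩
    exact Subgroup.mem_centralizer_singleton_iff.2 (mul_inv_eq_iff_eq_mul.1 hgy)
  have huN : u ∈ Subgroup.normalizer (zOf T : Set G) := normalizer_le_normalizer_omegaCenterOf _ a.u_J
  have huH : u ∉ H := fun hu => hne (by
    rw [hy', ← Subgroup.mem_centralizer_iff.1 (Subgroup.mem_inf.1 hu).2 y (yOf_le hy), mul_inv_cancel_right])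
  rw [Subgroup.relIndex, Subgroup.index_eq_two_iff]
  refine ⟨⟨u, huN⟩, fun b => ?_⟩
  simp only [Subgroup.mem_subgroupOf, Subgroup.coe_mul]
  have hb := b.2
  rcases hall _ ((Subgroup.mem_normalizer_iff.1 hb y).1 (yOf_le hy)) with e | e | e | e
  · exact absurd (conj_eq_one_iff.1 e) hy1
  · exact Or.inr ⟨hfix b hb e, fun h1 => huH (by
      have := H.mul_mem (H.inv_mem (hfix b hb e)) h1
      rwa [inv_mul_cancel_left] at this)⟩
  · have hbu : (b : G) * u ∈ H := by
      refine hfix _ (mul_mem hb huN) ?_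
      rw [show (b : G) * u * y * ((b : G) * u)⁻¹ = b * y' * (b : G)⁻¹ by rw [hy']; group]
      rcases hall _ ((Subgroup.mem_normalizer_iff.1 hb y').1 (yOf_le hy'Y)) with e' | e' | e' | e'
      · exact absurd (conj_eq_one_iff.1 (conj_eq_one_iff.1 e')) hy1
      · exact e'
      · exact absurd (hinj (b : G) (e'.trans e.symm)) hne
      · exact absurd (hinj (b : G) (e'.trans (hcfix b hb).symm)) (Ne.symm hcy')
    exact Or.inl ⟨hbu, fun h1 => huH (by
      have := H.mul_mem (H.inv_mem h1) hbu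
      rwa [inv_mul_cancel_left] at this)⟩
  · exact absurd (hinj (b : G) (e.trans (hcfix b hb).symm)) (Ne.symm hcy)

theorem jpair : JPair T (fun i => cond i K (cmap u K)) (fun i => cond i L (cmap u L)) where
  side i := by cases i <;> [exact a.shift.norm1; exact a.norm1]
  top i := by cases i <;> [exact a.nice_u.top; exact a.nice.top]
  uniq i L' h' := by cases i <;> [exact a.nice_u.uniq a.mctx h'; exact a.nice.uniq a.mctx h']
  ne := a.top_ne
  small := a.small

theorem swap_data (h4 : Nat.card ↥(zOf T) = 4) (i : Bool) :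
    cmap u (cond i K (cmap u K)) = cond (!i) K (cmap u K) := by
  cases i
  · exact a.cmap_cmap_eq h4
  · rfl

theorem exists_nc : NC T K (cmap u K) := by
  have hT := a.mctx.T_pgroup
  have hp := a.jpair
  rcases card_zOf_two_or_four hT a.nice.comp a.small with h2 | h4
  · refine hp.nc_of_pts fun i hm => ?_
    have hc : Cfsg.IsJComponent T (cond (!i) K (cmap u K)) := (hp.side (!i)).comp
    have h1 := card_zOf_eq hT hc
    have hY : yOf T (cond (!i) K (cmap u K)) = ⊥ := Subgroup.card_eq_one.1 (by omega)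
    exact (hp.side i).pt.ne_one (Subgroup.mem_bot.1 (hY ▸ hm))
  set Ki : Bool → Subgroup G := fun i => cond i K (cmap u K) with hKi
  set Li : Bool → Subgroup G := fun i => cond i L (cmap u L) with hLi
  have hcm : ∀ i, cmap u (Ki i) = Ki (!i) := a.swap_data h4
  have hpt : ∀ i, u * ptOf T (Ki i) * u⁻¹ = ptOf T (Ki (!i)) := by
    intro i
    have h1 := isPt_cmap a.u_J (hp.side i).pt
    rw [hcm i] at h1
    exact (eq_pt_of_mem hT (hp.side (!i)).comp (hp.side (!i)).pt h1.mem_Z h1.mem_W).resolve_left h1.ne_one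
  have hY : ∀ i, yOf T (Ki (!i)) = cmap u (yOf T (Ki i)) := fun i => by rw [← hcm i, yOf_cmap a.u_J]
  have hV : ∀ i, vK T (Ki (!i)) = cmap u (vK T (Ki i)) := fun i => by rw [← hcm i, vK_cmap a.u_J]
  by_cases hy : ∀ i, ptOf T (Ki i) ∈ yOf T (Ki (!i))
  swap
  · refine hp.nc_of_pts fun i hm => hy fun j => ?_
    rcases Bool.eq_or_eq_not j i with rfl | rfl
    · exact hm
    · rw [← hpt i, hY (!i)]
      exact conj_mem_cmap hm
  by_contra hno
  obtain ⟨-, i, -, g, k, hgz, x, hx, v, hv, hxv⟩ := hp.amalgam.noncomm_or_crit.resolve_left hno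
  set c := !i with hc
  have hY2 : ∀ j, Nat.card ↥(yOf T (Ki j)) = 2 := fun j => by
    have := card_zOf_eq hT (hp.side j).comp
    omega
  have htopj : ∀ j, ¬ Ki j ≤ M := fun j => by cases j <;> [exact a.nice_u.out; exact a.nice.out]
  have hCy : ∀ j, Subgroup.centralizer ({ptOf T (Ki j)} : Set G) ≤ Li (!j) := fun j =>
    a.mctx.centralizer_le_top (hp.side (!j)).comp (htopj _) (hp.top (!j)) (hy j) (hp.side j).pt.ne_one
  -- the conjugating element can be taken in the top of `K_c`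
  obtain ⟨l, hl, hxl⟩ : ∃ l ∈ Li c, x ∈ cmap l (vK T (Ki i)) := by
    rcases Bool.eq_or_eq_not k i with rfl | rfl
    · exact ⟨g, hCy k (Subgroup.mem_centralizer_singleton_iff.2 (mul_inv_eq_iff_eq_mul.1 hgz)), hx⟩
    · refine ⟨g * u, hCy i (Subgroup.mem_centralizer_singleton_iff.2 (mul_inv_eq_iff_eq_mul.1 ?_)), ?_⟩
      · show g * u * ptOf T (Ki i) * (g * u)⁻¹ = ptOf T (Ki i)
        rw [show g * u * ptOf T (Ki i) * (g * u)⁻¹ = g * (u * ptOf T (Ki i) * u⁻¹) * g⁻¹ by group, hpt]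
        exact hgz
      · rw [← cmap_cmap, ← hV i]
        exact hx
  -- reduce to `K_c`
  set Lc := Li c
  set Kc := Ki c
  set H := (Lc ⊓ Subgroup.normalizer (vK T (Ki i) : Set G)) ⊓ Subgroup.normalizer (Kc : Set G) with hH
  have hctxc : JCtx T Lc := (hp.side c).ctx
  have hsingle : ∀ (j : Bool) {K' : Subgroup G}, Cfsg.IsJComponent T K' → ¬ K' ≤ M → K' ≤ Li j → K' = Ki j := by
    intro j K' h1 h2 h3
    cases j <;> [exact a.shift.single h1 h2 h3; exact a.single h1 h2 h3]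
  have hle : Lc ≤ H ⊔ Kc := by
    refine hctxc.le_sup_components.trans (sup_le (fun q hq => ?_) (iSup_le fun K'' => ?_))
    · obtain ⟨hqL, hqJ⟩ := Subgroup.mem_inf.1 hq
      have hqM := a.mctx.normalizer_J_le hqJ
      have hqc : cmap q Kc = Kc := hsingle c (a.mctx.cmap_comp (hp.side c).comp hqJ)
        (a.mctx.cmap_not_le (htopj c) hqM)
        ((cmap_mono q (hp.side c).le).trans (cmap_eq_of_mem_normalizer (Subgroup.le_normalizer hqL)).le)
      have hqi : cmap q (Ki i) = Ki i := by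
        have h1 := a.only_two h4 (a.mctx.cmap_comp (hp.side i).comp hqJ) (a.mctx.cmap_not_le (htopj i) hqM)
        have hne : cmap q (Ki i) ≠ Kc := fun e => by
          have e2 : Ki i = Ki (!i) := Subgroup.map_injective (MulAut.conj q).injective (e.trans hqc.symm)
          exact hp.ne (by
            have e3 : Li i = Li (!i) := hp.uniq (!i) (Li i) (e2 ▸ hp.top i)
            cases i <;> [exact e3.symm; exact e3])
        rcases h1 with e | e <;> rcases i with _ | _
        · exact absurd e hne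
        · exact e
        · exact e
        · exact absurd e hne
      refine Subgroup.mem_sup_left (Subgroup.mem_inf.2 ⟨Subgroup.mem_inf.2 ⟨hqL,
        mem_normalizer_of_cmap_eq ?_⟩, mem_normalizer_of_cmap_eq hqc⟩)
      rw [← vK_cmap hqJ, hqi]
    · by_cases he : (K'' : Subgroup G) = Kc
      · exact he.le.trans le_sup_right
      refine le_trans ?_ le_sup_left
      have hn : (K'' : Subgroup G) ≤ Subgroup.normalizer (Kc : Set G) :=
        hctxc.comp_le_normalizer (hp.side c).comp (hp.side c).le K''.2.1 K''.2.2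
      -- `K''` centralises `W_{Kc}` and the point of `Kᵢ`
      have h1 := hctxc.comp_disjoint K''.2.1 K''.2.2 (hp.side c).comp (hp.side c).le he
      have h2 := hctxc.comp_disjoint (hp.side c).comp (hp.side c).le K''.2.1 K''.2.2 (Ne.symm he)
      have hKLi : (K'' : Subgroup G) ≤ Li i := by
        have h3 := hCy c
        rw [hc, Bool.not_not] at h3
        exact fun q hq => h3 (Subgroup.mem_centralizer_singleton_iff.2 (h1.1 q hq _ (hp.side c).pt.mem_W))
      have hYi : ∀ q ∈ (K'' : Subgroup G), ∀ w ∈ yOf T (Ki i), q * w = w * q := by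
        intro q hq w hw
        have h3 := hy c
        rw [hc, Bool.not_not] at h3
        rcases eq_of_mem_card_two (hY2 i) h3 (hp.side c).pt.ne_one hw with e | e <;> rw [e]
        · simp
        · exact h1.1 q hq _ (hp.side c).pt.mem_W
      refine le_inf (le_inf K''.2.2 ?_) hn
      rw [vK_eq_wOf_sup_yOf hT (hp.side i).comp]
      refine sup_le_normalizer_sup (((hp.side i).ctx.comp_le_normalizer (hp.side i).comp (hp.side i).le K''.2.1
        hKLi).trans (normalizer_le_normalizer_wOf _)) fun q hq => mem_normalizer_of_forall fun w hw => ?_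
      rw [hYi q hq w hw, mul_inv_cancel_right]
      exact hw
  obtain ⟨b, hb, k', hk', rfl⟩ := exists_mul_of_mem_sup (inf_le_right : H ≤ Subgroup.normalizer (Kc : Set G))
    (hle hl)
  have hxc : ∃ p ∈ Kc ⊔ T, ∃ x ∈ cmap p (vK T (Ki i)), ∃ v ∈ vK T (Ki i), x * v ≠ v * x := by
    refine ⟨b * k' * b⁻¹, Subgroup.mem_sup_left
      ((Subgroup.mem_normalizer_iff.1 (Subgroup.mem_inf.1 hb).2 k').1 hk'), x, ?_, v, hv, hxv⟩
    rw [show b * k' = b * k' * b⁻¹ * b by group, ← cmap_cmap,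
      cmap_eq_of_mem_normalizer (Subgroup.mem_inf.1 (Subgroup.mem_inf.1 hb).1).2] at hxl
    exact hxl
  refine hp.not_both hno hy fun j => ?_
  rcases Bool.eq_or_eq_not j i with rfl | rfl
  · exact hxc
  · obtain ⟨p, hp', x, hx, v, hv, hne⟩ := hxc
    refine ⟨u * p * u⁻¹, ?_, u * x * u⁻¹, ?_, u * v * u⁻¹, ?_, fun e => hne ?_⟩
    · have h1 := conj_mem_cmap (g := u) hp'
      show u * p * u⁻¹ ∈ Ki (!!i) ⊔ T
      rw [← hcm (!i), ← cmap_eq_of_mem_normalizer a.u_norm]
      exact (Subgroup.map_sup Kc T (MulAut.conj u).toMonoidHom).le h1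
    · rw [hV i, cmap_cmap]
      rw [show u * p * u⁻¹ * u = u * p by group, ← cmap_cmap]
      exact conj_mem_cmap hx
    · rw [hV i]; exact conj_mem_cmap hv
    · have e' := congrArg (fun y => u⁻¹ * y * u) e
      convert e' using 1 <;> group

end ACtx

end H77
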