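import Cfsg.Prelude.Def_Involutions
import Cfsg.Agent.H77.FunctorChain
import Mathlib.GroupTheory.SpecificGroups.Cyclic
import Mathlib.Algebra.Group.Even

/-! Strongly embedded subgroups and normalisers of 2-subgroups. -/

set_option autoImplicit false

namespace H77

variable {G : Type*} [Group G] [Finite G]

/-- In a strongly embedded subgroup, normalisers of nontrivial 2-subgroups stay inside. -/
theorem normalizer_le_of_stronglyEmbedded {M R : Subgroup G} (hM : Cfsg.IsStronglyEmbedded M)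
    (hR : IsPGroup 2 ↥R) (hR1 : R ≠ ⊥) (hRM : R ≤ M) : Subgroup.normalizer (R : Set G) ≤ M := by
  intro g hg
  by_contra hgM
  have hle : R ≤ M ⊓ M.map (MulAut.conj g).toMonoidHom :=
    le_inf hRM ((le_of_eq (cmap_eq_of_mem_normalizer hg).symm).trans (cmap_mono g hRM))
  obtain ⟨k, hk⟩ := IsPGroup.iff_card.1 hR
  have hk0 : k ≠ 0 := fun h => hR1 (Subgroup.card_eq_one.1 (by rw [hk, h, pow_zero]))
  have h1 : 2 ∣ Nat.card ↥(M ⊓ M.map (MulAut.conj g).toMonoidHom) :=
    ((dvd_pow_self 2 hk0).trans (dvd_of_eq hk.symm)).trans (Subgroup.card_dvd_of_le hle)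
  exact Nat.not_even_iff_odd.2 (hM.2.2 g hgM) (even_iff_two_dvd.2 h1)

/-- A subgroup containing all normalisers of its nontrivial 2-subgroups is strongly embedded. -/
theorem stronglyEmbedded_of_normalizer_le {M : Subgroup G} (hne : M ≠ ⊤) (heven : Even (Nat.card ↥M))
    (hN : ∀ R : Subgroup G, IsPGroup 2 ↥R → R ≠ ⊥ → R ≤ M → Subgroup.normalizer (R : Set G) ≤ M) :
    Cfsg.IsStronglyEmbedded M := by
  refine ⟨hne, heven, fun g hg => ?_⟩
  rw [← Nat.not_even_iff_odd]
  intro hev
  haveI : Fact (Nat.Prime 2) := ⟨Nat.prime_two⟩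
  set K := M ⊓ M.map (MulAut.conj g).toMonoidHom with hK
  obtain ⟨P⟩ : Nonempty (Sylow 2 ↥K) := inferInstance
  set D := (P : Subgroup ↥K).map K.subtype with hD
  have hD1 : D ≠ ⊥ := by
    intro h
    rw [hD, Subgroup.map_eq_bot_iff, Subgroup.ker_subtype, le_bot_iff] at h
    exact P.ne_bot_of_dvd_card (even_iff_two_dvd.1 hev) h
  have hDK : D ≤ K := Subgroup.map_subtype_le _
  have hDp : IsPGroup 2 ↥D := P.2.map _
  obtain ⟨S, hS⟩ := hDp.exists_le_sylow
  set D₁ := cmap g⁻¹ D with hD1def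
  have hD1M : D₁ ≤ M := by
    rw [hD1def, cmap_le_iff, inv_inv]; exact hDK.trans inf_le_right
  have hD1ne : D₁ ≠ ⊥ := fun h => hD1 (by
    rw [hD1def, Subgroup.map_eq_bot_iff_of_injective _ (MulAut.conj g⁻¹).injective] at h; exact h)
  have hNg : Subgroup.normalizer (D : Set G) ≤ M.map (MulAut.conj g).toMonoidHom := by
    have h := cmap_mono g (hN D₁ (hDp.map _) hD1ne hD1M)
    rw [cmap_normalizer, hD1def, cmap_cmap_inv] at h
    exact h
  have hSD : D = (S : Subgroup G) := by
    rcases eq_or_lt_of_le hS with h | h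
    · exact h
    · exfalso
      have hgt := normalizer_inf_gt S.2 h
      have hle : (S : Subgroup G) ⊓ Subgroup.normalizer (D : Set G) ≤ K :=
        le_inf (inf_le_right.trans (hN D hDp hD1 (hDK.trans inf_le_left))) (inf_le_right.trans hNg)
      have h2 : ((S : Subgroup G) ⊓ Subgroup.normalizer (D : Set G)).subgroupOf K = (P : Subgroup ↥K) :=
        P.3 ((S.2.to_inf_left : IsPGroup 2 ↥((S : Subgroup G) ⊓ Subgroup.normalizer (D : Set G) : Subgroup G)).comap_subtype (K := K))
          (fun x hx => hgt.le ⟨x, hx, rfl⟩)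
      apply hgt.ne
      rw [← Subgroup.map_subgroupOf_eq_of_le hle, h2]
  rw [hSD] at hDK hD1def
  have hSM : (S : Subgroup G) ≤ M := hDK.trans inf_le_left
  have hS'M : ((g⁻¹ • S : Sylow 2 G) : Subgroup G) ≤ M := by
    rw [sylow_smul_coe, ← hD1def]; exact hD1M
  obtain ⟨m, hm⟩ := MulAction.exists_smul_eq (↥M) (S.subtype hSM) ((g⁻¹ • S).subtype hS'M)
  rw [Sylow.smul_subtype] at hm
  have h := congrArg ((g : G) • ·) (Sylow.subtype_injective hm)
  simp only [Subgroup.smul_def, smul_smul, mul_inv_cancel, one_smul] at h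
  have hgm : g * (m : G) ∈ M :=
    hN _ S.2 (hSD ▸ hD1) hSM (Sylow.smul_eq_iff_mem_normalizer.1 h)
  exact hg (by simpa using M.mul_mem hgm (M.inv_mem m.2))

end H77
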