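import Cfsg.Agent.H77.JMutual
import Cfsg.Agent.H77.StrongEmb
import Cfsg.Agent.H67.SECount

/-!
`T = S` is a Sylow 2-subgroup of `G`.
-/

set_option autoImplicit false

namespace H77

variable {G : Type*} [Group G]

/-- `N(J(S))`. -/
abbrev njOf (S : Sylow 2 G) : Subgroup G :=
  Subgroup.normalizer (Cfsg.thompsonSubgroupOf 2 (S : Subgroup G) : Set G)

variable [Finite G]

theorem comp_not_le_normalizer_J {T K : Subgroup G} (hT : IsPGroup 2 ↥T) (hK : Cfsg.IsJComponent T K) :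
    ¬ K ≤ Subgroup.normalizer (Cfsg.thompsonSubgroupOf 2 T : Set G) := by
  intro hle
  refine jcomp_not_le_twoGroup hK (hT.to_le (thompson_le T)) ?_
  conv_lhs => rw [← hK.2.1]
  rw [Subgroup.commutator_le]
  intro k hk j hj
  rw [commutatorElement_def]
  exact mul_mem ((Subgroup.mem_normalizer_iff.1 (hle hk) j).1 hj) (inv_mem hj)

theorem exists_cmap_le_sylow {R : Subgroup G} (hR : IsPGroup 2 ↥R) (S : Sylow 2 G) :
    ∃ g : G, cmap g R ≤ (S : Subgroup G) := by
  obtain ⟨g, -, hg⟩ := exists_cmap_le_sylTwo (sylow_of_le (le_top : (S : Subgroup G) ≤ ⊤)) hR le_top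
  exact ⟨g, hg⟩

theorem exists_maxStraddling {M : Subgroup G} (hne : (Cfsg.straddlingTwoSubgroups M).Nonempty) :
    (Cfsg.maxStraddlingTwoSubgroups M).Nonempty := by
  obtain ⟨A, hA, hAmax⟩ := Set.exists_max_image (Cfsg.straddlingTwoSubgroups M) Cfsg.maxElemAbelianOrder
    (Set.toFinite _) hne
  set s1 := {R ∈ Cfsg.straddlingTwoSubgroups M | Cfsg.maxElemAbelianOrder R = Cfsg.maxElemAbelianOrder A}
  obtain ⟨B, hB, hBmax⟩ := Set.exists_max_image s1 (fun R => Nat.card ↥(Cfsg.thompsonSubgroupOf 2 R))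
    (Set.toFinite _) ⟨A, hA, rfl⟩
  set s2 := {R ∈ s1 | Nat.card ↥(Cfsg.thompsonSubgroupOf 2 R) = Nat.card ↥(Cfsg.thompsonSubgroupOf 2 B)}
  obtain ⟨C, ⟨⟨hC, hC1⟩, hC2⟩, hCmax⟩ := Set.exists_max_image s2 (fun R => Nat.card ↥R)
    (Set.toFinite _) ⟨B, hB, rfl⟩
  refine ⟨C, hC, fun R hR => ⟨hC1.symm ▸ hAmax R hR, fun he => ?_⟩⟩
  have hR1 : R ∈ s1 := ⟨hR, he.trans hC1⟩
  exact ⟨hC2.symm ▸ hBmax R hR1, fun he2 => hCmax R ⟨hR1, he2.trans hC2⟩⟩

theorem straddling_cmap {M R : Subgroup G} {g : G} (hg : g ∈ M) (hR : R ∈ Cfsg.straddlingTwoSubgroups M) :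
    cmap g R ∈ Cfsg.straddlingTwoSubgroups M := by
  obtain ⟨hRp, hR1, hRM, L, hL, hRL, hLM⟩ := hR
  refine ⟨hRp.map _, fun h0 => hR1 ?_, ?_, cmap g L, isTwoLocal_cmap g hL, cmap_mono g hRL, fun hle => hLM ?_⟩
  · rwa [Subgroup.map_eq_bot_iff_of_injective _ (MulAut.conj g).injective] at h0
  · exact (cmap_mono g hRM).trans (cmap_eq_of_mem_normalizer (Subgroup.le_normalizer hg)).le
  · have h1 := cmap_mono g⁻¹ hle
    rwa [cmap_inv_cmap, cmap_eq_of_mem_normalizer (Subgroup.le_normalizer (M.inv_mem hg))] at h1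

theorem maxStraddling_cmap {M R : Subgroup G} {g : G} (hg : g ∈ M) (hR : R ∈ Cfsg.maxStraddlingTwoSubgroups M) :
    cmap g R ∈ Cfsg.maxStraddlingTwoSubgroups M := by
  refine ⟨straddling_cmap hg hR.1, fun R' hR' => ?_⟩
  rw [maxOrder_cmap, thompson_cmap, card_cmap, card_cmap]
  exact hR.2 R' hR'

theorem MCtx.sylow_ctx {M : Subgroup G} {S : Sylow 2 G} (h : MCtx M (S : Subgroup G)) (hSM : njOf S ≤ M) :
    MCtx (njOf S) (S : Subgroup G) := by
  refine ⟨h.char2, h.sol, h.cen, ⟨S, le_rfl⟩, ?_, fun R hR => ?_⟩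
  · obtain ⟨L, hL, hSL, hLM⟩ := h.max.1.2.2.2
    exact ⟨S.2, h.T_ne, Subgroup.le_normalizer.trans (normalizer_le_normalizer_thompson _), L, hL, hSL,
      fun hle => hLM (hle.trans hSM)⟩
  obtain ⟨g, hg⟩ := exists_cmap_le_sylow hR.1 S
  have ha : Cfsg.maxElemAbelianOrder R ≤ Cfsg.maxElemAbelianOrder (S : Subgroup G) :=
    (maxOrder_cmap g R) ▸ maxOrder_mono hg
  refine ⟨ha, fun he => ⟨?_, fun _ => ?_⟩⟩
  · rw [← card_cmap g (Cfsg.thompsonSubgroupOf 2 R), ← thompson_cmap]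
    refine Nat.le_of_dvd Nat.card_pos (Subgroup.card_dvd_of_le (thompson_mono ((thompson_le _).trans hg) ?_))
    rw [maxOrder_cmap, he]
  · rw [← card_cmap g R]
    exact Nat.le_of_dvd Nat.card_pos (Subgroup.card_dvd_of_le hg)

theorem central_norm_of_two {S : Sylow 2 G} (h : MCtx (njOf S) (S : Subgroup G)) {K L K' L' : Subgroup G}
    (n : Nice (njOf S) S K L) (hK' : Cfsg.IsJComponent (S : Subgroup G) K') (hL' : IsTop (S : Subgroup G) K' L')
    (hne : L ≠ L') :
    Nat.card ↥(zOf (S : Subgroup G)) ≤ 4 ∧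
      (∀ x ∈ zOf (S : Subgroup G), ∀ t ∈ (S : Subgroup G), t * x = x * t) ∧
      (S : Subgroup G) ≤ Subgroup.normalizer (K : Set G) := by
  set T := (S : Subgroup G) with hTdef
  have hT : IsPGroup 2 ↥T := S.2
  have hout : ∀ {K1 : Subgroup G}, Cfsg.IsJComponent T K1 → ¬ K1 ≤ njOf S := fun h1 => comp_not_le_normalizer_J hT h1
  have hsmall := h.card_zOf_le_four n.comp n.out n.top hK' (hout hK') hL' hne
  have htJ : ∀ t ∈ T, t ∈ Subgroup.normalizer (Cfsg.thompsonSubgroupOf 2 T : Set G) := fun t ht =>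
    normalizer_le_normalizer_thompson T (Subgroup.le_normalizer ht)
  have hcent : ∀ x ∈ zOf T, ∀ t ∈ T, t * x = x * t := by
    intro x hx t ht
    rcases card_zOf_two_or_four hT n.comp hsmall with h2 | h4
    · obtain ⟨z, hz⟩ := exists_pt hT n.comp
      rcases eq_of_mem_card_two h2 hz.mem_Z hz.ne_one hx with e | e
      · rw [e]; simp
      · rw [e]
        have h1 : t * z * t⁻¹ ∈ zOf T := zOf_cmap (htJ t ht) ▸ conj_mem_cmap hz.mem_Z
        rcases eq_of_mem_card_two h2 hz.mem_Z hz.ne_one h1 with e1 | e1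
        · exact absurd (conj_eq_one_iff.1 e1) hz.ne_one
        · exact mul_inv_eq_iff_eq_mul.1 e1
    have hY : ∀ {K1 : Subgroup G}, Cfsg.IsJComponent T K1 → Nat.card ↥(yOf T K1) = 2 := fun h1 => by
      have := card_zOf_eq hT h1
      omega
    obtain ⟨y, hy, hy1⟩ := exists_ne_one_of_card_two (hY n.comp)
    obtain ⟨y', hy', hy'1⟩ := exists_ne_one_of_card_two (hY hK')
    have hyy' : y ≠ y' := fun e =>
      hne (h.top_eq_of_common n.comp n.out n.top hK' (hout hK') hL' hy (e ▸ hy') hy1)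
    have hZne : Cfsg.omegaCenterOf T ≠ ⊥ := omegaCenterOf_ne_bot hT h.T_ne
    have hZle : Cfsg.omegaCenterOf T ≤ zOf T := omegaCenterOf_le_zOf T
    -- the fixed point of an element moving one of three points
    have key : ∀ t ∈ T, ∀ p q : G, ∀ {K1 : Subgroup G}, Cfsg.IsJComponent T K1 → q ∈ yOf T K1 → q ≠ 1 →
        p ∈ zOf T → p ≠ 1 → t * p * t⁻¹ ≠ p → q ≠ p → q ≠ t * p * t⁻¹ → False := by
      intro t ht p q K1 hK1 hq hq1 hp hp1 hmv hqp hqp'
      have hp' : t * p * t⁻¹ ∈ zOf T := zOf_cmap (htJ t ht) ▸ conj_mem_cmap hp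
      have hset : ({1, p, t * p * t⁻¹, q} : Set G) = (zOf T : Set G) := by
        refine Set.eq_of_subset_of_ncard_le ?_ ?_ (Set.toFinite _)
        · rintro v (rfl | rfl | rfl | rfl)
          · exact Subgroup.one_mem _
          · exact hp
          · exact hp'
          · exact yOf_le hq
        · rw [← Nat.card_coe_set_eq, SetLike.coe_sort_coe, h4]
          exact le_of_eq (Set.ncard_eq_four.2 ⟨1, p, t * p * t⁻¹, q, Ne.symm hp1,
            fun e => hp1 (conj_eq_one_iff.1 e.symm), Ne.symm hq1, Ne.symm hmv, Ne.symm hqp, Ne.symm hqp', rfl⟩).symm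
      refine h.omega_sylow_not_le_yOf (S := S) le_rfl (hout hK1) fun w hw => ?_
      have hwt : t * w * t⁻¹ = w := by rw [(mem_omegaCenterOf.1 hw).2.1 t ht, mul_inv_cancel_right]
      have : w ∈ ({1, p, t * p * t⁻¹, q} : Set G) := hset ▸ hZle hw
      rcases this with e | e | e | e
      · rw [e]; exact Subgroup.one_mem _
      · exact absurd (e ▸ hwt) hmv
      · rw [e] at hwt
        exact absurd (mul_left_cancel (mul_right_cancel hwt)) hmv
      · rw [e]; exact hq
    have hfy : ∀ t ∈ T, t * y * t⁻¹ = y := by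
      intro t ht
      by_contra hmv
      refine key t ht y y' hK' hy' hy'1 (yOf_le hy) hy1 hmv (Ne.symm hyy') fun e => ?_
      have htop : IsTop T (cmap t K) L :=
        ⟨n.top.maxLocal, (cmap_mono t n.top.comp_le).trans
          (cmap_eq_of_mem_normalizer (Subgroup.le_normalizer (n.T_le ht))).le, n.top.J_le⟩
      refine hne (h.top_eq_of_common (h.cmap_comp n.comp (htJ t ht)) (hout (h.cmap_comp n.comp (htJ t ht))) htop
        hK' (hout hK') hL' ?_ (e ▸ hy' : t * y * t⁻¹ ∈ yOf T K') fun e1 => hy1 (conj_eq_one_iff.1 e1))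
      rw [yOf_cmap (htJ t ht)]
      exact conj_mem_cmap hy
    have hfy' : t * y' * t⁻¹ = y' := by
      by_contra hmv
      refine key t ht y' y n.comp hy hy1 (yOf_le hy') hy'1 hmv hyy' fun e => hyy' ?_
      exact mul_left_cancel (mul_right_cancel ((hfy t ht).trans e))
    have hgen : zOf T = yOf T K ⊔ yOf T K' := by
      refine (Subgroup.eq_of_le_of_card_ge (sup_le yOf_le yOf_le) ?_).symm
      have hc := card_sup_mul_card_inf (A := yOf T K) (B := yOf T K')
        fun a ha b hb => zOf_comm (yOf_le ha) (yOf_le hb)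
      rw [h.yOf_inf_eq_bot n.comp n.out n.top hK' (hout hK') hL' hne, Subgroup.card_bot, mul_one,
        hY n.comp, hY hK'] at hc
      omega
    have hle : zOf T ≤ Subgroup.centralizer ({t} : Set G) := by
      rw [hgen]
      refine sup_le (fun w hw => ?_) fun w hw => ?_ <;> rw [Subgroup.mem_centralizer_singleton_iff]
      · rcases eq_of_mem_card_two (hY n.comp) hy hy1 hw with e | e <;> rw [e]
        · simp
        · exact (mul_inv_eq_iff_eq_mul.1 (hfy t ht)).symm
      · rcases eq_of_mem_card_two (hY hK') hy' hy'1 hw with e | e <;> rw [e]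
        · simp
        · exact (mul_inv_eq_iff_eq_mul.1 hfy').symm
    exact (Subgroup.mem_centralizer_singleton_iff.1 (hle hx)).symm
  refine ⟨hsmall, hcent, fun t ht => ?_⟩
  have hcomp' := h.cmap_comp n.comp (htJ t ht)
  refine mem_normalizer_of_cmap_eq (h.eq_of_same_top_yOf n.comp n.out n.top hcomp'
    ((cmap_mono t n.top.comp_le).trans (cmap_eq_of_mem_normalizer (Subgroup.le_normalizer (n.T_le ht))).le) ?_).symm
  rw [yOf_cmap (htJ t ht)]
  refine cmap_eq_of_mem_normalizer (mem_normalizer_of_forall fun w hw => ?_)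
  rw [hcent w (yOf_le hw) t ht, mul_inv_cancel_right]
  exact hw

theorem nj_le_of_central {S : Sylow 2 G} (h : MCtx (njOf S) (S : Subgroup G))
    (hc : ∀ x ∈ zOf (S : Subgroup G), ∀ t ∈ (S : Subgroup G), t * x = x * t) :
    njOf S ≤ Subgroup.normalizer ((S : Subgroup G) : Set G) := by
  intro g hg
  have hgZ : cmap g (zOf (S : Subgroup G)) = zOf (S : Subgroup G) := zOf_cmap hg
  have hle : cmap g (S : Subgroup G) ≤ Subgroup.normalizer ((S : Subgroup G) : Set G) := by
    refine le_trans ?_ (h.cen S)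
    rw [omegaCenterOf_eq_zOf hc]
    rintro _ ⟨s, hs, rfl⟩
    refine Subgroup.mem_centralizer_iff.2 fun x hx => ?_
    show x * (g * s * g⁻¹) = g * s * g⁻¹ * x
    have hx' : g⁻¹ * x * g ∈ zOf (S : Subgroup G) := mem_cmap.1 (hgZ.symm ▸ hx)
    have e := congrArg (fun y => g * y * g⁻¹) (hc _ hx' s hs)
    symm
    convert e using 1 <;> group
  refine mem_normalizer_of_cmap_eq (Subgroup.eq_of_le_of_card_ge (fun x hx => ?_) (card_cmap g _).ge)
  exact mem_sylTwo_of_normalizes (sylow_of_le (le_top : (S : Subgroup G) ≤ ⊤)) (Subgroup.mem_top x) (hle hx)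
    (pow_two_pow_of_mem (S.2.map _ : IsPGroup 2 ↥(cmap g (S : Subgroup G))) hx)

/-- `T = S` with two tops. -/
structure BCtx (S : Sylow 2 G) : Prop where
  mctx : MCtx (njOf S) (S : Subgroup G)
  two : ∃ K L K' L', Nice (njOf S) (S : Subgroup G) K L ∧ Nice (njOf S) (S : Subgroup G) K' L' ∧ L ≠ L'

namespace BCtx

variable {S : Sylow 2 G} (b : BCtx S)
include b

theorem small : Nat.card ↥(zOf (S : Subgroup G)) ≤ 4 := by
  obtain ⟨K, L, K', L', n, n', hne⟩ := b.two
  exact (central_norm_of_two b.mctx n n'.comp n'.top hne).1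

theorem central : ∀ x ∈ zOf (S : Subgroup G), ∀ t ∈ (S : Subgroup G), t * x = x * t := by
  obtain ⟨K, L, K', L', n, n', hne⟩ := b.two
  exact (central_norm_of_two b.mctx n n'.comp n'.top hne).2.1

theorem other (L : Subgroup G) : ∃ K' L', Nice (njOf S) (S : Subgroup G) K' L' ∧ L ≠ L' := by
  obtain ⟨K1, L1, K2, L2, n1, n2, hne⟩ := b.two
  by_cases h : L = L1
  · exact ⟨K2, L2, n2, h ▸ hne⟩
  · exact ⟨K1, L1, n1, h⟩

theorem norm1 {K L : Subgroup G} (n : Nice (njOf S) (S : Subgroup G) K L) :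
    Norm1 (S : Subgroup G) K L := by
  obtain ⟨K', L', n', hne⟩ := b.other L
  exact ⟨n.ctx b.mctx, n.comp, n.top.comp_le, (central_norm_of_two b.mctx n n'.comp n'.top hne).2.2, b.central⟩

theorem omega_eq : Cfsg.omegaCenterOf (S : Subgroup G) = zOf (S : Subgroup G) := omegaCenterOf_eq_zOf b.central

theorem nj_le : njOf S ≤ Subgroup.normalizer ((S : Subgroup G) : Set G) :=
  nj_le_of_central b.mctx b.central

theorem nice_of_comp (h4 : Nat.card ↥(zOf (S : Subgroup G)) = 4) {K : Subgroup G}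
    (hK : Cfsg.IsJComponent (S : Subgroup G) K) : ∃ L, Nice (njOf S) (S : Subgroup G) K L := by
  have hout := comp_not_le_normalizer_J S.2 hK
  obtain ⟨L, hL⟩ := b.mctx.exists_top hK
  obtain ⟨y, hy, hy1⟩ := exists_ne_one_of_card_two (A := yOf (S : Subgroup G) K) (by
    have := card_zOf_eq S.2 hK
    omega)
  exact ⟨L, hK, hout, hL, fun s hs => b.mctx.centralizer_le_top hK hout hL hy hy1
    (Subgroup.mem_centralizer_singleton_iff.2 (b.central y (yOf_le hy) s hs))⟩

theorem jpair {K L K' L' : Subgroup G} (n : Nice (njOf S) (S : Subgroup G) K L)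
    (n' : Nice (njOf S) (S : Subgroup G) K' L') (hne : L ≠ L') :
    JPair (S : Subgroup G) (fun i => cond i K K') (fun i => cond i L L') where
  side i := by cases i <;> [exact b.norm1 n'; exact b.norm1 n]
  top i := by cases i <;> [exact n'.top; exact n.top]
  uniq i X hX := by cases i <;> [exact n'.uniq b.mctx hX; exact n.uniq b.mctx hX]
  ne := hne
  small := b.small

theorem nc_of_pts {K L K' L' : Subgroup G} (n : Nice (njOf S) (S : Subgroup G) K L)
    (n' : Nice (njOf S) (S : Subgroup G) K' L') (hne : L ≠ L')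
    (h1 : ptOf (S : Subgroup G) K ∉ yOf (S : Subgroup G) K')
    (h2 : ptOf (S : Subgroup G) K' ∉ yOf (S : Subgroup G) K) : NC (S : Subgroup G) K K' :=
  (b.jpair n n' hne).nc_of_pts fun i => by cases i <;> [exact h2; exact h1]

theorem exists_nc : ∃ K L K' L', Nice (njOf S) (S : Subgroup G) K L ∧ Nice (njOf S) (S : Subgroup G) K' L' ∧
    L ≠ L' ∧ NC (S : Subgroup G) K K' := by
  obtain ⟨Ka, La, Kb, Lb, na, nb, hab⟩ := b.two
  by_contra hcon
  have hno : ∀ {K L K' L' : Subgroup G}, Nice (njOf S) (S : Subgroup G) K L →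
      Nice (njOf S) (S : Subgroup G) K' L' → L ≠ L' → ¬ NC (S : Subgroup G) K K' :=
    fun {K L K' L'} n n' hne hnc => hcon ⟨K, L, K', L', n, n', hne, hnc⟩
  set T := (S : Subgroup G) with hTdef
  have hT : IsPGroup 2 ↥T := S.2
  rcases card_zOf_two_or_four hT na.comp b.small with h2 | h4
  · have hY : ∀ {K1 : Subgroup G}, Cfsg.IsJComponent T K1 → yOf T K1 = ⊥ := fun h1 =>
      Subgroup.card_eq_one.1 (by have := card_zOf_eq hT h1; omega)
    refine hno na nb hab (b.nc_of_pts na nb hab ?_ ?_)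
    · rw [hY nb.comp, Subgroup.mem_bot]; exact (ptOf_spec hT na.comp).ne_one
    · rw [hY na.comp, Subgroup.mem_bot]; exact (ptOf_spec hT nb.comp).ne_one
  have hY : ∀ {K1 : Subgroup G}, Cfsg.IsJComponent T K1 → Nat.card ↥(yOf T K1) = 2 := fun h1 => by
    have := card_zOf_eq hT h1
    omega
  have hout : ∀ {K1 : Subgroup G}, Cfsg.IsJComponent T K1 → ¬ K1 ≤ njOf S := fun h1 => comp_not_le_normalizer_J hT h1
  -- one component in each top
  have single : ∀ {K L K2 : Subgroup G}, Nice (njOf S) T K L → Cfsg.IsJComponent T K2 → K2 ≤ L → K2 = K := by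
    intro K L K2 n hK2 hK2L
    by_contra hne
    have n2 : Nice (njOf S) T K2 L := ⟨hK2, hout hK2, ⟨n.top.maxLocal, hK2L, n.top.J_le⟩, n.T_le⟩
    obtain ⟨K', L', n', hLL⟩ := b.other L
    have hz := ptOf_spec hT n.comp
    have hz2 := ptOf_spec hT hK2
    have hz' := ptOf_spec hT n'.comp
    have e1 : ptOf T K2 ∈ yOf T K := b.mctx.same_top n.comp n.out n.top hK2 hK2L (Ne.symm hne) hz2
    have e2 : ptOf T K ∈ yOf T K2 := b.mctx.same_top hK2 n2.out n2.top n.comp n.top.comp_le hne hz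
    obtain ⟨y', hy', hy'1⟩ := exists_ne_one_of_card_two (hY n'.comp)
    have hzz : ptOf T K ≠ ptOf T K2 := fun e => pt_not_mem_yOf n.comp hz (e ▸ e1)
    have d1 : y' ≠ ptOf T K := fun e =>
      hLL (b.mctx.top_eq_of_common hK2 n2.out n2.top n'.comp n'.out n'.top e2 (e ▸ hy') hz.ne_one)
    have d2 : y' ≠ ptOf T K2 := fun e =>
      hLL (b.mctx.top_eq_of_common n.comp n.out n.top n'.comp n'.out n'.top e1 (e ▸ hy') hz2.ne_one)
    have hset : ({1, ptOf T K, ptOf T K2, y'} : Set G) = (zOf T : Set G) := by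
      refine Set.eq_of_subset_of_ncard_le ?_ ?_ (Set.toFinite _)
      · rintro v (rfl | rfl | rfl | rfl)
        · exact Subgroup.one_mem _
        · exact hz.mem_Z
        · exact hz2.mem_Z
        · exact yOf_le hy'
      · rw [← Nat.card_coe_set_eq, SetLike.coe_sort_coe, h4]
        exact le_of_eq (Set.ncard_eq_four.2 ⟨1, ptOf T K, ptOf T K2, y', Ne.symm hz.ne_one, Ne.symm hz2.ne_one,
          Ne.symm hy'1, hzz, Ne.symm d1, Ne.symm d2, rfl⟩).symm
    have : ptOf T K' ∈ ({1, ptOf T K, ptOf T K2, y'} : Set G) := hset ▸ hz'.mem_Z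
    rcases this with e | e | e | e
    · exact hz'.ne_one e
    · refine hno n' n (Ne.symm hLL) (b.nc_of_pts n' n (Ne.symm hLL) ?_ ?_)
      · rw [e]; exact pt_not_mem_yOf n.comp hz
      · rw [← e]; exact pt_not_mem_yOf n'.comp hz'
    · refine hno n' n2 (Ne.symm hLL) (b.nc_of_pts n' n2 (Ne.symm hLL) ?_ ?_)
      · rw [e]; exact pt_not_mem_yOf hK2 hz2
      · rw [← e]; exact pt_not_mem_yOf n'.comp hz'
    · exact pt_not_mem_yOf n'.comp hz' (e ▸ hy')
  have eq_of_pt : ∀ {K1 K2 : Subgroup G}, Cfsg.IsJComponent T K1 → Cfsg.IsJComponent T K2 →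
      ptOf T K1 = ptOf T K2 → K1 = K2 := by
    intro K1 K2 h1 h2 he
    obtain ⟨L1, n1⟩ := b.nice_of_comp h4 h1
    obtain ⟨L2, n2⟩ := b.nice_of_comp h4 h2
    by_cases hL : L1 = L2
    · exact single n2 h1 (hL ▸ n1.top.comp_le)
    · refine absurd (b.nc_of_pts n1 n2 hL ?_ ?_) (hno n1 n2 hL)
      · rw [he]; exact pt_not_mem_yOf h2 (ptOf_spec hT h2)
      · rw [← he]; exact pt_not_mem_yOf h1 (ptOf_spec hT h1)
  have top_struct : ∀ {K L : Subgroup G}, Nice (njOf S) T K L →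
      L ≤ Subgroup.normalizer (K : Set G) ⊓ Subgroup.centralizer (yOf T K : Set G) := by
    intro K L n
    refine (n.ctx b.mctx).le_sup_components.trans (sup_le (fun g hg => ?_) (iSup_le fun K' => ?_))
    · obtain ⟨hgL, hgJ⟩ := Subgroup.mem_inf.1 hg
      have e : cmap g K = K := single n (b.mctx.cmap_comp n.comp hgJ)
        ((cmap_mono g n.top.comp_le).trans (cmap_eq_of_mem_normalizer (Subgroup.le_normalizer hgL)).le)
      refine Subgroup.mem_inf.2 ⟨mem_normalizer_of_cmap_eq e, Subgroup.mem_centralizer_iff.2 fun y hy => ?_⟩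
      exact (fix_zOf_of_normalizes hT n.comp b.small hgJ (mem_normalizer_of_cmap_eq e) (yOf_le hy)).symm
    · rw [single n K'.2.1 K'.2.2]
      exact le_inf Subgroup.le_normalizer fun k hk =>
        Subgroup.mem_centralizer_iff.2 fun y hy => ((mem_yOf.1 hy).2 k hk).symm
  have comp_of_not_le : ∀ {v : G}, v ∈ zOf T → v ≠ 1 → ¬ Subgroup.centralizer ({v} : Set G) ≤ njOf S →
      ∃ Kc Lc, Nice (njOf S) T Kc Lc ∧ v ∈ yOf T Kc := by
    intro v hv hv1 hnle
    have hSC : T ≤ Subgroup.centralizer ({v} : Set G) := fun s hs =>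
      Subgroup.mem_centralizer_singleton_iff.2 (b.central v hv s hs)
    have hctx := b.mctx.ctx_of_T_le (isTwoLocal_centralizer (zOf_sq hv) hv1) hnle hSC
    obtain ⟨Kc, hKc, hKcC⟩ := hctx.exists_component
    obtain ⟨Lc, nc⟩ := b.nice_of_comp h4 hKc
    exact ⟨Kc, Lc, nc, mem_yOf.2 ⟨hv, fun k hk => Subgroup.mem_centralizer_singleton_iff.1 (hKcC hk)⟩⟩
  -- a critical conjugate
  have hp0 := b.jpair na nb hab
  obtain ⟨-, i, -, g, k, hgz, x, hx, v, hv, hxv⟩ := hp0.amalgam.noncomm_or_crit.resolve_left (hno na nb hab)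
  set Ki := cond i Ka Kb with hKi
  set Kk := cond k Ka Kb with hKk
  have nI : Nice (njOf S) T Ki (cond i La Lb) := by cases i <;> [exact nb; exact na]
  have hKkc : Cfsg.IsJComponent T Kk := (hp0.side k).comp
  set Li := cond i La Lb
  set z := ptOf T Ki with hzdef
  have hzi := ptOf_spec hT nI.comp
  set C := Subgroup.centralizer ({z} : Set G) with hCdef
  have hSC : T ≤ C := fun s hs => Subgroup.mem_centralizer_singleton_iff.2 (b.central z hzi.mem_Z s hs)
  have hgC : cmap g T ≤ C := by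
    rintro _ ⟨s, hs, rfl⟩
    rw [hCdef, Subgroup.mem_centralizer_singleton_iff]
    show g * s * g⁻¹ * z = z * (g * s * g⁻¹)
    change g * ptOf T Kk * g⁻¹ = z at hgz
    rw [← hgz]
    have e := congrArg (fun y => g * y * g⁻¹) (b.central _ (ptOf_spec hT hKkc).mem_Z s hs)
    convert e using 1 <;> group
  have hgS : Cfsg.IsSylowTwoIn (cmap g T) C := by
    rw [hTdef, ← sylow_smul_coe]
    exact sylow_of_le (by rw [sylow_smul_coe]; exact hgC)
  obtain ⟨l, hlC, hlS⟩ := sylTwo_conj hgS (sylow_of_le hSC)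
  have hg'J : l * g ∈ njOf S :=
    normalizer_le_normalizer_thompson _ (mem_normalizer_of_cmap_eq (by rw [← cmap_cmap]; exact hlS.symm))
  have hlz : l * z * l⁻¹ = z := by
    rw [Subgroup.mem_centralizer_singleton_iff.1 hlC, mul_inv_cancel_right]
  have hV : cmap g (vK T Kk) = cmap l⁻¹ (vK T Ki) := by
    have hpt : ptOf T (cmap (l * g) Kk) = z := by
      have h1 := isPt_cmap hg'J (ptOf_spec hT hKkc)
      have hc' := b.mctx.cmap_comp hKkc hg'J
      rw [show l * g * ptOf T Kk * (l * g)⁻¹ = l * (g * ptOf T Kk * g⁻¹) * l⁻¹ by group,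
        show g * ptOf T Kk * g⁻¹ = z from hgz, hlz] at h1
      exact ((eq_pt_of_mem hT hc' (ptOf_spec hT hc') h1.mem_Z h1.mem_W).resolve_left h1.ne_one).symm
    have e := eq_of_pt (b.mctx.cmap_comp hKkc hg'J) nI.comp hpt
    rw [← e, vK_cmap hg'J, ← cmap_cmap, cmap_inv_cmap]
  change x ∈ cmap g (vK T Kk) at hx
  change v ∈ vK T Ki at hv
  rw [hV] at hx
  have hVel := vK_elem hT nI.comp
  have fix_of_mem : ∀ {q : G}, q ∈ njOf S → q * z * q⁻¹ = z → cmap q (vK T Ki) = vK T Ki := by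
    intro q hqJ hqz
    have hc' := b.mctx.cmap_comp nI.comp hqJ
    have h1 := isPt_cmap hqJ hzi
    rw [show q * ptOf T Ki * q⁻¹ = z from hqz] at h1
    have e := eq_of_pt hc' nI.comp
      ((eq_pt_of_mem hT hc' (ptOf_spec hT hc') h1.mem_Z h1.mem_W).resolve_left h1.ne_one).symm
    rw [← vK_cmap hqJ, e]
  by_cases hCle : C ≤ njOf S
  · rw [fix_of_mem (hCle (C.inv_mem hlC)) (by
      rw [Subgroup.mem_centralizer_singleton_iff.1 (C.inv_mem hlC), mul_inv_cancel_right])] at hx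
    exact hxv (elem_comm hVel hx hv)
  obtain ⟨Kc, Lc, nC, hzY⟩ := comp_of_not_le hzi.mem_Z hzi.ne_one hCle
  have hCL : C ≤ Lc := b.mctx.centralizer_le_top nC.comp nC.out nC.top hzY hzi.ne_one
  have hne : Li ≠ Lc := fun e => by
    have e2 : Kc = Ki := single nI nC.comp (e ▸ nC.top.comp_le)
    exact pt_not_mem_yOf nI.comp hzi (e2 ▸ hzY)
  -- reduce the conjugating element to `K_c`
  have hdec : Lc ≤ (Lc ⊓ njOf S) ⊔ Kc := (nC.ctx b.mctx).le_sup_components.trans
    (sup_le le_sup_left (iSup_le fun K' => by rw [single nC K'.2.1 K'.2.2]; exact le_sup_right))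
  obtain ⟨q, hq, k', hk', hqk⟩ := exists_mul_of_mem_sup
    (inf_le_left.trans ((top_struct nC).trans inf_le_left) : Lc ⊓ njOf S ≤ Subgroup.normalizer (Kc : Set G))
    (hdec (hCL (C.inv_mem hlC)))
  obtain ⟨hqL, hqJ⟩ := Subgroup.mem_inf.1 hq
  have hqz : q * z * q⁻¹ = z := by
    rw [← Subgroup.mem_centralizer_iff.1 (Subgroup.mem_inf.1 (top_struct nC hqL)).2 z hzY, mul_inv_cancel_right]
  have hxp : ∃ p ∈ Kc ⊔ T, ∃ x ∈ cmap p (vK T Ki), ∃ v ∈ vK T Ki, x * v ≠ v * x := by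
    refine ⟨q * k' * q⁻¹, Subgroup.mem_sup_left
      ((Subgroup.mem_normalizer_iff.1 (Subgroup.mem_inf.1 (top_struct nC hqL)).1 k').1 hk'), x, ?_, v, hv, hxv⟩
    rw [← hqk, show q * k' = q * k' * q⁻¹ * q by group, ← cmap_cmap, fix_of_mem hqJ hqz] at hx
    exact hx
  have hp := b.jpair nI nC hne
  have hno' : ¬ NC T Ki Kc := hno nI nC hne
  have hcomT : ∀ a ∈ vK T Ki, ∀ c ∈ vK T Kc, a * c = c * a := by
    intro a ha c hc
    by_contra hac
    exact hno' ⟨a, ha, c, hc, hac⟩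
  by_cases hside : ∃ r ∈ Ki ⊔ T, ∃ a ∈ cmap r (vK T Kc), ∃ c ∈ vK T Kc, a * c ≠ c * a
  · obtain ⟨r, hr, a, ha, c, hc, hac⟩ := hside
    have hfix := hp.amalgam.fix_of_conj_noncomm (i := true) hcomT hr ha hc hac
    refine hp.not_both hno' (fun j => ?_) (fun j => ?_)
    · cases j
      · exact mem_yOf.2 ⟨(ptOf_spec hT nC.comp).mem_Z, fun k0 hk0 => hfix k0 (Subgroup.mem_sup_left hk0)⟩
      · exact hzY
    · cases j
      · exact ⟨r, hr, a, ha, c, hc, hac⟩
      · exact hxp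
  push Not at hside
  obtain ⟨p, hpP, x', hx', v', hv', hne'⟩ := hxp
  have hzfix := hp.fix_pt (i := true) hzY
  have hU := hp.amalgam.join_of_oneSided (i := true) hcomT hzfix hpP hx'
    (fun h0 => hne' ((hp.side true).qK_comm h0 hv')) hside
  have hyY : ptOf T Kc ∈ yOf T Ki := mem_yOf.2 ⟨(ptOf_spec hT nC.comp).mem_Z, fun k0 hk0 =>
    hp.amalgam.fix_of_join (i := true) hcomT hU (Subgroup.mem_sup_left hk0)⟩
  refine hp.oneSided_false true hcomT h4 hzY hyY ⟨p, hpP, x', hx', v', hv', hne'⟩ hU fun w hw => ?_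
  change w = ptOf T Kc ∨ w = z * ptOf T Kc at hw
  have hy := ptOf_spec hT nC.comp
  rcases hw with e | e
  · refine ⟨vK T Ki, elem_isPGroup hVel, le_rfl, ?_⟩
    rw [e]
    refine (b.mctx.centralizer_le_top nI.comp nI.out nI.top hyY hy.ne_one).trans ((top_struct nI).trans ?_)
    intro g hg
    obtain ⟨hgK, hgY⟩ := Subgroup.mem_inf.1 hg
    rw [vK_eq_wOf_sup_yOf hT nI.comp]
    refine sup_le_normalizer_sup (H := Subgroup.zpowers g) ?_ ?_ (Subgroup.mem_zpowers g)
    · exact Subgroup.zpowers_le.2 (normalizer_le_normalizer_wOf _ hgK)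
    · exact Subgroup.zpowers_le.2 (mem_normalizer_of_forall fun y hy => by
        rw [← Subgroup.mem_centralizer_iff.1 hgY y hy, mul_inv_cancel_right]; exact hy)
  · refine ⟨T, hT, (hp.side true).vK_le, ?_⟩
    refine le_trans ?_ b.nj_le
    by_contra hnle
    have hwZ : w ∈ zOf T := e ▸ mul_mem hzi.mem_Z hy.mem_Z
    have hzy : z ≠ ptOf T Kc := fun e1 => pt_not_mem_yOf nI.comp hzi (show z ∈ yOf T Ki by rw [e1]; exact hyY)
    have hw1 : w ≠ 1 := fun e1 => hzy (by
      rw [e] at e1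
      exact (eq_inv_of_mul_eq_one_left e1).trans (inv_eq_of_mul_eq_one_left (zOf_sq hy.mem_Z)))
    obtain ⟨K3, L3, n3, hw3⟩ := comp_of_not_le hwZ hw1 hnle
    have h3 := ptOf_spec hT n3.comp
    have hYi : ∀ u ∈ yOf T Ki, u = 1 ∨ u = ptOf T Kc := fun u hu =>
      eq_of_mem_card_two (hY nI.comp) hyY hy.ne_one hu
    have hcases : ptOf T K3 = z ∨ ptOf T K3 = ptOf T Kc ∨ ptOf T K3 = w := by
      rcases yOf_or hT nI.comp hzi h3.mem_Z with h1 | h1 <;> rcases hYi _ h1 with e1 | e1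
      · exact absurd e1 h3.ne_one
      · exact Or.inr (Or.inl e1)
      · exact Or.inl ((eq_inv_of_mul_eq_one_right e1).trans (inv_eq_of_mul_eq_one_left (zOf_sq hzi.mem_Z)))
      · refine Or.inr (Or.inr ?_)
        rw [e, ← e1, ← mul_assoc, zOf_sq hzi.mem_Z, one_mul]
    rcases hcases with e1 | e1 | e1
    · have e2 := eq_of_pt n3.comp nI.comp e1
      rw [e2, e] at hw3
      rcases hYi _ hw3 with e4 | e4
      · exact hw1 (e.trans e4)
      · exact hzi.ne_one (by simpa using e4)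
    · have e2 := eq_of_pt n3.comp nC.comp e1
      rw [e2] at hw3
      rcases eq_of_mem_card_two (hY nC.comp) hzY hzi.ne_one hw3 with e4 | e4
      · exact hw1 e4
      · exact hy.ne_one (mul_eq_left.1 (e.symm.trans e4))
    · exact pt_not_mem_yOf n3.comp h3 (e1 ▸ hw3)

end BCtx

end H77
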