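import Cfsg.Agent.H77.JRoot
import Cfsg.Agent.S2941

/-!
`J(T)`-components inside `L ∈ ℒ(T)` are exactly the groups attached to roots.
-/

set_option autoImplicit false

namespace H77

variable {G : Type*} [Group G]

/-- The preimage of `⟨s⟩` modulo `O₂(L)`. -/
def hOf (L : Subgroup G) (s : ↥L) : Subgroup G :=
  ((Subgroup.zpowers (bar L s)).comap (bar L)).map L.subtype

/-- The subgroup generated by the elements of odd order of `hOf L s`. -/
def kComp (L : Subgroup G) (s : ↥L) : Subgroup G :=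
  Subgroup.closure {g : G | g ∈ hOf L s ∧ Odd (orderOf g)}

theorem hOf_le {L : Subgroup G} (s : ↥L) : hOf L s ≤ L := Subgroup.map_subtype_le _

theorem coe_mem_hOf {L : Subgroup G} {s l : ↥L} :
    (l : G) ∈ hOf L s ↔ bar L l ∈ Subgroup.zpowers (bar L s) := by
  rw [hOf, Subgroup.mem_map]
  exact ⟨fun ⟨z, hz, he⟩ => (show l = z from Subtype.ext he.symm) ▸ hz, fun hl => ⟨l, hl, rfl⟩⟩

theorem kComp_le_hOf {L : Subgroup G} (s : ↥L) : kComp L s ≤ hOf L s :=
  (Subgroup.closure_le _).2 fun _ hg => hg.1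

theorem kComp_le {L : Subgroup G} (s : ↥L) : kComp L s ≤ L := (kComp_le_hOf s).trans (hOf_le s)

theorem qOf_le_hOf {L : Subgroup G} (s : ↥L) : qOf L ≤ hOf L s := by
  intro q hq
  have : bar L ⟨q, pCoreOf_le L hq⟩ = 1 := (bar_eq_one_iff _).2 hq
  exact (coe_mem_hOf (l := ⟨q, pCoreOf_le L hq⟩)).2 (this ▸ one_mem _)

variable [Finite G]

theorem kComp_generated (L : Subgroup G) (s : ↥L) :
    Subgroup.closure {g : G | g ∈ kComp L s ∧ Odd (orderOf g)} = kComp L s :=
  le_antisymm ((Subgroup.closure_le _).2 fun _ hg => hg.1)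
    (Subgroup.closure_mono fun _ hg => ⟨Subgroup.subset_closure hg, hg.2⟩)

/-- Whatever normalises `hOf L s` normalises `kComp L s`. -/
theorem normalizer_hOf_le (L : Subgroup G) (s : ↥L) :
    Subgroup.normalizer (hOf L s : Set G) ≤ Subgroup.normalizer (kComp L s : Set G) := by
  intro g hg
  refine mem_normalizer_of_forall fun x hx => ?_
  induction hx using Subgroup.closure_induction with
  | mem y hy =>
    refine Subgroup.subset_closure ⟨(Subgroup.mem_normalizer_iff.1 hg y).1 hy.1, ?_⟩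
    have : orderOf (g * y * g⁻¹) = orderOf y :=
      orderOf_injective (MulAut.conj g).toMonoidHom (MulAut.conj g).injective y
    rw [this]
    exact hy.2
  | one => simp
  | mul p q _ _ hp hq => rw [← conj_mul]; exact mul_mem hp hq
  | inv p _ hp => rw [← conj_inv]; exact inv_mem hp

theorem mem_normalizer_hOf {L : Subgroup G} {s g : ↥L}
    (hg : bar L g * bar L s * (bar L g)⁻¹ ∈ Subgroup.zpowers (bar L s)) :
    (g : G) ∈ Subgroup.normalizer (hOf L s : Set G) := by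
  refine mem_normalizer_of_forall fun x hx => ?_
  obtain ⟨i, hi⟩ := Subgroup.mem_zpowers_iff.1 ((coe_mem_hOf (l := ⟨x, hOf_le s hx⟩)).1 hx)
  refine (coe_mem_hOf (l := g * ⟨x, hOf_le s hx⟩ * g⁻¹)).2 ?_
  rw [map_mul, map_mul, map_inv, ← hi, ← conj_zpow]
  exact zpow_mem hg i

/-- The image group generated by inverting transvections and tiny elements. -/
abbrev bGroup (L : Subgroup G) : Subgroup ↥(xImg L) :=
  Subgroup.closure (invTransv ↥(vOf L) (Cfsg.pCore 3 ↥(xImg L))) ⊔ tinyGroup (X := ↥(xImg L)) ↥(vOf L)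

theorem bGroup_normal (L : Subgroup G) : (bGroup L).Normal := by
  haveI := tinyGroup_normal (X := ↥(xImg L)) (V := ↥(vOf L))
  haveI : (Subgroup.closure (invTransv ↥(vOf L) (Cfsg.pCore 3 ↥(xImg L)))).Normal := by
    refine ⟨fun b hb g => ?_⟩
    induction hb using Subgroup.closure_induction with
    | mem a ha =>
      obtain ⟨hat, x, hx3, hx, hinv⟩ := ha
      exact Subgroup.subset_closure ⟨hat.conj g, g * x * g⁻¹, (H1.pCore_normal' 3 _).conj_mem x hx3 g, hx.conj g,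
        by rw [show (g * x * g⁻¹)⁻¹ = g * x⁻¹ * g⁻¹ by group, ← hinv]; group⟩
    | one => simp
    | mul p q _ _ hp hq => rw [← conj_mul]; exact mul_mem hp hq
    | inv p _ hp => rw [← conj_inv]; exact inv_mem hp
  exact Subgroup.sup_normal _ _

/-- Its preimage in `G`. -/
def bOf (L : Subgroup G) : Subgroup G := ((bGroup L).comap (psi L)).map L.subtype

/-- The preimage of the tiny group in `G`. -/
def mOf (L : Subgroup G) : Subgroup G := ((tinyGroup (X := ↥(xImg L)) ↥(vOf L)).comap (psi L)).map L.subtype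

theorem bOf_le (L : Subgroup G) : bOf L ≤ L := Subgroup.map_subtype_le _

theorem mOf_le (L : Subgroup G) : mOf L ≤ L := Subgroup.map_subtype_le _

theorem coe_mem_bOf {L : Subgroup G} {l : ↥L} : (l : G) ∈ bOf L ↔ psi L l ∈ bGroup L := by
  rw [bOf, Subgroup.mem_map]
  exact ⟨fun ⟨z, hz, he⟩ => (show l = z from Subtype.ext he.symm) ▸ hz, fun hl => ⟨l, hl, rfl⟩⟩

theorem coe_mem_mOf {L : Subgroup G} {l : ↥L} :
    (l : G) ∈ mOf L ↔ psi L l ∈ tinyGroup (X := ↥(xImg L)) ↥(vOf L) := by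
  rw [mOf, Subgroup.mem_map]
  exact ⟨fun ⟨z, hz, he⟩ => (show l = z from Subtype.ext he.symm) ▸ hz, fun hl => ⟨l, hl, rfl⟩⟩

theorem le_normalizer_bOf (L : Subgroup G) : L ≤ Subgroup.normalizer (bOf L : Set G) := by
  intro l hl
  refine mem_normalizer_of_forall fun x hx => ?_
  have hxL := bOf_le L hx
  refine (coe_mem_bOf (l := ⟨l, hl⟩ * ⟨x, hxL⟩ * ⟨l, hl⟩⁻¹)).2 ?_
  rw [map_mul, map_mul, map_inv]
  exact (bGroup_normal L).conj_mem _ ((coe_mem_bOf (l := ⟨x, hxL⟩)).1 hx) _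

theorem le_normalizer_mOf (L : Subgroup G) : L ≤ Subgroup.normalizer (mOf L : Set G) := by
  intro l hl
  refine mem_normalizer_of_forall fun x hx => ?_
  have hxL := mOf_le L hx
  refine (coe_mem_mOf (l := ⟨l, hl⟩ * ⟨x, hxL⟩ * ⟨l, hl⟩⁻¹)).2 ?_
  rw [map_mul, map_mul, map_inv]
  exact tinyGroup_normal.conj_mem _ ((coe_mem_mOf (l := ⟨x, hxL⟩)).1 hx) _

namespace JCtx

variable {T L : Subgroup G} (h : JCtx T L)
include h

theorem q_le_normalizer_J : qOf L ≤ Subgroup.normalizer (Cfsg.thompsonSubgroupOf 2 T : Set G) :=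
  h.q_le_T.trans (Subgroup.le_normalizer.trans (normalizer_le_normalizer_thompson T))

/-- The Thompson subgroup of every 2-subgroup of `L` containing `J(T)` is `J(T)`. -/
theorem thompson_of_twoGroup {P : Subgroup G} (hP : IsPGroup 2 ↥P) (hPL : P ≤ L)
    (hJP : Cfsg.thompsonSubgroupOf 2 T ≤ P) :
    Cfsg.thompsonSubgroupOf 2 P = Cfsg.thompsonSubgroupOf 2 T := by
  obtain ⟨g, hg, hgP⟩ := exists_cmap_le_sylTwo h.sylT hP hPL
  set J := Cfsg.thompsonSubgroupOf 2 T with hJ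
  have h1 : cmap g J ≤ J := by
    have h2 := thompson_mono (S := cmap g T) (S' := T)
      (by rw [thompson_cmap]; exact (cmap_mono g hJP).trans hgP) (maxOrder_cmap g T).ge
    rwa [thompson_cmap] at h2
  have h3 : cmap g J = J := Subgroup.eq_of_le_of_card_ge h1 (card_cmap g J).ge
  have h4 : Cfsg.thompsonSubgroupOf 2 (cmap g P) = J :=
    thompson_eq_of_thompson_le hgP (h3.symm.le.trans (cmap_mono g hJP))
  rw [thompson_cmap, ← h3] at h4
  exact Subgroup.map_injective (MulAut.conj g).injective h4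

theorem J_le_bOf : Cfsg.thompsonSubgroupOf 2 T ≤ bOf L := by
  rw [thompson_eq]
  refine sSup_le fun A hA => fun a ha => ?_
  refine (coe_mem_bOf (l := ⟨a, h.T_le (hA.1 ha)⟩)).2 ?_
  refine Subgroup.mem_sup_left ?_
  exact Subgroup.closure_mono (fun _ hz => hz.2) (h.mea_le_closure hA (imgHom_mem_imgOf _ ha))

/-- `J(T)` normalises the image of every tiny element of `O₃`. -/
theorem J_psi_normalizes {x : ↥(xImg L)} (hx : IsTiny ↥(vOf L) x) (hx3 : x ∈ Cfsg.pCore 3 ↥(xImg L)) {j : ↥L}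
    (hj : (j : G) ∈ Cfsg.thompsonSubgroupOf 2 T) : psi L j * x * (psi L j)⁻¹ ∈ Subgroup.zpowers x := by
  have key : Cfsg.thompsonSubgroupOf 2 T ≤
      ((Subgroup.normalizer (Subgroup.zpowers x : Set ↥(xImg L))).comap (psi L)).map L.subtype := by
    rw [thompson_eq]
    refine sSup_le fun A hA => fun a ha => ?_
    refine ⟨⟨a, h.T_le (hA.1 ha)⟩, ?_, rfl⟩
    refine Subgroup.mem_comap.2 ((Subgroup.closure_le _).2 ?_ (h.mea_le_closure hA (imgHom_mem_imgOf _ ha)))
    rintro b ⟨-, hb, -⟩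
    refine mem_normalizer_of_forall fun z hz => ?_
    obtain ⟨i, rfl⟩ := Subgroup.mem_zpowers_iff.1 hz
    rw [← conj_zpow]
    refine zpow_mem ?_ i
    rcases transv_conj_tiny omega_sq hb hx (tiny_commute omega_sq _ (H1.isPGroup_pCore 3 _) x _ hx3
        ((H1.pCore_normal' 3 _).conj_mem x hx3 b) hx (hx.conj b)) with e | e <;> rw [e]
    · exact Subgroup.mem_zpowers x
    · exact inv_mem (Subgroup.mem_zpowers x)
  obtain ⟨l, hl, he⟩ := key hj
  obtain rfl : l = j := Subtype.ext he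
  exact (Subgroup.mem_normalizer_iff.1 hl x).1 (Subgroup.mem_zpowers x)

variable {a s : ↥L} (r : IsRoot T L a s)
include r

theorem bar_root_ne : bar L s ≠ 1 := fun h1 => by
  have h2 := psi_eq_of_bar_eq (h1.trans (map_one _).symm)
  have h3 := r.tiny.1
  rw [h2, map_one, orderOf_one] at h3
  omega

theorem orderOf_bar_root : orderOf (bar L s) = 3 := by
  haveI : Fact (Nat.Prime 3) := ⟨Nat.prime_three⟩
  exact orderOf_eq_prime (by rw [← map_pow, r.s_cube, map_one]) (h.bar_root_ne r)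

theorem root_mem_kComp : (s : G) ∈ kComp L s :=
  Subgroup.subset_closure ⟨coe_mem_hOf.2 (Subgroup.mem_zpowers _), by
    rw [Subgroup.orderOf_coe, r.s_order]; decide⟩

theorem cOf_le_normalizer_hOf : cOf L ≤ Subgroup.normalizer (hOf L s : Set G) := by
  intro c hc
  refine mem_normalizer_hOf (g := ⟨c, cOf_le L hc⟩) ?_
  have h1 := h.commute_ker_root r (c := ⟨c, cOf_le L hc⟩) ((psi_eq_one_iff _).2 hc)
  rw [← h1.eq, mul_inv_cancel_right]
  exact Subgroup.mem_zpowers _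

theorem J_le_normalizer_hOf :
    Cfsg.thompsonSubgroupOf 2 T ≤ Subgroup.normalizer (hOf L s : Set G) := by
  intro j hj
  exact mem_normalizer_hOf (g := ⟨j, h.J_le_L hj⟩)
    (h.normalize_root r (thompson_le T hj) (h.J_psi_normalizes r.tiny r.o3 hj))

theorem mOf_le_normalizer_hOf : mOf L ≤ Subgroup.normalizer (hOf L s : Set G) := by
  intro m hm
  refine mem_normalizer_hOf (g := ⟨m, mOf_le L hm⟩) ?_
  rw [(h.tiny_commute_root r ((coe_mem_mOf (l := ⟨m, mOf_le L hm⟩)).1 hm)).eq, mul_inv_cancel_right]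
  exact Subgroup.mem_zpowers _

theorem q_le_normalizer_kComp : qOf L ≤ Subgroup.normalizer (kComp L s : Set G) :=
  ((qOf_le_hOf s).trans Subgroup.le_normalizer).trans (normalizer_hOf_le L s)

theorem J_le_normalizer_kComp :
    Cfsg.thompsonSubgroupOf 2 T ≤ Subgroup.normalizer (kComp L s : Set G) :=
  (h.J_le_normalizer_hOf r).trans (normalizer_hOf_le L s)

theorem kComp_relIndex : (kComp L s ⊓ qOf L).relIndex (kComp L s) = 3 := by
  set f := (bar L).comp (Subgroup.inclusion (kComp_le s)) with hf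
  have hker : f.ker = (kComp L s ⊓ qOf L).subgroupOf (kComp L s) := by
    ext k
    rw [MonoidHom.mem_ker, Subgroup.mem_subgroupOf, Subgroup.mem_inf]
    exact ⟨fun hk => ⟨k.2, (bar_eq_one_iff _).1 hk⟩, fun hk => (bar_eq_one_iff _).2 hk.2⟩
  have hrange : f.range = Subgroup.zpowers (bar L s) := by
    refine le_antisymm ?_ (Subgroup.zpowers_le.2 ⟨⟨s, h.root_mem_kComp r⟩, rfl⟩)
    rintro _ ⟨k, rfl⟩
    exact (coe_mem_hOf (l := Subgroup.inclusion (kComp_le s) k)).1 (kComp_le_hOf s k.2)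
  rw [Subgroup.relIndex, ← hker, Subgroup.index_ker, hrange, Nat.card_zpowers, h.orderOf_bar_root r]

theorem pCoreOf_kComp : Cfsg.pCoreOf 2 (kComp L s) = kComp L s ⊓ qOf L := by
  refine le_antisymm (le_inf (pCoreOf_le _) fun x hx => ?_) ?_
  · have hxK : x ∈ kComp L s := pCoreOf_le _ hx
    obtain ⟨k, hk⟩ := pow_two_pow_of_mem (isPGroup_pCoreOf _) hx
    have h1 := (coe_mem_hOf (l := ⟨x, kComp_le s hxK⟩)).1 (kComp_le_hOf s hxK)
    have h2 : bar L ⟨x, kComp_le s hxK⟩ ^ 2 ^ k = 1 := by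
      rw [← map_pow, show (⟨x, kComp_le s hxK⟩ : ↥L) ^ 2 ^ k = 1 from
        Subtype.ext (by rw [SubmonoidClass.coe_pow, OneMemClass.coe_one]; exact hk), map_one]
    refine (bar_eq_one_iff ⟨x, kComp_le s hxK⟩).1 (eq_one_of_two_pow_of_odd h2 ?_)
    refine Odd.of_dvd_nat (show Odd 3 by decide) ?_
    rw [← h.orderOf_bar_root r]
    exact orderOf_dvd_of_mem_zpowers h1
  · refine le_pCoreOf inf_le_left ((isPGroup_pCoreOf L).to_le inf_le_right) ?_
    exact (le_inf Subgroup.le_normalizer ((kComp_le s).trans (le_normalizer_pCoreOf L))).trans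
      Subgroup.inf_normalizer_le_normalizer_inf

theorem kComp_commutator :
    ⁅kComp L s, Cfsg.thompsonSubgroupOf 2 T⁆ = kComp L s := by
  set K := kComp L s with hK
  set J := Cfsg.thompsonSubgroupOf 2 T with hJ
  have hle : ⁅K, J⁆ ≤ K := by
    rw [Subgroup.commutator_le]
    intro k hk j hj
    rw [commutatorElement_def]
    have := K.mul_mem hk ((Subgroup.mem_normalizer_iff.1 (h.J_le_normalizer_kComp r hj) k⁻¹).1 (inv_mem hk))
    simpa [mul_assoc] using this
  have hs2 : (s : G) * (s : G) ∈ ⁅K, J⁆ := by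
    have h1 := Subgroup.commutator_mem_commutator (h.root_mem_kComp r) r.a_mem_J
    rw [commutatorElement_def] at h1
    have he : s * a * s⁻¹ * a⁻¹ = s * s := by
      rw [mul_assoc s a, mul_assoc s, show a * s⁻¹ * a⁻¹ = s by rw [← conj_inv, r.inv, inv_inv]]
    have he' := congrArg Subtype.val he
    simp only [Subgroup.coe_mul, Subgroup.coe_inv] at he'
    rwa [he'] at h1
  have hs : (s : G) ∈ ⁅K, J⁆ := by
    have h2 := mul_mem hs2 hs2
    have he : (s : G) * s * (s * s) = s := by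
      have := congrArg Subtype.val r.s_cube
      rw [SubmonoidClass.coe_pow, OneMemClass.coe_one, pow_three] at this
      rw [← mul_assoc, mul_assoc (s : G) s s, this, one_mul]
    rwa [he] at h2
  have hnK : K ≤ Subgroup.normalizer ((⁅K, J⁆ : Subgroup G) : Set G) :=
    H1.left_le_normalizer_commutator (A := J) (K := K)
  refine le_antisymm hle ?_
  conv_lhs => rw [hK, ← kComp_generated L s]
  rw [Subgroup.closure_le]
  rintro g ⟨hg, ho⟩
  refine mem_of_odd_of_mem_sup ((isPGroup_pCoreOf L).to_le (inf_le_right : K ⊓ qOf L ≤ qOf L))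
    (inf_le_left.trans hnK) ?_ ho
  obtain ⟨i, hi⟩ := Subgroup.mem_zpowers_iff.1 ((coe_mem_hOf (l := ⟨g, kComp_le s hg⟩)).1 (kComp_le_hOf s hg))
  have hq : g * ((s : G) ^ i)⁻¹ ∈ K ⊓ qOf L := by
    refine Subgroup.mem_inf.2 ⟨K.mul_mem hg (inv_mem (zpow_mem (h.root_mem_kComp r) i)), ?_⟩
    have h1 : bar L (⟨g, kComp_le s hg⟩ * (s ^ i)⁻¹) = 1 := by rw [map_mul, map_inv, map_zpow, hi, mul_inv_cancel]
    exact (bar_eq_one_iff _).1 h1
  rw [show g = g * ((s : G) ^ i)⁻¹ * (s : G) ^ i by group]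
  exact mul_mem (Subgroup.mem_sup_left hq) (Subgroup.mem_sup_right (zpow_mem hs i))

/-- `W = [V, s]` inside `G`. -/
theorem wOf_kComp : Cfsg.wOf (kComp L s) =
      ((disp (psi L s) : ↥(vOf L) →* ↥(vOf L)).range).map (vOf L).subtype ∧
    Nat.card ↥(Cfsg.wOf (kComp L s)) = 4 := by
  set K := kComp L s with hK
  set J := Cfsg.thompsonSubgroupOf 2 T with hJ
  set R := Cfsg.pCoreOf 2 K with hR
  have hRQ : R = K ⊓ qOf L := h.pCoreOf_kComp r
  set U := Cfsg.omegaCenterOf R with hU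
  have hKN : K ⊔ J ≤ Subgroup.normalizer (U : Set G) := by
    refine (sup_le (le_normalizer_pCoreOf K) ?_).trans (normalizer_le_normalizer_omegaCenterOf R)
    rw [← hR, hRQ]
    exact (le_inf (h.J_le_normalizer_kComp r) (h.J_le_L.trans (le_normalizer_pCoreOf L))).trans
      Subgroup.inf_normalizer_le_normalizer_inf
  set p := imgHom hKN with hp
  let sK : ↥(K ⊔ J : Subgroup G) := ⟨s, Subgroup.mem_sup_left (h.root_mem_kComp r)⟩
  let aK : ↥(K ⊔ J : Subgroup G) := ⟨a, Subgroup.mem_sup_right r.a_mem_J⟩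
  set x := p sK with hx
  -- elements congruent modulo `O₂(L)` to powers of `s` act as such powers on `U`
  have hact : ∀ (k : ↥(K ⊔ J : Subgroup G)), (k : G) ∈ K → p k ∈ Subgroup.zpowers x := by
    intro k hk
    obtain ⟨i, hi⟩ := Subgroup.mem_zpowers_iff.1 ((coe_mem_hOf (L := L) (l := ⟨(k : G), kComp_le s hk⟩)).1 (kComp_le_hOf s hk))
    have h1 : p (k * (sK ^ i)⁻¹) = 1 := by
      rw [imgHom_eq_one_iff, Subgroup.mem_centralizer_iff]
      intro u hu
      have hmem : (k : G) * ((s : G) ^ i)⁻¹ ∈ R := by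
        rw [hRQ]
        refine Subgroup.mem_inf.2 ⟨K.mul_mem hk (inv_mem (zpow_mem (h.root_mem_kComp r) i)), ?_⟩
        have h1 : bar L (⟨k, kComp_le s hk⟩ * (s ^ i)⁻¹) = 1 := by
          rw [map_mul, map_inv, map_zpow, hi, mul_inv_cancel]
        exact (bar_eq_one_iff _).1 h1
      simpa [sK] using ((mem_omegaCenterOf.1 hu).2.1 _ hmem).symm
    rw [map_mul, map_inv, map_zpow, mul_inv_eq_one] at h1
    exact h1 ▸ zpow_mem (Subgroup.mem_zpowers x) i
  -- `[V, s]` lies in `U`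
  have hWU : ∀ v : ↥(vOf L), ((disp (psi L s) v : ↥(vOf L)) : G) ∈ U := by
    intro v
    have hvQ : (v : G) ∈ qOf L := omegaCenterOf_le _ v.2
    have hwV := (disp (psi L s) v).2
    obtain ⟨hw1, hw2, hw3⟩ := mem_omegaCenterOf.1 hwV
    refine mem_omegaCenterOf.2 ⟨?_, fun y hy => hw2 y (Subgroup.mem_inf.1 (hRQ ▸ hy)).2, hw3⟩
    rw [hRQ]
    refine Subgroup.mem_inf.2 ⟨?_, hw1⟩
    rw [disp_coe]
    have h1 := (Subgroup.mem_normalizer_iff.1 (h.q_le_normalizer_kComp r hvQ) (s : G)⁻¹).1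
      (inv_mem (h.root_mem_kComp r))
    have := K.mul_mem (h.root_mem_kComp r) h1
    simpa [mul_assoc] using this
  have hWX : ∀ v : ↥(vOf L), ((disp x ⟨_, hWU v⟩ : ↥U) : G) = ((disp (psi L s) (disp (psi L s) v) : ↥(vOf L)) : G) :=
    fun v => rfl
  -- the element moves a point
  have hx1 : x ≠ 1 := by
    intro h1
    obtain ⟨w, hw, hw1⟩ : ∃ w ∈ (disp (psi L s) : ↥(vOf L) →* ↥(vOf L)).range, w ≠ 1 := by
      refine (Subgroup.bot_or_exists_ne_one _).resolve_left fun h0 => ?_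
      have h4 := r.tiny.2
      rw [h0, Subgroup.card_bot] at h4
      omega
    obtain ⟨v, rfl⟩ := hw
    refine hw1 (range_disp_fix_eq_one omega_sq r.tiny.odd ⟨v, rfl⟩ (Subtype.ext ?_))
    rw [imgHom_smul_coe]
    have h2 := congrArg (Subtype.val (p := fun z => z ∈ U))
      (show p sK • (⟨_, hWU v⟩ : ↥U) = ⟨_, hWU v⟩ by rw [← hx, h1, one_smul])
    rw [imgHom_smul_coe] at h2
    exact h2
  have hx3 : x ^ 3 = 1 := by
    rw [hx, ← map_pow, show sK ^ 3 = 1 from Subtype.ext (by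
      have := congrArg Subtype.val r.s_cube
      simpa [sK] using this), map_one]
  have hodd : Odd (orderOf x) := Odd.of_dvd_nat (show Odd 3 by decide) (orderOf_dvd_of_pow_eq_one hx3)
  obtain ⟨A, hA, haA⟩ := r.a_mem
  have hAN : A ≤ K ⊔ J := (mea_le_thompson hA).trans le_sup_right
  set Ai := imgOf hKN A with hAi
  set B := Ai ⊓ Subgroup.centralizer ({x} : Set _) with hB
  have haA' : p aK ∈ Ai := imgHom_mem_imgOf hKN haA
  have hinv : p aK * x * (p aK)⁻¹ = x⁻¹ := by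
    rw [hx, ← map_inv, ← map_mul, ← map_mul, ← map_inv]
    congr 1
    have := congrArg Subtype.val r.inv
    exact Subtype.ext (by simpa [aK, sK] using this)
  have ha2 : p aK * p aK = 1 := imgOf_sq hKN hA.2.1 _ haA'
  have hsplit : ∀ y ∈ Ai, y ∈ B ∨ p aK * y ∈ B := by
    intro y hy
    obtain ⟨b, hb, rfl⟩ := (mem_imgOf hKN).1 hy
    have hbJ : (b : G) ∈ J := mea_le_thompson hA hb
    have hbk : ((b * sK * b⁻¹ : ↥(K ⊔ J : Subgroup G)) : G) ∈ K :=
      (Subgroup.mem_normalizer_iff.1 (h.J_le_normalizer_kComp r hbJ) _).1 (h.root_mem_kComp r)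
    have h1 := hact _ hbk
    rw [map_mul, map_mul, map_inv, ← hx] at h1
    by_cases hne : p b * x * (p b)⁻¹ = x
    · exact Or.inl (Subgroup.mem_inf.2 ⟨hy, Subgroup.mem_centralizer_singleton_iff.2
        (mul_inv_eq_iff_eq_mul.1 hne)⟩)
    · haveI : Fact (Nat.Prime 3) := ⟨Nat.prime_three⟩
      have h2 := (eq_or_eq_inv_of_mem_zpowers (orderOf_eq_prime hx3 hx1) h1
        (fun h3 => hx1 (conj_eq_one_iff.1 h3))).resolve_left hne
      refine Or.inr (Subgroup.mem_inf.2 ⟨mul_mem haA' hy, Subgroup.mem_centralizer_singleton_iff.2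
        (mul_inv_eq_iff_eq_mul.1 ?_)⟩)
      calc p aK * p b * x * (p aK * p b)⁻¹ = p aK * (p b * x * (p b)⁻¹) * (p aK)⁻¹ := by group
        _ = (p aK * x * (p aK)⁻¹)⁻¹ := by rw [h2]; group
        _ = x := by rw [hinv, inv_inv]
  have hnotB : p aK ∉ B := by
    intro hm
    have h1 := Subgroup.mem_centralizer_singleton_iff.1 (Subgroup.mem_inf.1 hm).2
    rw [h1, mul_inv_cancel_right] at hinv
    exact hx1 (eq_one_of_two_pow_of_odd (k := 1) (by rw [pow_one, sq]; nth_rw 2 [hinv]; exact mul_inv_cancel x) hodd)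
  have hcard : Nat.card ↥Ai = 2 * Nat.card ↥B := by
    rw [← relIndex_mul_card (inf_le_left : B ≤ Ai)]
    congr 1
    rw [Subgroup.relIndex, Subgroup.index_eq_two_iff]
    refine ⟨⟨p aK, haA'⟩, fun y => ?_⟩
    simp only [Subgroup.mem_subgroupOf, Subgroup.coe_mul]
    rcases hsplit y y.2 with hy | hy
    · refine Or.inr ⟨hy, fun h1 => hnotB ?_⟩
      have := B.mul_mem (inv_mem hy) h1
      rwa [inv_mul_cancel_left] at this
    · have hy' : (y : _) * p aK ∈ B := by rwa [imgOf_comm hKN hA.2.1 _ y.2 _ haA']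
      refine Or.inl ⟨hy', fun h1 => hnotB ?_⟩
      have := B.mul_mem hy (inv_mem h1)
      rwa [mul_inv_cancel_right] at this
  have hAgen : Ai ≤ B ⊔ Subgroup.zpowers (p aK) := by
    intro y hy
    rcases hsplit y hy with h1 | h1
    · exact Subgroup.mem_sup_left h1
    · rw [show y = (p aK)⁻¹ * (p aK * y) by group]
      exact mul_mem (Subgroup.mem_sup_right (inv_mem (Subgroup.mem_zpowers _))) (Subgroup.mem_sup_left h1)
  have hUT : U ≤ T := (omegaCenterOf_le R).trans ((hRQ.le.trans inf_le_right).trans h.q_le_T)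
  obtain ⟨h4, -, -⟩ := key_four omega_sq (isOffer_imgOf hKN hA hUT hAN) inf_le_left hcard
    (fun b hb => imgOf_sq hKN hA.2.1 b (Subgroup.mem_inf.1 hb).1)
    (fun b hb b' hb' => imgOf_comm hKN hA.2.1 b (Subgroup.mem_inf.1 hb).1 b' (Subgroup.mem_inf.1 hb').1)
    haA' hAgen ha2 (fun b hb => imgOf_comm hKN hA.2.1 b (Subgroup.mem_inf.1 hb).1 _ haA')
    (fun b hb => Subgroup.mem_centralizer_singleton_iff.1 (Subgroup.mem_inf.1 hb).2) hodd hx1 hinv
  -- identify the commutator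
  have hW : Cfsg.wOf K = ((disp x : ↥U →* ↥U).range).map U.subtype := by
    refine le_antisymm ?_ ?_
    · show ⁅U, K⁆ ≤ _
      rw [Subgroup.commutator_le]
      intro u hu k hk
      let kK : ↥(K ⊔ J : Subgroup G) := ⟨k, Subgroup.mem_sup_left hk⟩
      have h1 : disp (p kK) ⟨u, hu⟩ ∈ (disp x : ↥U →* ↥U).range := by
        by_cases hk1 : p kK = 1
        · rw [mem_ker_disp.2 (by rw [hk1, one_smul])]; exact one_mem _
        · haveI : Fact (Nat.Prime 3) := ⟨Nat.prime_three⟩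
          rcases eq_or_eq_inv_of_mem_zpowers (orderOf_eq_prime hx3 hx1) (hact kK hk) hk1 with e | e <;> rw [e]
          · exact ⟨_, rfl⟩
          · rw [← range_disp_inv x]; exact ⟨_, rfl⟩
      refine ⟨(disp (p kK) ⟨u, hu⟩)⁻¹, inv_mem h1, ?_⟩
      change ((disp (p kK) ⟨u, hu⟩ : ↥U) : G)⁻¹ = _
      rw [disp_coe, commutatorElement_def]
      simp only [kK, mul_inv_rev, inv_inv, mul_assoc]
    · rintro _ ⟨_, ⟨u, rfl⟩, rfl⟩
      change ((disp x u : ↥U) : G) ∈ Cfsg.wOf K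
      rw [hx, disp_coe, Cfsg.wOf, Subgroup.commutator_comm]
      exact Subgroup.commutator_mem_commutator (h.root_mem_kComp r) u.2
  have hW4 : Nat.card ↥(Cfsg.wOf K) = 4 := by
    rw [hW, ← Nat.card_congr (Subgroup.equivMapOfInjective _ U.subtype U.subtype_injective).toEquiv, h4]
  refine ⟨(Subgroup.eq_of_le_of_card_ge ?_ ?_).symm, hW4⟩
  · rintro _ ⟨w, hw, rfl⟩
    have hsurj : ((disp (psi L s) : ↥(vOf L) →* ↥(vOf L)).range).map (disp (psi L s)) =
        (disp (psi L s) : ↥(vOf L) →* ↥(vOf L)).range := by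
      refine Subgroup.eq_of_le_of_card_ge ?_ ?_
      · rintro _ ⟨u, -, rfl⟩; exact ⟨u, rfl⟩
      · have h1 := card_eq_map_mul_inf (disp (psi L s) : ↥(vOf L) →* ↥(vOf L)).range (disp (psi L s))
        rw [range_inf_ker_eq_bot omega_sq r.tiny.odd, Subgroup.card_bot, mul_one] at h1
        exact h1.le
    obtain ⟨w', hw', rfl⟩ := (hsurj.symm ▸ hw : w ∈ _)
    obtain ⟨v, rfl⟩ := hw'
    rw [hW]
    exact ⟨disp x ⟨_, hWU v⟩, ⟨_, rfl⟩, hWX v⟩
  · rw [hW4, ← Nat.card_congr (Subgroup.equivMapOfInjective _ (vOf L).subtype (vOf L).subtype_injective).toEquiv,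
      r.tiny.2]

theorem isJComponent_kComp : Cfsg.IsJComponent T (kComp L s) := by
  refine ⟨kComp_generated L s, h.kComp_commutator r, ?_, ?_, (h.wOf_kComp r).2, ?_⟩
  · rw [h.pCoreOf_kComp r]; exact h.kComp_relIndex r
  · intro S hS hJS
    exact h.thompson_of_twoGroup hS.2.1 (hS.1.trans (sup_le (kComp_le s) h.J_le_L)) hJS
  · intro w hw
    rw [(h.wOf_kComp r).1] at hw
    obtain ⟨v, -, rfl⟩ := hw
    exact congrArg Subtype.val (omega_sq v)

omit r in
/-- Every component inside `L` comes from a root. -/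
theorem exists_root_of_component {K : Subgroup G} (hK : Cfsg.IsJComponent T K) (hKL : K ≤ L) :
    ∃ a s : ↥L, IsRoot T L a s ∧ K = kComp L s := by
  classical
  haveI : Fact (Nat.Prime 3) := ⟨Nat.prime_three⟩
  set J := Cfsg.thompsonSubgroupOf 2 T with hJ
  have hgen := hK.1
  have hcomm := hK.2.1
  have hidx := hK.2.2.1
  have hJK : J ≤ Subgroup.normalizer (K : Set G) := by
    conv_rhs => rw [← hcomm]
    exact H1.right_le_normalizer_commutator (A := J) (K := K)
  -- `K` lies over the tiny group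
  have hKB : K ≤ bOf L := by
    rw [← hcomm, Subgroup.commutator_le]
    intro k hk j hj
    rw [commutatorElement_def]
    exact mul_mem ((Subgroup.mem_normalizer_iff.1 (le_normalizer_bOf L (hKL hk)) j).1 (h.J_le_bOf hj))
      (inv_mem (h.J_le_bOf hj))
  have hKM : K ≤ mOf L := by
    conv_lhs => rw [← hgen]
    rw [Subgroup.closure_le]
    rintro k ⟨hk, ho⟩
    refine (coe_mem_mOf (l := ⟨k, hKL hk⟩)).2 (odd_mem_tinyGroup omega_sq ((coe_mem_bOf (l := ⟨k, hKL hk⟩)).1 (hKB hk)) ?_)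
    exact Odd.of_dvd_nat ho ((orderOf_map_dvd (psi L) _).trans (dvd_of_eq (Subgroup.orderOf_mk k (hKL hk))))
  have hKC : ¬ K ≤ cOf L := by
    intro hC
    have hKQ : K ≤ qOf L := by
      rw [← hcomm, Subgroup.commutator_le]
      intro k hk j hj
      rw [commutatorElement_def]
      exact h.comm_mem_q (hC hk) (thompson_le T hj)
    have hbot : K = ⊥ := by
      rw [← hgen, Subgroup.closure_eq_bot_iff]
      rintro k ⟨hk, ho⟩
      obtain ⟨n, hn⟩ := pow_two_pow_of_mem (isPGroup_pCoreOf L) (hKQ hk)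
      exact eq_one_of_two_pow_of_odd hn ho
    rw [hbot, Subgroup.relIndex_bot_right] at hidx
    omega
  set f := (psi L).comp (Subgroup.inclusion hKL) with hf
  have hrange : ∀ z ∈ f.range, z ∈ tinyGroup (X := ↥(xImg L)) ↥(vOf L) := by
    rintro _ ⟨k, rfl⟩
    exact (coe_mem_mOf (l := Subgroup.inclusion hKL k)).1 (hKM k.2)
  have hcard : Nat.card ↥f.range = 3 := by
    have hdvd : Nat.card ↥f.range ∣ 3 := by
      rw [← hidx, ← Subgroup.index_ker, Subgroup.relIndex]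
      refine Subgroup.index_dvd_of_le fun k hk => ?_
      rw [MonoidHom.mem_ker]
      obtain ⟨n, hn⟩ := pow_two_pow_of_mem (isPGroup_pCoreOf K) (Subgroup.mem_subgroupOf.1 hk)
      refine eq_one_of_two_pow_of_odd (k := n) ?_ ?_
      · rw [← map_pow, show k ^ 2 ^ n = 1 from Subtype.ext (by
          rw [SubmonoidClass.coe_pow, hn, OneMemClass.coe_one]), map_one]
      · obtain ⟨i, hi⟩ := IsPGroup.iff_orderOf.1 (H1.isPGroup_pCore 3 ↥(xImg L))
          ⟨f k, tinyGroup_le (hrange _ ⟨k, rfl⟩)⟩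
        rw [Subgroup.orderOf_mk] at hi
        rw [hi]
        exact (show Odd 3 by decide).pow
    rcases (Nat.dvd_prime Nat.prime_three).1 hdvd with h1 | h1
    · exfalso
      refine hKC fun k hk => (psi_eq_one_iff ⟨k, hKL hk⟩).1 ?_
      have h2 : psi L ⟨k, hKL hk⟩ ∈ f.range := ⟨⟨k, hk⟩, rfl⟩
      rwa [Subgroup.card_eq_one.1 h1, Subgroup.mem_bot] at h2
    · exact h1
  -- an inverting transvection
  obtain ⟨A, hA, b, ⟨hbA, hbt, y, hy3, hy, hby⟩, x0, hx0, hne⟩ :
      ∃ A ∈ mea T, ∃ b ∈ {b | b ∈ imgOf (le_normalizer_vOf L) A ∧ b ∈ invTransv ↥(vOf L) (Cfsg.pCore 3 ↥(xImg L))},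
        ∃ x0 ∈ f.range, b * x0 ≠ x0 * b := by
    by_contra hcon
    push Not at hcon
    refine hKC ?_
    have hJc : J ≤ ((Subgroup.centralizer (f.range : Set ↥(xImg L))).comap (psi L)).map L.subtype := by
      rw [hJ, thompson_eq]
      refine sSup_le fun A hA => fun c hc => ⟨⟨c, h.T_le (hA.1 hc)⟩, ?_, rfl⟩
      refine Subgroup.mem_comap.2 ((Subgroup.closure_le _).2 ?_ (h.mea_le_closure hA (imgHom_mem_imgOf _ hc)))
      intro b hb
      exact Subgroup.mem_centralizer_iff.2 fun z hz => (hcon A hA b hb z hz).symm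
    rw [← hcomm, Subgroup.commutator_le]
    intro k hk j hj
    obtain ⟨l, hl, rfl⟩ := hJc hj
    rw [commutatorElement_def]
    refine (psi_eq_one_iff (⟨k, hKL hk⟩ * l * ⟨k, hKL hk⟩⁻¹ * l⁻¹)).1 ?_
    rw [map_mul, map_mul, map_mul, map_inv, map_inv,
      Subgroup.mem_centralizer_iff.1 hl _ (⟨⟨k, hk⟩, rfl⟩ : psi L ⟨k, hKL hk⟩ ∈ f.range), mul_inv_cancel_right,
      mul_inv_cancel]
  obtain ⟨a, s, r, rfl, rfl⟩ := h.exists_root hA hbA hbt hy hy3 hby
  have hxK : psi L s ∈ f.range := by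
    have h1 : psi L a * x0 * (psi L a)⁻¹ * x0⁻¹ ∈ f.range := by
      refine mul_mem ?_ (inv_mem hx0)
      obtain ⟨k, rfl⟩ := hx0
      refine ⟨⟨(a : G) * k * (a : G)⁻¹, (Subgroup.mem_normalizer_iff.1 (hJK r.a_mem_J) k).1 k.2⟩, ?_⟩
      simp only [hf, MonoidHom.comp_apply, ← map_inv, ← map_mul]
      rfl
    have h2 := transv_commutator_mem omega_sq r.transv r.tiny r.o3 r.psi_conj (hrange _ hx0)
    have h3 : psi L a * x0 * (psi L a)⁻¹ * x0⁻¹ ≠ 1 := fun e => hne (by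
      rw [mul_inv_eq_one] at e; exact mul_inv_eq_iff_eq_mul.1 e)
    rcases eq_or_eq_inv_of_mem_zpowers r.tiny.1 h2 h3 with e | e
    · exact e ▸ h1
    · have := inv_mem (e ▸ h1)
      rwa [inv_inv] at this
  have hfz : f.range = Subgroup.zpowers (psi L s) :=
    (Subgroup.eq_of_le_of_card_ge (Subgroup.zpowers_le.2 hxK) (by rw [hcard, Nat.card_zpowers, r.tiny.1])).symm
  have hKH : K ≤ hOf L s := by
    rw [← hcomm, Subgroup.commutator_le]
    intro k hk j hj
    obtain ⟨c, i, hc, hci, hsc⟩ :=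
      h.decomp r (l := ⟨k, hKL hk⟩) (hfz ▸ (⟨⟨k, hk⟩, rfl⟩ : psi L ⟨k, hKL hk⟩ ∈ f.range))
    set jL : ↥L := ⟨j, h.J_le_L hj⟩
    obtain ⟨e, he⟩ := Subgroup.mem_zpowers_iff.1
      (h.normalize_root r (j := jL) (thompson_le T hj) (h.J_psi_normalizes r.tiny r.o3 hj))
    rw [commutatorElement_def]
    refine (coe_mem_hOf (l := ⟨k, hKL hk⟩ * jL * ⟨k, hKL hk⟩⁻¹ * jL⁻¹)).2 ?_
    refine Subgroup.mem_zpowers_iff.2 ⟨i - e * i, ?_⟩
    have hcj : Commute (bar L c) (bar L jL) := h.commute_ker hc (thompson_le T hj)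
    rw [map_mul, map_mul, map_mul, map_inv, map_inv, hci]
    have h5 : bar L jL * bar L s ^ (-i) * (bar L jL)⁻¹ = bar L s ^ (-(e * i)) := by
      rw [← conj_zpow, ← he, ← zpow_mul, mul_neg]
    symm
    calc bar L c * bar L s ^ i * bar L jL * (bar L c * bar L s ^ i)⁻¹ * (bar L jL)⁻¹
        = bar L c * bar L s ^ i * (bar L jL * bar L s ^ (-i) * (bar L jL)⁻¹) * (bar L jL * (bar L c)⁻¹ * (bar L jL)⁻¹) := by
          group
      _ = bar L c * bar L s ^ (i - e * i) * (bar L c)⁻¹ := by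
          rw [h5, ← hcj.inv_left.eq, mul_inv_cancel_right]; group
      _ = bar L s ^ (i - e * i) := by rw [← (hsc.zpow_left _).eq, mul_inv_cancel_right]
  refine ⟨a, s, r, le_antisymm ?_ ?_⟩
  · conv_lhs => rw [← hgen]
    exact Subgroup.closure_mono fun k hk => ⟨hKH hk.1, hk.2⟩
  obtain ⟨k0, hk0⟩ := hxK
  have hbk0 : bar L (Subgroup.inclusion hKL k0) = bar L s := by
    obtain ⟨e, he⟩ := Subgroup.mem_zpowers_iff.1 ((coe_mem_hOf (l := Subgroup.inclusion hKL k0)).1 (hKH k0.2))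
    have h1 : psi L (s ^ e) = psi L (Subgroup.inclusion hKL k0) := psi_eq_of_bar_eq (by rw [map_zpow, he])
    have h1' : psi L (s ^ (e - 1)) = 1 := by
      rw [map_zpow, zpow_sub_one, ← map_zpow, h1, mul_inv_eq_one]; exact hk0
    rw [map_zpow] at h1'
    rw [← he, ← map_zpow, show s ^ e = s ^ (e - 1) * s by rw [zpow_sub_one, inv_mul_cancel_right],
      r.zpow_psi_eq_one h1', one_mul]
  have hQK : qOf L ≤ Subgroup.normalizer (K : Set G) :=
    Cfsg.Agent.S2941.result h.char2 h.sol h.cen T h.T_pgroup h.T_ne_bot K hK (qOf L)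
      ((sup_le hKL h.J_le_L).trans (le_normalizer_pCoreOf L)) h.q_le_normalizer_J
  rw [kComp, Subgroup.closure_le]
  rintro g ⟨hg, ho⟩
  refine mem_of_odd_of_mem_sup (isPGroup_pCoreOf L) hQK ?_ ho
  obtain ⟨i, hi⟩ := Subgroup.mem_zpowers_iff.1 ((coe_mem_hOf (l := ⟨g, hOf_le s hg⟩)).1 hg)
  have hq : g * ((k0 : G) ^ i)⁻¹ ∈ qOf L := by
    have h1 : bar L (⟨g, hOf_le s hg⟩ * (Subgroup.inclusion hKL k0 ^ i)⁻¹) = 1 := by
      rw [map_mul, map_inv, map_zpow, hbk0, hi, mul_inv_cancel]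
    exact (bar_eq_one_iff _).1 h1
  rw [show g = g * ((k0 : G) ^ i)⁻¹ * (k0 : G) ^ i by group]
  exact mul_mem (Subgroup.mem_sup_left hq) (Subgroup.mem_sup_right (zpow_mem k0.2 i))

end JCtx

end H77
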