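import Cfsg.Agent.H77.JMain
import Mathlib.GroupTheory.GroupAction.Quotient
import Mathlib.GroupTheory.NoncommCoprod
import Mathlib.GroupTheory.SpecificGroups.Cyclic
import Mathlib.GroupTheory.Perm.Basic

/-!
`⟨K, T⟩` for a non-commuting pair: index data and the isomorphism type `Σ₄` or `Σ₄ × ℤ₂`.
-/

set_option autoImplicit false

namespace H77

variable {G : Type*} [Group G] [Finite G]

namespace Norm1

variable {T K L : Subgroup G} (h : Norm1 T K L)
include h

theorem qK_relIndex : (qK T K).relIndex T = 2 := by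
  obtain ⟨t, ht, htQ⟩ := h.qK_ne
  rw [Subgroup.relIndex, Subgroup.index_eq_two_iff]
  refine ⟨⟨t, ht⟩, fun b => ?_⟩
  simp only [Subgroup.mem_subgroupOf, Subgroup.coe_mul]
  by_cases hb : (b : G) ∈ qK T K
  · refine Or.inr ⟨hb, fun h1 => htQ ?_⟩
    have := mul_mem (inv_mem hb) h1
    rwa [inv_mul_cancel_left] at this
  · refine Or.inl ⟨h.idx b.2 ht hb htQ, hb⟩

theorem relIndex_six : (qK T K).relIndex (K ⊔ T) = 6 := by
  rw [← Subgroup.relIndex_mul_relIndex (qK T K) T (K ⊔ T) inf_le_left le_sup_right, h.qK_relIndex,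
    h.relIndex_eq_three]

theorem core_eq : Cfsg.pCoreOf 2 (K ⊔ T) = qK T K := by
  set R := Cfsg.pCoreOf 2 (K ⊔ T) with hR
  have hQR : qK T K ≤ R := le_pCoreOf ((inf_le_left : qK T K ≤ T).trans le_sup_right)
    (h.ctx.T_pgroup.to_le inf_le_left) h.le_normalizer_qK
  refine le_antisymm (fun x hx => ?_) hQR
  by_contra hxQ
  have hxT : x ∈ T := pCoreOf_le_sylTwo h.sylow hx
  refine jcomp_not_J_le_pCoreOf h.comp (le_sup_left : K ≤ K ⊔ T) ((thompson_le T).trans fun t ht => ?_)
  by_cases htQ : t ∈ qK T K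
  · exact hQR htQ
  · have := R.mul_mem (R.inv_mem hx) (hQR (h.idx hxT ht hxQ htQ))
    rwa [inv_mul_cancel_left] at this

theorem commutator_not_le : ¬ ⁅K ⊔ T, K ⊔ T⁆ ≤ qK T K := by
  intro hle
  refine h.not_normal fun p hp => mem_normalizer_of_forall fun t ht => ?_
  have h1 := (Subgroup.mem_inf.1 (hle (Subgroup.commutator_mem_commutator hp (Subgroup.mem_sup_right ht)))).1
  rw [commutatorElement_def] at h1
  have := T.mul_mem h1 ht
  rwa [inv_mul_cancel_right] at this

theorem card_P : Nat.card ↥(K ⊔ T : Subgroup G) = 6 * Nat.card ↥(qK T K) := by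
  have hle : qK T K ≤ K ⊔ T := (inf_le_left : qK T K ≤ T).trans le_sup_right
  rw [← relIndex_mul_card hle, h.relIndex_six]

/-- With `Q = V`, and an involution of `T` outside `V`: the isomorphism type. -/
theorem iso_type (hQV : qK T K = vK T K) {t : G} (ht : t ∈ T) (ht2 : t * t = 1) (htV : t ∉ vK T K)
    (h4 : Nat.card ↥(zOf T) ≤ 4) :
    (Nat.card ↥(zOf T) = 2 → Nonempty (↥(K ⊔ T : Subgroup G) ≃* Equiv.Perm (Fin 4))) ∧
      (Nat.card ↥(zOf T) = 4 →
        Nonempty (↥(K ⊔ T : Subgroup G) ≃* Equiv.Perm (Fin 4) × Multiplicative (ZMod 2))) := by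
  classical
  set P := K ⊔ T with hP
  set W := Cfsg.wOf K with hW
  set z := ptOf T K with hzdef
  have hT := h.ctx.T_pgroup
  have htP : t ∈ P := Subgroup.mem_sup_right ht
  obtain ⟨s, hsK, hs3, hmove, -⟩ := jcomp_gen3 h.comp
  have hti : t⁻¹ = t := inv_eq_of_mul_eq_one_left ht2
  -- an element of order 3 inverted by `t`
  set g0 := s * t * s⁻¹ * t⁻¹ with hg0
  have hg0K : g0 ∈ K := by
    have h1 := (Subgroup.mem_normalizer_iff.1 (h.norm ht) s⁻¹).1 (inv_mem hsK)
    have := mul_mem hsK h1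
    simpa [hg0, mul_assoc] using this
  have hg0R : g0 ∉ Cfsg.pCoreOf 2 K := by
    intro hR
    set z1 := s⁻¹ * z * s with hz1
    have hz1W : z1 ∈ W := by
      have := (Subgroup.mem_normalizer_iff.1
        (inv_mem (h.le_normalizer_wOf (Subgroup.mem_sup_left hsK))) z).1 h.pt.mem_W
      rwa [inv_inv] at this
    have hz11 : z1 ≠ 1 := fun e => h.pt.ne_one (by
      have e' := congrArg (fun w => s * w * s⁻¹) e
      simpa [hz1, mul_assoc] using e')
    have hz1z : z1 ≠ z := fun e => hmove z h.pt.mem_W h.pt.ne_one (by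
      rw [hz1] at e
      calc s * z * s⁻¹ = s * (s⁻¹ * z * s) * s⁻¹ := by rw [e]
        _ = z := by group)
    have htz : Commute t z := h.central z h.pt.mem_Z t ht
    have htz1 : Commute t z1 := by
      have hcz : Commute g0 z := (mem_omegaCenterOf.1 (wOf_le_omega K h.pt.mem_W)).2.1 g0 hR
      have h1 : Commute (g0 * t) z := hcz.mul_left htz
      rw [hg0, inv_mul_cancel_right] at h1
      have e := congrArg (fun w => s⁻¹ * w * s) h1.eq
      show t * z1 = z1 * t
      rw [hz1]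
      convert e using 1 <;> group
    refine htV (hQV ▸ mem_qK.2 ⟨ht, fun u hu => ?_⟩)
    rcases h.four hz1W hz11 hz1z hu with e | e | e | e <;> rw [e]
    · simp
    · exact htz.eq.symm
    · exact htz1.eq.symm
    · exact (htz.mul_right htz1).eq.symm
  have hg03 : g0 ^ 3 ∈ Cfsg.pCoreOf 2 K := by
    haveI : ((Cfsg.pCoreOf 2 K).subgroupOf K).Normal :=
      (Subgroup.normal_subgroupOf_iff_le_normalizer (pCoreOf_le _)).2 (le_normalizer_pCoreOf K)
    have h1 := ((Cfsg.pCoreOf 2 K).subgroupOf K).pow_index_mem ⟨g0, hg0K⟩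
    rw [← Subgroup.relIndex, h.comp.2.2.1, Subgroup.mem_subgroupOf] at h1
    exact h1
  obtain ⟨n, hn⟩ := pow_two_pow_of_mem (isPGroup_pCoreOf K) hg03
  set g := g0 ^ 2 ^ n with hg
  have hgK : g ∈ K := pow_mem hg0K _
  have hgP : g ∈ P := Subgroup.mem_sup_left hgK
  have hg3 : g ^ 3 = 1 := by rw [hg, ← pow_mul, mul_comm, pow_mul, hn]
  have hg1 : g ≠ 1 := fun e => hg0R (mem_of_cube_of_two_pow hg03 (n := n) (by rw [← hg, e]; exact one_mem _))
  have hgo : orderOf g = 3 := by
    haveI : Fact (Nat.Prime 3) := ⟨Nat.prime_three⟩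
    exact orderOf_eq_prime hg3 hg1
  have hginv : t * g * t⁻¹ = g⁻¹ := by
    have e : t * g0 * t⁻¹ = g0⁻¹ := by
      rw [hg0, mul_inv_rev, mul_inv_rev, mul_inv_rev, inv_inv, inv_inv]
      calc t * (s * t * s⁻¹ * t⁻¹) * t⁻¹ = t * s * t * s⁻¹ * (t⁻¹ * t⁻¹) := by group
        _ = t * (s * (t⁻¹ * s⁻¹)) := by rw [hti, ht2, mul_one]; group
    rw [hg, ← conj_pow, e, inv_pow]
  have hgT : ∀ q : G, q ∈ Subgroup.zpowers g → q ∈ T → q = 1 := by
    intro q hq hqT
    obtain ⟨k, hk⟩ := pow_two_pow_of_mem hT hqT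
    refine eq_one_of_two_pow_of_odd hk (Odd.of_dvd_nat (show Odd 3 by decide) ?_)
    rw [← hgo]
    exact orderOf_dvd_of_mem_zpowers hq
  set E := Subgroup.zpowers g ⊔ Subgroup.zpowers t with hE
  have hEP : E ≤ P := sup_le (Subgroup.zpowers_le.2 hgP) (Subgroup.zpowers_le.2 htP)
  have htg : Subgroup.zpowers t ≤ Subgroup.normalizer (Subgroup.zpowers g : Set G) := by
    refine Subgroup.zpowers_le.2 (mem_normalizer_of_forall fun x hx => ?_)
    obtain ⟨i, rfl⟩ := Subgroup.mem_zpowers_iff.1 hx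
    rw [← conj_zpow, hginv]
    exact zpow_mem (inv_mem (Subgroup.mem_zpowers g)) i
  have hEV : ∀ e ∈ E, e ∈ vK T K → e = 1 := by
    intro e he heV
    obtain ⟨a, ha, b, hb, rfl⟩ := exists_mul_of_mem_sup htg (show e ∈ Subgroup.zpowers t ⊔ Subgroup.zpowers g by
      rwa [sup_comm])
    have haT : a ∈ T := (Subgroup.zpowers_le.2 ht) ha
    have hb1 : b = 1 := hgT b hb (by
      have := T.mul_mem (T.inv_mem haT) (h.vK_le heV)
      rwa [inv_mul_cancel_left] at this)
    rw [hb1, mul_one] at heV ⊢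
    obtain ⟨i, rfl⟩ := Subgroup.mem_zpowers_iff.1 ha
    rcases Int.even_or_odd' i with ⟨k, rfl | rfl⟩
    · rw [zpow_mul, zpow_two, ht2, one_zpow]
    · rw [zpow_add_one, zpow_mul, zpow_two, ht2, one_zpow, one_mul] at heV
      exact absurd heV htV
  set H := W ⊔ E with hH
  have hWP : W ≤ P := (wOf_le_self K).trans le_sup_left
  have hHP : H ≤ P := sup_le hWP hEP
  have hEW : E ≤ Subgroup.normalizer (W : Set G) := hEP.trans h.le_normalizer_wOf
  have hWV : W ≤ vK T K := le_sup_left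
  set E' := E.subgroupOf H with hE'
  have hidx : E'.index = 4 := by
    rw [Subgroup.index, ← h.comp.2.2.2.2.1]
    symm
    refine Nat.card_eq_of_bijective
      (fun w : ↥W => (QuotientGroup.mk ⟨(w : G), Subgroup.mem_sup_left w.2⟩ : ↥H ⧸ E')) ⟨fun a b hab => ?_, fun x => ?_⟩
    · have h1 := QuotientGroup.eq.1 hab
      rw [hE', Subgroup.mem_subgroupOf] at h1
      have h2 : ((a : G))⁻¹ * b = 1 := hEV _ h1 (hWV (W.mul_mem (W.inv_mem a.2) b.2))
      exact Subtype.ext (inv_mul_eq_one.1 h2)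
    · obtain ⟨x, rfl⟩ := QuotientGroup.mk_surjective x
      obtain ⟨e, he, w, hw, hew⟩ := exists_mul_of_mem_sup hEW
        (show (x : G) ∈ E ⊔ W by rw [sup_comm]; exact x.2)
      refine ⟨⟨e * w * e⁻¹, (Subgroup.mem_normalizer_iff.1 (hEW he) w).1 hw⟩, QuotientGroup.eq.2 ?_⟩
      rw [hE', Subgroup.mem_subgroupOf]
      show (e * w * e⁻¹)⁻¹ * (x : G) ∈ E
      rw [← hew, show (e * w * e⁻¹)⁻¹ * (e * w) = e by group]
      exact he
  set act := MulAction.toPermHom ↥H (↥H ⧸ E') with hact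
  have hinj : Function.Injective act := by
    rw [← MonoidHom.ker_eq_bot_iff, hact, ← Subgroup.normalCore_eq_ker, eq_bot_iff]
    intro x hx
    rw [Subgroup.mem_bot]
    have hxE : (x : G) ∈ E := E'.normalCore_le hx
    refine Subtype.ext (hEV _ hxE ?_)
    rw [← hQV, h.qK_eq]
    refine Subgroup.mem_inf.2 ⟨hEP hxE, Subgroup.mem_centralizer_iff.2 fun w hw => ?_⟩
    -- the commutator lies in `W` and in the core
    set wH : ↥H := ⟨w, Subgroup.mem_sup_left hw⟩
    have h1 : wH * x * wH⁻¹ * x⁻¹ ∈ E'.normalCore :=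
      mul_mem ((E'.normalCore_normal).conj_mem x hx wH) (inv_mem hx)
    have h2 := E'.normalCore_le h1
    rw [hE', Subgroup.mem_subgroupOf] at h2
    change w * (x : G) * w⁻¹ * (x : G)⁻¹ ∈ E at h2
    have h3 : w * (x : G) * w⁻¹ * (x : G)⁻¹ ∈ W := by
      have h5 := W.mul_mem hw ((Subgroup.mem_normalizer_iff.1 (hEW hxE) w⁻¹).1 (W.inv_mem hw))
      simpa [mul_assoc] using h5
    have h4' := hEV _ h2 (hWV h3)
    rw [mul_inv_eq_one, mul_inv_eq_iff_eq_mul] at h4'
    exact h4'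
  have hfin : Nat.card (↥H ⧸ E') = 4 := hidx
  obtain ⟨eq4⟩ : Nonempty ((↥H ⧸ E') ≃ Fin 4) := ⟨Finite.equivFinOfCardEq hfin⟩
  set φ : ↥H →* Equiv.Perm (Fin 4) := (eq4.permCongrHom.toMonoidHom).comp act with hφ
  have hφinj : Function.Injective φ := eq4.permCongrHom.injective.comp hinj
  have h24 : Nat.card (Equiv.Perm (Fin 4)) = 24 := by
    rw [Nat.card_eq_fintype_card, Fintype.card_perm, Fintype.card_fin]; rfl
  have hE6 : 6 ∣ Nat.card ↥E := by
    have h3 : 3 ∣ Nat.card ↥E := hgo ▸ Subgroup.orderOf_dvd_natCard _ (Subgroup.mem_sup_left (Subgroup.mem_zpowers g))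
    have h2 : 2 ∣ Nat.card ↥E := by
      have : orderOf t = 2 := orderOf_eq_prime (by rw [sq]; exact ht2)
        (fun e => htV (by rw [e]; exact one_mem _))
      exact this ▸ Subgroup.orderOf_dvd_natCard _ (Subgroup.mem_sup_right (Subgroup.mem_zpowers t))
    exact Nat.Coprime.mul_dvd_of_dvd_of_dvd (by decide : Nat.Coprime 2 3) h2 h3
  have hHcard : Nat.card ↥H = 24 := by
    have h1 : E'.index * Nat.card ↥E' = Nat.card ↥H := Subgroup.index_mul_card E'
    rw [hidx, Nat.card_congr (Subgroup.subgroupOfEquivOfLe (le_sup_right : E ≤ H)).toEquiv] at h1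
    have h2 := Nat.card_le_card_of_injective φ hφinj
    rw [h24] at h2
    obtain ⟨c, hc⟩ := hE6
    have : 0 < Nat.card ↥E := Nat.card_pos
    omega
  have hφbij : Function.Bijective φ :=
    (Nat.bijective_iff_injective_and_card φ).2 ⟨hφinj, hHcard.trans h24.symm⟩
  set eH : ↥H ≃* Equiv.Perm (Fin 4) := MulEquiv.ofBijective φ hφbij
  have hcardP : Nat.card ↥P = 12 * Nat.card ↥(zOf T) := by
    rw [h.card_P, hQV, h.card_vK]; ring
  refine ⟨fun h2 => ?_, fun h4' => ?_⟩
  · have he : H = P := Subgroup.eq_of_le_of_card_ge hHP (by rw [hcardP, h2, hHcard])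
    exact ⟨(MulEquiv.subgroupCongr he.symm).trans eH⟩
  · set Y := yOf T K with hY
    have hYc : Nat.card ↥(yOf T K) = 2 := by
      have := card_zOf_eq hT h.comp
      omega
    have hYP : Y ≤ P := (yOf_le.trans ((omegaCenterOf_le _).trans (thompson_le T))).trans le_sup_right
    have hcomm : ∀ a : ↥H, ∀ c : ↥Y, Commute (H.subtype a) (Y.subtype c) := by
      intro a c
      have hle : P ≤ Subgroup.centralizer ({(c : G)} : Set G) :=
        sup_le (fun k hk => Subgroup.mem_centralizer_singleton_iff.2 ((mem_yOf.1 c.2).2 k hk))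
          fun u hu => Subgroup.mem_centralizer_singleton_iff.2 (h.central c (yOf_le c.2) u hu)
      exact Subgroup.mem_centralizer_singleton_iff.1 (hle (hHP a.2))
    set ψ : ↥H × ↥Y →* G := H.subtype.noncommCoprod Y.subtype hcomm with hψ
    have hψinj : Function.Injective ψ := by
      refine (MonoidHom.noncommCoprod_injective _ _ _).2 ⟨H.subtype_injective, Y.subtype_injective, ?_⟩
      rw [Subgroup.range_subtype, Subgroup.range_subtype, disjoint_iff, eq_bot_iff]
      intro y hy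
      obtain ⟨hyH, hyY⟩ := Subgroup.mem_inf.1 hy
      obtain ⟨e, he, w, hw, hew⟩ := exists_mul_of_mem_sup hEW (show y ∈ E ⊔ W by rw [sup_comm]; exact hyH)
      have heV : e ∈ vK T K := by
        have := (vK T K).mul_mem (Subgroup.mem_sup_right (yOf_le hyY)) ((vK T K).inv_mem (hWV hw))
        rwa [← hew, mul_inv_cancel_right] at this
      rw [hEV e he heV, one_mul] at hew
      subst hew
      rcases eq_pt_of_mem hT h.comp h.pt (yOf_le hyY) hw with e1 | e1
      · exact Subgroup.mem_bot.2 e1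
      · exact absurd (e1 ▸ hyY) (pt_not_mem_yOf h.comp h.pt)
    have hψrange : ψ.range = P := by
      refine Subgroup.eq_of_le_of_card_ge ?_ ?_
      · rw [hψ, MonoidHom.noncommCoprod_range, Subgroup.range_subtype, Subgroup.range_subtype]
        exact sup_le hHP hYP
      · rw [hcardP, h4', ← Nat.card_congr (MonoidHom.ofInjective hψinj).toEquiv, Nat.card_prod, hHcard, hYc]
    haveI : Fact (Nat.Prime 2) := ⟨Nat.prime_two⟩
    have eY : ↥Y ≃* Multiplicative (ZMod 2) := mulEquivOfPrimeCardEq hYc (by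
      rw [Nat.card_congr Multiplicative.toAdd, Nat.card_zmod])
    exact ⟨((MulEquiv.subgroupCongr hψrange.symm).trans (MonoidHom.ofInjective hψinj).symm).trans
      (eH.prodCongr eY)⟩

end Norm1

namespace JPair

variable {T : Subgroup G} {K L : Bool → Subgroup G} (h : JPair T K L) (hnc : NC T (K true) (K false))
include h hnc

theorem exists_invol_not_mem (i : Bool) : ∃ t ∈ T, t * t = 1 ∧ t ∉ vK T (K i) := by
  obtain ⟨x, hx, y, hy, hxy⟩ := hnc
  have hel := fun j => vK_elem (h.side j).ctx.T_pgroup (h.side j).comp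
  cases i
  · exact ⟨x, (h.side true).vK_le hx, elem_sq (hel true) hx, fun h0 => hxy (elem_comm (hel false) h0 hy)⟩
  · exact ⟨y, (h.side false).vK_le hy, elem_sq (hel false) hy, fun h0 => hxy (elem_comm (hel true) hx h0)⟩

theorem comp_ne : K true ≠ K false := fun e =>
  h.ne (h.uniq false (L true) (e ▸ h.top true))

theorem core_join_eq_bot : Cfsg.pCoreOf 2 ((K true ⊔ T) ⊔ (K false ⊔ T)) = ⊥ := by
  refine h.amalgam.free _ (isPGroup_pCoreOf _) fun i => ?_
  refine le_trans ?_ (le_normalizer_pCoreOf _)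
  cases i
  · exact le_sup_right
  · exact le_sup_left

theorem commutator_omega_ne (i : Bool) : ⁅Cfsg.omegaCenterOf T, K i ⊔ T⁆ ≠ ⊥ := by
  intro h0
  have hs := h.side i
  rw [Subgroup.commutator_eq_bot_iff_le_centralizer] at h0
  refine pt_not_mem_yOf hs.comp hs.pt (mem_yOf.2 ⟨hs.pt.mem_Z, fun k hk => ?_⟩)
  exact Subgroup.mem_centralizer_iff.1
    (h0 (omegaCenterOf_eq_zOf hs.central ▸ hs.pt.mem_Z)) k (Subgroup.mem_sup_left hk)

end JPair

end H77
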