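import Cfsg.Agent.H77.Conj
import Mathlib.GroupTheory.PGroup
import Mathlib.GroupTheory.Sylow

/-!
Elements of odd order against 2-groups.
-/

set_option autoImplicit false

namespace H77

variable {G : Type*} [Group G]

theorem pow_two_pow_of_mem {P : Subgroup G} (hP : IsPGroup 2 ↥P) {x : G} (hx : x ∈ P) :
    ∃ k : ℕ, x ^ 2 ^ k = 1 := by
  obtain ⟨k, hk⟩ := hP ⟨x, hx⟩
  exact ⟨k, congrArg Subtype.val hk⟩

/-- An element of odd order with a power `x ^ 2 ^ k` in a subgroup lies in it. -/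
theorem mem_of_odd_of_pow_two_pow_mem [Finite G] {N : Subgroup G} {x : G} (ho : Odd (orderOf x)) {k : ℕ}
    (h : x ^ 2 ^ k ∈ N) : x ∈ N := by
  have hco : (orderOf x).Coprime (2 ^ k) := (Nat.coprime_two_right.2 ho).pow_right k
  obtain ⟨m, hm⟩ := exists_pow_eq_self_of_coprime hco.symm
  rw [← hm]
  exact pow_mem h m

theorem eq_one_of_two_pow_of_odd {x : G} {k : ℕ} (h : x ^ 2 ^ k = 1) (ho : Odd (orderOf x)) : x = 1 := by
  have h1 : orderOf x ∣ Nat.gcd (2 ^ k) (orderOf x) :=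
    Nat.dvd_gcd (orderOf_dvd_of_pow_eq_one h) dvd_rfl
  rw [Nat.Coprime.pow_left k (Nat.coprime_two_left.2 ho), Nat.dvd_one, orderOf_eq_one_iff] at h1
  exact h1

/-- Elements of odd order in `P N` (`P` a 2-group normalising `N`) lie in `N`. -/
theorem mem_of_odd_of_mem_sup [Finite G] {P N : Subgroup G} (hP : IsPGroup 2 ↥P)
    (hn : P ≤ Subgroup.normalizer (N : Set G)) {x : G} (hx : x ∈ P ⊔ N) (ho : Odd (orderOf x)) : x ∈ N := by
  have h1 : x ∈ ((P ⊔ N : Subgroup G) : Set G) := hx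
  rw [Subgroup.coe_mul_of_left_le_normalizer_right P N hn] at h1
  obtain ⟨j, hj, k, hk, hjk⟩ := h1
  have hjk : j * k = x := hjk
  have hpow : ∀ n : ℕ, (j ^ n)⁻¹ * x ^ n ∈ N := by
    intro n
    induction n with
    | zero => simp
    | succ n ih =>
      have h2 := mul_mem ((Subgroup.mem_normalizer_iff.1 (hn (inv_mem hj)) _).1 ih) hk
      rw [inv_inv] at h2
      convert h2 using 1
      rw [pow_succ, pow_succ, ← hjk]
      group
  obtain ⟨i, hi⟩ := pow_two_pow_of_mem hP hj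
  have h3 := hpow (2 ^ i)
  rw [hi, inv_one, one_mul] at h3
  exact mem_of_odd_of_pow_two_pow_mem ho h3

/-- A subgroup containing a Sylow 2-subgroup and all elements of odd order is everything. -/
theorem eq_top_of_odd_mem [Finite G] {E : Subgroup G} (h2 : ¬ 2 ∣ E.index)
    (hodd : ∀ g : G, Odd (orderOf g) → g ∈ E) : E = ⊤ := by
  rw [← Subgroup.index_eq_one]
  by_contra hne
  obtain ⟨p, hp, hpd⟩ := Nat.exists_prime_and_dvd hne
  haveI : Fact p.Prime := ⟨hp⟩
  have hp2 : p ≠ 2 := fun h => h2 (h ▸ hpd)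
  obtain ⟨P⟩ : Nonempty (Sylow p G) := inferInstance
  have hPE : (P : Subgroup G) ≤ E := by
    intro g hg
    obtain ⟨k, hk⟩ := IsPGroup.iff_orderOf.1 P.2 ⟨g, hg⟩
    rw [← Subgroup.orderOf_coe] at hk
    exact hodd g (hk ▸ (hp.odd_of_ne_two hp2).pow)
  exact P.not_dvd_index' (fun h0 => Subgroup.index_ne_zero_of_finite h0) (hpd.trans (Subgroup.index_dvd_of_le hPE))

end H77
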