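import Cfsg.Agent.H77.TinyPairs
import Cfsg.Agent.H77.CharP
import Cfsg.Agent.H1.Fitting
import Cfsg.Agent.H9.Thompson

/-!
Best offenders in a solvable group with trivial 2-core acting faithfully on an elementary abelian 2-group:
they are generated by transvections inverting tiny elements.
-/

set_option autoImplicit false

namespace H77

variable {X V : Type*} [Group X] [CommGroup V] [MulDistribMulAction X V]

/-- Transvections inverting a tiny element from `R`. -/
def invTransv (V : Type*) [CommGroup V] [MulDistribMulAction X V] (R : Subgroup X) : Set X :=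
  {a | IsTransv V a ∧ ∃ x ∈ R, IsTiny V x ∧ a * x * a⁻¹ = x⁻¹}

/-- The subgroup generated by the tiny elements of `O₃(X)`. -/
def tinyGroup (V : Type*) [CommGroup V] [MulDistribMulAction X V] : Subgroup X :=
  Subgroup.closure {x : X | IsTiny V x ∧ x ∈ Cfsg.pCore 3 X}

theorem tinyGroup_normal [Finite V] : (tinyGroup (X := X) V).Normal := by
  refine ⟨fun m hm g => ?_⟩
  induction hm using Subgroup.closure_induction with
  | mem x hx => exact Subgroup.subset_closure ⟨hx.1.conj g, (H1.pCore_normal' 3 X).conj_mem x hx.2 g⟩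
  | one => simp
  | mul a b _ _ ha hb => rw [← conj_mul]; exact mul_mem ha hb
  | inv a _ ha => rw [← conj_inv]; exact inv_mem ha

theorem tinyGroup_le : tinyGroup (X := X) V ≤ Cfsg.pCore 3 X :=
  (Subgroup.closure_le _).2 fun _ hx => hx.2

variable (hV : ∀ v : V, v * v = 1)
include hV

/-- Core of the offender structure. -/
theorem offer_generated [Finite X] [Finite V] [FaithfulSMul X V] {A R : Subgroup X} (hA2 : ∀ a ∈ A, a * a = 1)
    (hAc : ∀ a ∈ A, ∀ b ∈ A, a * b = b * a) (hoff : IsOffer V A) (hnil : Group.IsNilpotent ↥R)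
    (hodd : Odd (Nat.card ↥R)) (hAR : A ≤ Subgroup.normalizer (R : Set X))
    (hfaith : A ⊓ Subgroup.centralizer (R : Set X) = ⊥) :
    A ≤ Subgroup.closure {a | a ∈ A ∧ a ∈ invTransv V R} := by
  classical
  haveI : Fact (Nat.Prime 2) := ⟨Nat.prime_two⟩
  have hA2g : IsPGroup 2 ↥A := fun a => ⟨1, Subtype.ext (by simp [sq, hA2 a a.2])⟩
  obtain ⟨d, hd⟩ := IsPGroup.iff_card.1 hA2g
  obtain ⟨a, v, hav, -, hne, hA⟩ :=
    Cfsg.Agent.H9.exists_dihedral_family A hAc hA2 d A R le_rfl hd hnil hodd hAR hfaith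
  have hoddv : ∀ i, Odd (orderOf (v i)) := fun i =>
    Odd.of_dvd_nat hodd (Subgroup.orderOf_dvd_natCard R (hav i).2.1)
  have hane : ∀ i, a i ≠ 1 := by
    intro i h
    have h1 := (hav i).2.2.2
    rw [h, one_mul, inv_one, mul_one] at h1
    have h2 : orderOf (v i) ∣ 2 :=
      orderOf_dvd_of_pow_eq_one (by rw [sq]; nth_rw 2 [h1]; exact mul_inv_cancel _)
    obtain ⟨k, hk⟩ := hoddv i
    rcases (Nat.dvd_prime Nat.prime_two).1 h2 with h3 | h3
    · exact (hav i).2.2.1 (orderOf_eq_one_iff.1 h3)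
    · omega
  -- data for each index
  have hdata : ∀ i : Fin d, IsTiny V (v i) ∧
      ∀ j, j ≠ i → ∀ u ∈ (disp (v i) : V →* V).range, a j • u = u := by
    intro i
    set B := ⨆ (j) (_ : j ≠ i), Subgroup.zpowers (a j) with hB
    have hBA : B ≤ A := iSup₂_le fun j _ => Subgroup.zpowers_le.2 (hav j).1
    have hBv : ∀ b ∈ B, Commute b (v i) := by
      intro b hb
      have : B ≤ Subgroup.centralizer ({v i} : Set X) := iSup₂_le fun j hj =>
        Subgroup.zpowers_le.2 (Subgroup.mem_centralizer_singleton_iff.2 (hne j i hj).1)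
      exact Subgroup.mem_centralizer_singleton_iff.1 (this hb)
    have hAgen : A ≤ B ⊔ Subgroup.zpowers (a i) := by
      conv_lhs => rw [hA]
      refine iSup_le fun j => ?_
      by_cases hj : j = i
      · subst hj; exact le_sup_right
      · exact (le_iSup₂ (f := fun k _ => Subgroup.zpowers (a k)) j hj).trans le_sup_left
    have hsq : a i * a i = 1 := hA2 _ (hav i).1
    have hcard : Nat.card ↥A = 2 * Nat.card ↥B := by
      have hnot : a i ∉ B := fun h => by
        have h1 := (hav i).2.2.2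
        rw [(hBv _ h).eq, mul_inv_cancel_right] at h1
        have h2 : orderOf (v i) ∣ 2 := orderOf_dvd_of_pow_eq_one (by rw [sq]; nth_rw 2 [h1]; exact mul_inv_cancel _)
        obtain ⟨k, hk⟩ := hoddv i
        rcases (Nat.dvd_prime Nat.prime_two).1 h2 with h3 | h3
        · exact (hav i).2.2.1 (orderOf_eq_one_iff.1 h3)
        · omega
      obtain ⟨q, hq⟩ := Subgroup.card_dvd_of_le hBA
      have hq2 : 2 ≤ q := by
        by_contra h
        have h1 : B = A := Subgroup.eq_of_le_of_card_ge hBA (by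
          rw [hq]; calc Nat.card ↥B * q ≤ Nat.card ↥B * 1 := Nat.mul_le_mul_left _ (by omega)
            _ = _ := mul_one _)
        exact hnot (h1 ▸ (hav i).1)
      have hle : Nat.card ↥A ≤ Nat.card ↥B * 2 := by
        have hord : Nat.card ↥(Subgroup.zpowers (a i)) = 2 := by
          rw [Nat.card_zpowers]; exact orderOf_eq_prime (by rw [sq, hsq]) (hane i)
        rw [← hord, ← Nat.card_prod]
        refine Nat.card_le_card_of_surjective (fun z : ↥B × ↥(Subgroup.zpowers (a i)) =>
          (⟨(z.1 : X) * (z.2 : X), A.mul_mem (hBA z.1.2) (Subgroup.zpowers_le.2 (hav i).1 z.2.2)⟩ : ↥A)) ?_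
        rintro ⟨z, hz⟩
        have hz' := hAgen hz
        obtain ⟨b, hb, c, hc, rfl⟩ := exists_mul_of_mem_sup (A := B) (W := Subgroup.zpowers (a i))
          (fun b hb => by
            refine mem_normalizer_of_forall fun u hu => ?_
            rw [hAc b (hBA hb) u (Subgroup.zpowers_le.2 (hav i).1 hu), mul_inv_cancel_right]
            exact hu) hz'
        exact ⟨⟨⟨b, hb⟩, ⟨c, hc⟩⟩, rfl⟩
      rw [hq] at hle ⊢
      have := Nat.le_antisymm (Nat.le_of_mul_le_mul_left hle Nat.card_pos) hq2
      rw [this, mul_comm]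
    obtain ⟨h4, h3, hfix⟩ := key_four hV hoff hBA hcard (fun b hb => hA2 b (hBA hb))
      (fun b hb b' hb' => hAc b (hBA hb) b' (hBA hb')) (hav i).1 hAgen hsq
      (fun b hb => hAc b (hBA hb) _ (hav i).1) hBv (hoddv i) (hav i).2.2.1 (hav i).2.2.2
    exact ⟨⟨h3, h4⟩, fun j hj u hu =>
      hfix _ (le_iSup₂ (f := fun k _ => Subgroup.zpowers (a k)) j hj (Subgroup.mem_zpowers _)) u hu⟩
  -- fixed points of the subfamilies
  let Fx : Finset (Fin d) → Subgroup V := fun S => ⨅ j ∈ S, (disp (a j) : V →* V).ker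
  have hFx : ∀ (S : Finset (Fin d)) (u : V), u ∈ Fx S ↔ ∀ j ∈ S, a j • u = u := by
    intro S u; simp only [Fx, Subgroup.mem_iInf, mem_ker_disp]
  have hmoved : ∀ i, ∃ u ∈ (disp (v i) : V →* V).range, a i • u ≠ u := by
    intro i
    by_contra hcon
    push Not at hcon
    set Wv := (disp (v i) : V →* V).range
    obtain ⟨u, hu, hu1⟩ : ∃ u ∈ Wv, u ≠ 1 := by
      refine (Subgroup.bot_or_exists_ne_one Wv).resolve_left fun h0 => ?_
      have h4 := (hdata i).1.2
      rw [show (disp (v i) : V →* V).range = ⊥ from h0, Subgroup.card_bot] at h4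
      omega
    have h1 : a i • (v i • u) = (v i)⁻¹ • u := by
      rw [← (hav i).2.2.2, smul_smul]
      conv_rhs => rw [← hcon u hu]
      rw [smul_smul]; congr 1; group
    rw [hcon _ (smul_disp_range_of_commute (Commute.refl _) hu)] at h1
    exact (orbit_distinct hV (hoddv i) hu hu1).2.1 (by rw [h1, smul_inv_smul])
  have hhalf : ∀ (S : Finset (Fin d)) (i : Fin d), i ∉ S →
      2 * Nat.card ↥(Fx (insert i S)) ≤ Nat.card ↥(Fx S) := by
    intro S i hi
    obtain ⟨u, hu, hui⟩ := hmoved i
    have hlt : Fx (insert i S) < Fx S := by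
      refine lt_of_le_of_ne (fun z hz => (hFx S z).2 fun j hj => (hFx _ z).1 hz j (Finset.mem_insert_of_mem hj))
        fun h => hui ?_
      have h1 : u ∈ Fx (insert i S) := by
        rw [h]; exact (hFx S u).2 fun j hj => (hdata i).2 j (fun e => hi (e ▸ hj)) u hu
      exact (hFx _ u).1 h1 i (Finset.mem_insert_self i S)
    obtain ⟨q, hq⟩ := Subgroup.card_dvd_of_le hlt.le
    rcases Nat.lt_or_ge q 2 with hq2 | hq2
    · exact absurd (Subgroup.eq_of_le_of_card_ge hlt.le (by
        rw [hq]; calc Nat.card ↥(Fx (insert i S)) * q ≤ Nat.card ↥(Fx (insert i S)) * 1 := Nat.mul_le_mul_left _ (by omega)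
          _ = _ := mul_one _)) hlt.ne
    · rw [hq, mul_comm 2]; exact Nat.mul_le_mul_left _ hq2
  have hbound : ∀ (S : Finset (Fin d)) (i : Fin d), i ∉ S →
      2 ^ S.card * Nat.card ↥(Fx (insert i S)) ≤ Nat.card ↥(Fx {i}) := by
    intro S i
    induction S using Finset.induction with
    | empty => intro _; simp
    | @insert j S hj ih =>
      intro hi
      rw [Finset.mem_insert, not_or] at hi
      rw [Finset.card_insert_of_notMem hj, pow_succ, mul_assoc, Finset.insert_comm]
      refine le_trans (Nat.mul_le_mul_left _ (hhalf (insert i S) j ?_)) (ih hi.2)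
      simp [hj, Ne.symm hi.1]
  have htr : ∀ i, IsTransv V (a i) := by
    intro i
    refine ⟨hA2 _ (hav i).1, ?_⟩
    have h1 := hbound (Finset.univ.erase i) i (Finset.notMem_erase i _)
    rw [Finset.insert_erase (Finset.mem_univ i), Finset.card_erase_of_mem (Finset.mem_univ i),
      Finset.card_univ, Fintype.card_fin] at h1
    have h2 := hoff ⊥ bot_le
    have e1 : (fixBy (⊥ : Subgroup X) : Subgroup V) = ⊤ := by
      ext u; simp [mem_fixBy]
    rw [e1, Subgroup.card_top, Subgroup.card_bot, one_mul, hd] at h2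
    have e2 : (fixBy A : Subgroup V) = Fx Finset.univ := by
      ext u
      rw [hFx, mem_fixBy]
      refine ⟨fun h j _ => h _ (hav j).1, fun h c hc => ?_⟩
      have : A ≤ MulAction.stabilizer X u := by
        rw [hA]; exact iSup_le fun j => Subgroup.zpowers_le.2 (h j (Finset.mem_univ j))
      exact this hc
    have e3 : Fx {i} = (disp (a i) : V →* V).ker := by
      ext u; rw [hFx, mem_ker_disp]; simp
    rw [e2] at h2
    rw [e3] at h1
    have hpos : 0 < d := i.pos
    have e : 2 ^ d = 2 * 2 ^ (d - 1) := by rw [← pow_succ']; congr 1; omega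
    rw [card_eq_range_mul_ker (disp (a i) : V →* V), e, mul_assoc] at h2
    have h5 := le_trans h2 (Nat.mul_le_mul_left 2 h1)
    have hle : Nat.card ↥(disp (a i) : V →* V).range ≤ 2 := Nat.le_of_mul_le_mul_right h5 Nat.card_pos
    have hne1 : Nat.card ↥(disp (a i) : V →* V).range ≠ 1 := by
      intro h
      obtain ⟨u, hu, hui⟩ := hmoved i
      rw [Subgroup.card_eq_one] at h
      have hmem : disp (a i) u ∈ (disp (a i) : V →* V).range := ⟨u, rfl⟩
      rw [h, Subgroup.mem_bot] at hmem
      exact hui (mem_ker_disp.1 hmem)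
    have hp : 0 < Nat.card ↥(disp (a i) : V →* V).range := Nat.card_pos
    omega
  conv_lhs => rw [hA]
  exact iSup_le fun i => Subgroup.zpowers_le.2 (Subgroup.subset_closure
    ⟨(hav i).1, htr i, v i, (hav i).2.1, (hdata i).1, (hav i).2.2.2⟩)

/-- The tiny group is commutative. -/
theorem tinyGroup_commute [Finite X] [Finite V] [FaithfulSMul X V] {m n : X} (hm : m ∈ tinyGroup (X := X) V)
    (hn : n ∈ tinyGroup (X := X) V) : Commute m n := by
  have h1 : tinyGroup (X := X) V ≤ Subgroup.centralizer {x : X | IsTiny V x ∧ x ∈ Cfsg.pCore 3 X} := by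
    rw [tinyGroup, Subgroup.closure_le]
    intro x hx
    rw [SetLike.mem_coe, Subgroup.mem_centralizer_iff]
    intro y hy
    exact (tiny_commute hV _ (H1.isPGroup_pCore 3 X) y x hy.2 hx.2 hy.1 hx.1).eq
  have h2 : tinyGroup (X := X) V ≤ Subgroup.centralizer ({m} : Set X) := by
    rw [tinyGroup, Subgroup.closure_le]
    intro x hx
    rw [SetLike.mem_coe, Subgroup.mem_centralizer_singleton_iff]
    exact Subgroup.mem_centralizer_iff.1 (h1 hm) x hx
  exact (Subgroup.mem_centralizer_singleton_iff.1 (h2 hn)).symm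

omit hV in
theorem fitting_odd [Finite X] (hO : ∀ N : Subgroup X, N.Normal → IsPGroup 2 ↥N → N = ⊥) :
    Odd (Nat.card ↥(Cfsg.fittingSubgroup X)) := by
  haveI : Fact (Nat.Prime 2) := ⟨Nat.prime_two⟩
  haveI := H1.fittingSubgroup_normal X
  set F := Cfsg.fittingSubgroup X
  have hFnil : Group.IsNilpotent ↥F := H1.isNilpotent_fittingSubgroup X
  by_contra hev
  rw [Nat.not_odd_iff_even] at hev
  obtain ⟨P⟩ : Nonempty (Sylow 2 ↥F) := inferInstance
  have hPn : (P : Subgroup ↥F).Normal := P.normal_of_normalizerCondition Group.normalizerCondition_of_isNilpotent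
  haveI := P.characteristic_of_normal hPn
  have h1 := hO ((P : Subgroup ↥F).map F.subtype) (H1.map_subtype_normal_of_characteristic F _) (P.2.map _)
  rw [Subgroup.map_eq_bot_iff, Subgroup.ker_subtype, le_bot_iff] at h1
  exact P.ne_bot_of_dvd_card (even_iff_two_dvd.1 hev) h1

omit hV in
theorem mem_pCore_three_of_fitting [Finite X] {x : X} (hx : x ∈ Cfsg.fittingSubgroup X) (h3 : orderOf x = 3) :
    x ∈ Cfsg.pCore 3 X := by
  haveI : Fact (Nat.Prime 3) := ⟨Nat.prime_three⟩
  haveI := H1.fittingSubgroup_normal X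
  set F := Cfsg.fittingSubgroup X
  have hFnil : Group.IsNilpotent ↥F := H1.isNilpotent_fittingSubgroup X
  obtain ⟨P, hP⟩ := (IsPGroup.of_card (n := 1) (by rw [Nat.card_zpowers, Subgroup.orderOf_mk, h3, pow_one]) :
    IsPGroup 3 ↥(Subgroup.zpowers (⟨x, hx⟩ : ↥F))).exists_le_sylow
  have hPn : (P : Subgroup ↥F).Normal := P.normal_of_normalizerCondition Group.normalizerCondition_of_isNilpotent
  haveI := P.characteristic_of_normal hPn
  haveI := H1.map_subtype_normal_of_characteristic F (P : Subgroup ↥F)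
  exact H1.le_pCore (P.2.map F.subtype) ⟨⟨x, hx⟩, hP (Subgroup.mem_zpowers _), rfl⟩

/-- A best offender in a solvable group with trivial 2-core. -/
theorem offer_le_closure [Finite X] [Finite V] [FaithfulSMul X V] (hsol : Group.IsSolvable X)
    (hO : ∀ N : Subgroup X, N.Normal → IsPGroup 2 ↥N → N = ⊥) {A : Subgroup X}
    (hA2 : ∀ a ∈ A, a * a = 1) (hAc : ∀ a ∈ A, ∀ b ∈ A, a * b = b * a) (hoff : IsOffer V A) :
    A ≤ Subgroup.closure {a | a ∈ A ∧ a ∈ invTransv V (Cfsg.pCore 3 X)} := by
  haveI := H1.fittingSubgroup_normal X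
  set F := Cfsg.fittingSubgroup X with hF
  have hC : Subgroup.centralizer (F : Set X) ≤ F := H1.centralizer_fitting_le_of_isSolvable inferInstance
  have hodd := fitting_odd hO
  have hfaith : A ⊓ Subgroup.centralizer (F : Set X) = ⊥ := by
    rw [eq_bot_iff]
    intro a ha
    obtain ⟨haA, haC⟩ := Subgroup.mem_inf.1 ha
    have h1 : orderOf a ∣ 2 := orderOf_dvd_of_pow_eq_one (by rw [sq, hA2 a haA])
    have h2 : Odd (orderOf a) := Odd.of_dvd_nat hodd (Subgroup.orderOf_dvd_natCard F (hC haC))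
    rcases (Nat.dvd_prime Nat.prime_two).1 h1 with h3 | h3
    · exact Subgroup.mem_bot.2 (orderOf_eq_one_iff.1 h3)
    · rw [h3] at h2; exact absurd h2 (by decide)
  have hAN : A ≤ Subgroup.normalizer (F : Set X) := by
    rw [Subgroup.normalizer_eq_top_iff.2 inferInstance]; exact le_top
  refine (offer_generated hV hA2 hAc hoff (H1.isNilpotent_fittingSubgroup X) hodd hAN hfaith).trans ?_
  refine Subgroup.closure_mono ?_
  rintro a ⟨haA, hat, x, hxF, hx, hinv⟩
  exact ⟨haA, hat, x, mem_pCore_three_of_fitting hxF hx.1, hx, hinv⟩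

/-- Commutator of an inverting transvection with the tiny group. -/
theorem transv_commutator_mem [Finite X] [Finite V] [FaithfulSMul X V] {a x : X} (ha : IsTransv V a)
    (hx : IsTiny V x) (hx3 : x ∈ Cfsg.pCore 3 X) (hinv : a * x * a⁻¹ = x⁻¹) {m : X}
    (hm : m ∈ tinyGroup (X := X) V) : a * m * a⁻¹ * m⁻¹ ∈ Subgroup.zpowers x := by
  have hxM : x ∈ tinyGroup (X := X) V := Subgroup.subset_closure ⟨hx, hx3⟩
  have hxle : Subgroup.zpowers x ≤ tinyGroup (X := X) V := Subgroup.zpowers_le.2 hxM
  induction hm using Subgroup.closure_induction with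
  | mem y hy =>
    by_cases hne : Subgroup.zpowers x = Subgroup.zpowers y
    · obtain ⟨i, rfl⟩ := Subgroup.mem_zpowers_iff.1 (hne ▸ Subgroup.mem_zpowers y : y ∈ Subgroup.zpowers x)
      rw [← conj_zpow, hinv]
      exact mul_mem (zpow_mem (inv_mem (Subgroup.mem_zpowers x)) i) (inv_mem (zpow_mem (Subgroup.mem_zpowers x) i))
    · rcases transv_conj_tiny hV ha hy.1 (tiny_commute hV _ (H1.isPGroup_pCore 3 X) y _ hy.2
        ((H1.pCore_normal' 3 X).conj_mem y hy.2 a) hy.1 (hy.1.conj a)) with h | h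
      · rw [h, mul_inv_cancel]; exact one_mem _
      · exfalso
        have h1 := transv_inverts hV ha hy.1 h
        have h2 := transv_inverts hV ha hx hinv
        have hd := (tiny_disjoint hV hx hy.1 (tiny_commute hV _ (H1.isPGroup_pCore 3 X) x y hx3 hy.2 hx hy.1) hne).2
        have h3 : (disp a : V →* V).range ≤ ⊥ := hd ▸ le_inf h2.1 h1.1
        have h4 := ha.2
        rw [le_bot_iff.1 h3, Subgroup.card_bot] at h4
        omega
  | one => simp
  | mul p q hp hq ihp ihq =>
    have hc : Commute p (a * q * a⁻¹ * q⁻¹) := tinyGroup_commute hV hp (hxle ihq)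
    have e : a * (p * q) * a⁻¹ * (p * q)⁻¹ = (a * p * a⁻¹ * p⁻¹) * (p * (a * q * a⁻¹ * q⁻¹) * p⁻¹) := by group
    rw [e, hc.eq, mul_inv_cancel_right]
    exact mul_mem ihp ihq
  | inv p hp ihp =>
    have hc : Commute p (a * p * a⁻¹ * p⁻¹)⁻¹ := tinyGroup_commute hV hp (inv_mem (hxle ihp))
    have e : a * p⁻¹ * a⁻¹ * p⁻¹⁻¹ = p⁻¹ * (a * p * a⁻¹ * p⁻¹)⁻¹ * p := by group
    rw [e, mul_assoc, ← hc.eq, inv_mul_cancel_left]
    exact inv_mem ihp

/-- Odd-order elements of the group generated by the inverting transvections lie in the tiny group. -/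
theorem odd_mem_tinyGroup [Finite X] [Finite V] [FaithfulSMul X V] {g : X}
    (hg : g ∈ Subgroup.closure (invTransv V (Cfsg.pCore 3 X)) ⊔ tinyGroup (X := X) V) (hodd : Odd (orderOf g)) :
    g ∈ tinyGroup (X := X) V := by
  classical
  haveI := tinyGroup_normal (X := X) (V := V)
  set M := tinyGroup (X := X) V
  set f := QuotientGroup.mk' M
  set T := invTransv V (Cfsg.pCore 3 X) with hT
  have hgen : ∀ a ∈ T, ∀ b ∈ T, f a * f b = f b * f a := by
    rintro a ⟨ha, x, hx3, hx, hax⟩ b ⟨hb, y, hy3, hy, hby⟩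
    have hc := tiny_commute hV _ (H1.isPGroup_pCore 3 X) x y hx3 hy3 hx hy
    by_cases hne : Subgroup.zpowers x = Subgroup.zpowers y
    · have hbx : b * x * b⁻¹ = x⁻¹ := by
        obtain ⟨i, hi⟩ := Subgroup.mem_zpowers_iff.1 (hne ▸ Subgroup.mem_zpowers x : x ∈ Subgroup.zpowers y)
        rw [← hi, ← conj_zpow, hby, inv_zpow]
      have h1 : f (a * b) = 1 :=
        (QuotientGroup.eq_one_iff _).2 (Subgroup.zpowers_le.2
          (Subgroup.subset_closure (show x ∈ {x : X | IsTiny V x ∧ x ∈ Cfsg.pCore 3 X} from ⟨hx, hx3⟩))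
          (transv_mul_mem hV ha hb hx hax hbx))
      have h2 : f b * f b = 1 := by rw [← map_mul, hb.1, map_one]
      rw [map_mul] at h1
      have h3 : f a = f b := by
        calc f a = f a * (f b * f b) := by rw [h2, mul_one]
          _ = f b := by rw [← mul_assoc, h1, one_mul]
      rw [h3]
    · rw [← map_mul, ← map_mul, (transv_commute hV ha hb hx hy hax hby hc hne).eq]
  have hsq : ∀ z ∈ Subgroup.closure (f '' T), z * z = 1 ∧ ∀ b ∈ T, z * f b = f b * z := by
    intro z hz
    induction hz using Subgroup.closure_induction with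
    | mem u hu =>
      obtain ⟨a, ha, rfl⟩ := hu
      exact ⟨by rw [← map_mul, ha.1.1, map_one], fun b hb => hgen a ha b hb⟩
    | one => simp
    | mul p q hp hq ihp ihq =>
      have hpq : Commute q p := by
        have h1 : Subgroup.closure (f '' T) ≤ Subgroup.centralizer ({q} : Set _) := by
          rw [Subgroup.closure_le]
          rintro _ ⟨b, hb, rfl⟩
          exact Subgroup.mem_centralizer_singleton_iff.2 (ihq.2 b hb).symm
        exact (Subgroup.mem_centralizer_singleton_iff.1 (h1 hp)).symm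
      refine ⟨?_, fun b hb => ((show Commute p (f b) from ihp.2 b hb).mul_left (ihq.2 b hb)).eq⟩
      calc p * q * (p * q) = p * (q * p) * q := by group
        _ = p * (p * q) * q := by rw [hpq.eq]
        _ = 1 := by rw [← mul_assoc p p, ihp.1, one_mul, ihq.1]
    | inv p hp ihp =>
      exact ⟨by rw [← mul_inv_rev, ihp.1, inv_one], fun b hb => (show Commute p (f b) from ihp.2 b hb).inv_left.eq⟩
  have hfg : f g ∈ Subgroup.closure (f '' T) := by
    have h1 := Subgroup.mem_map_of_mem f hg
    rw [Subgroup.map_sup, MonoidHom.map_closure] at h1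
    rwa [show Subgroup.map f M = ⊥ by rw [Subgroup.map_eq_bot_iff, QuotientGroup.ker_mk'], sup_bot_eq] at h1
  have h2 : f g ^ 2 = 1 := by rw [sq]; exact (hsq _ hfg).1
  have h3 : f g ^ orderOf g = 1 := by rw [← map_pow, pow_orderOf_eq_one, map_one]
  have h4 : orderOf (f g) ∣ Nat.gcd 2 (orderOf g) :=
    Nat.dvd_gcd (orderOf_dvd_of_pow_eq_one h2) (orderOf_dvd_of_pow_eq_one h3)
  rw [Nat.coprime_two_left.2 hodd, Nat.dvd_one, orderOf_eq_one_iff] at h4
  exact (QuotientGroup.eq_one_iff g).1 h4

end H77
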