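import Cfsg.Agent.H74.SylIn
import Cfsg.Agent.H77.Conj
import Cfsg.Prelude.Def_JComponents
import Mathlib.GroupTheory.Sylow
import Mathlib.GroupTheory.PGroup

/-!
Sylow 2-subgroups of a subgroup, in the ambient group.
-/

set_option autoImplicit false

namespace H77

variable {G : Type*} [Group G] [Finite G]

local instance : Fact (Nat.Prime 2) := ⟨Nat.prime_two⟩

theorem relIndex_mul_card {T L : Subgroup G} (h : T ≤ L) :
    T.relIndex L * Nat.card ↥T = Nat.card ↥L := by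
  rw [Subgroup.relIndex, ← Nat.card_congr (Subgroup.subgroupOfEquivOfLe h).toEquiv, Subgroup.index_mul_card]

theorem sylTwo_iff {T L : Subgroup G} : Cfsg.IsSylowTwoIn T L ↔ H74.IsSylIn 2 T L := by
  constructor
  · rintro ⟨hle, hp, hodd⟩
    obtain ⟨n, hn⟩ := IsPGroup.iff_card.1 hp
    refine ⟨hle, ?_⟩
    have hc := relIndex_mul_card hle
    have hne : T.relIndex L ≠ 0 := fun h0 => by
      rw [h0, zero_mul] at hc; exact Nat.card_pos.ne hc
    rw [hn]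
    congr 1
    rw [← hc, hn, Nat.factorization_mul hne (pow_ne_zero _ two_ne_zero), Finsupp.add_apply,
      Nat.factorization_pow, Finsupp.smul_apply, Nat.Prime.factorization_self Nat.prime_two,
      Nat.factorization_eq_zero_of_not_dvd (fun h2 => (Nat.not_even_iff_odd.2 hodd) (even_iff_two_dvd.2 h2))]
    simp
  · intro h
    refine ⟨h.le, h.isPGroup, Nat.not_even_iff_odd.1 fun hev => ?_⟩
    have hc := relIndex_mul_card h.le
    obtain ⟨k, hk⟩ := even_iff_two_dvd.1 hev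
    rw [h.2, hk] at hc
    have h2 : 2 ^ ((Nat.card ↥L).factorization 2 + 1) ∣ Nat.card ↥L := ⟨k, by
      conv_lhs => rw [← hc]
      ring⟩
    exact absurd ((Nat.prime_two.pow_dvd_iff_le_factorization Nat.card_pos.ne').1 h2) (by omega)

theorem sylTwo_unique {T L P : Subgroup G} (hT : Cfsg.IsSylowTwoIn T L) (hTP : T ≤ P) (hPL : P ≤ L)
    (hP : IsPGroup 2 ↥P) : P = T := by
  obtain ⟨-, -, hodd⟩ := hT
  have h1 := Subgroup.relIndex_mul_relIndex T P L hTP hPL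
  have hodd1 : Odd (T.relIndex P) := Odd.of_dvd_nat hodd (Dvd.intro _ h1)
  obtain ⟨n, hn⟩ := IsPGroup.iff_card.1 hP
  have h2 : T.relIndex P ∣ 2 ^ n := hn ▸ Dvd.intro _ (relIndex_mul_card hTP)
  obtain ⟨m, -, hm⟩ := (Nat.dvd_prime_pow Nat.prime_two).1 h2
  rcases m with _ | m
  · refine (Subgroup.eq_of_le_of_card_ge hTP ?_).symm
    rw [← relIndex_mul_card hTP, hm, pow_zero, one_mul]
  · rw [hm] at hodd1
    exact absurd hodd1 (Nat.not_odd_iff_even.2 ⟨2 ^ m, by ring⟩)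

theorem mem_sylTwo_of_normalizes {T L : Subgroup G} (hT : Cfsg.IsSylowTwoIn T L) {x : G} (hxL : x ∈ L)
    (hxT : x ∈ Subgroup.normalizer (T : Set G)) (hx : ∃ k : ℕ, x ^ 2 ^ k = 1) : x ∈ T := by
  obtain ⟨k, hk⟩ := hx
  have hp : IsPGroup 2 ↥(Subgroup.zpowers x) := by
    intro y
    obtain ⟨i, hi⟩ := Subgroup.mem_zpowers_iff.1 y.2
    refine ⟨k, Subtype.ext ?_⟩
    rw [SubmonoidClass.coe_pow, ← hi, ← zpow_natCast, ← zpow_mul, mul_comm, zpow_mul, zpow_natCast, hk, one_zpow]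
    rfl
  have h2 : IsPGroup 2 ↥(Subgroup.zpowers x ⊔ T : Subgroup G) :=
    IsPGroup.to_sup_of_normal_right' hp hT.2.1 (Subgroup.zpowers_le.2 hxT)
  have := sylTwo_unique hT le_sup_right (sup_le (Subgroup.zpowers_le.2 hxL) hT.1) h2
  rw [← this]
  exact Subgroup.mem_sup_left (Subgroup.mem_zpowers x)

theorem exists_sylTwo_ge {P L : Subgroup G} (hP : IsPGroup 2 ↥P) (hPL : P ≤ L) :
    ∃ T, Cfsg.IsSylowTwoIn T L ∧ P ≤ T := by
  obtain ⟨S, hS⟩ := (hP.of_equiv (Subgroup.subgroupOfEquivOfLe hPL).symm : IsPGroup 2 ↥(P.subgroupOf L)).exists_le_sylow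
  refine ⟨(S : Subgroup ↥L).map L.subtype, sylTwo_iff.2 (H74.isSylIn_of_sylow S), ?_⟩
  intro x hx
  exact ⟨⟨x, hPL hx⟩, hS (Subgroup.mem_subgroupOf.2 hx), rfl⟩

theorem sylTwo_conj {T T' L : Subgroup G} (hT : Cfsg.IsSylowTwoIn T L) (hT' : Cfsg.IsSylowTwoIn T' L) :
    ∃ g ∈ L, T' = cmap g T :=
  (sylTwo_iff.1 hT).conj (sylTwo_iff.1 hT')

/-- Every 2-subgroup of `L` is conjugate into a given Sylow 2-subgroup. -/
theorem exists_cmap_le_sylTwo {T L P : Subgroup G} (hT : Cfsg.IsSylowTwoIn T L) (hP : IsPGroup 2 ↥P)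
    (hPL : P ≤ L) : ∃ g ∈ L, cmap g P ≤ T := by
  obtain ⟨T', hT', hPT'⟩ := exists_sylTwo_ge hP hPL
  obtain ⟨g, hg, he⟩ := sylTwo_conj hT' hT
  exact ⟨g, hg, he ▸ cmap_mono g hPT'⟩

theorem pCoreOf_le_sylTwo {T L : Subgroup G} (hT : Cfsg.IsSylowTwoIn T L) : Cfsg.pCoreOf 2 L ≤ T :=
  H74.pCoreOf_le_sylIn (sylTwo_iff.1 hT)

theorem sylTwo_inf_sylow {T L : Subgroup G} (hT : Cfsg.IsSylowTwoIn T L) {S : Sylow 2 G}
    (hS : T ≤ (S : Subgroup G)) : (S : Subgroup G) ⊓ L = T :=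
  sylTwo_unique hT (le_inf hS hT.1) inf_le_right (S.2.to_le inf_le_left)

theorem sylTwo_cmap {T L : Subgroup G} (hT : Cfsg.IsSylowTwoIn T L) (g : G) :
    Cfsg.IsSylowTwoIn (cmap g T) (cmap g L) :=
  sylTwo_iff.2 ((sylTwo_iff.1 hT).map _ (MulAut.conj g).injective)

/-- The trace of a Sylow 2-subgroup on a normalised subgroup, and the Frattini argument. -/
theorem sylTwo_inf_normal {T L B : Subgroup G} (hT : Cfsg.IsSylowTwoIn T L) (hB : B ≤ L)
    (hBn : L ≤ Subgroup.normalizer (B : Set G)) : Cfsg.IsSylowTwoIn (T ⊓ B) B := by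
  obtain ⟨P, hP, hle⟩ := exists_sylTwo_ge (hT.2.1.to_le inf_le_left) (inf_le_right : T ⊓ B ≤ B)
  obtain ⟨g, hg, hgP⟩ := exists_cmap_le_sylTwo hT hP.2.1 (hP.1.trans hB)
  have h1 : cmap g P ≤ T ⊓ B :=
    le_inf hgP (((cmap_mono g hP.1).trans (cmap_eq_of_mem_normalizer (hBn hg)).le))
  have h2 := Nat.le_of_dvd Nat.card_pos (Subgroup.card_dvd_of_le h1)
  rw [card_cmap] at h2
  rwa [Subgroup.eq_of_le_of_card_ge hle h2]

theorem frattini_two {T B L : Subgroup G} (hT : Cfsg.IsSylowTwoIn T B) (hBn : L ≤ Subgroup.normalizer (B : Set G))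
    {g : G} (hg : g ∈ L) : ∃ b ∈ B, b⁻¹ * g ∈ Subgroup.normalizer (T : Set G) := by
  have h1 := sylTwo_cmap hT g
  rw [cmap_eq_of_mem_normalizer (hBn hg)] at h1
  obtain ⟨b, hb, he⟩ := sylTwo_conj hT h1
  refine ⟨b, hb, mem_normalizer_of_cmap_eq ?_⟩
  rw [← cmap_cmap, he, cmap_inv_cmap]

end H77
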