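import Cfsg.Agent.H77.ActOn
import Cfsg.Agent.H77.SylTwo
import Cfsg.Agent.H77.OddTools
import Cfsg.Agent.H77.CharP
import Cfsg.Agent.H77.OffenderStructure
import Mathlib.GroupTheory.Solvable

/-!
The standing set-up for `L ∈ ℒ(T)`: the action of `L` on `V = Ω₁(Z(O₂(L)))`, its kernel `C`, and the fact
that the induced group is solvable with trivial 2-core.
-/

set_option autoImplicit false

namespace H77

variable {G : Type*} [Group G]

/-- The standing hypotheses. -/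
structure JCtx (T L : Subgroup G) : Prop where
  char2 : Cfsg.IsCharacteristicTwoType G
  sol : ∀ N : Subgroup G, Cfsg.IsTwoLocal N → Group.IsSolvable ↥N
  cen : ∀ S : Sylow 2 G, Subgroup.centralizer (Cfsg.omegaCenterOf (S : Subgroup G) : Set G) ≤
    Subgroup.normalizer ((S : Subgroup G) : Set G)
  mem : L ∈ Cfsg.jOvergroups T

/-- `O₂(L)`. -/
abbrev qOf (L : Subgroup G) : Subgroup G := Cfsg.pCoreOf 2 L

/-- `Ω₁(Z(O₂(L)))`. -/
abbrev vOf (L : Subgroup G) : Subgroup G := Cfsg.omegaCenterOf (qOf L)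

variable [Finite G]

theorem le_normalizer_vOf (L : Subgroup G) : L ≤ Subgroup.normalizer (vOf L : Set G) :=
  (le_normalizer_pCoreOf L).trans (normalizer_le_normalizer_omegaCenterOf _)

/-- The group induced by `L` on `V`. -/
abbrev xImg (L : Subgroup G) : Subgroup (MulAut ↥(vOf L)) := imgGroup (le_normalizer_vOf L)

/-- The map onto the induced group. -/
abbrev psi (L : Subgroup G) : ↥L →* ↥(xImg L) := imgHom (le_normalizer_vOf L)

/-- The kernel of the action, in `G`. -/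
def cOf (L : Subgroup G) : Subgroup G := L ⊓ Subgroup.centralizer (vOf L : Set G)

theorem psi_eq_one_iff {L : Subgroup G} (l : ↥L) : psi L l = 1 ↔ (l : G) ∈ cOf L := by
  rw [imgHom_eq_one_iff, cOf, Subgroup.mem_inf]
  exact ⟨fun h => ⟨l.2, h⟩, fun h => h.2⟩

theorem qOf_le (L : Subgroup G) : qOf L ≤ L := pCoreOf_le L

theorem qOf_le_cOf (L : Subgroup G) : qOf L ≤ cOf L := by
  refine le_inf (qOf_le L) fun q hq => ?_
  rw [Subgroup.mem_centralizer_iff]
  exact fun v hv => ((mem_omegaCenterOf.1 hv).2.1 q hq).symm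

theorem cOf_le (L : Subgroup G) : cOf L ≤ L := inf_le_left

theorem le_normalizer_cOf (L : Subgroup G) : L ≤ Subgroup.normalizer (cOf L : Set G) := by
  intro l hl
  refine mem_normalizer_of_forall fun c hc => ?_
  have hcL : c ∈ L := cOf_le L hc
  have h1 : psi L (⟨l, hl⟩ * ⟨c, hcL⟩ * ⟨l, hl⟩⁻¹) = 1 := by
    rw [map_mul, map_mul, (psi_eq_one_iff ⟨c, hcL⟩).2 hc, mul_one, ← map_mul, mul_inv_cancel, map_one]
  exact (psi_eq_one_iff _).1 h1

namespace JCtx

variable {T L : Subgroup G} (h : JCtx T L)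
include h

theorem sylT : Cfsg.IsSylowTwoIn T L := h.mem.1

theorem T_le : T ≤ L := h.mem.1.1

theorem T_pgroup : IsPGroup 2 ↥T := h.mem.1.2.1

theorem not_J_le : ¬ Cfsg.thompsonSubgroupOf 2 T ≤ qOf L := h.mem.2.1

theorem cent_le : Subgroup.centralizer (qOf L : Set G) ≤ qOf L := h.mem.2.2

theorem J_le_L : Cfsg.thompsonSubgroupOf 2 T ≤ L := (thompson_le T).trans h.T_le

theorem T_ne_bot : T ≠ ⊥ := fun h0 =>
  h.not_J_le ((thompson_le T).trans (h0.le.trans bot_le))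

theorem q_ne_bot : qOf L ≠ ⊥ := by
  intro h0
  refine h.not_J_le ?_
  intro x _
  exact h.cent_le (Subgroup.mem_centralizer_iff.2 fun q hq => by
    rw [SetLike.mem_coe, h0, Subgroup.mem_bot] at hq; rw [hq, one_mul, mul_one])

theorem q_le_T : qOf L ≤ T := pCoreOf_le_sylTwo h.sylT

theorem v_le_T : vOf L ≤ T := (omegaCenterOf_le _).trans h.q_le_T

theorem solvable : Group.IsSolvable ↥L := by
  haveI := h.sol _ ⟨qOf L, isPGroup_pCoreOf L, h.q_ne_bot, rfl⟩
  exact Group.isSolvable_of_isSolvable_injective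
    (f := Subgroup.inclusion (le_normalizer_pCoreOf (p := 2) L)) (Subgroup.inclusion_injective _)

theorem cOf_le_normalizer : cOf L ≤ Subgroup.normalizer (T : Set G) := by
  haveI : Fact (Nat.Prime 2) := ⟨Nat.prime_two⟩
  obtain ⟨S, hS⟩ := h.T_pgroup.exists_le_sylow
  have hZ : Cfsg.omegaCenterOf (S : Subgroup G) ≤ vOf L := by
    intro z hz
    obtain ⟨hz1, hz2, hz3⟩ := mem_omegaCenterOf.1 hz
    have hzQ : z ∈ qOf L := h.cent_le (Subgroup.mem_centralizer_iff.2 fun q hq => hz2 q (hS (h.q_le_T hq)))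
    exact mem_omegaCenterOf.2 ⟨hzQ, fun q hq => hz2 q (hS (h.q_le_T hq)), hz3⟩
  intro c hc
  have h1 : c ∈ Subgroup.normalizer ((S : Subgroup G) : Set G) :=
    h.cen S (Subgroup.centralizer_le (fun z hz => hZ hz) (Subgroup.mem_inf.1 hc).2)
  have h2 : c ∈ Subgroup.normalizer (L : Set G) := Subgroup.le_normalizer (cOf_le L hc)
  rw [← sylTwo_inf_sylow h.sylT hS]
  exact Subgroup.inf_normalizer_le_normalizer_inf (Subgroup.mem_inf.2 ⟨h1, h2⟩)

theorem cOf_le_normalizer_J : cOf L ≤ Subgroup.normalizer (Cfsg.thompsonSubgroupOf 2 T : Set G) :=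
  h.cOf_le_normalizer.trans (normalizer_le_normalizer_thompson T)

/-- 2-elements of `C` lie in `O₂(L)`. -/
theorem mem_q_of_two_elt {c : G} (hc : c ∈ cOf L) (h2 : ∃ k : ℕ, c ^ 2 ^ k = 1) : c ∈ qOf L := by
  have hmem : ∀ x ∈ cOf L, (∃ k : ℕ, x ^ 2 ^ k = 1) → x ∈ T ⊓ cOf L := fun x hx hx2 =>
    Subgroup.mem_inf.2 ⟨mem_sylTwo_of_normalizes h.sylT (cOf_le L hx) (h.cOf_le_normalizer hx) hx2, hx⟩
  refine le_pCoreOf (K := T ⊓ cOf L) (inf_le_right.trans (cOf_le L)) (h.T_pgroup.to_le inf_le_left) ?_ (hmem c hc h2)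
  intro l hl
  refine mem_normalizer_of_forall fun x hx => ?_
  obtain ⟨hxT, hxC⟩ := Subgroup.mem_inf.1 hx
  obtain ⟨k, hk⟩ := pow_two_pow_of_mem h.T_pgroup hxT
  exact hmem _ ((Subgroup.mem_normalizer_iff.1 (le_normalizer_cOf L hl) x).1 hxC)
    ⟨k, by rw [conj_pow, hk, mul_one, mul_inv_cancel]⟩

theorem T_inf_cOf_le : T ⊓ cOf L ≤ qOf L := fun _ hx =>
  h.mem_q_of_two_elt (Subgroup.mem_inf.1 hx).2 (pow_two_pow_of_mem h.T_pgroup (Subgroup.mem_inf.1 hx).1)

theorem comm_mem_q {c t : G} (hc : c ∈ cOf L) (ht : t ∈ T) : c * t * c⁻¹ * t⁻¹ ∈ qOf L := by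
  refine h.T_inf_cOf_le (Subgroup.mem_inf.2 ⟨?_, ?_⟩)
  · exact T.mul_mem ((Subgroup.mem_normalizer_iff.1 (h.cOf_le_normalizer hc) t).1 ht) (T.inv_mem ht)
  · have := (cOf L).mul_mem hc
      ((Subgroup.mem_normalizer_iff.1 (le_normalizer_cOf L (h.T_le ht)) c⁻¹).1 (inv_mem hc))
    simpa [mul_assoc] using this

theorem not_J_le_cOf : ¬ Cfsg.thompsonSubgroupOf 2 T ≤ cOf L := fun h0 =>
  h.not_J_le ((le_inf (thompson_le T) h0).trans h.T_inf_cOf_le)

/-- The induced group has trivial 2-core. -/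
theorem eq_bot_of_normal_two (N : Subgroup ↥(xImg L)) (hN : N.Normal) (h2 : IsPGroup 2 ↥N) : N = ⊥ := by
  haveI : Fact (Nat.Prime 2) := ⟨Nat.prime_two⟩
  set D := (N.comap (psi L)).map L.subtype with hD
  have hDL : D ≤ L := Subgroup.map_subtype_le _
  have memD : ∀ {g : G} (hg : g ∈ L), g ∈ D ↔ psi L ⟨g, hg⟩ ∈ N := by
    intro g hg
    rw [hD, Subgroup.mem_map]
    exact ⟨fun ⟨z, hz, he⟩ => (show (⟨g, hg⟩ : ↥L) = z from Subtype.ext he.symm) ▸ hz, fun hz => ⟨_, hz, rfl⟩⟩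
  have hDn : L ≤ Subgroup.normalizer (D : Set G) := by
    intro l hl
    refine mem_normalizer_of_forall fun x hx => ?_
    have hxL := hDL hx
    rw [memD (L.mul_mem (L.mul_mem hl hxL) (L.inv_mem hl))]
    have h1 := hN.conj_mem _ ((memD hxL).1 hx) (psi L ⟨l, hl⟩)
    rw [← map_inv, ← map_mul, ← map_mul] at h1
    exact h1
  have hCD : cOf L ≤ D := fun c hc => (memD (cOf_le L hc)).2 (((psi_eq_one_iff ⟨c, cOf_le L hc⟩).2 hc) ▸ N.one_mem)
  have hsyl := sylTwo_inf_normal h.sylT hDL hDn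
  have hodd : ∀ g : ↥D, Odd (orderOf g) → (g : G) ∈ cOf L := by
    intro g hg
    have hgL := hDL g.2
    obtain ⟨k, hk⟩ := h2 ⟨_, (memD hgL).1 g.2⟩
    have h1 : psi L ⟨g, hgL⟩ ^ 2 ^ k = 1 := congrArg Subtype.val hk
    have h3 : orderOf (psi L ⟨g, hgL⟩) ∣ orderOf g := by
      refine orderOf_dvd_of_pow_eq_one ?_
      rw [← map_pow, show (⟨g, hgL⟩ : ↥L) ^ orderOf g = 1 from Subtype.ext (by
        rw [SubmonoidClass.coe_pow, OneMemClass.coe_one]; exact congrArg Subtype.val (pow_orderOf_eq_one g)),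
        map_one]
    have h4 : psi L ⟨g, hgL⟩ = 1 := eq_one_of_two_pow_of_odd h1 (Odd.of_dvd_nat hg h3)
    exact (psi_eq_one_iff (L := L) ⟨(g : G), hgL⟩).1 h4
  have hE : D ≤ cOf L ⊔ T ⊓ D := by
    rw [← Subgroup.subgroupOf_eq_top]
    refine eq_top_of_odd_mem ?_ fun g hg => Subgroup.mem_subgroupOf.2 (Subgroup.mem_sup_left (hodd g hg))
    intro hd
    have h1 : (cOf L ⊔ T ⊓ D).relIndex D ∣ (T ⊓ D).relIndex D :=
      Subgroup.relIndex_dvd_of_le_left D le_sup_right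
    exact (Nat.not_even_iff_odd.2 hsyl.2.2) (even_iff_two_dvd.2 (hd.trans h1))
  have hDnT : D ≤ Subgroup.normalizer ((T ⊓ D : Subgroup G) : Set G) := by
    refine hE.trans (sup_le ?_ Subgroup.le_normalizer)
    exact (le_inf h.cOf_le_normalizer (hCD.trans Subgroup.le_normalizer)).trans
      Subgroup.inf_normalizer_le_normalizer_inf
  have hTDn : L ≤ Subgroup.normalizer ((T ⊓ D : Subgroup G) : Set G) := by
    intro l hl
    refine mem_normalizer_of_forall fun x hx => ?_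
    obtain ⟨hxT, hxD⟩ := Subgroup.mem_inf.1 hx
    obtain ⟨k, hk⟩ := pow_two_pow_of_mem h.T_pgroup hxT
    have hy : l * x * l⁻¹ ∈ D := (Subgroup.mem_normalizer_iff.1 (hDn hl) x).1 hxD
    exact mem_sylTwo_of_normalizes hsyl hy (hDnT hy) ⟨k, by rw [conj_pow, hk, mul_one, mul_inv_cancel]⟩
  have hTQ : T ⊓ D ≤ qOf L :=
    le_pCoreOf (inf_le_right.trans hDL) (h.T_pgroup.to_le inf_le_left) hTDn
  have hDC : D ≤ cOf L := hE.trans (sup_le le_rfl (hTQ.trans (qOf_le_cOf L)))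
  rw [eq_bot_iff]
  intro x hx
  obtain ⟨l, rfl⟩ := imgHom_surjective (le_normalizer_vOf L) x
  exact Subgroup.mem_bot.2 ((psi_eq_one_iff l).2 (hDC ((memD l.2).2 hx)))

theorem xImg_solvable : Group.IsSolvable ↥(xImg L) := by
  haveI := h.solvable
  exact Group.isSolvable_of_surjective (f := psi L) (imgHom_surjective _)

theorem offer_imgOf {A : Subgroup G} (hA : A ∈ mea T) :
    IsOffer ↥(vOf L) (imgOf (le_normalizer_vOf L) A) :=
  isOffer_imgOf _ hA h.v_le_T (hA.1.trans h.T_le)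

/-- Images of members of the Thompson family are generated by transvections inverting tiny elements. -/
theorem mea_le_closure {A : Subgroup G} (hA : A ∈ mea T) :
    imgOf (le_normalizer_vOf L) A ≤ Subgroup.closure
      {a | a ∈ imgOf (le_normalizer_vOf L) A ∧ a ∈ invTransv ↥(vOf L) (Cfsg.pCore 3 ↥(xImg L))} :=
  offer_le_closure omega_sq h.xImg_solvable h.eq_bot_of_normal_two (imgOf_sq _ hA.2.1) (imgOf_comm _ hA.2.1)
    (h.offer_imgOf hA)

end JCtx

end H77
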