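import Cfsg.Agent.H77.JCaseB

/-!
When `T = S` there is always a second top; the final pair.
-/

set_option autoImplicit false

namespace H77

variable {G : Type*} [Group G] [Finite G]

/-- A maximal straddling subgroup for the top `L` of a Sylow component is a Sylow subgroup. -/
theorem eq_sylow_of_maxStraddling {S : Sylow 2 G} {L K T : Subgroup G} (hctx : JCtx (S : Subgroup G) L)
    (hK : Cfsg.IsJComponent (S : Subgroup G) K) (hKL : K ≤ L) (h : MCtx L T) (hTS : T ≤ (S : Subgroup G))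
    (hjn : njOf S ≤ L) : T = (S : Subgroup G) := by
  haveI : Fact (Nat.Prime 2) := ⟨Nat.prime_two⟩
  by_contra hne
  obtain ⟨K1, L1, n1⟩ := h.exists_nice
  obtain ⟨u, huS, huN, huT⟩ := exists_u hTS hne
  have a : ACtx L T S u K1 L1 := ⟨h, hTS, hjn, huS, huN, huT, n1⟩
  have hp := a.jpair
  have hnc : NC T K1 (cmap u K1) := a.exists_nc
  have hT := h.T_pgroup
  set z := ptOf T K1 with hzdef
  have hz := ptOf_spec hT n1.comp
  set K2 := cmap u K1 with hK2
  have huz : u * z * u⁻¹ = z := by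
    have h1 := isPt_cmap a.u_J hz
    rw [← hK2] at h1
    have e : ptOf T K2 = ptOf T K1 := hp.pt_eq hnc
    have h2 := (eq_pt_of_mem hT a.nice_u.comp (ptOf_spec hT a.nice_u.comp) h1.mem_Z h1.mem_W).resolve_left h1.ne_one
    exact h2.trans e
  have hzS : z ∈ Cfsg.omegaCenterOf (S : Subgroup G) := by
    rcases card_zOf_two_or_four hT n1.comp a.small with h2 | h4
    · rw [a.eq_two h2]; exact hz.mem_Z
    · obtain ⟨y, c, -, -, hc, -, -, hy, -, -, huu, hall, -⟩ := a.four_points h4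
      rcases hall z hz.mem_Z with e | e | e | e
      · exact absurd e hz.ne_one
      · exact absurd (e ▸ huz) hy
      · rw [e] at huz
        exact absurd (huz.symm.trans huu) hy
      · exact e ▸ hc
  have hzc : ∀ s ∈ (S : Subgroup G), s * z = z * s := (mem_omegaCenterOf.1 hzS).2.1
  have hs1 := a.norm1
  obtain ⟨w, hw, hw1, hwz⟩ : ∃ w ∈ Cfsg.wOf K1, w ≠ 1 ∧ w ≠ z := by
    by_contra hcon
    push Not at hcon
    have hsub : (Cfsg.wOf K1 : Set G) ⊆ {1, z} := fun v hv => by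
      rcases eq_or_ne v 1 with e | e
      · exact Or.inl e
      · exact Or.inr (hcon v hv e)
    have h1 := Set.ncard_le_ncard hsub (Set.toFinite _)
    rw [← Nat.card_coe_set_eq, SetLike.coe_sort_coe, n1.comp.2.2.2.2.1, Set.ncard_pair (Ne.symm hz.ne_one)] at h1
    omega
  set V1 := vK T K1 with hV1
  have hQ : qK T K1 = V1 := hp.qK_eq_vK hnc true
  have hV1el := vK_elem hT n1.comp
  have hB : ∀ x ∈ (S : Subgroup G), x * w = w * x → x ∈ V1 := by
    intro x hx hxw
    have hxW : ∀ v ∈ Cfsg.wOf K1, v * x = x * v := by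
      intro v hv
      rcases hs1.four hw hw1 hwz hv with e | e | e | e <;> rw [e]
      · simp
      · exact (hzc x hx).symm
      · exact hxw.symm
      · exact ((show Commute x z from hzc x hx).mul_right hxw).eq.symm
    have hxN : x ∈ Subgroup.normalizer (Cfsg.wOf K1 : Set G) := mem_normalizer_of_forall fun v hv => by
      rw [← hxW v hv, mul_inv_cancel_right]; exact hv
    obtain ⟨X, hX, hle⟩ := exists_maximalTwoLocal_ge
      (isTwoLocal_normalizer (wOf_isPGroup K1) (jcomp_wOf_ne_bot n1.comp))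
    have hXL : X = L1 := n1.uniq h ⟨hX, (Subgroup.le_normalizer.trans (normalizer_le_normalizer_wOf K1)).trans hle,
      ((jcomp_J_le_normalizer n1.comp).trans (normalizer_le_normalizer_wOf K1)).trans hle⟩
    have hxT : x ∈ T := by
      have h1 : x ∈ (S : Subgroup G) ⊓ L1 := Subgroup.mem_inf.2 ⟨hx, hXL ▸ hle hxN⟩
      rwa [a.inter_top] at h1
    rw [← hQ]
    exact mem_qK.2 ⟨hxT, hxW⟩
  have hNV : ∀ x ∈ (S : Subgroup G), x ∈ Subgroup.normalizer (V1 : Set G) → x ∈ T := by
    intro x hx hxN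
    have hV1ne : V1 ≠ ⊥ := fun h0 => hz.ne_one (Subgroup.mem_bot.1 (h0 ▸ Subgroup.mem_sup_right hz.mem_Z))
    obtain ⟨X, hX, hle⟩ := exists_maximalTwoLocal_ge (isTwoLocal_normalizer (elem_isPGroup hV1el) hV1ne)
    have hXL : X = L1 := n1.uniq h ⟨hX, (le_sup_left.trans hs1.le_normalizer_vK).trans hle,
      ((thompson_le T).trans (le_sup_right.trans hs1.le_normalizer_vK)).trans hle⟩
    have h1 : x ∈ (S : Subgroup G) ⊓ L1 := Subgroup.mem_inf.2 ⟨hx, hXL ▸ hle hxN⟩
    rwa [a.inter_top] at h1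
  set V := vOf L with hV
  have hVel : Cfsg.IsElementaryAbelian 2 V := omegaCenterOf_elem (qOf L)
  have hVS : V ≤ (S : Subgroup G) := hctx.v_le_T
  have hSV : (S : Subgroup G) ≤ Subgroup.normalizer (V : Set G) := hctx.T_le.trans (le_normalizer_vOf L)
  have hwV1 : w ∈ V1 := Subgroup.mem_sup_left hw
  have hwS : w ∈ (S : Subgroup G) := hTS (hs1.wOf_le hw)
  have hw2 : w⁻¹ = w := inv_eq_of_mul_eq_one_left (n1.comp.2.2.2.2.2 w hw)
  have hVT : V ≤ T := by
    intro v hv
    have hvS := hVS hv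
    have hwv : w * v * w⁻¹ ∈ V := (Subgroup.mem_normalizer_iff.1 (hSV hwS) v).1 hv
    set d := w * v * w⁻¹ * v⁻¹ with hd
    have hdV : d ∈ V := V.mul_mem hwv (V.inv_mem hv)
    have hdw : d * w = w * d := by
      have e : w * d * w⁻¹ = d⁻¹ := by
        rw [hd]
        calc w * (w * v * w⁻¹ * v⁻¹) * w⁻¹ = (w * w) * v * (w⁻¹ * v⁻¹ * w⁻¹) := by group
          _ = v * (w⁻¹ * v⁻¹ * w⁻¹) := by rw [n1.comp.2.2.2.2.2 w hw, one_mul]
          _ = (w * v * w⁻¹ * v⁻¹)⁻¹ := by
            rw [mul_inv_rev, mul_inv_rev, mul_inv_rev, inv_inv, inv_inv]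
            conv_lhs => rw [hw2]
            conv_rhs => rw [hw2]
            simp only [mul_assoc]
      rw [inv_eq_of_mul_eq_one_left (elem_sq hVel hdV)] at e
      exact (mul_inv_eq_iff_eq_mul.1 e).symm
    have hdV1 := hB d (hVS hdV) hdw
    have hvi : v⁻¹ = v := inv_eq_of_mul_eq_one_left (elem_sq hVel hv)
    have hvwv : v⁻¹ * w * v ∈ V1 := by
      have e : v⁻¹ * w * v = d⁻¹ * w := by
        calc v⁻¹ * w * v = v * w * v⁻¹ := by rw [hvi]
          _ = d⁻¹ * w := by rw [hd]; group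
      rw [e]
      exact V1.mul_mem (V1.inv_mem hdV1) hwV1
    refine hNV v hvS (mem_normalizer_of_forall fun b hb => ?_)
    have hbS : b ∈ (S : Subgroup G) := hTS (hs1.vK_le hb)
    refine hB _ ((S : Subgroup G).mul_mem ((S : Subgroup G).mul_mem hvS hbS) ((S : Subgroup G).inv_mem hvS)) ?_
    have e := congrArg (fun y => v * y * v⁻¹) (elem_comm hV1el hb hvwv)
    convert e using 1 <;> group
  have hVsub : V ≤ vK T K1 ∨ V ≤ vK T K2 :=
    le_or_le_of_subset_union fun v hv => hp.invol_cases hnc (hVT hv) (elem_sq hVel hv)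
  have huV : cmap u V = V := cmap_eq_of_mem_normalizer (hSV huS)
  have hV2 : vK T K2 = cmap u (vK T K1) := by rw [hK2, vK_cmap a.u_J]
  have hboth : V ≤ vK T K1 ∧ V ≤ vK T K2 := by
    rcases hVsub with h1 | h1
    · exact ⟨h1, by rw [hV2, ← huV]; exact cmap_mono u h1⟩
    · refine ⟨?_, h1⟩
      have h2 := cmap_mono u⁻¹ h1
      rwa [hV2, cmap_inv_cmap, cmap_eq_of_mem_normalizer (inv_mem (hSV huS))] at h2
  have hVZ : V ≤ zOf T := by
    intro v hv
    refine omegaCenterOf_le_zOf T (mem_omegaCenterOf.2 ⟨hVT hv, fun t ht => ?_, elem_sq hVel hv⟩)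
    have hle : T ≤ Subgroup.centralizer ({v} : Set G) := by
      rw [hp.T_eq hnc]
      refine sup_le (fun x hx => ?_) fun x hx => ?_ <;> rw [Subgroup.mem_centralizer_singleton_iff]
      · exact elem_comm hV1el hx (hboth.1 hv)
      · exact elem_comm (vK_elem hT a.nice_u.comp) hx (hboth.2 hv)
    exact Subgroup.mem_centralizer_singleton_iff.1 (hle ht)
  have hWV : Cfsg.wOf K ≤ V := hctx.wOf_le_vOf hK hKL
  have hWZ : Cfsg.wOf K ≤ zOf T := hWV.trans hVZ
  have h4W : Nat.card ↥(Cfsg.wOf K) = 4 := hK.2.2.2.2.1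
  have heq : Cfsg.wOf K = zOf T := Subgroup.eq_of_le_of_card_ge hWZ (by have := a.small; omega)
  have h4 : Nat.card ↥(zOf T) = 4 := heq ▸ h4W
  obtain ⟨y, hy, hy1⟩ := exists_ne_one_of_card_two (A := yOf T K1) (by
    have := card_zOf_eq hT n1.comp
    omega)
  obtain ⟨g, hg, hgy⟩ := jcomp_transitive hK (heq ▸ hz.mem_Z : z ∈ Cfsg.wOf K) hz.ne_one
    (heq ▸ yOf_le hy : y ∈ Cfsg.wOf K) hy1
  have hSL1 : cmap g (S : Subgroup G) ≤ L1 := by
    refine le_trans ?_ (h.centralizer_le_top n1.comp n1.out n1.top hy hy1)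
    rintro _ ⟨s, hs, rfl⟩
    rw [Subgroup.mem_centralizer_singleton_iff, ← hgy]
    show g * s * g⁻¹ * (g * z * g⁻¹) = g * z * g⁻¹ * (g * s * g⁻¹)
    have e := congrArg (fun y => g * y * g⁻¹) (hzc s hs)
    convert e using 1 <;> group
  obtain ⟨x, -, hle⟩ := exists_cmap_le_sylTwo (n1.ctx h).sylT (S.2.map _ : IsPGroup 2 ↥(cmap g (S : Subgroup G))) hSL1
  have h1 := Nat.le_of_dvd Nat.card_pos (Subgroup.card_dvd_of_le hle)
  rw [card_cmap, card_cmap] at h1
  exact hne (Subgroup.eq_of_le_of_card_ge hTS h1)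

theorem MCtx.bctx {M : Subgroup G} {S : Sylow 2 G} (h : MCtx M (S : Subgroup G)) (hSM : njOf S ≤ M)
    (hO : Cfsg.pCore 2 G = ⊥) : BCtx S := by
  haveI : Fact (Nat.Prime 2) := ⟨Nat.prime_two⟩
  have h0 := h.sylow_ctx hSM
  obtain ⟨K, L, n⟩ := h0.exists_nice
  refine ⟨h0, ?_⟩
  by_cases hle : njOf S ≤ L
  · -- a straddling subgroup for `L`
    have hctx := n.ctx h0
    have hne : (Cfsg.straddlingTwoSubgroups L).Nonempty := by
      rw [Set.nonempty_iff_ne_empty]
      intro he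
      obtain ⟨P, hP, hP1, hLP⟩ := n.top.maxLocal.1
      have htop : L ≠ ⊤ := by
        intro ht
        haveI : P.Normal := Subgroup.normalizer_eq_top_iff.1 (hLP ▸ ht)
        exact hP1 (le_bot_iff.1 (hO ▸ H1.le_pCore hP))
      have hz := ptOf_spec h0.T_pgroup n.comp
      have hzL : ptOf (S : Subgroup G) K ∈ L := n.top.comp_le (wOf_le_self K hz.mem_W)
      have hz2 : orderOf (ptOf (S : Subgroup G) K) = 2 :=
        orderOf_eq_prime (by rw [sq]; exact zOf_sq hz.mem_Z) hz.ne_one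
      have hse : Cfsg.IsStronglyEmbedded L := by
        refine stronglyEmbedded_of_normalizer_le htop ?_ fun R hR hR1 hRL => ?_
        · refine even_iff_two_dvd.2 ?_
          rw [← hz2]
          exact Subgroup.orderOf_dvd_natCard _ hzL
        · by_contra hnle
          exact Set.eq_empty_iff_forall_notMem.1 he R
            ⟨hR, hR1, hRL, _, ⟨R, hR, hR1, rfl⟩, Subgroup.le_normalizer, hnle⟩
      obtain ⟨a, s, r⟩ := hctx.exists_root_any
      have haQ : (a : G) ∉ qOf L := by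
        intro haq
        have h1 := r.bar_conj
        rw [(bar_eq_one_iff a).2 haq, one_mul, inv_one, mul_one] at h1
        have h2 : bar L s ^ 2 = 1 := by rw [sq]; nth_rw 1 [h1]; exact inv_mul_cancel _
        have h3 := orderOf_dvd_of_pow_eq_one h2
        rw [hctx.orderOf_bar_root r] at h3
        omega
      have ha2 : orderOf (a : G) = 2 := orderOf_eq_prime
        (by rw [sq]; exact congrArg Subtype.val r.a_sq)
        (fun e => haQ (by rw [e]; exact one_mem _))
      obtain ⟨g, hg, hga⟩ := H67.se_conj_in hse hz2 hzL ha2 a.2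
      refine haQ (hga ▸ ?_)
      exact (Subgroup.mem_normalizer_iff.1 (le_normalizer_pCoreOf (p := 2) L hg) _).1
        (omegaCenterOf_le _ (hctx.wOf_le_vOf n.comp n.top.comp_le hz.mem_W))
    obtain ⟨R, hR⟩ := exists_maxStraddling hne
    obtain ⟨l, hl, hlR⟩ := exists_cmap_le_sylTwo hctx.sylT hR.1.1 hR.1.2.2.1
    have hL' : MCtx L (cmap l R) := ⟨h.char2, h.sol, h.cen, ⟨S, hle⟩, maxStraddling_cmap hl hR⟩
    have heq := eq_sylow_of_maxStraddling hctx n.comp n.top.comp_le hL' hlR hle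
    rw [heq] at hL'
    obtain ⟨K', L', n'⟩ := hL'.exists_nice
    exact ⟨K, L, K', L', n, ⟨n'.comp, comp_not_le_normalizer_J S.2 n'.comp, n'.top, n'.T_le⟩,
      fun e => n'.out (e ▸ n'.top.comp_le)⟩
  · obtain ⟨g, hg, hgL⟩ := SetLike.not_le_iff_exists.1 hle
    have hne : L ≠ cmap g L := fun e =>
      hgL (maximalTwoLocal_normalizer_le n.top.maxLocal (mem_normalizer_of_cmap_eq e.symm))
    have hc' := h0.cmap_comp n.comp hg
    have ht' := isTop_cmap hg n.top
    have hgS := nj_le_of_central h0 (central_norm_of_two h0 n hc' ht' hne).2.1 hg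
    exact ⟨K, L, cmap g K, cmap g L, n, ⟨hc', comp_not_le_normalizer_J S.2 hc', ht',
      (cmap_eq_of_mem_normalizer hgS).symm.le.trans (cmap_mono g n.T_le)⟩, hne⟩

/-- There is a non-commuting pair of components at `T`. -/
theorem MCtx.exists_pair {M T : Subgroup G} (h : MCtx M T) (hO : Cfsg.pCore 2 G = ⊥) :
    ∃ K L : Bool → Subgroup G, JPair T K L ∧ NC T (K true) (K false) := by
  obtain ⟨S, hTS, hSM⟩ := h.exists_sylow
  by_cases hT : T = (S : Subgroup G)
  · subst hT
    have b := h.bctx hSM hO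
    obtain ⟨K, L, K', L', n, n', hne, hnc⟩ := b.exists_nc
    exact ⟨_, _, b.jpair n n' hne, hnc⟩
  · obtain ⟨u, huS, huN, huT⟩ := exists_u hTS hT
    obtain ⟨K, L, n⟩ := h.exists_nice
    have a : ACtx M T S u K L := ⟨h, hTS, hSM, huS, huN, huT, n⟩
    exact ⟨_, _, a.jpair, a.exists_nc⟩

end H77
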