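import Cfsg.Agent.H77.JZero
import Cfsg.Agent.H77.FunctorChain

/-!
Maximal straddling 2-subgroups: `N(J(T)) ≤ M`, the overgroups, and outside components.
-/

set_option autoImplicit false

namespace H77

variable {G : Type*} [Group G] [Finite G]

/-- The standing hypotheses of the straddling analysis. -/
structure MCtx (M T : Subgroup G) : Prop where
  char2 : Cfsg.IsCharacteristicTwoType G
  sol : ∀ N : Subgroup G, Cfsg.IsTwoLocal N → Group.IsSolvable ↥N
  cen : ∀ S : Sylow 2 G, Subgroup.centralizer (Cfsg.omegaCenterOf (S : Subgroup G) : Set G) ≤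
    Subgroup.normalizer ((S : Subgroup G) : Set G)
  jn : ∃ S : Sylow 2 G, Subgroup.normalizer (Cfsg.thompsonSubgroupOf 2 (S : Subgroup G) : Set G) ≤ M
  max : T ∈ Cfsg.maxStraddlingTwoSubgroups M

theorem isTwoLocal_normalizer {P : Subgroup G} (hP : IsPGroup 2 ↥P) (h1 : P ≠ ⊥) :
    Cfsg.IsTwoLocal (Subgroup.normalizer (P : Set G)) := ⟨P, hP, h1, rfl⟩

namespace MCtx

variable {M T : Subgroup G} (h : MCtx M T)
include h

theorem T_pgroup : IsPGroup 2 ↥T := h.max.1.1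

theorem T_ne : T ≠ ⊥ := h.max.1.2.1

theorem T_le : T ≤ M := h.max.1.2.2.1

theorem J_ne : Cfsg.thompsonSubgroupOf 2 T ≠ ⊥ := thompson_ne_bot h.T_pgroup h.T_ne

theorem J_pgroup : IsPGroup 2 ↥(Cfsg.thompsonSubgroupOf 2 T) := h.T_pgroup.to_le (thompson_le T)

/-- A straddling group containing `J(T)` has the same Thompson subgroup and is no larger than `T`. -/
theorem compare {R : Subgroup G} (hR : R ∈ Cfsg.straddlingTwoSubgroups M)
    (hJR : Cfsg.thompsonSubgroupOf 2 T ≤ R) :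
    Cfsg.thompsonSubgroupOf 2 R = Cfsg.thompsonSubgroupOf 2 T ∧ Nat.card ↥R ≤ Nat.card ↥T := by
  obtain ⟨ha, hrest⟩ := h.max.2 R hR
  have hge : Cfsg.maxElemAbelianOrder T ≤ Cfsg.maxElemAbelianOrder R := by
    rw [← maxOrder_eq_of_thompson_le (thompson_le T) le_rfl]
    exact maxOrder_mono hJR
  obtain ⟨hJ, hcard⟩ := hrest (le_antisymm ha hge)
  have hle := thompson_mono hJR ha
  have he := Subgroup.eq_of_le_of_card_ge hle hJ
  exact ⟨he.symm, hcard (by rw [← he])⟩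

theorem normalizer_J_le :
    Subgroup.normalizer (Cfsg.thompsonSubgroupOf 2 T : Set G) ≤ M := by
  haveI : Fact (Nat.Prime 2) := ⟨Nat.prime_two⟩
  by_contra hno
  set J := Cfsg.thompsonSubgroupOf 2 T with hJ
  set NJ := Subgroup.normalizer (J : Set G) with hNJ
  have hTN : T ≤ NJ := Subgroup.le_normalizer.trans (normalizer_le_normalizer_thompson T)
  have hstr : ∀ R : Subgroup G, IsPGroup 2 ↥R → T ≤ R → R ≤ NJ ⊓ M → R ∈ Cfsg.straddlingTwoSubgroups M :=
    fun R hR hTR hle => ⟨hR, fun h0 => h.T_ne (le_bot_iff.1 (h0 ▸ hTR)), hle.trans inf_le_right,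
      NJ, isTwoLocal_normalizer h.J_pgroup h.J_ne, hle.trans inf_le_left, hno⟩
  have hmaxT : ∀ R : Subgroup G, IsPGroup 2 ↥R → T ≤ R → R ≤ NJ ⊓ M → R = T := fun R hR hTR hle =>
    (Subgroup.eq_of_le_of_card_ge hTR (h.compare (hstr R hR hTR hle) ((thompson_le T).trans hTR)).2).symm
  obtain ⟨R0, hR0, hTR0⟩ := exists_sylTwo_ge h.T_pgroup h.T_le
  have hTR : T = R0 := by
    by_contra hne
    have hlt := normalizer_inf_gt hR0.2.1 (lt_of_le_of_ne hTR0 hne)
    refine hlt.ne (hmaxT _ (hR0.2.1.to_le inf_le_left) hlt.le ?_).symm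
    exact le_inf (inf_le_right.trans (normalizer_le_normalizer_thompson T)) (inf_le_left.trans hR0.1)
  obtain ⟨S, hS⟩ := h.jn
  have hSM : (S : Subgroup G) ≤ M :=
    (Subgroup.le_normalizer.trans (normalizer_le_normalizer_thompson _)).trans hS
  have hSsyl : Cfsg.IsSylowTwoIn (S : Subgroup G) M := by
    refine ⟨hSM, S.2, Odd.of_dvd_nat ?_ (Subgroup.relIndex_dvd_index_of_le hSM)⟩
    exact Nat.not_even_iff_odd.1 fun he => S.not_dvd_index (even_iff_two_dvd.1 he)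
  obtain ⟨g, hg, hgT⟩ := sylTwo_conj hSsyl (hTR ▸ hR0)
  refine hno ?_
  rw [hNJ, hJ, hgT, thompson_cmap, ← cmap_normalizer]
  exact (cmap_mono g hS).trans (cmap_eq_of_mem_normalizer (Subgroup.le_normalizer hg)).le

/-- Overgroups outside `M` of `J(T)`. -/
theorem overgroup {L T₀ : Subgroup G} (hL2 : Cfsg.IsTwoLocal L) (hLM : ¬ L ≤ M)
    (hT₀ : Cfsg.IsSylowTwoIn T₀ L) (hJT₀ : Cfsg.thompsonSubgroupOf 2 T ≤ T₀) :
    Cfsg.thompsonSubgroupOf 2 T₀ = Cfsg.thompsonSubgroupOf 2 T ∧ T₀ ∈ Cfsg.straddlingTwoSubgroups M ∧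
      JCtx T₀ L := by
  haveI : Fact (Nat.Prime 2) := ⟨Nat.prime_two⟩
  set J := Cfsg.thompsonSubgroupOf 2 T with hJ
  set T1 := T₀ ⊓ M with hT1
  have hJ1 : J ≤ T1 := le_inf hJT₀ ((thompson_le T).trans h.T_le)
  have hstr : T1 ∈ Cfsg.straddlingTwoSubgroups M :=
    ⟨hT₀.2.1.to_le inf_le_left, fun h0 => h.J_ne (le_bot_iff.1 (h0 ▸ hJ1)), inf_le_right,
      L, hL2, inf_le_left.trans hT₀.1, hLM⟩
  have hJT1 := (h.compare hstr hJ1).1
  have hT01 : T1 = T₀ := by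
    by_contra hne
    have hlt := normalizer_inf_gt hT₀.2.1 (lt_of_le_of_ne inf_le_left hne)
    refine hlt.not_ge (le_inf inf_le_left ?_)
    refine inf_le_right.trans ?_
    exact ((normalizer_le_normalizer_thompson T1).trans (hJT1 ▸ le_rfl)).trans h.normalizer_J_le
  rw [hT01] at hJT1 hstr
  refine ⟨hJT1, hstr, h.char2, h.sol, h.cen, hT₀, ?_, ?_⟩
  · rw [hJT1]
    intro hJQ
    refine hLM ?_
    have h1 : Cfsg.thompsonSubgroupOf 2 (Cfsg.pCoreOf 2 L) = J :=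
      (thompson_eq_of_thompson_le (pCoreOf_le_sylTwo hT₀) (hJT1 ▸ hJQ)).trans hJT1
    refine ((le_normalizer_pCoreOf (p := 2) L).trans ?_).trans h.normalizer_J_le
    have h2 := normalizer_le_normalizer_thompson (Cfsg.pCoreOf 2 L)
    rwa [h1] at h2
  · obtain ⟨T2, hT2p, hT2ne, rfl⟩ := hL2
    set L := Subgroup.normalizer (T2 : Set G) with hLdef
    have hle : T2 ≤ Cfsg.pCoreOf 2 L := le_pCoreOf Subgroup.le_normalizer hT2p le_rfl
    have h1 : Subgroup.centralizer (Cfsg.pCoreOf 2 L : Set G) ≤ L :=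
      (Subgroup.centralizer_le (SetLike.coe_subset_coe.2 hle)).trans (Subgroup.centralizer_le_normalizer _)
    have h2 := charP_subgroup_iff.1 (h.char2.2 T2 hT2p hT2ne :
      Subgroup.centralizer (Cfsg.pCore 2 ↥L : Set ↥L) ≤ Cfsg.pCore 2 ↥L)
    exact (le_inf h1 le_rfl).trans h2

/-- An overgroup of `T` outside `M` has `T` as a Sylow 2-subgroup. -/
theorem ctx_of_T_le {L : Subgroup G} (hL2 : Cfsg.IsTwoLocal L) (hLM : ¬ L ≤ M) (hTL : T ≤ L) : JCtx T L := by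
  obtain ⟨T₀, hT₀, hTT₀⟩ := exists_sylTwo_ge h.T_pgroup hTL
  obtain ⟨-, hstr, hctx⟩ := h.overgroup hL2 hLM hT₀ ((thompson_le T).trans hTT₀)
  have he := Subgroup.eq_of_le_of_card_ge hTT₀ (h.compare hstr ((thompson_le T).trans hTT₀)).2
  rwa [← he] at hctx

/-- Components outside `M` lie in `𝒦₀(T)`. -/
theorem mem_jComponentsZero {K : Subgroup G} (hK : Cfsg.IsJComponent T K) (hKM : ¬ K ≤ M) :
    K ∈ Cfsg.jComponentsZero T := by
  refine ⟨hK, fun S hJS hS => ?_⟩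
  refine (h.overgroup (isTwoLocal_normalizer (wOf_isPGroup K) (jcomp_wOf_ne_bot hK)) ?_ hS hJS).1
  exact fun hle => hKM ((Subgroup.le_normalizer.trans (normalizer_le_normalizer_wOf K)).trans hle)

theorem exists_outside : (Cfsg.jComponentsOutside M T).Nonempty := by
  obtain ⟨L, hL2, hTL, hLM⟩ := h.max.1.2.2.2
  have hctx := h.ctx_of_T_le hL2 hLM hTL
  obtain ⟨K, hK, hKL, hKM⟩ : ∃ K : Subgroup G, Cfsg.IsJComponent T K ∧ K ≤ L ∧ ¬ K ≤ M := by
    by_contra hcon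
    push Not at hcon
    exact hLM (hctx.le_sup_components.trans
      (sup_le (inf_le_right.trans h.normalizer_J_le) (iSup_le fun K => hcon K.1 K.2.1 K.2.2)))
  refine ⟨K, h.mem_jComponentsZero hK hKM, hKM, fun h0 => ?_⟩
  refine hctx.q_ne_bot (le_bot_iff.1 ?_)
  rw [← h0]
  exact le_pCoreOf (hctx.q_le_T.trans le_sup_right) (isPGroup_pCoreOf L)
    ((sup_le hKL hctx.T_le).trans (le_normalizer_pCoreOf L))

end MCtx

end H77
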