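import Cfsg.Agent.H77.JCaseA

/-!
The one-sided configuration of a pair with mutual points is impossible.
-/

set_option autoImplicit false

namespace H77

variable {G : Type*} [Group G] [Finite G]

namespace Amalgam

variable {T : Subgroup G} {P Q V : Bool → Subgroup G} {z : Bool → G} (h : Amalgam T P Q V z)
include h

/-- A non-commuting conjugate `rV_j` forces `P_i` to centralise `z_j`. -/
theorem fix_of_conj_noncomm {i : Bool} (hcom : ∀ a ∈ V i, ∀ b ∈ V (!i), a * b = b * a) {r a b : G}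
    (hr : r ∈ P i) (ha : a ∈ cmap r (V (!i))) (hb : b ∈ V (!i)) (hne : a * b ≠ b * a) :
    ∀ p ∈ P i, p * z (!i) = z (!i) * p := by
  have hrT : r ∉ T := fun h0 => hne (elem_comm (h.V_el _) ((h.cmap_V (h.T_le _ h0)).le ha) hb)
  have hVQ : V (!i) ≤ Q i := fun u hu =>
    h.Q_eq _ u (h.T_le _ (h.V_le_T _ hu)) fun w hw => (hcom w hw u hu).symm
  have haT : a ∈ T := h.Q_le _ ((h.cmap_Q hr).le (cmap_mono r hVQ ha))
  have hbT : b ∈ cmap r T := h.Q_le_cmap_T hr (hVQ hb)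
  have e1 := h.comm_z haT hb hne
  have e2 := (h.act_conj hbT ha).resolve_left fun e => hne (mul_inv_eq_iff_eq_mul.1 e).symm
  have ha1 : a * a = 1 := by
    obtain ⟨u, hu, hue⟩ := ha
    rw [← hue, ← map_mul, h.V_sq _ hu, map_one]
  have hai : a⁻¹ = a := inv_eq_of_mul_eq_one_left ha1
  rw [hai] at e1
  rw [h.V_inv _ hb] at e2
  have hR : r * z (!i) * r⁻¹ = z (!i) := by
    calc r * z (!i) * r⁻¹ = a * (b * a * b) := by rw [e2, ← mul_assoc, ha1, one_mul]
      _ = (a * b * a) * b := by group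
      _ = z (!i) := by rw [e1, ← h.z_comm _ _ hb, mul_assoc, h.V_sq _ hb, mul_one]
  set C := Subgroup.centralizer ({z (!i)} : Set G) with hC
  have hTC : T ≤ C := fun t ht => Subgroup.mem_centralizer_singleton_iff.2 (h.z_cen _ t ht)
  have hrC : r ∈ C := Subgroup.mem_centralizer_singleton_iff.2 (mul_inv_eq_iff_eq_mul.1 hR)
  have hrTC : cmap r T ≤ C := (cmap_mono r hTC).trans (cmap_eq_of_mem_normalizer (Subgroup.le_normalizer hrC)).le
  exact fun p hp => Subgroup.mem_centralizer_singleton_iff.1 (h.gen i r hr hrT C hTC hrTC hp)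

end Amalgam

theorem mem_of_cube_of_two_pow {R : Subgroup G} {c : G} (h3 : c ^ 3 ∈ R) {n : ℕ} (h2 : c ^ 2 ^ n ∈ R) : c ∈ R := by
  obtain ⟨a, b, hab⟩ : ∃ a b : ℤ, a * (2 ^ n : ℕ) + b * 3 = 1 := by
    have hco : Nat.gcd (2 ^ n) 3 = 1 := Nat.Coprime.pow_left n (by decide)
    have h := Nat.gcd_eq_gcd_ab (2 ^ n) 3
    rw [hco] at h
    refine ⟨Nat.gcdA (2 ^ n) 3, Nat.gcdB (2 ^ n) 3, ?_⟩
    push_cast at h ⊢
    linarith
  have e : c = (c ^ 2 ^ n) ^ a * (c ^ 3) ^ b := by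
    conv_lhs => rw [← zpow_one c, ← hab]
    rw [← zpow_natCast c (2 ^ n), ← zpow_natCast c 3, ← zpow_mul, ← zpow_mul, ← zpow_add]
    congr 1
    push_cast
    ring
  rw [e]
  exact mul_mem (zpow_mem h2 a) (zpow_mem h3 b)

/-- A generator of order 3 of a component modulo its 2-core. -/
theorem jcomp_gen3 {T K : Subgroup G} (hK : Cfsg.IsJComponent T K) :
    ∃ s ∈ K, s ^ 3 = 1 ∧ (∀ w ∈ Cfsg.wOf K, w ≠ 1 → s * w * s⁻¹ ≠ w) ∧
      ∀ k ∈ K, ∃ i : ℤ, k * (s ^ i)⁻¹ ∈ Cfsg.pCoreOf 2 K := by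
  obtain ⟨s, hs3, hdec, htiny, hW⟩ := jcomp_data hK
  obtain ⟨n, hn⟩ := pow_two_pow_of_mem (isPGroup_pCoreOf K) hs3
  set s' := (s : G) ^ 2 ^ n with hs'
  have hs'K : s' ∈ K := pow_mem s.2 _
  refine ⟨s', hs'K, by rw [hs', ← pow_mul, mul_comm, pow_mul, hn], fun w hw hw1 he => ?_, fun k hk => ?_⟩
  · have hc3 : Commute ((s : G) ^ 3) w := (mem_omegaCenterOf.1 (wOf_le_omega K hw)).2.1 _ hs3
    have hc2 : Commute ((s : G) ^ 2 ^ n) w := mul_inv_eq_iff_eq_mul.1 he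
    have hc : (s : G) ∈ Subgroup.centralizer ({w} : Set G) :=
      mem_of_cube_of_two_pow (Subgroup.mem_centralizer_singleton_iff.2 hc3.eq) (n := n)
        (Subgroup.mem_centralizer_singleton_iff.2 hc2.eq)
    rw [hW] at hw
    obtain ⟨v, hv, rfl⟩ := hw
    exact hw1 (by rw [range_disp_fix_eq_one omega_sq htiny.odd hv
      ((smul_eq_iff _ _ v).2 (Subgroup.mem_centralizer_singleton_iff.1 hc))]; rfl)
  · -- `s` is a power of `s'` times an element of the core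
    obtain ⟨a, b, hab⟩ : ∃ a b : ℤ, a * (2 ^ n : ℕ) + b * 3 = 1 := by
      have hco : Nat.gcd (2 ^ n) 3 = 1 := Nat.Coprime.pow_left n (by decide)
      have h := Nat.gcd_eq_gcd_ab (2 ^ n) 3
      rw [hco] at h
      refine ⟨Nat.gcdA (2 ^ n) 3, Nat.gcdB (2 ^ n) 3, ?_⟩
      push_cast at h ⊢
      linarith
    obtain ⟨i, hi⟩ := hdec k hk
    refine ⟨a * i, ?_⟩
    have e : k * (s' ^ (a * i))⁻¹ = k * ((s : G) ^ i)⁻¹ * ((s : G) ^ 3) ^ (b * i) := by
      have e2 : (s : G) ^ i = s' ^ (a * i) * ((s : G) ^ 3) ^ (b * i) := by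
        rw [hs', ← zpow_natCast (s : G) (2 ^ n), ← zpow_natCast (s : G) 3, ← zpow_mul, ← zpow_mul, ← zpow_add]
        congr 1
        have := congrArg (· * i) hab
        push_cast at this ⊢
        linarith
      have hc : Commute (((s : G) ^ 3) ^ (b * i))⁻¹ (s' ^ (a * i))⁻¹ :=
        ((((Commute.refl (s : G)).pow_left 3).pow_right _).zpow_left _ |>.zpow_right _).inv_inv
      rw [e2, mul_inv_rev, hc.eq]
      group
    rw [e]
    exact mul_mem hi (zpow_mem hs3 _)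

/-- A component is transitive on the nontrivial points of `W`. -/
theorem jcomp_transitive {T K : Subgroup G} (hK : Cfsg.IsJComponent T K) {v w : G} (hv : v ∈ Cfsg.wOf K)
    (hv1 : v ≠ 1) (hw : w ∈ Cfsg.wOf K) (hw1 : w ≠ 1) : ∃ g ∈ K, g * v * g⁻¹ = w := by
  obtain ⟨s, hs, hs3, hmove, -⟩ := jcomp_gen3 hK
  have hn : ∀ g ∈ K, ∀ u ∈ Cfsg.wOf K, g * u * g⁻¹ ∈ Cfsg.wOf K := fun g hg u hu =>
    (Subgroup.mem_normalizer_iff.1 (normalizer_le_normalizer_wOf K (Subgroup.le_normalizer hg)) u).1 hu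
  set v1 := s * v * s⁻¹ with hv1def
  set v2 := s * v1 * s⁻¹ with hv2def
  have hv1m : v1 ∈ Cfsg.wOf K := hn s hs v hv
  have hv2m : v2 ∈ Cfsg.wOf K := hn s hs v1 hv1m
  have e3 : s * v2 * s⁻¹ = v := by
    rw [hv2def, hv1def, show s * (s * (s * v * s⁻¹) * s⁻¹) * s⁻¹ = s * s * s * v * (s * s * s)⁻¹ by group, ← pow_three', hs3]
    group
  have h01 : v1 ≠ v := hmove v hv hv1
  have hv11 : v1 ≠ 1 := fun e => hv1 (conj_eq_one_iff.1 e)
  have hv21 : v2 ≠ 1 := fun e => hv11 (conj_eq_one_iff.1 e)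
  have h12 : v2 ≠ v1 := hmove v1 hv1m hv11
  have h02 : v2 ≠ v := fun e => hmove v2 hv2m hv21 (e3.trans e.symm)
  have hset : ({1, v, v1, v2} : Set G) = (Cfsg.wOf K : Set G) := by
    refine Set.eq_of_subset_of_ncard_le ?_ ?_ (Set.toFinite _)
    · rintro y (rfl | rfl | rfl | rfl)
      · exact Subgroup.one_mem _
      · exact hv
      · exact hv1m
      · exact hv2m
    · rw [← Nat.card_coe_set_eq, SetLike.coe_sort_coe, hK.2.2.2.2.1]
      exact le_of_eq (Set.ncard_eq_four.2 ⟨1, v, v1, v2, Ne.symm hv1, Ne.symm hv11, Ne.symm hv21, Ne.symm h01,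
        Ne.symm h02, Ne.symm h12, rfl⟩).symm
  have : w ∈ ({1, v, v1, v2} : Set G) := hset ▸ hw
  rcases this with e | e | e | e
  · exact absurd e hw1
  · exact ⟨1, K.one_mem, by rw [e]; group⟩
  · exact ⟨s, hs, e.symm⟩
  · exact ⟨s * s, K.mul_mem hs hs, by rw [e, hv2def, hv1def]; group⟩

theorem mem_or_mul_mem_of_card {A B : Subgroup G} (hAB : A ≤ B) (hc : Nat.card ↥B = 2 * Nat.card ↥A)
    {b0 b : G} (hb0 : b0 ∈ B) (hb0A : b0 ∉ A) (hb : b ∈ B) : b ∈ A ∨ b0 * b ∈ A := by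
  refine or_iff_not_imp_left.2 fun hbA => ?_
  have hidx : (A.subgroupOf B).index = 2 := by
    have h1 := relIndex_mul_card hAB
    rw [hc, Subgroup.relIndex] at h1
    exact Nat.eq_of_mul_eq_mul_right Nat.card_pos h1
  have h2 := Subgroup.mul_mem_iff_of_index_two hidx (a := (⟨b0, hb0⟩ : ↥B)) (b := ⟨b, hb⟩)
  simp only [Subgroup.mem_subgroupOf, Subgroup.coe_mul] at h2
  exact h2.2 (iff_of_false hb0A hbA)

namespace JPair

variable {T : Subgroup G} {K L : Bool → Subgroup G} (h : JPair T K L)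
include h

theorem noncomm_any {i : Bool} (hx : ∃ p ∈ K (!i) ⊔ T, ∃ x ∈ cmap p (vK T (K i)), ∃ v ∈ vK T (K i),
    x * v ≠ v * x) {q : G} (hq : q ∈ K (!i) ⊔ T) (hqT : q ∉ T) :
    ∃ x ∈ cmap q (vK T (K i)), ∃ v ∈ vK T (K i), x * v ≠ v * x := by
  obtain ⟨s, hsK, hs3, -, -, hdec⟩ := (h.side (!i)).gen
  set V := vK T (K i) with hV
  have hVi : ∀ t ∈ T, cmap t V = V := fun t ht => h.amalgam.cmap_V (Subgroup.mem_sup_right ht)
  have hone : ∀ p ∈ K (!i) ⊔ T, p ∉ T → cmap p V = cmap s V ∨ cmap p V = cmap s⁻¹ V := by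
    intro p hp hpT
    obtain ⟨e, t, ht, rfl⟩ := hdec p hp
    rw [← cmap_cmap, hVi t ht]
    have hd : s ^ e = s ^ (e % 3) * (s ^ 3) ^ (e / 3) := by
      rw [← zpow_natCast s 3, ← zpow_mul, ← zpow_add, Nat.cast_ofNat, add_comm, Int.mul_ediv_add_emod]
    rw [hd, ← cmap_cmap, hVi _ (zpow_mem hs3 _)]
    have hmod : e % 3 = 0 ∨ e % 3 = 1 ∨ e % 3 = 2 := by omega
    rcases hmod with h0 | h0 | h0 <;> rw [h0] at hd ⊢
    · rw [hd, zpow_zero, one_mul] at hpT
      exact absurd (T.mul_mem (zpow_mem hs3 _) ht) hpT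
    · rw [zpow_one]; exact Or.inl rfl
    · rw [show s ^ (2 : ℤ) = s⁻¹ * s ^ 3 by group, ← cmap_cmap, hVi _ hs3]
      exact Or.inr rfl
  have hinv : ∀ r : G, (∃ x ∈ cmap r V, ∃ v ∈ V, x * v ≠ v * x) →
      ∃ x ∈ cmap r⁻¹ V, ∃ v ∈ V, x * v ≠ v * x := by
    rintro r ⟨x, hx, v, hv, hne⟩
    refine ⟨r⁻¹ * v * r, mem_cmap.2 (by simpa [mul_assoc] using hv), r⁻¹ * x * r, mem_cmap.1 hx, fun e => hne ?_⟩
    have e' := congrArg (fun y => r * y * r⁻¹) e
    symm
    convert e' using 1 <;> group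
  obtain ⟨p, hp, hpx⟩ := hx
  have hpT : p ∉ T := by
    intro h0
    obtain ⟨x, hx, v, hv, hne⟩ := hpx
    rw [hVi p h0] at hx
    exact hne (elem_comm (h.amalgam.V_el i) hx hv)
  rcases hone p hp hpT with e1 | e1 <;> rcases hone q hq hqT with e2 | e2 <;> rw [e1] at hpx <;> rw [e2]
  · exact hpx
  · exact hinv s hpx
  · have := hinv s⁻¹ hpx
    rwa [inv_inv] at this
  · exact hpx

/-- The one-sided configuration with mutual points. -/
theorem oneSided_false (i : Bool)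
    (hcom : ∀ a ∈ vK T (K i), ∀ b ∈ vK T (K (!i)), a * b = b * a) (h4 : Nat.card ↥(zOf T) = 4)
    (hz : ptOf T (K i) ∈ yOf T (K (!i))) (hy : ptOf T (K (!i)) ∈ yOf T (K i))
    (hx : ∃ p ∈ K (!i) ⊔ T, ∃ x ∈ cmap p (vK T (K i)), ∃ v ∈ vK T (K i), x * v ≠ v * x)
    (hU : K i ⊔ T ≤ Subgroup.normalizer ((vK T (K i) ⊔ vK T (K (!i)) : Subgroup G) : Set G))
    (hC : ∀ v, v = ptOf T (K (!i)) ∨ v = ptOf T (K i) * ptOf T (K (!i)) →
      ∃ N : Subgroup G, IsPGroup 2 ↥N ∧ vK T (K i) ≤ N ∧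
        Subgroup.centralizer ({v} : Set G) ≤ Subgroup.normalizer (N : Set G)) : False := by
  have hs := h.side i
  have hsc := h.side (!i)
  have hT := hs.ctx.T_pgroup
  have ha := h.amalgam
  set Vi := vK T (K i) with hVi
  set Vc := vK T (K (!i)) with hVc
  set z := ptOf T (K i) with hzdef
  set y := ptOf T (K (!i)) with hydef
  set U := Vi ⊔ Vc with hUdef
  have hY : ∀ j, Nat.card ↥(yOf T (K j)) = 2 := fun j => by
    have := card_zOf_eq hT (h.side j).comp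
    omega
  have hcard : ∀ j, Nat.card ↥(vK T (K j)) = 2 * Nat.card ↥(zOf T) := fun j => (h.side j).card_vK
  have hUel : Cfsg.IsElementaryAbelian 2 U :=
    elem_sup (vK_elem hT hs.comp) (vK_elem hT hsc.comp) hcom
  -- an element of a conjugate of `Vᵢ` outside `Qᵢ`
  obtain ⟨p, hp, x, hxm, v, hv, hne⟩ := hx
  have hViQc : Vi ≤ qK T (K (!i)) := fun u hu =>
    hsc.mem_qK_of_comm (Subgroup.mem_sup_right (hs.vK_le hu)) fun w hw => hcom u hu w hw
  have hconjQ : ∀ q ∈ K (!i) ⊔ T, ∀ u ∈ cmap q Vi, u ∈ qK T (K (!i)) := fun q hq u hu =>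
    (ha.cmap_Q (i := !i) hq).le (cmap_mono q hViQc hu)
  have hxQc := hconjQ p hp x hxm
  have hxT : x ∈ T := (mem_qK.1 hxQc).1
  have hxVc : ∀ u ∈ Vc, x * u = u * x := fun u hu => hsc.qK_comm hxQc hu
  have hfixVi : ∀ a ∈ Vi, x * a = a * x → a ∈ zOf T := by
    intro a ha' hxa
    by_contra haZ
    refine hne ?_
    rcases mem_or_mul_mem_of_card (le_sup_right : zOf T ≤ Vi) (hcard i) ha' haZ hv with e | e
    · exact (hs.central v e x hxT)
    · have e1 : Commute x (a * v) := hs.central _ e x hxT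
      have := (show Commute x a from hxa).inv_right.mul_right e1
      rwa [inv_mul_cancel_left] at this
  obtain ⟨v0, hv0, hv0Z⟩ : ∃ v0 ∈ Vc, v0 ∉ zOf T := by
    by_contra hcon
    push Not at hcon
    have h1 := Nat.le_of_dvd Nat.card_pos (Subgroup.card_dvd_of_le (hcon : Vc ≤ zOf T))
    rw [hcard (!i)] at h1
    omega
  have hv0i : v0 ∉ Vi := fun h0 => hv0Z (hfixVi v0 h0 (hxVc v0 hv0))
  have hUcase : ∀ u ∈ U, u ∈ Vi ∨ v0 * u ∈ Vi := by
    intro u hu
    have hn : Vi ≤ Subgroup.normalizer (Vc : Set G) := (hs.vK_le).trans (le_sup_right.trans hsc.le_normalizer_vK)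
    obtain ⟨a, ha', b, hb, rfl⟩ := exists_mul_of_mem_sup hn hu
    rcases mem_or_mul_mem_of_card (le_sup_right : zOf T ≤ Vc) (hcard (!i)) hv0 hv0Z hb with e | e
    · exact Or.inl (Vi.mul_mem ha' (Subgroup.mem_sup_right e))
    · refine Or.inr ?_
      have e' : v0 * (a * b) = a * (v0 * b) := by
        rw [← mul_assoc, ← hcom a ha' v0 hv0, mul_assoc]
      rw [e']
      exact Vi.mul_mem ha' (Subgroup.mem_sup_right e)
  obtain ⟨s, hsK, hs3, hmove, hdec⟩ := jcomp_gen3 hs.comp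
  have hsP : s ∈ K i ⊔ T := Subgroup.mem_sup_left hsK
  have hsVi : ∀ u ∈ Vi, s * u * s⁻¹ ∈ Vi := fun u hu => (Subgroup.mem_normalizer_iff.1 (hs.le_normalizer_vK hsP) u).1 hu
  set a := v0 * (s * v0 * s⁻¹) with hadef
  have hv0U : v0 ∈ U := Subgroup.mem_sup_right hv0
  have hsv0 : s * v0 * s⁻¹ ∈ U := (Subgroup.mem_normalizer_iff.1 (hU hsP) v0).1 hv0U
  have haVi : a ∈ Vi := by
    refine (hUcase _ hsv0).resolve_left fun h0 => hv0i ?_
    have := (Subgroup.mem_normalizer_iff.1 (inv_mem (hs.le_normalizer_vK hsP)) _).1 h0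
    simpa [mul_assoc] using this
  have hsv : s * v0 * s⁻¹ = v0 * a := by rw [hadef, ← mul_assoc, elem_sq hUel hv0U, one_mul]
  set a1 := s * a * s⁻¹ with ha1
  set a2 := s * a1 * s⁻¹ with ha2
  have ha1m : a1 ∈ Vi := hsVi a haVi
  have ha2m : a2 ∈ Vi := hsVi a1 ha1m
  have hprod : a * a1 * a2 = 1 := by
    have e1 : s * (s * (s * v0 * s⁻¹) * s⁻¹) * s⁻¹ = v0 * (a * a1 * a2) := by
      calc s * (s * (s * v0 * s⁻¹) * s⁻¹) * s⁻¹ = s * (s * (v0 * a) * s⁻¹) * s⁻¹ := by rw [hsv]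
        _ = (s * (s * v0 * s⁻¹) * s⁻¹) * a2 := by rw [ha2, ha1]; group
        _ = (s * (v0 * a) * s⁻¹) * a2 := by rw [hsv]
        _ = (s * v0 * s⁻¹) * a1 * a2 := by rw [ha1]; group
        _ = v0 * (a * a1 * a2) := by rw [hsv]; group
    have e2 : s * (s * (s * v0 * s⁻¹) * s⁻¹) * s⁻¹ = v0 := by
      rw [show s * (s * (s * v0 * s⁻¹) * s⁻¹) * s⁻¹ = s * s * s * v0 * (s * s * s)⁻¹ by group, ← pow_three', hs3]
      group
    rw [e2, left_eq_mul] at e1
    exact e1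
  set f := v0 * a1 with hf
  have hsf : s * f * s⁻¹ = f := by
    have hcomm : a * a1 = a1 * a := elem_comm hUel (Subgroup.mem_sup_left haVi) (Subgroup.mem_sup_left ha1m)
    have e : a1 = a * a2 := by
      calc a1 = a1 * (a * a) * (a1 * a2) * (a1 * a2)⁻¹ := by rw [elem_sq (vK_elem hT hs.comp) haVi]; group
        _ = a1 * a * (a * a1 * a2) * (a1 * a2)⁻¹ := by group
        _ = a * a1 * (a1 * a2)⁻¹ := by rw [hprod, mul_one, hcomm]
        _ = a * a2 := by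
          rw [mul_inv_rev, inv_eq_of_mul_eq_one_left (elem_sq (vK_elem hT hs.comp) ha2m),
            elem_comm (vK_elem hT hs.comp) ha2m (inv_mem ha1m)]
          group
    calc s * f * s⁻¹ = (s * v0 * s⁻¹) * a2 := by rw [hf, ha2]; group
      _ = f := by rw [hsv, hf, mul_assoc, ← e]
  have hfU : f ∈ U := mul_mem hv0U (Subgroup.mem_sup_left ha1m)
  have hfi : f ∉ Vi := fun h0 => hv0i (by
    have := Vi.mul_mem h0 (Vi.inv_mem ha1m)
    rwa [hf, mul_inv_cancel_right] at this)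
  have hxz : Commute x z := hs.central z hs.pt.mem_Z x hxT
  have hfVc : f ∈ Vc := by
    by_contra hfc
    have hxf : x * f * x⁻¹ = f * z := by
      have e0 : x * v0 * x⁻¹ = v0 := by rw [hxVc v0 hv0, mul_inv_cancel_right]
      have e : x * f * x⁻¹ = v0 * (x * a1 * x⁻¹) := by
        calc x * f * x⁻¹ = (x * v0 * x⁻¹) * (x * a1 * x⁻¹) := by rw [hf]; group
          _ = _ := by rw [e0]
      rcases hs.act hxT ha1m with e1 | e1
      · exact absurd (Vc.mul_mem hv0 (Subgroup.mem_sup_right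
          (hfixVi a1 ha1m (mul_inv_eq_iff_eq_mul.1 e1)))) hfc
      · rw [e, e1, hf, mul_assoc v0 a1 z]
    have hRQ : Cfsg.pCoreOf 2 (K i) ≤ qK T (K i) := fun r hr => mem_qK.2 ⟨hs.core_le hr, fun w hw =>
      ((mem_omegaCenterOf.1 (wOf_le_omega (K i) hw)).2.1 r hr).symm⟩
    have hK : ∀ k ∈ K i, k * f * k⁻¹ = f ∨ k * f * k⁻¹ = f * y := by
      intro k hk
      obtain ⟨e, he⟩ := hdec k hk
      set q := k * (s ^ e)⁻¹ with hq
      have hse : s ^ e * f * (s ^ e)⁻¹ = f := by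
        have hc : Commute s f := mul_inv_eq_iff_eq_mul.1 hsf
        rw [(hc.zpow_left e).eq, mul_inv_cancel_right]
      have hk' : k * f * k⁻¹ = q * f * q⁻¹ := by
        calc k * f * k⁻¹ = q * (s ^ e * f * (s ^ e)⁻¹) * q⁻¹ := by rw [hq]; group
          _ = _ := by rw [hse]
      have hqQ := hRQ he
      have hqT := (mem_qK.1 hqQ).1
      have e0 : q * a1 * q⁻¹ = a1 := by rw [hs.qK_comm hqQ ha1m, mul_inv_cancel_right]
      rw [hk', show q * f * q⁻¹ = (q * v0 * q⁻¹) * (q * a1 * q⁻¹) by rw [hf]; group, e0]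
      rcases hsc.act hqT hv0 with e1 | e1
      · exact Or.inl (by rw [e1, hf])
      · refine Or.inr ?_
        rw [e1, hf, mul_assoc, mul_assoc,
          elem_comm (vK_elem hT hs.comp) (Subgroup.mem_sup_right hsc.pt.mem_Z) ha1m]
    have hxK : x⁻¹ * s * x ∈ K i := by
      have := (Subgroup.mem_normalizer_iff.1 (inv_mem (hs.norm hxT)) s).1 hsK
      rwa [inv_inv] at this
    have e1 : (x⁻¹ * s * x) * f * (x⁻¹ * s * x)⁻¹ = x⁻¹ * (f * (s * z * s⁻¹)) * x := by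
      calc (x⁻¹ * s * x) * f * (x⁻¹ * s * x)⁻¹ = x⁻¹ * (s * (x * f * x⁻¹) * s⁻¹) * x := by group
        _ = x⁻¹ * ((s * f * s⁻¹) * (s * z * s⁻¹)) * x := by rw [hxf]; group
        _ = _ := by rw [hsf]
    have hsz : s * z * s⁻¹ ∈ Cfsg.wOf (K i) :=
      (Subgroup.mem_normalizer_iff.1 (hs.le_normalizer_wOf hsP) z).1 hs.pt.mem_W
    rcases hK _ hxK with e | e <;> rw [e1] at e
    · have e' := congrArg (fun w => x * w * x⁻¹) e
      have e2 : f * (s * z * s⁻¹) = f * z := by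
        rw [← hxf]
        convert e' using 1
        group
      exact hmove z hs.pt.mem_W hs.pt.ne_one (mul_left_cancel e2)
    · have e' := congrArg (fun w => x * w * x⁻¹) e
      have e2 : f * (s * z * s⁻¹) = f * (z * y) := by
        rw [← mul_assoc f z y, ← hxf]
        calc f * (s * z * s⁻¹) = x * (x⁻¹ * (f * (s * z * s⁻¹)) * x) * x⁻¹ := by group
          _ = x * (f * y) * x⁻¹ := by rw [e]
          _ = x * f * (y * x⁻¹) := by group
          _ = x * f * (x⁻¹ * y) := by rw [(show Commute x y from hs.central y hsc.pt.mem_Z x hxT).inv_left.eq]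
          _ = x * f * x⁻¹ * y := by group
      have e3 := mul_left_cancel e2
      have hyW : y ∈ Cfsg.wOf (K i) := by
        have := mul_mem (inv_mem hs.pt.mem_W) hsz
        rwa [e3, inv_mul_cancel_left] at this
      rcases eq_pt_of_mem hT hs.comp hs.pt hsc.pt.mem_Z hyW with e4 | e4
      · exact hsc.pt.ne_one e4
      · exact pt_not_mem_yOf hs.comp hs.pt (e4 ▸ hy)
  -- `f` is a conjugate of a point
  obtain ⟨w, hw, y', hy', hfe⟩ := mem_vK hT hsc.comp hfVc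
  have hfZ : f ∉ zOf T := fun h0 => hfi (Subgroup.mem_sup_right h0)
  have hw1 : w ≠ 1 := fun e => hfZ (by rw [hfe, e, one_mul]; exact yOf_le hy')
  obtain ⟨q, hqK, hqw⟩ := jcomp_transitive hsc.comp hsc.pt.mem_W hsc.pt.ne_one hw hw1
  have hqP : q ∈ K (!i) ⊔ T := Subgroup.mem_sup_left hqK
  have hqT : q ∉ T := by
    intro h0
    refine hfZ ?_
    rw [hsc.central y hsc.pt.mem_Z q h0, mul_inv_cancel_right] at hqw
    rw [hfe, ← hqw]
    exact mul_mem hsc.pt.mem_Z (yOf_le hy')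
  set v1 := y * y' with hv1
  have hqv : q * v1 * q⁻¹ = f := by
    rw [hfe, ← hqw, hv1]
    calc q * (y * y') * q⁻¹ = (q * y * q⁻¹) * (q * y' * q⁻¹) := by group
      _ = _ := by rw [(mem_yOf.1 hy').2 q hqK, mul_inv_cancel_right]
  have hv1c : v1 = y ∨ v1 = z * y := by
    rcases eq_of_mem_card_two (hY (!i)) hz hs.pt.ne_one hy' with e | e
    · exact Or.inl (by rw [hv1, e, mul_one])
    · exact Or.inr (by rw [hv1, e, zOf_comm hsc.pt.mem_Z hs.pt.mem_Z])
  obtain ⟨N, hNp, hVN, hCN⟩ := hC v1 hv1c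
  obtain ⟨x2, hx2, v2, hv2, hne2⟩ := h.noncomm_any ⟨p, hp, x, hxm, v, hv, hne⟩ hqP hqT
  have hx2Qc := hconjQ q hqP x2 hx2
  have hx2T := (mem_qK.1 hx2Qc).1
  have hx2i : x2 ∉ qK T (K i) := fun h0 => hne2 (hs.qK_comm h0 hv2)
  -- `s` normalises a 2-group containing `x2`
  set N' := cmap q N with hN'
  have hsN' : s ∈ Subgroup.normalizer (N' : Set G) := by
    rw [hN', ← cmap_normalizer, mem_cmap]
    refine hCN (Subgroup.mem_centralizer_singleton_iff.2 ?_)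
    have hc : Commute s f := mul_inv_eq_iff_eq_mul.1 hsf
    have e := congrArg (fun w => q⁻¹ * w * q) hc.eq
    rw [← hqv] at e
    convert e using 1 <;> group
  have hx2N : x2 ∈ N' := cmap_mono q hVN hx2
  set c := s * x2 * s⁻¹ * x2⁻¹ with hc
  have hcN : c ∈ N' := mul_mem ((Subgroup.mem_normalizer_iff.1 hsN' x2).1 hx2N) (inv_mem hx2N)
  have hcK : c ∈ K i := by
    have h1 := (Subgroup.mem_normalizer_iff.1 (hs.norm hx2T) s⁻¹).1 (inv_mem hsK)
    have := mul_mem hsK h1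
    simpa [hc, mul_assoc] using this
  obtain ⟨n, hn⟩ := pow_two_pow_of_mem (hNp.map _ : IsPGroup 2 ↥N') hcN
  have hcR : c ∈ Cfsg.pCoreOf 2 (K i) := by
    refine mem_of_cube_of_two_pow ?_ (n := n) (by rw [hn]; exact one_mem _)
    haveI : ((Cfsg.pCoreOf 2 (K i)).subgroupOf (K i)).Normal :=
      (Subgroup.normal_subgroupOf_iff_le_normalizer (pCoreOf_le _)).2 (le_normalizer_pCoreOf (K i))
    have h1 := ((Cfsg.pCoreOf 2 (K i)).subgroupOf (K i)).pow_index_mem ⟨c, hcK⟩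
    rw [← Subgroup.relIndex, hs.comp.2.2.1, Subgroup.mem_subgroupOf] at h1
    exact h1
  -- then `x2` centralises `W`
  set z1 := s⁻¹ * z * s with hz1
  have hz1W : z1 ∈ Cfsg.wOf (K i) := by
    have := (Subgroup.mem_normalizer_iff.1 (inv_mem (hs.le_normalizer_wOf hsP)) z).1 hs.pt.mem_W
    rwa [inv_inv] at this
  have hz11 : z1 ≠ 1 := fun e => hs.pt.ne_one (by
    have e' := congrArg (fun w => s * w * s⁻¹) e
    simpa [hz1, mul_assoc] using e')
  have hz1z : z1 ≠ z := fun e => hmove z hs.pt.mem_W hs.pt.ne_one (by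
    rw [hz1] at e
    calc s * z * s⁻¹ = s * (s⁻¹ * z * s) * s⁻¹ := by rw [e]
      _ = z := by group)
  have hx2z : Commute x2 z := hs.central z hs.pt.mem_Z x2 hx2T
  have hx2z1 : Commute x2 z1 := by
    have hcz : Commute c z := (mem_omegaCenterOf.1 (wOf_le_omega (K i) hs.pt.mem_W)).2.1 c hcR
    have h1 : Commute (c * x2) z := hcz.mul_left hx2z
    rw [hc, inv_mul_cancel_right] at h1
    have e := congrArg (fun w => s⁻¹ * w * s) h1.eq
    show x2 * z1 = z1 * x2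
    rw [hz1]
    convert e using 1 <;> group
  refine hx2i (mem_qK.2 ⟨hx2T, fun u hu => ?_⟩)
  rcases hs.four hz1W hz11 hz1z hu with e | e | e | e <;> rw [e]
  · simp
  · exact hx2z.eq.symm
  · exact hx2z1.eq.symm
  · exact (hx2z.mul_right hx2z1).eq.symm

end JPair

end H77
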