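import Cfsg.Agent.H77.JPoint
import Cfsg.Agent.H77.Amalgam

/-!
A single component normalised by `T`, and two of them with different tops as an amalgam.
-/

set_option autoImplicit false

namespace H77

variable {G : Type*} [Group G] [Finite G]

/-- A component normalised by `T` inside some `L ∈ ℒ(T)`, with `Z₀` central in `T`. -/
structure Norm1 (T K L : Subgroup G) : Prop where
  ctx : JCtx T L
  comp : Cfsg.IsJComponent T K
  le : K ≤ L
  norm : T ≤ Subgroup.normalizer (K : Set G)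
  central : ∀ x ∈ zOf T, ∀ t ∈ T, t * x = x * t

/-- The centraliser in `T` of `W_K`. -/
def qK (T K : Subgroup G) : Subgroup G := T ⊓ Subgroup.centralizer (Cfsg.wOf K : Set G)

/-- The chosen point of `Z₀ ∩ W_K`. -/
noncomputable def ptOf (T K : Subgroup G) : G := Classical.epsilon (IsPt T K)

theorem ptOf_spec {T K : Subgroup G} (hT : IsPGroup 2 ↥T) (hK : Cfsg.IsJComponent T K) : IsPt T K (ptOf T K) :=
  Classical.epsilon_spec (exists_pt hT hK)

theorem mem_qK {T K : Subgroup G} {x : G} : x ∈ qK T K ↔ x ∈ T ∧ ∀ w ∈ Cfsg.wOf K, w * x = x * w := by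
  rw [qK, Subgroup.mem_inf, Subgroup.mem_centralizer_iff]
  rfl

namespace Norm1

variable {T K L : Subgroup G} (h : Norm1 T K L)
include h

theorem pt : IsPt T K (ptOf T K) := ptOf_spec h.ctx.T_pgroup h.comp

theorem sylow : Cfsg.IsSylowTwoIn T (K ⊔ T) := by
  refine ⟨le_sup_right, h.ctx.T_pgroup, Odd.of_dvd_nat h.ctx.sylT.2.2 ?_⟩
  exact Dvd.intro _ (Subgroup.relIndex_mul_relIndex T (K ⊔ T) L le_sup_right (sup_le h.le h.ctx.T_le))

theorem le_normalizer : K ⊔ T ≤ Subgroup.normalizer (K : Set G) := sup_le Subgroup.le_normalizer h.norm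

theorem core_le : Cfsg.pCoreOf 2 K ≤ T :=
  (pCoreOf_le_pCoreOf_of_subnormal (le_sup_left : K ≤ K ⊔ T) (Subgroup.Normal.isSubnormal
    ((Subgroup.normal_subgroupOf_iff_le_normalizer le_sup_left).2 h.le_normalizer))).trans
    (pCoreOf_le_sylTwo h.sylow)

theorem wOf_le : Cfsg.wOf K ≤ T := (wOf_le_omega K).trans ((omegaCenterOf_le _).trans h.core_le)

theorem vK_le : vK T K ≤ T := sup_le h.wOf_le ((omegaCenterOf_le _).trans (thompson_le T))

theorem le_normalizer_wOf : K ⊔ T ≤ Subgroup.normalizer (Cfsg.wOf K : Set G) :=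
  h.le_normalizer.trans (normalizer_le_normalizer_wOf K)

theorem le_normalizer_vK : K ⊔ T ≤ Subgroup.normalizer (vK T K : Set G) := by
  refine sup_le (comp_le_normalizer_vK h.ctx.T_pgroup h.comp) ?_
  refine sup_le_normalizer_sup (le_sup_right.trans h.le_normalizer_wOf) fun t ht => ?_
  exact mem_normalizer_of_forall fun x hx => by rw [h.central x hx t ht, mul_inv_cancel_right]; exact hx

theorem gen : ∃ s ∈ K, s ^ 3 ∈ T ∧ (∀ w ∈ Cfsg.wOf K, s ^ 3 * w = w * s ^ 3) ∧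
    (∀ w ∈ Cfsg.wOf K, w ≠ 1 → s * w * s⁻¹ ≠ w) ∧ ∀ p ∈ K ⊔ T, ∃ i : ℤ, ∃ t ∈ T, p = s ^ i * t := by
  obtain ⟨s, hs3, hdec, htiny, hW⟩ := jcomp_data h.comp
  refine ⟨s, s.2, h.core_le hs3, fun w hw => (mem_omegaCenterOf.1 (wOf_le_omega K hw)).2.1 _ hs3,
    fun w hw hw1 he => ?_, fun p hp => ?_⟩
  · rw [hW] at hw
    obtain ⟨v, hv, rfl⟩ := hw
    exact hw1 (by rw [range_disp_fix_eq_one omega_sq htiny.odd hv (Subtype.ext he)]; rfl)
  · obtain ⟨t, ht, k, hk, rfl⟩ := exists_mul_of_mem_sup h.norm (show p ∈ T ⊔ K by rwa [sup_comm])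
    have hk' : t * k * t⁻¹ ∈ K := (Subgroup.mem_normalizer_iff.1 (h.norm ht) k).1 hk
    obtain ⟨i, hi⟩ := hdec _ hk'
    set r := t * k * t⁻¹ * ((s : G) ^ i)⁻¹ with hr
    refine ⟨i, ((s : G) ^ i)⁻¹ * r * (s : G) ^ i * t, T.mul_mem (h.core_le ?_) ht, ?_⟩
    · have := (Subgroup.mem_normalizer_iff.1 (inv_mem (le_normalizer_pCoreOf (p := 2) K (zpow_mem s.2 i))) r).1 hi
      rwa [inv_inv] at this
    · rw [hr]; group

/-- `C_P(z) = T`. -/
theorem mem_of_fix {p : G} (hp : p ∈ K ⊔ T) (hc : p * ptOf T K = ptOf T K * p) : p ∈ T := by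
  obtain ⟨s, hsK, hs3, hs3W, hmove, hdec⟩ := h.gen
  obtain ⟨i, t, ht, rfl⟩ := hdec p hp
  refine T.mul_mem ?_ ht
  set z := ptOf T K with hz
  have htz : Commute t z := h.central _ h.pt.mem_Z t ht
  have hsz : Commute (s ^ i) z := by
    have := (show Commute (s ^ i * t) z from hc).mul_left htz.inv_left
    rwa [mul_inv_cancel_right] at this
  have h3z : Commute (s ^ 3) z := hs3W z h.pt.mem_W
  have hmod : i % 3 = 0 ∨ i % 3 = 1 ∨ i % 3 = 2 := by omega
  have hd : s ^ i = (s ^ 3) ^ (i / 3) * s ^ (i % 3) := by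
    rw [← zpow_natCast s 3, ← zpow_mul, ← zpow_add, Nat.cast_ofNat, Int.mul_ediv_add_emod]
  have hr : Commute (s ^ (i % 3)) z := by
    have e : s ^ (i % 3) = ((s ^ 3) ^ (i / 3))⁻¹ * s ^ i := by rw [hd, inv_mul_cancel_left]
    rw [e]
    exact (h3z.zpow_left _).inv_left.mul_left hsz
  rcases hmod with h0 | h0 | h0 <;> rw [h0] at hr hd
  · rw [hd, zpow_zero, mul_one]
    exact zpow_mem hs3 _
  · rw [zpow_one] at hr
    exact absurd (mul_inv_eq_iff_eq_mul.2 hr.eq) (hmove z h.pt.mem_W h.pt.ne_one)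
  · refine absurd (mul_inv_eq_iff_eq_mul.2 ?_) (hmove z h.pt.mem_W h.pt.ne_one)
    rw [show s = s ^ 3 * (s ^ (2 : ℤ))⁻¹ by group]
    exact (h3z.mul_left hr.inv_left).eq

theorem relIndex_eq_three : T.relIndex (K ⊔ T) = 3 := by
  classical
  obtain ⟨s, hsK, hs3, -, -, hdec⟩ := h.gen
  set P := K ⊔ T
  have hle : T.relIndex P ≤ 3 := by
    rw [Subgroup.relIndex, Subgroup.index]
    let f : Fin 3 → ↥P ⧸ T.subgroupOf P := fun j => QuotientGroup.mk ⟨s ^ (j : ℕ), pow_mem (Subgroup.mem_sup_left hsK) _⟩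
    have hsurj : Function.Surjective f := by
      intro x
      obtain ⟨p, rfl⟩ := QuotientGroup.mk_surjective x
      obtain ⟨i, t, ht, hpt⟩ := hdec p p.2
      have hn : (i % 3).toNat < 3 := by omega
      refine ⟨⟨(i % 3).toNat, hn⟩, ?_⟩
      refine QuotientGroup.eq.2 (Subgroup.mem_subgroupOf.2 ?_)
      have e : (s : G) ^ (i % 3).toNat = s ^ (i % 3) := by
        rw [← zpow_natCast, Int.toNat_of_nonneg (Int.emod_nonneg i (by norm_num))]
      show (s ^ (i % 3).toNat)⁻¹ * (p : G) ∈ T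
      rw [e, hpt, ← Int.mul_ediv_add_emod i 3, zpow_add, zpow_mul]
      rw [show s ^ (3 : ℤ) = s ^ 3 from zpow_natCast s 3]
      have hc : Commute ((s ^ 3) ^ (i / 3)) (s ^ (i % 3)) :=
        (((Commute.refl s).pow_left 3).zpow_left _).zpow_right _
      rw [show (3 * (i / 3) + i % 3) % 3 = i % 3 by omega, hc.eq, mul_assoc, inv_mul_cancel_left]
      exact T.mul_mem (zpow_mem hs3 _) ht
    calc Nat.card (↥P ⧸ T.subgroupOf P) ≤ Nat.card (Fin 3) := Nat.card_le_card_of_surjective f hsurj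
      _ = 3 := Nat.card_fin 3
  have hodd := h.sylow.2.2
  have hne : T.relIndex P ≠ 1 := fun h1 =>
    jcomp_not_le_twoGroup h.comp h.ctx.T_pgroup (le_sup_left.trans (Subgroup.relIndex_eq_one.1 h1))
  obtain ⟨m, hm⟩ := (hodd : Odd (T.relIndex P))
  have hm' : T.relIndex P = 2 * m + 1 := hm
  omega

theorem not_normal : ¬ K ⊔ T ≤ Subgroup.normalizer (T : Set G) := fun hle =>
  jcomp_not_J_le_pCoreOf h.comp (le_sup_left : K ≤ K ⊔ T)
    ((thompson_le T).trans (le_pCoreOf le_sup_right h.ctx.T_pgroup hle))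

theorem gen_sylows {p : G} (hp : p ∈ K ⊔ T) (hpT : p ∉ T) {H : Subgroup G} (hTH : T ≤ H)
    (hpH : cmap p T ≤ H) : K ⊔ T ≤ H := by
  set P := K ⊔ T
  have hm := Subgroup.relIndex_mul_relIndex T (H ⊓ P) P (le_inf hTH le_sup_right) inf_le_right
  rw [h.relIndex_eq_three] at hm
  rcases (Nat.dvd_prime Nat.prime_three).1 (Dvd.intro _ hm) with h1 | h1
  · exfalso
    have hTeq : H ⊓ P = T := le_antisymm (Subgroup.relIndex_eq_one.1 h1) (le_inf hTH le_sup_right)
    have hpP : cmap p T ≤ P := (cmap_mono p le_sup_right).trans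
      (cmap_eq_of_mem_normalizer (Subgroup.le_normalizer hp)).le
    have hpn : p ∈ Subgroup.normalizer (T : Set G) :=
      mem_normalizer_of_cmap_eq (Subgroup.eq_of_le_of_card_ge ((le_inf hpH hpP).trans hTeq.le) (card_cmap p T).ge)
    have hm2 := Subgroup.relIndex_mul_relIndex T (Subgroup.normalizer (T : Set G) ⊓ P) P
      (le_inf Subgroup.le_normalizer le_sup_right) inf_le_right
    rw [h.relIndex_eq_three] at hm2
    rcases (Nat.dvd_prime Nat.prime_three).1 (Dvd.intro _ hm2) with h2 | h2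
    · exact hpT (Subgroup.relIndex_eq_one.1 h2 (Subgroup.mem_inf.2 ⟨hpn, hp⟩))
    · rw [h2] at hm2
      have h3 : (Subgroup.normalizer (T : Set G) ⊓ P).relIndex P = 1 := by omega
      exact h.not_normal ((Subgroup.relIndex_eq_one.1 h3).trans inf_le_left)
  · rw [h1] at hm
    have h3 : (H ⊓ P).relIndex P = 1 := by omega
    exact (Subgroup.relIndex_eq_one.1 h3).trans inf_le_left

theorem qK_eq : qK T K = (K ⊔ T) ⊓ Subgroup.centralizer (Cfsg.wOf K : Set G) := by
  refine le_antisymm (inf_le_inf_right _ le_sup_right) fun p hp => ?_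
  obtain ⟨hpP, hpC⟩ := Subgroup.mem_inf.1 hp
  exact Subgroup.mem_inf.2
    ⟨h.mem_of_fix hpP (Subgroup.mem_centralizer_iff.1 hpC _ h.pt.mem_W).symm, hpC⟩

theorem le_normalizer_qK : K ⊔ T ≤ Subgroup.normalizer (qK T K : Set G) := by
  rw [h.qK_eq]
  refine (le_inf Subgroup.le_normalizer ?_).trans Subgroup.inf_normalizer_le_normalizer_inf
  intro p hp
  refine mem_normalizer_of_forall fun c hc => Subgroup.mem_centralizer_iff.2 fun w hw => ?_
  have hw' : p⁻¹ * w * p ∈ Cfsg.wOf K := by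
    have := (Subgroup.mem_normalizer_iff.1 (inv_mem (h.le_normalizer_wOf hp)) w).1 hw
    rwa [inv_inv] at this
  have e' := congrArg (fun y => p * y * p⁻¹) (Subgroup.mem_centralizer_iff.1 hc _ hw')
  convert e' using 1 <;> group

theorem qK_ne : ∃ t ∈ T, t ∉ qK T K := by
  by_contra hcon
  push Not at hcon
  have he : T = qK T K := le_antisymm hcon inf_le_left
  exact h.not_normal (by conv_rhs => rw [he]
                         exact h.le_normalizer_qK)

theorem vK_le_qK : vK T K ≤ qK T K := fun x hx => mem_qK.2 ⟨h.vK_le hx, fun w hw =>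
  elem_comm (vK_elem h.ctx.T_pgroup h.comp) (Subgroup.mem_sup_left hw) hx⟩

theorem qK_comm {x v : G} (hx : x ∈ qK T K) (hv : v ∈ vK T K) : x * v = v * x := by
  obtain ⟨hxT, hxW⟩ := mem_qK.1 hx
  obtain ⟨w, hw, y, hy, rfl⟩ := mem_vK h.ctx.T_pgroup h.comp hv
  exact ((show Commute x w from (hxW w hw).symm).mul_right (h.central y (yOf_le hy) x hxT)).eq

theorem mem_qK_of_comm {x : G} (hx : x ∈ K ⊔ T) (hc : ∀ v ∈ vK T K, x * v = v * x) : x ∈ qK T K := by
  rw [h.qK_eq]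
  exact Subgroup.mem_inf.2 ⟨hx, Subgroup.mem_centralizer_iff.2 fun w hw => (hc w (Subgroup.mem_sup_left hw)).symm⟩

theorem four {w : G} (hw : w ∈ Cfsg.wOf K) (hw1 : w ≠ 1) (hwz : w ≠ ptOf T K) {v : G} (hv : v ∈ Cfsg.wOf K) :
    v = 1 ∨ v = ptOf T K ∨ v = w ∨ v = ptOf T K * w := by
  set z := ptOf T K with hzdef
  have hz := h.pt
  have hsq : ∀ u ∈ Cfsg.wOf K, u * u = 1 := h.comp.2.2.2.2.2
  have hset : ({1, z, w, z * w} : Set G) = (Cfsg.wOf K : Set G) := by
    refine Set.eq_of_subset_of_ncard_le ?_ ?_ (Set.toFinite _)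
    · rintro y (rfl | rfl | rfl | rfl)
      · exact Subgroup.one_mem _
      · exact hz.mem_W
      · exact hw
      · exact mul_mem hz.mem_W hw
    · rw [← Nat.card_coe_set_eq, SetLike.coe_sort_coe, h.comp.2.2.2.2.1]
      refine le_of_eq (Set.ncard_eq_four.2 ⟨1, z, w, z * w, Ne.symm hz.ne_one, Ne.symm hw1, ?_, Ne.symm hwz,
        ?_, ?_, rfl⟩).symm
      · intro e
        exact hwz ((inv_eq_of_mul_eq_one_right e.symm).symm.trans (inv_eq_of_mul_eq_one_right (hsq z hz.mem_W)))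
      · intro e
        exact hw1 (by simpa using e.symm)
      · intro e
        exact hz.ne_one (by simpa using e.symm)
  have : v ∈ ({1, z, w, z * w} : Set G) := hset ▸ hv
  simpa using this

theorem act_wOf {t w : G} (ht : t ∈ T) (hw : w ∈ Cfsg.wOf K) :
    t * w * t⁻¹ = w ∨ t * w * t⁻¹ = w * ptOf T K := by
  by_cases hw1 : w = 1
  · exact Or.inl (by rw [hw1]; group)
  by_cases hwz : w = ptOf T K
  · exact Or.inl (by rw [hwz, h.central _ h.pt.mem_Z t ht, mul_inv_cancel_right])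
  have hm := (Subgroup.mem_normalizer_iff.1 (h.le_normalizer_wOf (Subgroup.mem_sup_right ht)) w).1 hw
  rcases h.four hw hw1 hwz hm with e | e | e | e
  · exact absurd (conj_eq_one_iff.1 e) hw1
  · refine absurd ?_ hwz
    calc w = t⁻¹ * (t * w * t⁻¹) * t := by group
      _ = ptOf T K := by rw [e, mul_assoc, ← h.central _ h.pt.mem_Z t ht, inv_mul_cancel_left]
  · exact Or.inl e
  · exact Or.inr (e.trans (elem_comm (wOf_elem K) h.pt.mem_W hw))

theorem act {t v : G} (ht : t ∈ T) (hv : v ∈ vK T K) :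
    t * v * t⁻¹ = v ∨ t * v * t⁻¹ = v * ptOf T K := by
  obtain ⟨w, hw, y, hy, rfl⟩ := mem_vK h.ctx.T_pgroup h.comp hv
  have e : t * (w * y) * t⁻¹ = (t * w * t⁻¹) * y := by
    rw [mul_assoc t (w * y), mul_assoc w y, ← (show Commute t⁻¹ y from
      (show Commute t y from h.central y (yOf_le hy) t ht).inv_left).eq]
    group
  rcases h.act_wOf ht hw with e1 | e1
  · exact Or.inl (by rw [e, e1])
  · refine Or.inr ?_
    rw [e, e1, mul_assoc, mul_assoc, zOf_comm h.pt.mem_Z (yOf_le hy)]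

theorem idx {x y : G} (hx : x ∈ T) (hy : y ∈ T) (hxQ : x ∉ qK T K) (hyQ : y ∉ qK T K) : x * y ∈ qK T K := by
  have hz := h.pt
  have key : ∀ c ∈ T, c ∉ qK T K → ∀ w ∈ Cfsg.wOf K, w ≠ 1 → w ≠ ptOf T K →
      c * w * c⁻¹ = w * ptOf T K := by
    intro c hc hcQ w hw hw1 hwz
    refine (h.act_wOf hc hw).resolve_left fun e => hcQ (mem_qK.2 ⟨hc, fun v hv => ?_⟩)
    have hcw : Commute c w := mul_inv_eq_iff_eq_mul.1 e
    have hcz : Commute c (ptOf T K) := h.central _ hz.mem_Z c hc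
    rcases h.four hw hw1 hwz hv with e' | e' | e' | e' <;> subst e'
    · simp
    · exact hcz.eq.symm
    · exact hcw.eq.symm
    · exact (hcz.mul_right hcw).eq.symm
  refine mem_qK.2 ⟨T.mul_mem hx hy, fun w hw => ?_⟩
  by_cases hw1 : w = 1
  · simp [hw1]
  by_cases hwz : w = ptOf T K
  · rw [hwz]; exact (h.central _ hz.mem_Z _ (T.mul_mem hx hy)).symm
  symm
  rw [← mul_inv_eq_iff_eq_mul]
  have e1 := key y hy hyQ w hw hw1 hwz
  have e2 := key x hx hxQ w hw hw1 hwz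
  calc x * y * w * (x * y)⁻¹ = x * (y * w * y⁻¹) * x⁻¹ := by group
    _ = (x * w * x⁻¹) * (x * ptOf T K * x⁻¹) := by rw [e1]; group
    _ = w := by
      rw [e2, h.central _ hz.mem_Z x hx, mul_inv_cancel_right, mul_assoc, zOf_sq hz.mem_Z, mul_one]

end Norm1

/-- Two components normalised by `T` with different tops. -/
structure JPair (T : Subgroup G) (K L : Bool → Subgroup G) : Prop where
  side : ∀ i, Norm1 T (K i) (L i)
  top : ∀ i, IsTop T (K i) (L i)
  uniq : ∀ (i : Bool) (L' : Subgroup G), IsTop T (K i) L' → L' = L i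
  ne : L true ≠ L false
  small : Nat.card ↥(zOf T) ≤ 4

/-- The two `V`'s do not commute. -/
def NC (T K K' : Subgroup G) : Prop := ∃ x ∈ vK T K, ∃ y ∈ vK T K', x * y ≠ y * x

namespace JPair

variable {T : Subgroup G} {K L : Bool → Subgroup G} (h : JPair T K L)
include h

theorem amalgam : Amalgam T (fun i => K i ⊔ T) (fun i => qK T (K i)) (fun i => vK T (K i))
    (fun i => ptOf T (K i)) where
  pgroup := (h.side true).ctx.T_pgroup
  T_le _ := le_sup_right
  Q_le _ := inf_le_left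
  V_le i := (h.side i).vK_le_qK
  V_el i := vK_elem (h.side i).ctx.T_pgroup (h.side i).comp
  V_ne i h0 := (h.side i).pt.ne_one (Subgroup.mem_bot.1 (h0 ▸ Subgroup.mem_sup_left (h.side i).pt.mem_W))
  Q_norm i := (h.side i).le_normalizer_qK
  V_norm i := (h.side i).le_normalizer_vK
  Q_eq i _ hx hc := (h.side i).mem_qK_of_comm hx hc
  Q_comm i _ hx _ hv := (h.side i).qK_comm hx hv
  idx i _ hx _ hy hxQ hyQ := (h.side i).idx hx hy hxQ hyQ
  Q_lt i := (h.side i).qK_ne
  P_gt i := by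
    obtain ⟨k, hk, hkT⟩ := SetLike.not_le_iff_exists.1
      (jcomp_not_le_twoGroup (h.side i).comp (h.side i).ctx.T_pgroup)
    exact ⟨k, Subgroup.mem_sup_left hk, hkT⟩
  z_mem i j := Subgroup.mem_sup_right (h.side i).pt.mem_Z
  act i _ ht _ hv := (h.side i).act ht hv
  z_cen i t ht := (h.side i).central _ (h.side i).pt.mem_Z t ht
  gen i _ hp hpT _ hT hpH := (h.side i).gen_sylows hp hpT hT hpH
  free N hN hn := by
    by_contra hne
    obtain ⟨L0, hL0, hle⟩ := exists_maximalTwoLocal_ge (isTwoLocal_normalizer hN hne)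
    have htop : ∀ i, IsTop T (K i) L0 := fun i => ⟨hL0, (le_sup_left.trans (hn i)).trans hle,
      ((thompson_le T).trans le_sup_right).trans ((hn i).trans hle)⟩
    exact h.ne ((h.uniq true L0 (htop true)).symm.trans (h.uniq false L0 (htop false)))

theorem nc_of_pts (hp : ∀ i, ptOf T (K i) ∉ yOf T (K (!i))) : NC T (K true) (K false) := by
  refine h.amalgam.noncomm_or_crit.resolve_right ?_
  rintro ⟨-, i, hfix, -⟩
  have h1 := hp (!i)
  rw [Bool.not_not] at h1
  exact h1 (mem_yOf.2 ⟨(h.side _).pt.mem_Z, fun k hk => hfix k (Subgroup.mem_sup_left hk)⟩)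

theorem fix_pt {i : Bool} (hy : ptOf T (K i) ∈ yOf T (K (!i))) :
    ∀ p ∈ K (!i) ⊔ T, p * ptOf T (K i) = ptOf T (K i) * p := fun p hp => by
  have hle : K (!i) ⊔ T ≤ Subgroup.centralizer ({ptOf T (K i)} : Set G) :=
    sup_le (fun k hk => Subgroup.mem_centralizer_singleton_iff.2 ((mem_yOf.1 hy).2 k hk))
      fun t ht => Subgroup.mem_centralizer_singleton_iff.2 ((h.side i).central _ (h.side i).pt.mem_Z t ht)
  exact Subgroup.mem_centralizer_singleton_iff.1 (hle hp)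

/-- Non-commuting conjugates come from a generator of order 3 modulo `T`. -/
theorem exists_cube {i : Bool} (hx : ∃ p ∈ K (!i) ⊔ T, ∃ x ∈ cmap p (vK T (K i)), ∃ v ∈ vK T (K i),
    x * v ≠ v * x) : ∃ s ∈ K (!i) ⊔ T, s ^ 3 ∈ T ∧ ∃ x ∈ cmap s (vK T (K i)), ∃ v ∈ vK T (K i),
    x * v ≠ v * x := by
  obtain ⟨p, hp, x, hx, v, hv, hne⟩ := hx
  obtain ⟨s, hsK, hs3, -, -, hdec⟩ := (h.side (!i)).gen
  obtain ⟨e, t, ht, rfl⟩ := hdec p hp
  have hVi : ∀ t ∈ T, cmap t (vK T (K i)) = vK T (K i) := fun t ht => h.amalgam.cmap_V (Subgroup.mem_sup_right ht)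
  rw [← cmap_cmap, hVi t ht] at hx
  have hd : s ^ e = s ^ (e % 3) * (s ^ 3) ^ (e / 3) := by
    rw [← zpow_natCast s 3, ← zpow_mul, ← zpow_add, Nat.cast_ofNat, add_comm, Int.mul_ediv_add_emod]
  rw [hd, ← cmap_cmap, hVi _ (zpow_mem hs3 _)] at hx
  have hmod : e % 3 = 0 ∨ e % 3 = 1 ∨ e % 3 = 2 := by omega
  rcases hmod with h0 | h0 | h0 <;> rw [h0] at hx
  · rw [zpow_zero, cmap_one] at hx
    exact absurd (elem_comm (h.amalgam.V_el i) hx hv) hne
  · rw [zpow_one] at hx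
    exact ⟨s, Subgroup.mem_sup_left hsK, hs3, x, hx, v, hv, hne⟩
  · refine ⟨s⁻¹, Subgroup.mem_sup_left (inv_mem hsK), by rw [inv_pow]; exact inv_mem hs3, x, ?_, v, hv, hne⟩
    rw [show s ^ (2 : ℤ) = s⁻¹ * s ^ 3 by group, ← cmap_cmap, hVi _ hs3] at hx
    exact hx

/-- Both sides cannot have non-commuting conjugates. -/
theorem not_both (hno : ¬ NC T (K true) (K false)) (hy : ∀ i, ptOf T (K i) ∈ yOf T (K (!i)))
    (hx : ∀ i, ∃ p ∈ K (!i) ⊔ T, ∃ x ∈ cmap p (vK T (K i)), ∃ v ∈ vK T (K i), x * v ≠ v * x) : False := by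
  refine h.amalgam.not_both_sides ?_ (fun i => h.fix_pt (hy i)) fun i => h.exists_cube (hx i)
  simp only [NC, not_exists, not_and, not_not] at hno
  rintro (_ | _) a ha b hb
  · exact (hno b hb a ha).symm
  · exact hno a ha b hb

end JPair

end H77
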