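import Cfsg.Agent.H77.JPair

/-!
Consequences of a non-commuting pair: `Q_i = V_i`, `T = V₁V₂ = J(T)`, `L_i = K_iT`.
-/

set_option autoImplicit false

namespace H77

variable {G : Type*} [Group G] [Finite G]

theorem le_or_le_of_subset_union {A B C : Subgroup G} (h : ∀ x ∈ A, x ∈ B ∨ x ∈ C) : A ≤ B ∨ A ≤ C := by
  refine or_iff_not_imp_left.2 fun hB => ?_
  obtain ⟨a, ha, haB⟩ := SetLike.not_le_iff_exists.1 hB
  intro x hx
  rcases h x hx with hxB | hxC
  · have h1 : a * x ∈ C := (h _ (A.mul_mem ha hx)).resolve_left fun h0 => haB (by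
      simpa using B.mul_mem h0 (B.inv_mem hxB))
    simpa using C.mul_mem (C.inv_mem ((h a ha).resolve_left haB)) h1
  · exact hxC

theorem card_zOf_two_or_four {T K : Subgroup G} (hT : IsPGroup 2 ↥T) (hK : Cfsg.IsJComponent T K)
    (h4 : Nat.card ↥(zOf T) ≤ 4) : Nat.card ↥(zOf T) = 2 ∨ Nat.card ↥(zOf T) = 4 := by
  have h := card_zOf_eq hT hK
  have hp : 0 < Nat.card ↥(yOf T K) := Nat.card_pos
  omega

theorem Norm1.card_vK {T K L : Subgroup G} (h : Norm1 T K L) :
    Nat.card ↥(vK T K) = 2 * Nat.card ↥(zOf T) := by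
  have hz := h.pt
  have hc := card_sup_mul_card_inf (A := Cfsg.wOf K) (B := zOf T)
    fun w hw x hx => wOf_comm_zOf h.ctx.T_pgroup h.comp hw hx
  have h2 : Nat.card ↥(Cfsg.wOf K ⊓ zOf T : Subgroup G) = 2 := by
    rw [inf_comm]; exact (jcomp_split h.ctx.T_pgroup h.comp).1
  rw [h2, h.comp.2.2.2.2.1] at hc
  show Nat.card ↥(Cfsg.wOf K ⊔ zOf T : Subgroup G) = _
  omega

namespace JPair

variable {T : Subgroup G} {K L : Bool → Subgroup G} (h : JPair T K L)
variable (hnc : NC T (K true) (K false))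
include h hnc

theorem qK_eq_vK (i : Bool) : qK T (K i) = vK T (K i) := by
  obtain ⟨x, hx, y, hy, hxy⟩ := hnc
  have hΩ : ∀ j, ∀ d ∈ T, d * d = 1 → (∀ t ∈ T, t * d = d * t) → d ∈ vK T (K j) := fun j d hd hd2 hdc =>
    Subgroup.mem_sup_right (omegaCenterOf_le_zOf T (mem_omegaCenterOf.2 ⟨hd, hdc, hd2⟩))
  cases i
  · exact h.amalgam.nc_Q_eq (i := false) (x := y) (y := x) hy hx (Ne.symm hxy) (hΩ false)
  · exact h.amalgam.nc_Q_eq (i := true) (x := x) (y := y) hx hy hxy (hΩ true)

theorem pt_eq : ptOf T (K false) = ptOf T (K true) := by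
  obtain ⟨x, hx, y, hy, hxy⟩ := hnc
  exact h.amalgam.nc_z (i := true) hx hy hxy

theorem invol_cases {t : G} (ht : t ∈ T) (h2 : t * t = 1) : t ∈ vK T (K true) ∨ t ∈ vK T (K false) := by
  rw [← h.qK_eq_vK hnc true, ← h.qK_eq_vK hnc false]
  obtain ⟨x, hx, y, hy, hxy⟩ := hnc
  exact h.amalgam.nc_invol (i := true) hx hy hxy ht h2

theorem T_eq : T = vK T (K true) ⊔ vK T (K false) := by
  refine le_antisymm (fun t ht => ?_) (sup_le (h.side true).vK_le (h.side false).vK_le)
  have hQ := h.qK_eq_vK hnc false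
  obtain ⟨x, hx, y, hy, hxy⟩ := hnc
  rcases h.amalgam.nc_T_cases (i := true) hx hy hxy ht with h1 | h1
  · exact Subgroup.mem_sup_right (hQ ▸ h1)
  · have := mul_mem (Subgroup.mem_sup_left (inv_mem hx) : x⁻¹ ∈ vK T (K true) ⊔ vK T (K false))
      (Subgroup.mem_sup_right (hQ ▸ h1 : x * t ∈ vK T (K false)))
    rwa [inv_mul_cancel_left] at this

theorem vK_mem_mea (i : Bool) : vK T (K i) ∈ mea T := by
  refine ⟨(h.side i).vK_le, vK_elem (h.side i).ctx.T_pgroup (h.side i).comp, fun A hA hAe => ?_⟩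
  have hcard : ∀ j, Nat.card ↥(vK T (K j)) = Nat.card ↥(vK T (K i)) := fun j => by
    rw [(h.side j).card_vK, (h.side i).card_vK]
  rcases le_or_le_of_subset_union
    (fun a ha => h.invol_cases hnc (hA ha) (elem_sq hAe ha)) with h1 | h1
  · exact (Nat.le_of_dvd Nat.card_pos (Subgroup.card_dvd_of_le h1)).trans (hcard true).le
  · exact (Nat.le_of_dvd Nat.card_pos (Subgroup.card_dvd_of_le h1)).trans (hcard false).le

theorem thompson_eq_self : Cfsg.thompsonSubgroupOf 2 T = T := by
  refine le_antisymm (thompson_le T) ?_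
  conv_lhs => rw [h.T_eq hnc]
  exact sup_le (mea_le_thompson (h.vK_mem_mea hnc true)) (mea_le_thompson (h.vK_mem_mea hnc false))

theorem qOf_le_vK (i : Bool) : qOf (L i) ≤ vK T (K i) := by
  intro q hq
  have hs := h.side i
  rw [← h.qK_eq_vK hnc i]
  exact mem_qK.2 ⟨hs.ctx.q_le_T hq, fun w hw =>
    ((mem_omegaCenterOf.1 (hs.ctx.wOf_le_vOf hs.comp hs.le hw)).2.1 q hq).symm⟩

theorem centralizer_vK_le (i : Bool) :
    Subgroup.centralizer (vK T (K i) : Set G) ≤ vK T (K i) :=
  ((Subgroup.centralizer_le (SetLike.coe_subset_coe.2 (h.qOf_le_vK hnc i))).trans (h.side i).ctx.cent_le).trans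
    (h.qOf_le_vK hnc i)

theorem qOf_eq_vK (i : Bool) : qOf (L i) = vK T (K i) := by
  refine le_antisymm (h.qOf_le_vK hnc i) fun v hv => ?_
  have hs := h.side i
  exact hs.ctx.cent_le (Subgroup.mem_centralizer_iff.2 fun q hq =>
    elem_comm (vK_elem hs.ctx.T_pgroup hs.comp) (h.qOf_le_vK hnc i hq) hv)

theorem comp_unique (i : Bool) {K' : Subgroup G} (hK' : Cfsg.IsJComponent T K') (hK'L : K' ≤ L i) :
    K' = K i := by
  by_contra hne
  have hs := h.side i
  obtain ⟨-, hdis⟩ := hs.ctx.comp_disjoint hs.comp hs.le hK' hK'L (Ne.symm hne)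
  have hle : Cfsg.wOf K' ≤ vK T (K i) :=
    ((hs.ctx.wOf_le_vOf hK' hK'L).trans (omegaCenterOf_le _)).trans (h.qOf_le_vK hnc i)
  have hc := card_sup_mul_card_inf (A := Cfsg.wOf (K i)) (B := Cfsg.wOf K') fun a ha b hb =>
    elem_comm (vK_elem hs.ctx.T_pgroup hs.comp) (Subgroup.mem_sup_left ha) (hle hb)
  rw [hdis, Subgroup.card_bot, mul_one, hs.comp.2.2.2.2.1, hK'.2.2.2.2.1] at hc
  have h1 := Nat.le_of_dvd Nat.card_pos (Subgroup.card_dvd_of_le
    (sup_le le_sup_left hle : Cfsg.wOf (K i) ⊔ Cfsg.wOf K' ≤ vK T (K i)))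
  rw [hc, hs.card_vK] at h1
  have := h.small
  omega

theorem L_eq (i : Bool) : L i = K i ⊔ T := by
  haveI : Fact (Nat.Prime 2) := ⟨Nat.prime_two⟩
  have hs := h.side i
  refine le_antisymm ?_ (sup_le hs.le hs.ctx.T_le)
  refine hs.ctx.le_sup_components.trans (sup_le ?_ (iSup_le fun K' => ?_))
  · rw [h.thompson_eq_self hnc]
    set E := L i ⊓ Subgroup.normalizer (T : Set G) with hE
    have hTE : T ≤ E := le_inf hs.ctx.T_le Subgroup.le_normalizer
    suffices hET : E ≤ T from hET.trans le_sup_right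
    rw [← Subgroup.subgroupOf_eq_top]
    refine eq_top_of_odd_mem ?_ fun g hg => ?_
    · intro hd
      have h1 : T.relIndex E ∣ T.relIndex (L i) :=
        Dvd.intro _ (Subgroup.relIndex_mul_relIndex T E (L i) hTE inf_le_left)
      exact (Nat.not_even_iff_odd.2 hs.ctx.sylT.2.2) (even_iff_two_dvd.2 (hd.trans h1))
    · obtain ⟨hgL, hgT⟩ := Subgroup.mem_inf.1 g.2
      have hgo : Odd (orderOf (g : G)) := by rwa [Subgroup.orderOf_coe]
      have hgJ : (g : G) ∈ Subgroup.normalizer (Cfsg.thompsonSubgroupOf 2 T : Set G) := by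
        rwa [h.thompson_eq_self hnc]
      have hgK : (g : G) ∈ Subgroup.normalizer (K i : Set G) := by
        refine mem_normalizer_of_cmap_eq (h.comp_unique hnc i
          (isJComponent_congr (by rw [thompson_cmap, cmap_eq_of_mem_normalizer hgJ])
            (isJComponent_cmap (g : G) hs.comp)) ?_)
        exact (cmap_mono _ hs.le).trans (cmap_eq_of_mem_normalizer (Subgroup.le_normalizer hgL)).le
      have hgW := normalizer_le_normalizer_wOf (K i) hgK
      have hgZ : ∀ x ∈ zOf T, Commute (g : G) x := fun x hx =>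
        fix_zOf_of_normalizes hs.ctx.T_pgroup hs.comp h.small hgJ hgK hx
      have hgw : ∀ w ∈ Cfsg.wOf (K i), Commute (g : G) w := by
        intro w hw
        by_cases hw1 : w = 1
        · rw [hw1]; exact Commute.one_right _
        by_cases hwz : w = ptOf T (K i)
        · rw [hwz]; exact hgZ _ hs.pt.mem_Z
        have hm := (Subgroup.mem_normalizer_iff.1 hgW w).1 hw
        rcases hs.four hw hw1 hwz hm with e | e | e | e
        · exact absurd (conj_eq_one_iff.1 e) hw1
        · refine absurd ?_ hwz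
          calc w = (g : G)⁻¹ * ((g : G) * w * (g : G)⁻¹) * g := by group
            _ = ptOf T (K i) := by rw [e, mul_assoc, ← (hgZ _ hs.pt.mem_Z).eq, inv_mul_cancel_left]
        · exact mul_inv_eq_iff_eq_mul.1 e
        · -- `g` would induce an element of even order
          have e2 : ((g : G) ^ 2) * w * ((g : G) ^ 2)⁻¹ = w := by
            rw [sq, mul_inv_rev]
            calc (g : G) * g * w * ((g : G)⁻¹ * (g : G)⁻¹) = g * (g * w * (g : G)⁻¹) * (g : G)⁻¹ := by group
              _ = (g * ptOf T (K i) * (g : G)⁻¹) * (g * w * (g : G)⁻¹) := by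
                  conv_lhs => rw [e]
                  group
              _ = w := by rw [(hgZ _ hs.pt.mem_Z).eq, mul_inv_cancel_right, e, ← mul_assoc,
                  zOf_sq hs.pt.mem_Z, one_mul]
          have h2 : (g : G) ^ 2 ^ 1 ∈ Subgroup.centralizer ({w} : Set G) := by
            rw [pow_one, Subgroup.mem_centralizer_singleton_iff]
            exact mul_inv_eq_iff_eq_mul.1 e2
          exact Subgroup.mem_centralizer_singleton_iff.1 (mem_of_odd_of_pow_two_pow_mem hgo h2)
      have hgV : (g : G) ∈ vK T (K i) := by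
        refine h.centralizer_vK_le hnc i (Subgroup.mem_centralizer_iff.2 fun v hv => ?_)
        obtain ⟨w, hw, y, hy, rfl⟩ := mem_vK hs.ctx.T_pgroup hs.comp hv
        exact ((hgw w hw).mul_right (hgZ y (yOf_le hy))).eq.symm
      exact Subgroup.mem_subgroupOf.2 (hs.vK_le hgV)
  · rw [h.comp_unique hnc i K'.2.1 K'.2.2]
    exact le_sup_left

end JPair

end H77
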