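import Cfsg.Agent.H77.JUnique

/-!
The point `Z₀ ∩ W_K`, the fixed hyperplane `Z₀ ∩ C(K)` and `V_K = W_K Z₀`.
-/

set_option autoImplicit false

namespace H77

variable {G : Type*} [Group G]

/-- `Ω₁(Z(J(T)))`. -/
abbrev zOf (T : Subgroup G) : Subgroup G := Cfsg.omegaCenterOf (Cfsg.thompsonSubgroupOf 2 T)

/-- The part of `Z₀` centralised by `K`. -/
def yOf (T K : Subgroup G) : Subgroup G := zOf T ⊓ Subgroup.centralizer (K : Set G)

/-- `W_K Z₀`. -/
def vK (T K : Subgroup G) : Subgroup G := Cfsg.wOf K ⊔ zOf T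

/-- A nontrivial element of `Z₀ ∩ W_K`. -/
structure IsPt (T K : Subgroup G) (z : G) : Prop where
  mem_Z : z ∈ zOf T
  mem_W : z ∈ Cfsg.wOf K
  ne_one : z ≠ 1

theorem yOf_le {T K : Subgroup G} : yOf T K ≤ zOf T := inf_le_left

theorem zOf_sq {T : Subgroup G} {x : G} (hx : x ∈ zOf T) : x * x = 1 := (mem_omegaCenterOf.1 hx).2.2

theorem zOf_comm {T : Subgroup G} {x y : G} (hx : x ∈ zOf T) (hy : y ∈ zOf T) : x * y = y * x :=
  elem_comm (omegaCenterOf_elem _) hx hy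

theorem mem_yOf {T K : Subgroup G} {x : G} : x ∈ yOf T K ↔ x ∈ zOf T ∧ ∀ k ∈ K, k * x = x * k := by
  rw [yOf, Subgroup.mem_inf, Subgroup.mem_centralizer_iff]
  rfl

theorem centralizer_singleton_eq_normalizer {x : G} (hx : x * x = 1) (hx1 : x ≠ 1) :
    Subgroup.centralizer ({x} : Set G) = Subgroup.normalizer (Subgroup.zpowers x : Set G) := by
  have hz : ∀ y ∈ Subgroup.zpowers x, y = 1 ∨ y = x := by
    rintro _ ⟨i, rfl⟩
    rcases Int.even_or_odd' i with ⟨k, rfl | rfl⟩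
    · refine Or.inl ?_
      show x ^ (2 * k) = 1
      rw [zpow_mul, zpow_two, hx, one_zpow]
    · refine Or.inr ?_
      show x ^ (2 * k + 1) = x
      rw [zpow_add_one, zpow_mul, zpow_two, hx, one_zpow, one_mul]
  ext g
  rw [Subgroup.mem_centralizer_singleton_iff, Subgroup.mem_normalizer_iff]
  constructor
  · intro hg y
    have hc : ∀ i : ℤ, g * x ^ i * g⁻¹ = x ^ i := fun i => by
      rw [((show Commute g x from hg).zpow_right i).eq, mul_inv_cancel_right]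
    constructor
    · intro hy
      obtain ⟨i, rfl⟩ := Subgroup.mem_zpowers_iff.1 hy
      rw [hc]
      exact Subgroup.zpow_mem _ (Subgroup.mem_zpowers x) i
    · intro hy
      obtain ⟨i, hi⟩ := Subgroup.mem_zpowers_iff.1 hy
      refine Subgroup.mem_zpowers_iff.2 ⟨i, ?_⟩
      rw [← hc i] at hi
      exact mul_left_cancel (mul_right_cancel hi)
  · intro hg
    rcases hz _ ((hg x).1 (Subgroup.mem_zpowers x)) with e | e
    · exact absurd (conj_eq_one_iff.1 e) hx1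
    · exact mul_inv_eq_iff_eq_mul.1 e

theorem isTwoLocal_centralizer {x : G} (hx : x * x = 1) (hx1 : x ≠ 1) :
    Cfsg.IsTwoLocal (Subgroup.centralizer ({x} : Set G)) := by
  rw [centralizer_singleton_eq_normalizer hx hx1]
  refine ⟨Subgroup.zpowers x, ?_, fun h0 => hx1 (Subgroup.zpowers_eq_bot.1 h0), rfl⟩
  intro y
  obtain ⟨i, hi⟩ := Subgroup.mem_zpowers_iff.1 y.2
  refine ⟨1, Subtype.ext ?_⟩
  rw [SubmonoidClass.coe_pow, ← hi, pow_one, sq, OneMemClass.coe_one,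
    ← (Commute.refl x).mul_zpow, hx, one_zpow]

variable [Finite G]

theorem jcomp_fix_eq_one {T K : Subgroup G} (hK : Cfsg.IsJComponent T K) {w : G} (hw : w ∈ Cfsg.wOf K)
    (hc : ∀ k ∈ K, k * w = w * k) : w = 1 := by
  obtain ⟨s, -, -, htiny, hW⟩ := jcomp_data hK
  rw [hW] at hw
  obtain ⟨v, hv, rfl⟩ := hw
  rw [range_disp_fix_eq_one omega_sq htiny.odd hv ((smul_eq_iff _ _ v).2 (hc _ s.2))]
  rfl

theorem wOf_le_self (K : Subgroup G) : Cfsg.wOf K ≤ K :=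
  (wOf_le_omega K).trans ((omegaCenterOf_le _).trans (pCoreOf_le K))

theorem wOf_elem (K : Subgroup G) : Cfsg.IsElementaryAbelian 2 (Cfsg.wOf K) :=
  elem_of_le (omegaCenterOf_elem _) (wOf_le_omega K)

theorem zOf_cmap {T : Subgroup G} {g : G}
    (hg : g ∈ Subgroup.normalizer (Cfsg.thompsonSubgroupOf 2 T : Set G)) : cmap g (zOf T) = zOf T :=
  cmap_eq_of_mem_normalizer (normalizer_le_normalizer_omegaCenterOf _ hg)

theorem yOf_cmap {T K : Subgroup G} {g : G}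
    (hg : g ∈ Subgroup.normalizer (Cfsg.thompsonSubgroupOf 2 T : Set G)) :
    yOf T (cmap g K) = cmap g (yOf T K) := by
  ext x
  rw [mem_cmap, mem_yOf, mem_yOf]
  constructor
  · rintro ⟨hxZ, hxK⟩
    refine ⟨mem_cmap.1 ((zOf_cmap hg).symm ▸ hxZ), fun k hk => ?_⟩
    have e := hxK _ (conj_mem_cmap hk)
    have e' := congrArg (fun y => g⁻¹ * y * g) e
    convert e' using 1 <;> group
  · rintro ⟨hxZ, hxK⟩
    refine ⟨(zOf_cmap hg) ▸ mem_cmap.2 hxZ, fun k hk => ?_⟩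
    have e := hxK _ (mem_cmap.1 hk)
    have e' := congrArg (fun y => g * y * g⁻¹) e
    convert e' using 1 <;> group

theorem omegaCenterOf_le_zOf (T : Subgroup G) : Cfsg.omegaCenterOf T ≤ zOf T := by
  intro x hx
  obtain ⟨h1, h2, h3⟩ := mem_omegaCenterOf.1 hx
  rw [zOf, omegaCenter_thompson]
  exact Subgroup.mem_sInf.2 fun A hA => le_mea_of_commute hA h1 h3 fun a ha => h2 a (hA.1 ha)

theorem omegaCenterOf_eq_zOf {T : Subgroup G} (hc : ∀ x ∈ zOf T, ∀ t ∈ T, t * x = x * t) :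
    Cfsg.omegaCenterOf T = zOf T :=
  le_antisymm (omegaCenterOf_le_zOf T) fun x hx => mem_omegaCenterOf.2
    ⟨thompson_le T (omegaCenterOf_le _ hx), hc x hx, zOf_sq hx⟩

section Point

variable {T K : Subgroup G} (hT : IsPGroup 2 ↥T) (hK : Cfsg.IsJComponent T K)
include hT hK

theorem exists_pt : ∃ z, IsPt T K z := by
  have hc := (jcomp_split hT hK).1
  obtain ⟨z, hz, hz1⟩ : ∃ z ∈ zOf T ⊓ Cfsg.wOf K, z ≠ 1 := by
    refine (Subgroup.bot_or_exists_ne_one _).resolve_left fun h0 => ?_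
    change Nat.card ↥(zOf T ⊓ Cfsg.wOf K : Subgroup G) = 2 at hc
    rw [h0, Subgroup.card_bot] at hc
    omega
  exact ⟨z, (Subgroup.mem_inf.1 hz).1, (Subgroup.mem_inf.1 hz).2, hz1⟩

theorem eq_pt_of_mem {z x : G} (hz : IsPt T K z) (hx : x ∈ zOf T) (hxW : x ∈ Cfsg.wOf K) : x = 1 ∨ x = z := by
  have hc := (jcomp_split hT hK).1
  change Nat.card ↥(zOf T ⊓ Cfsg.wOf K : Subgroup G) = 2 at hc
  have hset : ({1, z} : Set G) = ((zOf T ⊓ Cfsg.wOf K : Subgroup G) : Set G) := by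
    refine Set.eq_of_subset_of_ncard_le ?_ ?_ (Set.toFinite _)
    · rintro y (rfl | rfl)
      · exact Subgroup.one_mem _
      · exact Subgroup.mem_inf.2 ⟨hz.mem_Z, hz.mem_W⟩
    · rw [← Nat.card_coe_set_eq, SetLike.coe_sort_coe, hc, Set.ncard_pair (Ne.symm hz.ne_one)]
  have : x ∈ ({1, z} : Set G) := hset ▸ Subgroup.mem_inf.2 ⟨hx, hxW⟩
  simpa using this

omit hT in
theorem pt_not_mem_yOf {z : G} (hz : IsPt T K z) : z ∉ yOf T K :=
  fun h => hz.ne_one (jcomp_fix_eq_one hK hz.mem_W (mem_yOf.1 h).2)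

theorem yOf_or {z x : G} (hz : IsPt T K z) (hx : x ∈ zOf T) : x ∈ yOf T K ∨ z * x ∈ yOf T K := by
  have hs := (jcomp_split hT hK).2
  set A := zOf T ⊓ ((K ⊔ Cfsg.thompsonSubgroupOf 2 T) ⊓
    Subgroup.centralizer ((K ⊔ Cfsg.thompsonSubgroupOf 2 T : Subgroup G) : Set G)) with hA
  set B := zOf T ⊓ Cfsg.wOf K with hB
  have hn : A ≤ Subgroup.normalizer (B : Set G) := by
    intro a ha
    refine mem_normalizer_of_forall fun b hb => ?_
    rw [zOf_comm (Subgroup.mem_inf.1 ha).1 (Subgroup.mem_inf.1 hb).1, mul_inv_cancel_right]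
    exact hb
  have hx' : x ∈ A ⊔ B := hs.symm ▸ hx
  obtain ⟨a, ha, b, hb, rfl⟩ := exists_mul_of_mem_sup hn hx'
  obtain ⟨ha0, haC⟩ := Subgroup.mem_inf.1 ha
  have haY : a ∈ yOf T K := mem_yOf.2 ⟨ha0, fun k hk =>
    Subgroup.mem_centralizer_iff.1 (Subgroup.mem_inf.1 haC).2 k (Subgroup.mem_sup_left hk)⟩
  rcases eq_pt_of_mem hT hK hz (Subgroup.mem_inf.1 hb).1 (Subgroup.mem_inf.1 hb).2 with e | e <;> subst b
  · exact Or.inl (by rwa [mul_one])
  · refine Or.inr ?_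
    rwa [zOf_comm ha0 hz.mem_Z, ← mul_assoc, zOf_sq hz.mem_Z, one_mul]

theorem card_zOf_eq : Nat.card ↥(zOf T) = 2 * Nat.card ↥(yOf T K) := by
  obtain ⟨z, hz⟩ := exists_pt hT hK
  rw [← relIndex_mul_card (yOf_le (T := T) (K := K))]
  congr 1
  rw [Subgroup.relIndex, Subgroup.index_eq_two_iff]
  refine ⟨⟨z, hz.mem_Z⟩, fun b => ?_⟩
  simp only [Subgroup.mem_subgroupOf, Subgroup.coe_mul]
  rcases yOf_or hT hK hz b.2 with hb | hb
  · refine Or.inr ⟨hb, fun h1 => pt_not_mem_yOf hK hz ?_⟩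
    have := (yOf T K).mul_mem ((yOf T K).inv_mem hb) h1
    rwa [inv_mul_cancel_left] at this
  · rw [zOf_comm hz.mem_Z b.2] at hb
    refine Or.inl ⟨hb, fun h1 => pt_not_mem_yOf hK hz ?_⟩
    have := (yOf T K).mul_mem ((yOf T K).inv_mem h1) hb
    rwa [inv_mul_cancel_left] at this

theorem wOf_comm_zOf {w x : G} (hw : w ∈ Cfsg.wOf K) (hx : x ∈ zOf T) : w * x = x * w := by
  obtain ⟨z, hz⟩ := exists_pt hT hK
  rcases yOf_or hT hK hz hx with h1 | h1
  · exact (mem_yOf.1 h1).2 w (wOf_le_self K hw)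
  · have e1 : Commute w (z * x) := (mem_yOf.1 h1).2 w (wOf_le_self K hw)
    have e2 : Commute w z := elem_comm (wOf_elem K) hw hz.mem_W
    have := e2.inv_right.mul_right e1
    rw [inv_mul_cancel_left] at this
    exact this.eq

theorem vK_elem : Cfsg.IsElementaryAbelian 2 (vK T K) :=
  elem_sup (wOf_elem K) (omegaCenterOf_elem _) fun _ hw _ hx => wOf_comm_zOf hT hK hw hx

theorem mem_vK {x : G} (hx : x ∈ vK T K) : ∃ w ∈ Cfsg.wOf K, ∃ y ∈ yOf T K, x = w * y := by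
  obtain ⟨z, hz⟩ := exists_pt hT hK
  have hn : Cfsg.wOf K ≤ Subgroup.normalizer (zOf T : Set G) := by
    intro w hw
    refine mem_normalizer_of_forall fun u hu => ?_
    rw [wOf_comm_zOf hT hK hw hu, mul_inv_cancel_right]
    exact hu
  obtain ⟨w, hw, u, hu, rfl⟩ := exists_mul_of_mem_sup hn hx
  rcases yOf_or hT hK hz hu with h1 | h1
  · exact ⟨w, hw, u, h1, rfl⟩
  · exact ⟨w * z, (Cfsg.wOf K).mul_mem hw hz.mem_W, z * u, h1, by
      rw [mul_assoc, ← mul_assoc z z u, zOf_sq hz.mem_Z, one_mul]⟩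

theorem comp_le_normalizer_vK : K ≤ Subgroup.normalizer (vK T K : Set G) := by
  intro k hk
  refine mem_normalizer_of_forall fun x hx => ?_
  obtain ⟨w, hw, y, hy, rfl⟩ := mem_vK hT hK hx
  have hkw : k * w * k⁻¹ ∈ Cfsg.wOf K :=
    (Subgroup.mem_normalizer_iff.1 (normalizer_le_normalizer_wOf K (Subgroup.le_normalizer hk)) w).1 hw
  rw [show k * (w * y) * k⁻¹ = (k * w * k⁻¹) * (k * y * k⁻¹) by group, (mem_yOf.1 hy).2 k hk,
    mul_inv_cancel_right]
  exact mul_mem (Subgroup.mem_sup_left hkw) (Subgroup.mem_sup_right (yOf_le hy))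

end Point

theorem vK_cmap {T K : Subgroup G} {g : G}
    (hg : g ∈ Subgroup.normalizer (Cfsg.thompsonSubgroupOf 2 T : Set G)) :
    vK T (cmap g K) = cmap g (vK T K) := by
  show _ = Subgroup.map _ _
  rw [vK, vK, Subgroup.map_sup]
  exact congrArg₂ (· ⊔ ·) (wOf_cmap g K) (zOf_cmap hg).symm

theorem isPt_cmap {T K : Subgroup G} {g z : G}
    (hg : g ∈ Subgroup.normalizer (Cfsg.thompsonSubgroupOf 2 T : Set G)) (hz : IsPt T K z) :
    IsPt T (cmap g K) (g * z * g⁻¹) :=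
  ⟨(zOf_cmap hg) ▸ conj_mem_cmap hz.mem_Z, (wOf_cmap g K).symm ▸ conj_mem_cmap hz.mem_W,
    fun h0 => hz.ne_one (conj_eq_one_iff.1 h0)⟩

theorem isTwoLocal_cmap {L : Subgroup G} (g : G) (hL : Cfsg.IsTwoLocal L) : Cfsg.IsTwoLocal (cmap g L) := by
  obtain ⟨P, hP, hP1, rfl⟩ := hL
  refine ⟨cmap g P, hP.map _, fun h0 => hP1 ?_, cmap_normalizer g P⟩
  rwa [Subgroup.map_eq_bot_iff_of_injective _ (MulAut.conj g).injective] at h0

theorem isMaximalTwoLocal_cmap {L : Subgroup G} (g : G) (hL : Cfsg.IsMaximalTwoLocal L) :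
    Cfsg.IsMaximalTwoLocal (cmap g L) := by
  refine ⟨isTwoLocal_cmap g hL.1, fun N hN hle => ?_⟩
  have h1 := hL.2 (cmap g⁻¹ N) (isTwoLocal_cmap g⁻¹ hN) (by rwa [← cmap_le_iff])
  rw [← h1, cmap_cmap_inv]

theorem isTop_cmap {T K L : Subgroup G} {g : G}
    (hg : g ∈ Subgroup.normalizer (Cfsg.thompsonSubgroupOf 2 T : Set G)) (hL : IsTop T K L) :
    IsTop T (cmap g K) (cmap g L) :=
  ⟨isMaximalTwoLocal_cmap g hL.maxLocal, cmap_mono g hL.comp_le,
    (cmap_eq_of_mem_normalizer hg).symm.le.trans (cmap_mono g hL.J_le)⟩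

theorem sylow_of_le {S : Sylow 2 G} {L : Subgroup G} (hSL : (S : Subgroup G) ≤ L) :
    Cfsg.IsSylowTwoIn (S : Subgroup G) L := by
  haveI : Fact (Nat.Prime 2) := ⟨Nat.prime_two⟩
  refine ⟨hSL, S.2, Odd.of_dvd_nat ?_ (Subgroup.relIndex_dvd_index_of_le hSL)⟩
  exact Nat.not_even_iff_odd.1 fun he => S.not_dvd_index (even_iff_two_dvd.1 he)

/-- An element normalising `J(T)` and `K` centralises `Z₀` when `|Z₀| ≤ 4`. -/
theorem fix_zOf_of_normalizes {T K : Subgroup G} (hT : IsPGroup 2 ↥T) (hK : Cfsg.IsJComponent T K)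
    (h4 : Nat.card ↥(zOf T) ≤ 4) {t : G}
    (htJ : t ∈ Subgroup.normalizer (Cfsg.thompsonSubgroupOf 2 T : Set G))
    (hn : t ∈ Subgroup.normalizer (K : Set G)) {x : G} (hx : x ∈ zOf T) : t * x = x * t := by
  obtain ⟨z, hz⟩ := exists_pt hT hK
  have htz : Commute t z := by
    have h1 := isPt_cmap htJ hz
    rw [cmap_eq_of_mem_normalizer hn] at h1
    exact mul_inv_eq_iff_eq_mul.1 ((eq_pt_of_mem hT hK hz h1.mem_Z h1.mem_W).resolve_left h1.ne_one)
  have hfix : ∀ y ∈ yOf T K, Commute t y := by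
    intro y hy
    by_cases hy1 : y = 1
    · rw [hy1]; exact Commute.one_right t
    have h1 : t * y * t⁻¹ ∈ yOf T K := by
      have h2 := conj_mem_cmap (g := t) hy
      rwa [← yOf_cmap htJ, cmap_eq_of_mem_normalizer hn] at h2
    by_contra hne
    have h2 : Nat.card ↥(yOf T K) ≤ 2 := by
      have := card_zOf_eq hT hK
      omega
    have hsub : ({1, y, t * y * t⁻¹} : Set G) ⊆ (yOf T K : Set G) := by
      rintro u (rfl | rfl | rfl)
      · exact Subgroup.one_mem _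
      · exact hy
      · exact h1
    have h3 := Set.ncard_le_ncard hsub (Set.toFinite _)
    rw [Set.ncard_eq_three.2 ⟨1, y, t * y * t⁻¹, Ne.symm hy1, fun e => hy1 (conj_eq_one_iff.1 e.symm),
      fun e => hne (mul_inv_eq_iff_eq_mul.1 e.symm), rfl⟩, ← Nat.card_coe_set_eq, SetLike.coe_sort_coe] at h3
    omega
  rcases yOf_or hT hK hz hx with h1 | h1
  · exact hfix x h1
  · have := htz.inv_right.mul_right (hfix _ h1)
    rw [inv_mul_cancel_left] at this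
    exact this

namespace MCtx

variable {M T : Subgroup G} (h : MCtx M T)
include h

theorem centralizer_le_top {K L : Subgroup G} (hK : Cfsg.IsJComponent T K) (hKM : ¬ K ≤ M)
    (hL : IsTop T K L) {x : G} (hx : x ∈ yOf T K) (hx1 : x ≠ 1) : Subgroup.centralizer ({x} : Set G) ≤ L := by
  obtain ⟨hxZ, hxK⟩ := mem_yOf.1 hx
  obtain ⟨L', hL', hle⟩ := exists_maximalTwoLocal_ge (isTwoLocal_centralizer (zOf_sq hxZ) hx1)
  have htop : IsTop T K L' := by
    refine ⟨hL', fun k hk => hle (Subgroup.mem_centralizer_singleton_iff.2 (hxK k hk)), fun j hj => hle ?_⟩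
    exact Subgroup.mem_centralizer_singleton_iff.2 ((mem_omegaCenterOf.1 hxZ).2.1 j hj)
  rwa [h.top_unique hK hKM hL htop]

theorem top_eq_of_common {K K' L L' : Subgroup G} (hK : Cfsg.IsJComponent T K) (hKM : ¬ K ≤ M)
    (hL : IsTop T K L) (hK' : Cfsg.IsJComponent T K') (hK'M : ¬ K' ≤ M) (hL' : IsTop T K' L') {x : G}
    (hx : x ∈ yOf T K) (hx' : x ∈ yOf T K') (hx1 : x ≠ 1) : L = L' := by
  have hle := h.centralizer_le_top hK hKM hL hx hx1
  exact h.top_unique hK' hK'M ⟨hL.maxLocal,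
    fun k hk => hle (Subgroup.mem_centralizer_singleton_iff.2 ((mem_yOf.1 hx').2 k hk)), hL.J_le⟩ hL'

theorem yOf_inf_eq_bot {K K' L L' : Subgroup G} (hK : Cfsg.IsJComponent T K) (hKM : ¬ K ≤ M)
    (hL : IsTop T K L) (hK' : Cfsg.IsJComponent T K') (hK'M : ¬ K' ≤ M) (hL' : IsTop T K' L') (hne : L ≠ L') :
    yOf T K ⊓ yOf T K' = ⊥ := by
  rw [eq_bot_iff]
  intro x hx
  by_contra hx1
  rw [Subgroup.mem_bot] at hx1
  exact hne (h.top_eq_of_common hK hKM hL hK' hK'M hL' (Subgroup.mem_inf.1 hx).1 (Subgroup.mem_inf.1 hx).2 hx1)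

theorem card_zOf_le_four {K K' L L' : Subgroup G} (hK : Cfsg.IsJComponent T K) (hKM : ¬ K ≤ M)
    (hL : IsTop T K L) (hK' : Cfsg.IsJComponent T K') (hK'M : ¬ K' ≤ M) (hL' : IsTop T K' L') (hne : L ≠ L') :
    Nat.card ↥(zOf T) ≤ 4 := by
  have hc := card_sup_mul_card_inf (A := yOf T K) (B := yOf T K')
    fun x hx y hy => zOf_comm (yOf_le hx) (yOf_le hy)
  rw [h.yOf_inf_eq_bot hK hKM hL hK' hK'M hL' hne, Subgroup.card_bot, mul_one] at hc
  have h1 := Nat.le_of_dvd Nat.card_pos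
    (Subgroup.card_dvd_of_le (sup_le yOf_le yOf_le : yOf T K ⊔ yOf T K' ≤ zOf T))
  rw [hc] at h1
  have h2 := card_zOf_eq h.T_pgroup hK
  have h3 := card_zOf_eq h.T_pgroup hK'
  have he : Nat.card ↥(yOf T K') = Nat.card ↥(yOf T K) := by omega
  rw [he, h2] at h1
  have h4 := Nat.le_of_mul_le_mul_right h1 Nat.card_pos
  omega

/-- Distinct outside components of one top: each centralises the other's point. -/
theorem same_top {K K' L : Subgroup G} (hK : Cfsg.IsJComponent T K) (hKM : ¬ K ≤ M) (hL : IsTop T K L)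
    (hK' : Cfsg.IsJComponent T K') (hK'L : K' ≤ L) (hne : K ≠ K') {z : G} (hz : IsPt T K' z) :
    z ∈ yOf T K := by
  obtain ⟨S, hctx, hJS⟩ := h.top_ctx hL.maxLocal.1 (h.top_not_le hKM hL) hL.J_le
  exact mem_yOf.2 ⟨hz.mem_Z, fun k hk => (hctx.comp_disjoint (isJComponent_congr hJS hK) hL.comp_le
    (isJComponent_congr hJS hK') hK'L hne).1 k hk z hz.mem_W⟩

theorem eq_of_same_top_yOf {K K' L : Subgroup G} (hK : Cfsg.IsJComponent T K) (hKM : ¬ K ≤ M)
    (hL : IsTop T K L) (hK' : Cfsg.IsJComponent T K') (hK'L : K' ≤ L) (hY : yOf T K' = yOf T K) : K = K' := by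
  by_contra hne
  obtain ⟨z, hz⟩ := exists_pt h.T_pgroup hK'
  exact pt_not_mem_yOf hK' hz (hY.symm ▸ h.same_top hK hKM hL hK' hK'L hne hz)

theorem exists_sylow : ∃ S : Sylow 2 G, T ≤ (S : Subgroup G) ∧
    Subgroup.normalizer (Cfsg.thompsonSubgroupOf 2 (S : Subgroup G) : Set G) ≤ M := by
  obtain ⟨S, hS⟩ := h.jn
  have hSM : (S : Subgroup G) ≤ M :=
    (Subgroup.le_normalizer.trans (normalizer_le_normalizer_thompson _)).trans hS
  obtain ⟨g, hg, hgT⟩ := exists_cmap_le_sylTwo (sylow_of_le hSM) h.T_pgroup h.T_le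
  refine ⟨g⁻¹ • S, ?_, ?_⟩
  · rw [sylow_smul_coe, ← cmap_inv_cmap g T]
    exact cmap_mono g⁻¹ hgT
  · rw [sylow_smul_coe, thompson_cmap, ← cmap_normalizer]
    exact (cmap_mono g⁻¹ hS).trans (cmap_eq_of_mem_normalizer (Subgroup.le_normalizer (M.inv_mem hg))).le

theorem omega_sylow_le {S : Sylow 2 G} (hTS : T ≤ (S : Subgroup G)) :
    Cfsg.omegaCenterOf (S : Subgroup G) ≤ Cfsg.omegaCenterOf T := by
  obtain ⟨K, hK⟩ := h.exists_outside
  obtain ⟨L, -, -, hctx⟩ := h.exists_top_T hK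
  intro x hx
  obtain ⟨-, h2, h3⟩ := mem_omegaCenterOf.1 hx
  have hxQ : x ∈ qOf L :=
    hctx.cent_le (Subgroup.mem_centralizer_iff.2 fun q hq => h2 q (hTS (hctx.q_le_T hq)))
  exact mem_omegaCenterOf.2 ⟨hctx.q_le_T hxQ, fun t ht => h2 t (hTS ht), h3⟩

theorem omega_sylow_not_le_yOf {S : Sylow 2 G} (hSM : Subgroup.normalizer
    (Cfsg.thompsonSubgroupOf 2 (S : Subgroup G) : Set G) ≤ M) {K : Subgroup G} (hKM : ¬ K ≤ M) :
    ¬ Cfsg.omegaCenterOf (S : Subgroup G) ≤ yOf T K := fun hle =>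
  hKM (fun k hk => hSM (normalizer_le_normalizer_thompson _ (h.cen S
    (Subgroup.mem_centralizer_iff.2 fun x hx => ((mem_yOf.1 (hle hx)).2 k hk).symm))))

/-- If `T` normalises `K` and `|Z₀| ≤ 4`, then `T` centralises `Z₀`. -/
theorem central_of_normalizes {K : Subgroup G} (hK : Cfsg.IsJComponent T K) (h4 : Nat.card ↥(zOf T) ≤ 4)
    (hn : T ≤ Subgroup.normalizer (K : Set G)) : ∀ x ∈ zOf T, ∀ t ∈ T, t * x = x * t := fun _ hx t ht =>
  fix_zOf_of_normalizes h.T_pgroup hK h4 (normalizer_le_normalizer_thompson T (Subgroup.le_normalizer ht)) (hn ht) hx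

end MCtx

end H77
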