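import Cfsg.Agent.H77.JLocalBase

/-!
Roots: an involution `a` of an elementary abelian subgroup of largest order of `T` together with an element `s`
of order 3 that it inverts, acting on `V` as a transvection and a tiny element; computations modulo `O₂(L)`.
-/

set_option autoImplicit false

namespace H77

variable {G : Type*} [Group G]

instance pCoreTwoNormal (X : Type*) [Group X] : (Cfsg.pCore 2 X).Normal := H1.pCore_normal' 2 X

/-- The quotient map `L → L / O₂(L)`. -/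
abbrev bar (L : Subgroup G) : ↥L →* ↥L ⧸ Cfsg.pCore 2 ↥L := QuotientGroup.mk' _

theorem bar_eq_one_iff {L : Subgroup G} (l : ↥L) : bar L l = 1 ↔ (l : G) ∈ qOf L := by
  rw [QuotientGroup.mk'_apply, QuotientGroup.eq_one_iff]
  exact ⟨fun h => ⟨l, h, rfl⟩, fun ⟨z, hz, he⟩ => (show l = z from Subtype.ext he.symm) ▸ hz⟩

variable [Finite G]

theorem psi_eq_of_bar_eq {L : Subgroup G} {l m : ↥L} (h : bar L l = bar L m) : psi L l = psi L m := by
  have h1 : bar L (l * m⁻¹) = 1 := by rw [map_mul, map_inv, h, mul_inv_cancel]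
  have h2 := (psi_eq_one_iff (l * m⁻¹)).2 (qOf_le_cOf L ((bar_eq_one_iff _).1 h1))
  rwa [map_mul, map_inv, mul_inv_eq_one] at h2

/-- A root of `(T, L)`. -/
structure IsRoot (T L : Subgroup G) (a s : ↥L) : Prop where
  a_mem : ∃ A ∈ mea T, (a : G) ∈ A
  s_order : orderOf s = 3
  inv : a * s * a⁻¹ = s⁻¹
  transv : IsTransv ↥(vOf L) (psi L a)
  tiny : IsTiny ↥(vOf L) (psi L s)
  o3 : psi L s ∈ Cfsg.pCore 3 ↥(xImg L)

namespace IsRoot

variable {T L : Subgroup G} {a s : ↥L} (r : IsRoot T L a s)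
include r

theorem a_mem_T : (a : G) ∈ T := by
  obtain ⟨A, hA, ha⟩ := r.a_mem
  exact hA.1 ha

theorem a_mem_J : (a : G) ∈ Cfsg.thompsonSubgroupOf 2 T := by
  obtain ⟨A, hA, ha⟩ := r.a_mem
  exact mea_le_thompson hA ha

theorem a_sq : a * a = 1 := by
  obtain ⟨A, hA, ha⟩ := r.a_mem
  exact Subtype.ext (elem_sq hA.2.1 ha)

theorem a_inv : a⁻¹ = a := inv_eq_of_mul_eq_one_left r.a_sq

theorem s_cube : s ^ 3 = 1 := by rw [← r.s_order]; exact pow_orderOf_eq_one s

theorem bar_conj : bar L a * bar L s * (bar L a)⁻¹ = (bar L s)⁻¹ := by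
  rw [← map_inv, ← map_mul, ← map_mul, r.inv, map_inv]

theorem psi_conj : psi L a * psi L s * (psi L a)⁻¹ = (psi L s)⁻¹ := by
  rw [← map_inv, ← map_mul, ← map_mul, r.inv, map_inv]

theorem conj_mem_zpowers {y : ↥L ⧸ Cfsg.pCore 2 ↥L} (hy : y ∈ Subgroup.zpowers (bar L s)) :
    bar L a * y * (bar L a)⁻¹ ∈ Subgroup.zpowers (bar L s) := by
  obtain ⟨i, rfl⟩ := Subgroup.mem_zpowers_iff.1 hy
  rw [← conj_zpow, r.bar_conj]
  exact zpow_mem (inv_mem (Subgroup.mem_zpowers _)) i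

theorem zpow_psi_eq_one {i : ℤ} (h : psi L s ^ i = 1) : s ^ i = 1 := by
  have h1 : ((orderOf (psi L s) : ℕ) : ℤ) ∣ i := orderOf_dvd_iff_zpow_eq_one.2 h
  rw [r.tiny.1, ← r.s_order] at h1
  exact orderOf_dvd_iff_zpow_eq_one.1 h1

end IsRoot

namespace JCtx

variable {T L : Subgroup G} (h : JCtx T L)
include h

theorem eq_one_of_two_pow {c : ↥L} (hc : psi L c = 1) {k : ℕ} (h2 : bar L c ^ 2 ^ k = 1) : bar L c = 1 := by
  rw [← map_pow, bar_eq_one_iff, SubmonoidClass.coe_pow] at h2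
  obtain ⟨m, hm⟩ := pow_two_pow_of_mem (isPGroup_pCoreOf L) h2
  exact (bar_eq_one_iff c).2 (h.mem_q_of_two_elt ((psi_eq_one_iff c).1 hc) ⟨k + m, by rw [pow_add, pow_mul]; exact hm⟩)

theorem eq_one_of_sq {c : ↥L} (hc : psi L c = 1) (h2 : bar L c * bar L c = 1) : bar L c = 1 :=
  h.eq_one_of_two_pow hc (k := 1) (by rw [pow_one, sq, h2])

theorem commute_ker {c t : ↥L} (hc : psi L c = 1) (ht : (t : G) ∈ T) : Commute (bar L c) (bar L t) := by
  have h1 : bar L (c * t * c⁻¹ * t⁻¹) = 1 :=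
    (bar_eq_one_iff _).2 (h.comm_mem_q ((psi_eq_one_iff c).1 hc) ht)
  rwa [map_mul, map_mul, map_mul, map_inv, map_inv, mul_inv_eq_one, mul_inv_eq_iff_eq_mul] at h1

theorem commute_ker_root {a s : ↥L} (r : IsRoot T L a s) {c : ↥L} (hc : psi L c = 1) :
    Commute (bar L s) (bar L c) := by
  set S := bar L s with hS
  set A := bar L a with hA
  set C := bar L c with hC
  have hs3 : S ^ 3 = 1 := by rw [hS, ← map_pow, r.s_cube, map_one]
  have h1 : Commute C A := h.commute_ker hc r.a_mem_T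
  have hpsi : psi L (s * c * s⁻¹) = 1 := by rw [map_mul, map_mul, hc, mul_one, ← map_mul, mul_inv_cancel, map_one]
  have h2 : Commute (S * C * S⁻¹) A := by
    have := h.commute_ker hpsi r.a_mem_T
    rwa [map_mul, map_mul, map_inv] at this
  have h3 : S⁻¹ * C * S = S * C * S⁻¹ := by
    calc S⁻¹ * C * S = (A * S * A⁻¹) * C * (A * S * A⁻¹)⁻¹ := by rw [r.bar_conj, inv_inv]
      _ = A * S * (A⁻¹ * C * A) * S⁻¹ * A⁻¹ := by group
      _ = A * S * C * S⁻¹ * A⁻¹ := by rw [mul_assoc A⁻¹, h1.eq, inv_mul_cancel_left]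
      _ = (S * C * S⁻¹) * A * A⁻¹ := by rw [h2.eq]; group
      _ = S * C * S⁻¹ := by group
  have h4 : Commute (S ^ 2) C := by
    rw [commute_iff_eq, ← mul_inv_eq_iff_eq_mul]
    calc S ^ 2 * C * (S ^ 2)⁻¹ = S * (S * C * S⁻¹) * S⁻¹ := by rw [pow_two]; group
      _ = S * (S⁻¹ * C * S) * S⁻¹ := by rw [h3]
      _ = C := by group
  have h5 := h4.mul_left h4
  rwa [← pow_add, show 2 + 2 = 3 + 1 from rfl, pow_succ, hs3, one_mul] at h5

theorem decomp {a s : ↥L} (r : IsRoot T L a s) {l : ↥L} (hl : psi L l ∈ Subgroup.zpowers (psi L s)) :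
    ∃ (c : ↥L) (i : ℤ), psi L c = 1 ∧ bar L l = bar L c * bar L s ^ i ∧ Commute (bar L s) (bar L c) := by
  obtain ⟨i, hi⟩ := Subgroup.mem_zpowers_iff.1 hl
  have hc : psi L (l * (s ^ i)⁻¹) = 1 := by rw [map_mul, map_inv, map_zpow, hi, mul_inv_cancel]
  refine ⟨l * (s ^ i)⁻¹, i, hc, ?_, h.commute_ker_root r hc⟩
  rw [map_mul, map_inv, map_zpow, inv_mul_cancel_right]

/-- Elements of `T` normalising the image of `s` on `V` normalise it modulo `O₂(L)`. -/
theorem normalize_root {a s : ↥L} (r : IsRoot T L a s) {j : ↥L} (hj : (j : G) ∈ T)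
    (hn : psi L j * psi L s * (psi L j)⁻¹ ∈ Subgroup.zpowers (psi L s)) :
    bar L j * bar L s * (bar L j)⁻¹ ∈ Subgroup.zpowers (bar L s) := by
  have plus : ∀ j : ↥L, (j : G) ∈ T → psi L j * psi L s * (psi L j)⁻¹ = psi L s →
      bar L j * bar L s * (bar L j)⁻¹ = bar L s := by
    intro j hj he
    set c := j * s * j⁻¹ * s⁻¹ with hcdef
    have hc : psi L c = 1 := by rw [hcdef, map_mul, map_mul, map_mul, map_inv, map_inv, he, mul_inv_cancel]
    have hcj : Commute (bar L c) (bar L j) := h.commute_ker hc hj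
    have hjs : bar L j * bar L s * (bar L j)⁻¹ = bar L c * bar L s := by
      rw [hcdef, map_mul, map_mul, map_mul, map_inv, map_inv, inv_mul_cancel_right]
    have hit : ∀ n : ℕ, bar L j ^ n * bar L s * (bar L j ^ n)⁻¹ = bar L c ^ n * bar L s := by
      intro n
      induction n with
      | zero => simp
      | succ n ih =>
        calc bar L j ^ (n + 1) * bar L s * (bar L j ^ (n + 1))⁻¹
            = bar L j * (bar L j ^ n * bar L s * (bar L j ^ n)⁻¹) * (bar L j)⁻¹ := by rw [pow_succ']; group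
          _ = bar L j * bar L c ^ n * (bar L j)⁻¹ * (bar L j * bar L s * (bar L j)⁻¹) := by rw [ih]; group
          _ = bar L c ^ n * (bar L c * bar L s) := by
            rw [hjs, ← (hcj.pow_left n).eq, mul_inv_cancel_right]
          _ = bar L c ^ (n + 1) * bar L s := by rw [pow_succ]; group
    obtain ⟨k, hk⟩ := pow_two_pow_of_mem h.T_pgroup hj
    have hjk : bar L j ^ 2 ^ k = 1 := by
      rw [← map_pow, show j ^ 2 ^ k = 1 from Subtype.ext (by rw [SubmonoidClass.coe_pow, hk, OneMemClass.coe_one]), map_one]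
    have h1 := hit (2 ^ k)
    rw [hjk, one_mul, inv_one, mul_one, eq_comm, mul_eq_right] at h1
    rw [hjs, h.eq_one_of_two_pow hc h1, one_mul]
  by_cases hid : psi L j * psi L s * (psi L j)⁻¹ = psi L s
  · rw [plus j hj hid]; exact Subgroup.mem_zpowers _
  have hne : psi L j * psi L s * (psi L j)⁻¹ ≠ 1 := by
    intro h1
    rw [conj_eq_one_iff] at h1
    have := r.tiny.1
    rw [h1, orderOf_one] at this
    omega
  have hinv : psi L j * psi L s * (psi L j)⁻¹ = (psi L s)⁻¹ :=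
    (eq_or_eq_inv_of_mem_zpowers r.tiny.1 hn hne).resolve_left hid
  have h1 : psi L (a * j) * psi L s * (psi L (a * j))⁻¹ = psi L s := by
    calc psi L (a * j) * psi L s * (psi L (a * j))⁻¹
        = psi L a * (psi L j * psi L s * (psi L j)⁻¹) * (psi L a)⁻¹ := by rw [map_mul]; group
      _ = (psi L a * psi L s * (psi L a)⁻¹)⁻¹ := by rw [hinv]; group
      _ = psi L s := by rw [r.psi_conj, inv_inv]
  have h2 := plus (a * j) (T.mul_mem r.a_mem_T hj) h1
  have h3 : bar L j * bar L s * (bar L j)⁻¹ = bar L a * bar L s * (bar L a)⁻¹ := by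
    calc bar L j * bar L s * (bar L j)⁻¹
        = (bar L a)⁻¹ * (bar L (a * j) * bar L s * (bar L (a * j))⁻¹) * bar L a := by rw [map_mul]; group
      _ = _ := by rw [h2, ← map_inv, r.a_inv]
  rw [h3, r.bar_conj]
  exact inv_mem (Subgroup.mem_zpowers _)

/-- An element over the image of `s` inverted by an element of `T` is a power of `s` modulo `O₂(L)`. -/
theorem inverted_mem {a s : ↥L} (r : IsRoot T L a s) {l b : ↥L}
    (hl : psi L l ∈ Subgroup.zpowers (psi L s)) (hb : (b : G) ∈ T)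
    (hinv : bar L b * bar L l * (bar L b)⁻¹ = (bar L l)⁻¹) : bar L l ∈ Subgroup.zpowers (bar L s) := by
  obtain ⟨c, i, hc, hci, hsc⟩ := h.decomp r hl
  by_cases hl1 : psi L l = 1
  · have h1 := (h.commute_ker hl1 hb).symm
    rw [h1.eq, mul_inv_cancel_right, eq_inv_iff_mul_eq_one] at hinv
    rw [h.eq_one_of_sq hl1 hinv]
    exact one_mem _
  have hx : Subgroup.zpowers (psi L s) = Subgroup.zpowers (psi L l) :=
    (zpowers_eq_of_mem r.tiny.1 (by
      rcases eq_or_eq_inv_of_mem_zpowers r.tiny.1 hl hl1 with e | e <;> rw [e]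
      · exact r.tiny.1
      · rw [orderOf_inv]; exact r.tiny.1) hl).symm
  have hpb : psi L b * psi L l * (psi L b)⁻¹ = (psi L l)⁻¹ := by
    rw [← map_inv, ← map_mul, ← map_mul, ← map_inv]
    refine psi_eq_of_bar_eq ?_
    rwa [map_inv, map_mul, map_mul, map_inv]
  have hn : psi L b * psi L s * (psi L b)⁻¹ ∈ Subgroup.zpowers (psi L s) := by
    obtain ⟨m, hm⟩ := Subgroup.mem_zpowers_iff.1 (hx ▸ Subgroup.mem_zpowers (psi L s) :
      psi L s ∈ Subgroup.zpowers (psi L l))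
    rw [hx, ← hm, ← conj_zpow, hpb]
    exact zpow_mem (inv_mem (Subgroup.mem_zpowers _)) m
  obtain ⟨e, he⟩ := Subgroup.mem_zpowers_iff.1 (h.normalize_root r hb hn)
  have hcb := h.commute_ker hc hb
  have h1 : bar L b * bar L l * (bar L b)⁻¹ = bar L c * bar L s ^ (e * i) := by
    rw [hci, ← conj_mul, ← hcb.eq, mul_inv_cancel_right, ← conj_zpow, ← he, ← zpow_mul]
  rw [h1, hci] at hinv
  have h2 : bar L c * bar L c = bar L s ^ (-(e * i) + -i) := by
    have h3 : bar L c * bar L s ^ (e * i) * (bar L c * bar L s ^ i) = 1 := by rw [hinv, inv_mul_cancel]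
    rw [(hsc.zpow_left (e * i)).mul_mul_mul_comm, ← zpow_add] at h3
    rw [eq_inv_of_mul_eq_one_left h3, ← zpow_neg, neg_add]
  have h4 : psi L (c * c) = psi L (s ^ (-(e * i) + -i)) := psi_eq_of_bar_eq (by rw [map_mul, map_zpow, h2])
  rw [map_mul, hc, one_mul, map_zpow, eq_comm] at h4
  rw [← map_zpow, r.zpow_psi_eq_one h4, map_one] at h2
  rw [hci, h.eq_one_of_sq hc h2, one_mul]
  exact Subgroup.zpow_mem _ (Subgroup.mem_zpowers _) i

/-- Commutators with the tiny group stay in the root. -/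
theorem comm_root_mem {a s : ↥L} (r : IsRoot T L a s) {m : ↥L}
    (hm : psi L m ∈ tinyGroup (X := ↥(xImg L)) ↥(vOf L)) :
    bar L (a * m * a⁻¹ * m⁻¹) ∈ Subgroup.zpowers (bar L s) := by
  refine h.inverted_mem r ?_ r.a_mem_T ?_
  · rw [map_mul, map_mul, map_mul, map_inv, map_inv]
    exact transv_commutator_mem omega_sq r.transv r.tiny r.o3 r.psi_conj hm
  · rw [← map_inv, ← map_mul, ← map_mul, ← map_inv]
    refine congrArg (bar L) ?_
    calc a * (a * m * a⁻¹ * m⁻¹) * a⁻¹ = (a * a) * m * a⁻¹ * m⁻¹ * a⁻¹ := by group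
      _ = m * a * m⁻¹ * a⁻¹ := by
        rw [r.a_sq, one_mul]; nth_rw 1 [r.a_inv]
      _ = (a * m * a⁻¹ * m⁻¹)⁻¹ := by group

/-- The preimage of the tiny group centralises a root modulo `O₂(L)`. -/
theorem tiny_commute_root {a s : ↥L} (r : IsRoot T L a s) {m : ↥L}
    (hm : psi L m ∈ tinyGroup (X := ↥(xImg L)) ↥(vOf L)) : Commute (bar L m) (bar L s) := by
  haveI := tinyGroup_normal (X := ↥(xImg L)) (V := ↥(vOf L))
  set c := m * s * m⁻¹ * s⁻¹ with hcdef
  have hsM : psi L s ∈ tinyGroup (X := ↥(xImg L)) ↥(vOf L) := Subgroup.subset_closure ⟨r.tiny, r.o3⟩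
  have hc : psi L c = 1 := by
    rw [hcdef, map_mul, map_mul, map_mul, map_inv, map_inv, (tinyGroup_commute omega_sq hm hsM).eq,
      mul_inv_cancel_right, mul_inv_cancel]
  set A := bar L a with hA
  set M := bar L m with hM
  set S := bar L s with hS
  set C := bar L c with hC
  have hms : M * S * M⁻¹ = C * S := by
    rw [hC, hcdef, map_mul, map_mul, map_mul, map_inv, map_inv, inv_mul_cancel_right]
  set U := bar L (a * m * a⁻¹ * m⁻¹) with hU
  obtain ⟨k, hk⟩ := Subgroup.mem_zpowers_iff.1 (h.comm_root_mem r hm)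
  have hcs := h.commute_ker_root r hc
  have hk : S ^ k = U := hk
  have hUS : Commute U S := hk ▸ (Commute.refl S).zpow_left k
  have hUC : Commute U C := hk ▸ hcs.zpow_left k
  have ham : A * M * A⁻¹ = U * M := by
    rw [hU, map_mul, map_mul, map_mul, map_inv, map_inv, inv_mul_cancel_right]
  have hca : Commute C A := h.commute_ker hc r.a_mem_T
  have h1 : C * S⁻¹ = C⁻¹ * S⁻¹ := by
    calc C * S⁻¹ = C * (A * S * A⁻¹) := by rw [r.bar_conj]
      _ = A * (C * S) * A⁻¹ := by rw [← mul_assoc, ← mul_assoc, hca.eq]; group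
      _ = (A * M * A⁻¹) * (A * S * A⁻¹) * (A * M * A⁻¹)⁻¹ := by rw [← hms]; group
      _ = U * (M * S * M⁻¹)⁻¹ * U⁻¹ := by rw [ham, show A * S * A⁻¹ = S⁻¹ from r.bar_conj]; group
      _ = U * (C⁻¹ * S⁻¹) * U⁻¹ := by rw [hms, mul_inv_rev, (hcs.inv_inv).eq]
      _ = C⁻¹ * S⁻¹ := by rw [(hUC.inv_right.mul_right hUS.inv_right).eq, mul_inv_cancel_right]
  have h2 : C * C = 1 := by
    rw [mul_left_inj] at h1
    nth_rw 1 [h1]
    exact inv_mul_cancel C
  have h3 := h.eq_one_of_sq hc h2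
  rw [← hC] at h3
  rw [h3, one_mul, mul_inv_eq_iff_eq_mul] at hms
  exact hms

/-- Existence of roots over inverting transvections. -/
theorem exists_root {A : Subgroup G} (hA : A ∈ mea T) {a' x : ↥(xImg L)}
    (ha : a' ∈ imgOf (le_normalizer_vOf L) A) (htr : IsTransv ↥(vOf L) a') (hx : IsTiny ↥(vOf L) x)
    (hx3 : x ∈ Cfsg.pCore 3 ↥(xImg L)) (hinv : a' * x * a'⁻¹ = x⁻¹) :
    ∃ a s : ↥L, IsRoot T L a s ∧ psi L a = a' ∧ psi L s = x := by
  obtain ⟨a, haA, rfl⟩ := (mem_imgOf _).1 ha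
  obtain ⟨k0, rfl⟩ := imgHom_surjective (le_normalizer_vOf L) x
  have ha2 : a * a = 1 := Subtype.ext (elem_sq hA.2.1 haA)
  have hai : a⁻¹ = a := inv_eq_of_mul_eq_one_left ha2
  set s0 := a * k0 * a⁻¹ * k0⁻¹ with hs0
  have hx' : psi L k0 ^ 3 = 1 := by rw [← hx.1]; exact pow_orderOf_eq_one _
  have hps0 : psi L s0 = psi L k0 := by
    rw [hs0, map_mul, map_mul, map_mul, map_inv, map_inv, hinv, ← mul_inv_rev, inv_eq_iff_mul_eq_one,
      ← pow_three', hx']
  have hinv0 : a * s0 * a⁻¹ = s0⁻¹ := by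
    calc a * s0 * a⁻¹ = (a * a) * k0 * a⁻¹ * k0⁻¹ * a⁻¹ := by rw [hs0]; group
      _ = k0 * a * k0⁻¹ * a⁻¹ := by rw [ha2, one_mul]; nth_rw 1 [hai]
      _ = s0⁻¹ := by rw [hs0]; group
  have hz : psi L (s0 ^ 3) = 1 := by rw [map_pow, hps0, hx']
  have hzinv : a * s0 ^ 3 * a⁻¹ = (s0 ^ 3)⁻¹ := by rw [← conj_pow, hinv0, inv_pow]
  have hzq : bar L (s0 ^ 3) = 1 := by
    refine h.eq_one_of_sq hz ?_
    have h1 := (h.commute_ker hz (hA.1 haA)).symm
    have h2 : bar L a * bar L (s0 ^ 3) * (bar L a)⁻¹ = (bar L (s0 ^ 3))⁻¹ := by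
      rw [← map_inv, ← map_mul, ← map_mul, hzinv, map_inv]
    rw [h1.eq, mul_inv_cancel_right, eq_inv_iff_mul_eq_one] at h2
    exact h2
  obtain ⟨k, hk⟩ := pow_two_pow_of_mem (isPGroup_pCoreOf L) ((bar_eq_one_iff _).1 hzq)
  rw [SubmonoidClass.coe_pow, ← pow_mul] at hk
  refine ⟨a, s0 ^ 4 ^ k, ?_, rfl, ?_⟩
  swap
  · rw [map_pow, hps0]
    have h4 : 4 ^ k % 3 = 1 := by rw [Nat.pow_mod]; simp
    rw [← pow_mod_orderOf, hx.1, h4, pow_one]
  have hps : psi L (s0 ^ 4 ^ k) = psi L k0 := by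
    rw [map_pow, hps0]
    have h4 : 4 ^ k % 3 = 1 := by rw [Nat.pow_mod]; simp
    rw [← pow_mod_orderOf, hx.1, h4, pow_one]
  refine ⟨⟨A, hA, haA⟩, ?_, by rw [← conj_pow, hinv0, inv_pow], htr, hps ▸ hx, hps ▸ hx3⟩
  haveI : Fact (Nat.Prime 3) := ⟨Nat.prime_three⟩
  refine orderOf_eq_prime (Subtype.ext ?_) fun h1 => ?_
  · rw [SubmonoidClass.coe_pow, SubmonoidClass.coe_pow, ← pow_mul, OneMemClass.coe_one,
      show 4 ^ k * 3 = 3 * 2 ^ k * 2 ^ k by rw [show 4 = 2 * 2 from rfl, mul_pow]; ring, pow_mul, hk, one_pow]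
  · rw [h1, map_one] at hps
    have := hx.1
    rw [← hps, orderOf_one] at this
    omega

end JCtx

end H77
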