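import Cfsg.Agent.H77.JData
import Cfsg.Agent.H6.Basic

/-!
`Z₀ = Ω₁(Z(J(T)))` against a component: `|Z₀ ∩ W| = 2` and `Z₀` splits.
-/

set_option autoImplicit false

namespace H77

variable {G : Type*} [Group G] [Finite G]

theorem commute_of_mem_centralizer {H : Subgroup G} {x h : G} (hx : x ∈ Subgroup.centralizer (H : Set G))
    (hh : h ∈ H) : Commute x h :=
  (Subgroup.mem_centralizer_iff.1 hx h hh).symm

theorem jcomp_split {T K : Subgroup G} (hT : IsPGroup 2 ↥T) (hK : Cfsg.IsJComponent T K) :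
    Nat.card ↥(Cfsg.omegaCenterOf (Cfsg.thompsonSubgroupOf 2 T) ⊓ Cfsg.wOf K : Subgroup G) = 2 ∧
      (Cfsg.omegaCenterOf (Cfsg.thompsonSubgroupOf 2 T) ⊓ ((K ⊔ Cfsg.thompsonSubgroupOf 2 T) ⊓
          Subgroup.centralizer ((K ⊔ Cfsg.thompsonSubgroupOf 2 T : Subgroup G) : Set G))) ⊔
        (Cfsg.omegaCenterOf (Cfsg.thompsonSubgroupOf 2 T) ⊓ Cfsg.wOf K) =
      Cfsg.omegaCenterOf (Cfsg.thompsonSubgroupOf 2 T) := by
  classical
  haveI : Fact (Nat.Prime 2) := ⟨Nat.prime_two⟩
  obtain ⟨s, hs3, hdec, htiny, hW⟩ := jcomp_data hK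
  set J := Cfsg.thompsonSubgroupOf 2 T with hJ
  set X := K ⊔ J with hX
  set W := Cfsg.wOf K with hWdef
  set R := Cfsg.pCoreOf 2 K with hRdef
  set UK := Cfsg.omegaCenterOf R with hUK
  set Z0 := Cfsg.omegaCenterOf J with hZ0
  set pK := imgHom (le_normalizer_omega_core K) with hpK
  have hWc : Nat.card ↥W = 4 := hK.2.2.2.2.1
  have hWsq : ∀ w ∈ W, w * w = 1 := hK.2.2.2.2.2
  have hJK : J ≤ Subgroup.normalizer (K : Set G) := jcomp_J_le_normalizer hK
  have hXK : X ≤ Subgroup.normalizer (K : Set G) := sup_le Subgroup.le_normalizer hJK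
  have hXW : X ≤ Subgroup.normalizer (W : Set G) := hXK.trans (normalizer_le_normalizer_wOf K)
  -- `s` moves every nontrivial point of `W`
  have hmove : ∀ w ∈ W, w ≠ 1 → (s : G) * w * (s : G)⁻¹ ≠ w := by
    intro w hw hw1 he
    rw [hW] at hw
    obtain ⟨v, hv, rfl⟩ := hw
    have hfix : pK s • v = v := Subtype.ext he
    exact hw1 (by rw [range_disp_fix_eq_one omega_sq htiny.odd hv hfix]; rfl)
  have hXodd : ∀ x ∈ X, Odd (orderOf x) → x ∈ K := fun x hx ho =>
    mem_of_odd_of_mem_sup (hT.to_le (thompson_le T)) hJK (by rw [sup_comm]; exact hx) ho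
  set RX := Cfsg.pCoreOf 2 X with hRX
  have hRXW : ∀ y ∈ X, y ∈ Subgroup.centralizer (W : Set G) → y ∈ RX := by
    have hn : X ≤ Subgroup.normalizer ((X ⊓ Subgroup.centralizer (W : Set G) : Subgroup G) : Set G) := by
      refine (le_inf Subgroup.le_normalizer ?_).trans Subgroup.inf_normalizer_le_normalizer_inf
      intro g hg
      refine mem_normalizer_of_forall fun c hc => Subgroup.mem_centralizer_iff.2 fun w hw => ?_
      have hw' : g⁻¹ * w * g ∈ W := by
        have := (Subgroup.mem_normalizer_iff.1 (inv_mem (hXW hg)) w).1 hw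
        rwa [inv_inv] at this
      have h1 := Subgroup.mem_centralizer_iff.1 hc _ hw'
      calc w * (g * c * g⁻¹) = g * ((g⁻¹ * w * g) * c) * g⁻¹ := by group
        _ = g * (c * (g⁻¹ * w * g)) * g⁻¹ := by rw [h1]
        _ = g * c * g⁻¹ * w := by group
    have hp : IsPGroup 2 ↥(X ⊓ Subgroup.centralizer (W : Set G) : Subgroup G) := by
      refine isPGroup_of_pPrime_trivial fun k hk hco => ?_
      obtain ⟨hkX, hkC⟩ := Subgroup.mem_inf.1 hk
      have ho : Odd (orderOf k) := Nat.not_even_iff_odd.1 fun e => hco (even_iff_two_dvd.1 e)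
      have hkK := hXodd k hkX ho
      obtain ⟨i, hi⟩ := hdec k hkK
      have h1 : pK ⟨k, hkK⟩ = pK s ^ i := by
        have h2 : pK (⟨k, hkK⟩ * (s ^ i)⁻¹) = 1 := by
          rw [imgHom_eq_one_iff, Subgroup.mem_centralizer_iff]
          exact fun v hv => ((mem_omegaCenterOf.1 hv).2.1 _ hi).symm
        rwa [map_mul, map_inv, map_zpow, mul_inv_eq_one] at h2
      obtain ⟨v, hv, hv1⟩ : ∃ v ∈ (disp (pK s) : ↥UK →* ↥UK).range, v ≠ 1 := by
        refine (Subgroup.bot_or_exists_ne_one _).resolve_left fun h0 => ?_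
        have h4 := htiny.2
        rw [h0, Subgroup.card_bot] at h4
        omega
      have hvW : (v : G) ∈ W := by rw [hW]; exact ⟨v, hv, rfl⟩
      have hfix : pK ⟨k, hkK⟩ • v = v :=
        (smul_eq_iff _ _ v).2 (commute_of_mem_centralizer hkC hvW).eq
      rw [h1] at hfix
      have hkR : k ∈ R := by
        by_cases hi1 : pK s ^ i = 1
        · have h3 : ((orderOf (pK s) : ℕ) : ℤ) ∣ i := orderOf_dvd_iff_zpow_eq_one.2 hi1
          rw [htiny.1] at h3
          obtain ⟨m, rfl⟩ := h3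
          have h4 : (s : G) ^ ((3 : ℕ) * m : ℤ) ∈ R := by
            rw [zpow_mul, zpow_natCast]; exact zpow_mem hs3 m
          have := mul_mem hi h4
          rwa [inv_mul_cancel_right] at this
        · exfalso
          rcases eq_or_eq_inv_of_mem_zpowers htiny.1 (zpow_mem (Subgroup.mem_zpowers (pK s)) i) hi1 with e | e <;>
            rw [e] at hfix
          · exact hv1 (range_disp_fix_eq_one omega_sq htiny.odd hv hfix)
          · exact hv1 (range_disp_fix_eq_one omega_sq htiny.odd hv (by nth_rw 1 [← hfix]; rw [smul_inv_smul]))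
      obtain ⟨n, hn⟩ := pow_two_pow_of_mem (isPGroup_pCoreOf K) hkR
      exact eq_one_of_two_pow_of_odd hn ho
    exact fun y hy hyc => le_pCoreOf inf_le_left hp hn (Subgroup.mem_inf.2 ⟨hy, hyc⟩)
  obtain ⟨S, hS, hJS⟩ := exists_sylTwo_ge (hT.to_le (thompson_le T)) (le_sup_right : J ≤ X)
  have hJSeq : Cfsg.thompsonSubgroupOf 2 S = J := hK.2.2.2.1 S hS hJS
  have haS : Cfsg.maxElemAbelianOrder S ≤ Cfsg.maxElemAbelianOrder T := by
    rw [← maxOrder_eq_of_thompson_le (thompson_le S) le_rfl, hJSeq]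
    exact maxOrder_mono (thompson_le T)
  have hmeaS : ∀ A ∈ mea T, A ∈ mea S := fun A hA =>
    mem_mea_of_maxOrder_le hA ((mea_le_thompson hA).trans hJS) haS
  have hRXS : RX ≤ S := pCoreOf_le_sylTwo hS
  -- `W` lies in the 2-core and has a fixed point of `J`
  have hWRX : W ≤ RX := fun w hw => hRXW w
    (Subgroup.mem_sup_left (pCoreOf_le K (omegaCenterOf_le _ (wOf_le_omega K hw))))
    (Subgroup.mem_centralizer_iff.2 fun v hv =>
      elem_comm (omegaCenterOf_elem R) (wOf_le_omega K hv) (wOf_le_omega K hw))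
  have hWS : W ≤ S := hWRX.trans hRXS
  have hnotW : ¬ J ≤ Subgroup.centralizer (W : Set G) := fun hJC =>
    jcomp_not_J_le_pCoreOf hK (le_sup_left : K ≤ X) fun j hj => hRXW j (Subgroup.mem_sup_right hj) (hJC hj)
  obtain ⟨A, hA, hAW⟩ : ∃ A ∈ mea T, ¬ A ≤ Subgroup.centralizer (W : Set G) := by
    by_contra hcon
    push Not at hcon
    exact hnotW (by rw [hJ, thompson_eq]; exact sSup_le hcon)
  -- the fixed point
  obtain ⟨z, hz, hz1, hzS⟩ : ∃ z ∈ W, z ≠ 1 ∧ ∀ y ∈ S, y * z = z * y := by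
    haveI := hS.2.1.isNilpotent
    have hn : (W.subgroupOf S).Normal :=
      (Subgroup.normal_subgroupOf_iff_le_normalizer hWS).2 (hS.1.trans hXW)
    have hne : W.subgroupOf S ≠ ⊥ := by
      rw [Ne, Subgroup.subgroupOf_eq_bot, disjoint_iff, inf_eq_left.2 hWS]
      exact jcomp_wOf_ne_bot hK
    obtain ⟨v, hv1, hvW, hvZ⟩ : ∃ v : ↥S, v ≠ 1 ∧ v ∈ W.subgroupOf S ∧ v ∈ Subgroup.center ↥S := by
      by_contra hcon
      push Not at hcon
      haveI := hn
      refine H6.inf_center_ne_bot hS.2.1 (N := W.subgroupOf S) hne ?_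
      exact eq_bot_iff.2 fun v hv => Subgroup.mem_bot.2 (by
        by_contra hv1
        exact hcon v hv1 (Subgroup.mem_inf.1 hv).1 (Subgroup.mem_inf.1 hv).2)
    exact ⟨v, hvW, fun h1 => hv1 (Subtype.ext h1),
      fun y hy => congrArg Subtype.val (Subgroup.mem_center_iff.1 hvZ ⟨y, hy⟩)⟩
  have hJz : ∀ y ∈ J, y * z = z * y := fun y hy => hzS y (hJS hy)
  have hzA : ∀ A' ∈ mea T, z ∈ A' := fun A' hA' =>
    le_mea_of_commute (hmeaS A' hA') (hWS hz) (hWsq z hz)
      (fun y hy => hJz y (mea_le_thompson hA' hy))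
  have hzZ0 : z ∈ Z0 := by
    rw [hZ0, hJ, omegaCenter_thompson]
    exact Subgroup.mem_sInf.2 hzA
  obtain ⟨a, haA, haW⟩ := SetLike.not_le_iff_exists.1 hAW
  have haJ : a ∈ J := mea_le_thompson hA haA
  have haX : a ∈ X := Subgroup.mem_sup_right haJ
  -- points of `W` fixed by `a`
  have hWfix : ∀ b ∈ X, b ∉ Subgroup.centralizer (W : Set G) → b * z = z * b →
      ∀ w ∈ W, b * w = w * b → w = 1 ∨ w = z := by
    intro b hb hbW hbz w hw hbw
    by_contra hcon
    push Not at hcon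
    have hset : ({1, z, w, z * w} : Set G) = (W : Set G) := by
      refine Set.eq_of_subset_of_ncard_le ?_ ?_ (Set.toFinite _)
      · rintro y (rfl | rfl | rfl | rfl)
        · exact W.one_mem
        · exact hz
        · exact hw
        · exact W.mul_mem hz hw
      · rw [← Nat.card_coe_set_eq, SetLike.coe_sort_coe, hWc]
        refine le_of_eq (Set.ncard_eq_four.2 ⟨1, z, w, z * w, Ne.symm hz1, Ne.symm hcon.1, ?_, Ne.symm hcon.2,
          ?_, ?_, rfl⟩).symm
        · intro e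
          exact hcon.2 ((inv_eq_of_mul_eq_one_right e.symm).symm.trans (inv_eq_of_mul_eq_one_right (hWsq z hz)))
        · intro e
          exact hcon.1 (by simpa using e.symm)
        · intro e
          exact hz1 (by simpa using e.symm)
    refine hbW (Subgroup.mem_centralizer_iff.2 fun y hy => ?_)
    have hy' : y ∈ ({1, z, w, z * w} : Set G) := hset ▸ hy
    rcases hy' with rfl | rfl | rfl | rfl
    · simp
    · exact hbz.symm
    · exact hbw.symm
    · exact ((show Commute b z from hbz).mul_right hbw).eq.symm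
  have hZ0W : ∀ w, w ∈ Z0 ⊓ W ↔ (w = 1 ∨ w = z) := by
    intro w
    constructor
    · intro hw
      obtain ⟨hw0, hwW⟩ := Subgroup.mem_inf.1 hw
      exact hWfix a haX haW (hJz a haJ) w hwW ((mem_omegaCenterOf.1 hw0).2.1 a haJ)
    · rintro (rfl | rfl)
      · exact Subgroup.one_mem _
      · exact Subgroup.mem_inf.2 ⟨hzZ0, hz⟩
  refine ⟨?_, ?_⟩
  · rw [← SetLike.coe_sort_coe, Nat.card_coe_set_eq,
      show ((Z0 ⊓ W : Subgroup G) : Set G) = {1, z} from Set.ext fun w => by
        rw [SetLike.mem_coe, hZ0W]; simp, Set.ncard_pair (Ne.symm hz1)]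
  -- the member `A*`
  set B := A ⊓ Subgroup.centralizer (W : Set G) with hB
  have hBRX : B ≤ RX := fun b hb =>
    hRXW b (Subgroup.mem_sup_right (mea_le_thompson hA (Subgroup.mem_inf.1 hb).1)) (Subgroup.mem_inf.1 hb).2
  have hBc : ∀ b ∈ B, ∀ w ∈ W, b * w = w * b := fun b hb w hw =>
    (commute_of_mem_centralizer (Subgroup.mem_inf.1 hb).2 hw).eq
  have hWel : Cfsg.IsElementaryAbelian 2 W := elem_of_le (omegaCenterOf_elem R) (wOf_le_omega K)
  set A' := B ⊔ W with hA'
  have hA'el : Cfsg.IsElementaryAbelian 2 A' := elem_sup (elem_of_le hA.2.1 inf_le_left) hWel hBc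
  have hAB : Nat.card ↥A ≤ 2 * Nat.card ↥B := by
    have hcov : ∀ b ∈ A, b ∈ B ∨ a * b ∈ B := by
      intro b hb
      by_cases hbW : b ∈ Subgroup.centralizer (W : Set G)
      · exact Or.inl (Subgroup.mem_inf.2 ⟨hb, hbW⟩)
      refine Or.inr (Subgroup.mem_inf.2 ⟨A.mul_mem haA hb, Subgroup.mem_centralizer_iff.2 fun w hw => ?_⟩)
      have hbX : b ∈ X := Subgroup.mem_sup_right (mea_le_thompson hA hb)
      -- both act on `W` as the transvection fixing `z`
      have act : ∀ c ∈ A, c ∉ Subgroup.centralizer (W : Set G) → ∀ v ∈ W, v ≠ 1 → v ≠ z →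
          c * v * c⁻¹ = z * v := by
        intro c hc hcW v hv hv1 hvz
        have hcX : c ∈ X := Subgroup.mem_sup_right (mea_le_thompson hA hc)
        have hcz := hJz c (mea_le_thompson hA hc)
        set u := c * v * c⁻¹ with hu
        have huW : u ∈ W := (Subgroup.mem_normalizer_iff.1 (hXW hcX) v).1 hv
        have hcc : c * c = 1 := elem_sq hA.2.1 hc
        have hne : u ≠ v := fun e => (hWfix c hcX hcW hcz v hv (mul_inv_eq_iff_eq_mul.1 e)).elim hv1 hvz
        have hci : c⁻¹ = c := inv_eq_of_mul_eq_one_left hcc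
        have hprod : c * (u * v) = (u * v) * c := by
          rw [← mul_inv_eq_iff_eq_mul]
          calc c * (u * v) * c⁻¹ = (c * c) * v * (c⁻¹ * c⁻¹) * (c * v * c⁻¹) := by rw [hu]; group
            _ = v * u := by rw [hcc, ← mul_inv_rev, hcc, hu]; group
            _ = u * v := elem_comm hWel hv huW
        have := hWfix c hcX hcW hcz (u * v) (W.mul_mem huW hv) hprod
        rcases this with e | e
        · exact absurd ((eq_inv_of_mul_eq_one_left e).trans (inv_eq_of_mul_eq_one_right (hWsq v hv))) hne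
        · calc u = u * (v * v) := by rw [hWsq v hv, mul_one]
            _ = z * v := by rw [← mul_assoc, e]
      rcases eq_or_ne w 1 with rfl | hw1
      · simp
      rcases eq_or_ne w z with rfl | hwz
      · exact ((show Commute a w from hJz a haJ).mul_left (hJz b (mea_le_thompson hA hb))).eq.symm
      have e1 := act b hb hbW w hw hw1 hwz
      have hzw : z * w ∈ W := W.mul_mem hz hw
      have e2 := act a haA haW (z * w) hzw
        (fun e => hwz ((inv_eq_of_mul_eq_one_right e).symm.trans (inv_eq_of_mul_eq_one_right (hWsq z hz))))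
        (fun e => hw1 (by simpa using e))
      rw [← mul_assoc z z w, hWsq z hz, one_mul] at e2
      symm
      rw [← mul_inv_eq_iff_eq_mul]
      calc a * b * w * (a * b)⁻¹ = a * (b * w * b⁻¹) * a⁻¹ := by group
        _ = w := by rw [e1, e2]
    let f : ↥A → ↥B ⊕ ↥B := fun b =>
      if hb : (b : G) ∈ B then Sum.inl ⟨b, hb⟩ else Sum.inr ⟨a * b, (hcov b b.2).resolve_left hb⟩
    have hf : Function.Injective f := by
      intro b c h
      simp only [f] at h
      split_ifs at h with h1 h2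
      · exact Subtype.ext (congrArg (Sum.elim (fun y : ↥B => (y : G)) (fun y : ↥B => (y : G))) h :)
      · exact Subtype.ext (mul_left_cancel (congrArg (Sum.elim (fun y : ↥B => (y : G)) (fun y : ↥B => (y : G))) h :))
    have := Nat.card_le_card_of_injective f hf
    rw [Nat.card_sum] at this
    omega
  have hA'card : Nat.card ↥A ≤ Nat.card ↥A' := by
    have h1 := card_sup_mul_card_inf hBc
    rw [← hA', hWc] at h1
    have h2 : Nat.card ↥(B ⊓ W : Subgroup G) ≤ 2 := by
      have hle : ((B ⊓ W : Subgroup G) : Set G) ⊆ {1, z} := by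
        intro w hw
        obtain ⟨hwB, hwW⟩ := Subgroup.mem_inf.1 hw
        rcases hWfix a haX haW (hJz a haJ) w hwW (elem_comm hA.2.1 haA (Subgroup.mem_inf.1 hwB).1) with e | e <;>
          simp [e]
      rw [← SetLike.coe_sort_coe, Nat.card_coe_set_eq]
      exact (Set.ncard_le_ncard hle (Set.toFinite _)).trans (Set.ncard_pair (Ne.symm hz1)).le
    have h3 : Nat.card ↥A * 2 ≤ Nat.card ↥A' * 2 := by
      calc Nat.card ↥A * 2 ≤ 2 * Nat.card ↥B * 2 := Nat.mul_le_mul_right _ hAB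
        _ = Nat.card ↥B * 4 := by ring
        _ = Nat.card ↥A' * Nat.card ↥(B ⊓ W : Subgroup G) := h1.symm
        _ ≤ Nat.card ↥A' * 2 := Nat.mul_le_mul_left _ h2
    omega
  have hA'RX : A' ≤ RX := sup_le hBRX hWRX
  have hA'S : A' ∈ mea S := ⟨hA'RX.trans hRXS, hA'el, fun C hC hC' => ((hmeaS A hA).2.2 C hC hC').trans hA'card⟩
  have hA'R : A' ∈ mea RX := mem_mea_of_maxOrder_le hA'S hA'RX (maxOrder_mono hRXS)
  have hmeaRX : ∀ C ∈ mea RX, C ∈ mea S := fun C hC =>
    mem_mea_of_maxOrder_le hC (hC.1.trans hRXS) (by rw [maxOrder_eq hA'R, maxOrder_eq hA'S])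
  have hJRX : Cfsg.thompsonSubgroupOf 2 RX ≤ J := by
    rw [thompson_eq RX]
    exact sSup_le fun C hC => hJSeq ▸ mea_le_thompson (hmeaRX C hC)
  set U := Cfsg.omegaCenterOf (Cfsg.thompsonSubgroupOf 2 RX) with hU
  have hUn : X ≤ Subgroup.normalizer (U : Set G) :=
    ((le_normalizer_pCoreOf X).trans (normalizer_le_normalizer_thompson RX)).trans
      (normalizer_le_normalizer_omegaCenterOf _)
  have hZ0U : Z0 ≤ U := by
    intro u hu
    have hu' : u ∈ sInf (mea S) := by rw [← omegaCenter_thompson, hJSeq]; exact hu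
    refine mem_omegaCenterOf.2 ⟨mea_le_thompson hA'R (Subgroup.mem_sInf.1 hu' A' hA'S), fun y hy => ?_,
      (mem_omegaCenterOf.1 hu).2.2⟩
    exact (mem_omegaCenterOf.1 hu).2.1 y (hJRX hy)
  have hWU : W ≤ U := by
    intro w hw
    refine mem_omegaCenterOf.2 ⟨mea_le_thompson hA'R (Subgroup.mem_sup_right hw), fun y hy => ?_, hWsq w hw⟩
    have hyc : y ∈ Subgroup.centralizer (W : Set G) := by
      rw [Subgroup.mem_centralizer_iff]
      intro v hv
      have hvU : v ∈ UK := wOf_le_omega K hv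
      have hyRX : y ∈ RX := thompson_le RX hy
      -- elements of the 2-core commute with the action of `s`
      have hyX : y ∈ X := pCoreOf_le X hyRX
      have hN : K ⊔ RX ≤ Subgroup.normalizer (UK : Set G) :=
        (sup_le le_sup_left (pCoreOf_le X) : K ⊔ RX ≤ X).trans (by
          refine le_trans ?_ (normalizer_le_normalizer_omegaCenterOf R)
          intro g hg
          refine mem_normalizer_of_cmap_eq ?_
          rw [hRdef]
          conv_rhs => rw [← cmap_eq_of_mem_normalizer (hXK hg)]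
          exact (H74.pCoreOf_map K (MulAut.conj g).toMonoidHom (MulAut.conj g).injective).symm)
      set q := imgHom hN with hq
      let sN : ↥(K ⊔ RX : Subgroup G) := ⟨(s : G), Subgroup.mem_sup_left s.2⟩
      let yN : ↥(K ⊔ RX : Subgroup G) := ⟨y, Subgroup.mem_sup_right hyRX⟩
      have hcap : ∀ c ∈ K, c ∈ RX → c ∈ R := fun c hc hc' =>
        le_pCoreOf (K := RX ⊓ K) inf_le_right ((isPGroup_pCoreOf X).to_le inf_le_left)
          ((le_inf ((le_sup_left : K ≤ X).trans (le_normalizer_pCoreOf X)) Subgroup.le_normalizer).trans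
            Subgroup.inf_normalizer_le_normalizer_inf) (Subgroup.mem_inf.2 ⟨hc', hc⟩)
      have hcomm : Commute (q yN) (q sN) := by
        have h1 : q (yN * sN * yN⁻¹ * sN⁻¹) = 1 := by
          rw [imgHom_eq_one_iff, Subgroup.mem_centralizer_iff]
          intro t ht
          have hc1 : y * (s : G) * y⁻¹ * (s : G)⁻¹ ∈ R := by
            refine hcap _ (K.mul_mem ((Subgroup.mem_normalizer_iff.1 (hXK hyX) _).1 s.2) (K.inv_mem s.2)) ?_
            have := RX.mul_mem hyRX ((Subgroup.mem_normalizer_iff.1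
              (le_normalizer_pCoreOf X (Subgroup.mem_sup_left s.2)) y⁻¹).1 (RX.inv_mem hyRX))
            simpa [mul_assoc] using this
          simpa [yN, sN] using ((mem_omegaCenterOf.1 ht).2.1 _ hc1).symm
        rwa [map_mul, map_mul, map_mul, map_inv, map_inv, mul_inv_eq_one, mul_inv_eq_iff_eq_mul] at h1
      obtain ⟨k, hk⟩ := pow_two_pow_of_mem (isPGroup_pCoreOf X) hyRX
      rw [hW] at hv
      obtain ⟨v', hv', rfl⟩ := hv
      obtain ⟨u', rfl⟩ := hv'
      have htq : IsTiny ↥UK (q sN) := by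
        refine ⟨?_, ?_⟩
        · haveI : Fact (Nat.Prime 3) := ⟨Nat.prime_three⟩
          refine orderOf_eq_prime ?_ fun h1 => ?_
          · rw [← map_pow, imgHom_eq_one_iff, Subgroup.mem_centralizer_iff]
            exact fun t ht => by simpa [sN] using ((mem_omegaCenterOf.1 ht).2.1 _ hs3).symm
          · have h2 : pK s = 1 := by
              rw [imgHom_eq_one_iff] at h1 ⊢
              exact h1
            have h3 := htiny.1
            rw [h2, orderOf_one] at h3
            omega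
        · have : (disp (q sN) : ↥UK →* ↥UK) = disp (pK s) := MonoidHom.ext fun t => rfl
          rw [this]; exact htiny.2
      have hfix := two_pow_fix_range omega_sq (k := k) (by
        rw [← map_pow, show yN ^ 2 ^ k = 1 from Subtype.ext (by
          rw [SubmonoidClass.coe_pow, OneMemClass.coe_one]; exact hk), map_one]) hcomm htq
        (show disp (pK s) u' ∈ (disp (q sN) : ↥UK →* ↥UK).range from ⟨u', rfl⟩)
      exact ((smul_eq_iff hN yN _).1 hfix).symm
    exact commute_of_mem_centralizer hyc hw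
  -- the element of odd order
  set g := (s : G) * a * (s : G)⁻¹ * a⁻¹ with hg
  have hgK : g ∈ K := by
    have := K.mul_mem s.2 ((Subgroup.mem_normalizer_iff.1 (hJK haJ) (s : G)⁻¹).1 (inv_mem s.2))
    simpa [hg, mul_assoc] using this
  have hsX : (s : G) ∈ X := Subgroup.mem_sup_left s.2
  have hgR : g ∉ R := by
    intro hgR
    have hc : ∀ w ∈ W, g * w = w * g := fun w hw => (mem_omegaCenterOf.1 (wOf_le_omega K hw)).2.1 g hgR
    -- then `a` fixes `s z s⁻¹`
    have hw : (s : G) * z * (s : G)⁻¹ ∈ W := (Subgroup.mem_normalizer_iff.1 (hXW hsX) z).1 hz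
    have h1 : (s : G) * a * (s : G)⁻¹ * ((s : G) * z * (s : G)⁻¹) =
        (s : G) * z * (s : G)⁻¹ * ((s : G) * a * (s : G)⁻¹) := by
      calc (s : G) * a * (s : G)⁻¹ * ((s : G) * z * (s : G)⁻¹) = (s : G) * (a * z) * (s : G)⁻¹ := by group
        _ = (s : G) * (z * a) * (s : G)⁻¹ := by rw [hJz a haJ]
        _ = _ := by group
    have h2 : a * ((s : G) * z * (s : G)⁻¹) = (s : G) * z * (s : G)⁻¹ * a := by
      have e : a = g⁻¹ * ((s : G) * a * (s : G)⁻¹) := by rw [hg]; group
      rw [e]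
      exact (((show Commute g ((s : G) * z * (s : G)⁻¹) from hc _ hw).inv_left).mul_left h1).eq
    rcases hWfix a haX haW (hJz a haJ) _ hw h2 with e | e
    · exact hz1 (conj_eq_one_iff.1 e)
    · exact hmove z hz hz1 e
  have hg3 : g ^ 3 ∈ R := by
    haveI : ((R).subgroupOf K).Normal :=
      (Subgroup.normal_subgroupOf_iff_le_normalizer (pCoreOf_le K)).2 (le_normalizer_pCoreOf K)
    have h1 := (R.subgroupOf K).pow_index_mem ⟨g, hgK⟩
    rw [← Subgroup.relIndex, hRdef, hK.2.2.1, Subgroup.mem_subgroupOf] at h1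
    exact h1
  obtain ⟨n, hn⟩ := pow_two_pow_of_mem (isPGroup_pCoreOf K) hg3
  set g' := g ^ 2 ^ n with hg'
  have hg'K : g' ∈ K := pow_mem hgK _
  have hg'3 : g' ^ 3 = 1 := by rw [hg', ← pow_mul, mul_comm, pow_mul, hn]
  have hg'R : g' ∉ R := by
    intro hg'R
    refine hgR ?_
    obtain ⟨u, v, huv⟩ : ∃ u v : ℤ, u * (2 ^ n : ℕ) + v * 3 = 1 := by
      have hco : Nat.gcd (2 ^ n) 3 = 1 := Nat.Coprime.pow_left n (by decide)
      have h := Nat.gcd_eq_gcd_ab (2 ^ n) 3
      rw [hco] at h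
      refine ⟨Nat.gcdA (2 ^ n) 3, Nat.gcdB (2 ^ n) 3, ?_⟩
      push_cast at h ⊢
      linarith
    have e : g = g' ^ u * (g ^ 3) ^ v := by
      conv_lhs => rw [← zpow_one g, ← huv]
      rw [hg', ← zpow_natCast g (2 ^ n), ← zpow_natCast g 3, ← zpow_mul, ← zpow_mul, ← zpow_add]
      congr 1
      push_cast
      ring
    rw [e]
    exact mul_mem (zpow_mem hg'R u) (zpow_mem hg3 v)
  set p := imgHom hUn with hp
  let aX : ↥X := ⟨a, haX⟩
  let sX : ↥X := ⟨(s : G), hsX⟩
  let gX : ↥X := ⟨g, Subgroup.mem_sup_left hgK⟩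
  let g'X : ↥X := ⟨g', Subgroup.mem_sup_left hg'K⟩
  have hga : p gX = p (sX * aX * sX⁻¹) * (p aX)⁻¹ := by
    rw [← map_inv, ← map_mul]; rfl
  have hA'U : ∀ b ∈ B, ∀ u : ↥U, b * (u : G) = (u : G) * b := fun b hb u =>
    (mem_omegaCenterOf.1 u.2).2.1 b (mea_le_thompson hA'R (Subgroup.mem_sup_left hb))
  have hdispa : Nat.card ↥(disp (p aX) : ↥U →* ↥U).range ≤ 2 := by
    have hoff := mea_offender (hmeaS A hA) (omegaCenterOf_elem _)
      ((omegaCenterOf_le _).trans ((thompson_le RX).trans hRXS) : U ≤ S) (inf_le_left : B ≤ A)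
    have e1 : U ⊓ Subgroup.centralizer (B : Set G) = U := inf_eq_left.2 fun u hu =>
      Subgroup.mem_centralizer_iff.2 fun b hb => hA'U b hb ⟨u, hu⟩
    have e2 : Nat.card ↥(U ⊓ Subgroup.centralizer (A : Set G) : Subgroup G) ≤
        Nat.card ↥(disp (p aX) : ↥U →* ↥U).ker := by
      refine Nat.card_le_card_of_injective (fun y => ⟨⟨y, (Subgroup.mem_inf.1 y.2).1⟩, mem_ker_disp.2
        ((smul_eq_iff hUn aX _).2 (Subgroup.mem_centralizer_iff.1 (Subgroup.mem_inf.1 y.2).2 a haA))⟩) ?_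
      intro y y' he
      exact Subtype.ext (by simpa using he)
    rw [e1] at hoff
    have h5 : Nat.card ↥B * Nat.card ↥U ≤ Nat.card ↥B * (2 * Nat.card ↥(disp (p aX) : ↥U →* ↥U).ker) := by
      calc Nat.card ↥B * Nat.card ↥U ≤ Nat.card ↥A * _ := hoff
        _ ≤ 2 * Nat.card ↥B * Nat.card ↥(disp (p aX) : ↥U →* ↥U).ker := Nat.mul_le_mul hAB e2
        _ = _ := by ring
    have h6 := Nat.le_of_mul_le_mul_left h5 Nat.card_pos
    rw [card_eq_range_mul_ker (disp (p aX) : ↥U →* ↥U)] at h6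
    exact Nat.le_of_mul_le_mul_right h6 Nat.card_pos
  have hker : Nat.card ↥(disp (p g'X) : ↥U →* ↥U).range ≤ 4 := by
    set d := (disp (p aX) : ↥U →* ↥U)
    set d' := (disp (p (sX * aX * sX⁻¹)) : ↥U →* ↥U)
    have hd' : Nat.card ↥d'.range ≤ 2 := by
      rw [show d' = disp (p sX * p aX * (p sX)⁻¹) by rw [← map_inv, ← map_mul, ← map_mul]]
      rw [disp_conj_range_card]
      exact hdispa
    have h1 := card_eq_range_mul_ker d
    have h2 := card_eq_map_mul_inf d.ker d'
    have h3 : Nat.card ↥(d.ker.map d') ≤ 2 :=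
      (Nat.le_of_dvd Nat.card_pos (Subgroup.card_dvd_of_le (by rintro _ ⟨y, -, rfl⟩; exact ⟨y, rfl⟩))).trans hd'
    have h4 : (d.ker ⊓ d'.ker : Subgroup ↥U) ≤ (disp (p g'X) : ↥U →* ↥U).ker := by
      intro y hy
      obtain ⟨hy1, hy2⟩ := Subgroup.mem_inf.1 hy
      rw [mem_ker_disp]
      have h5 : p gX ∈ MulAction.stabilizer _ y := by
        rw [hga]
        exact mul_mem (MulAction.mem_stabilizer_iff.2 (mem_ker_disp.1 hy2))
          (inv_mem (MulAction.mem_stabilizer_iff.2 (mem_ker_disp.1 hy1)))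
      have h6 : p g'X = p gX ^ 2 ^ n := by rw [← map_pow]; rfl
      rw [h6]
      exact MulAction.mem_stabilizer_iff.1 (pow_mem h5 _)
    have h5 := card_eq_range_mul_ker (disp (p g'X) : ↥U →* ↥U)
    have h6 : Nat.card ↥U ≤ 4 * Nat.card ↥(disp (p g'X) : ↥U →* ↥U).ker := by
      calc Nat.card ↥U = Nat.card ↥d.range * (Nat.card ↥(d.ker.map d') * Nat.card ↥(d.ker ⊓ d'.ker : Subgroup ↥U)) := by
            rw [← h2, ← h1]
        _ ≤ 2 * (2 * Nat.card ↥(disp (p g'X) : ↥U →* ↥U).ker) :=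
            Nat.mul_le_mul hdispa (Nat.mul_le_mul h3 (Nat.le_of_dvd Nat.card_pos (Subgroup.card_dvd_of_le h4)))
        _ = _ := by ring
    rw [h5] at h6
    exact Nat.le_of_mul_le_mul_right h6 Nat.card_pos
  have hodd' : Odd (orderOf (p g'X)) := by
    refine Odd.of_dvd_nat (show Odd 3 by decide) (orderOf_dvd_of_pow_eq_one ?_)
    rw [← map_pow, show g'X ^ 3 = 1 from Subtype.ext hg'3, map_one]
  -- `[U, g'] = W`
  have hWmove : ∀ w ∈ W, w ≠ 1 → g' * w * g'⁻¹ ≠ w := by
    intro w hw hw1 he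
    obtain ⟨i, hi⟩ := hdec g' hg'K
    have hRc : ∀ y ∈ R, y * w = w * y := fun y hy => (mem_omegaCenterOf.1 (wOf_le_omega K hw)).2.1 y hy
    have hi' : (s : G) ^ i * w = w * (s : G) ^ i := by
      have e : (s : G) ^ i = (g' * ((s : G) ^ i)⁻¹)⁻¹ * g' := by group
      rw [e]
      exact ((show Commute (g' * ((s : G) ^ i)⁻¹) w from hRc _ hi).inv_left.mul_left
        (show Commute g' w from mul_inv_eq_iff_eq_mul.1 he)).eq
    have hmod : i % 3 = 0 ∨ i % 3 = 1 ∨ i % 3 = 2 := by omega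
    have hs3c : Commute ((s : G) ^ 3) w := hRc _ hs3
    have hdecomp : (s : G) ^ i = ((s : G) ^ 3) ^ (i / 3) * (s : G) ^ (i % 3) := by
      rw [← zpow_natCast (s : G) 3, ← zpow_mul, ← zpow_add, Nat.cast_ofNat, Int.mul_ediv_add_emod]
    have hrc : Commute ((s : G) ^ (i % 3)) w := by
      have e : (s : G) ^ (i % 3) = (((s : G) ^ 3) ^ (i / 3))⁻¹ * (s : G) ^ i := by rw [hdecomp, inv_mul_cancel_left]
      rw [e]
      exact (hs3c.zpow_left _).inv_left.mul_left hi'
    rcases hmod with h0 | h0 | h0 <;> rw [h0] at hrc hdecomp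
    · refine hg'R ?_
      rw [zpow_zero, mul_one] at hdecomp
      have h7 := mul_mem hi (hdecomp ▸ zpow_mem hs3 (i / 3) : (s : G) ^ i ∈ R)
      rwa [inv_mul_cancel_right] at h7
    · rw [zpow_one] at hrc
      exact hmove w hw hw1 (mul_inv_eq_iff_eq_mul.2 hrc.eq)
    · have e : (s : G) = (s : G) ^ 3 * ((s : G) ^ (2 : ℤ))⁻¹ := by group
      refine hmove w hw hw1 (mul_inv_eq_iff_eq_mul.2 ?_)
      rw [e]
      exact (hs3c.mul_left hrc.inv_left).eq
  have hWrange : W.subgroupOf U = (disp (p g'X) : ↥U →* ↥U).range := by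
    refine Subgroup.eq_of_le_of_card_ge ?_ ?_
    · have hsurj : (W.subgroupOf U).map (disp (p g'X)) = W.subgroupOf U := by
        refine Subgroup.eq_of_le_of_card_ge ?_ ?_
        · rintro _ ⟨v, hv, rfl⟩
          rw [Subgroup.mem_subgroupOf, disp_coe]
          exact W.mul_mem ((Subgroup.mem_normalizer_iff.1 (hXW (Subgroup.mem_sup_left hg'K)) _).1 hv) (W.inv_mem hv)
        · rw [card_eq_map_mul_inf (W.subgroupOf U) (disp (p g'X) : ↥U →* ↥U)]
          have : W.subgroupOf U ⊓ (disp (p g'X) : ↥U →* ↥U).ker = ⊥ := by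
            rw [eq_bot_iff]
            intro v hv
            obtain ⟨hvW, hvk⟩ := Subgroup.mem_inf.1 hv
            by_contra hv1
            exact hWmove (v : G) hvW (fun e => hv1 (Subgroup.mem_bot.2 (Subtype.ext e)))
              (mul_inv_eq_iff_eq_mul.2 ((smul_eq_iff hUn g'X v).1 (mem_ker_disp.1 hvk)))
          rw [this, Subgroup.card_bot, mul_one]
      rw [← hsurj]
      rintro _ ⟨v, -, rfl⟩
      exact ⟨v, rfl⟩
    · rw [Nat.card_congr (Subgroup.subgroupOfEquivOfLe hWU).toEquiv, hWc]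
      exact hker
  -- `X = ⟨J, g'⟩`
  have hgenX : X ≤ Subgroup.closure ((J : Set G) ∪ {g'}) := by
    set Y := Subgroup.closure ((J : Set G) ∪ {g'}) with hY
    set E := Subgroup.closure {y : G | ∃ i : ℤ, ∃ j ∈ J, y = g' ^ i * j * (g' ^ i)⁻¹} with hE
    have hJE : J ≤ E := fun j hj => Subgroup.subset_closure ⟨0, j, hj, by simp⟩
    have hEY : E ≤ Y := (Subgroup.closure_le _).2 (by
      rintro _ ⟨i, j, hj, rfl⟩
      have hgY : g' ∈ Y := Subgroup.subset_closure (Or.inr rfl)
      exact Y.mul_mem (Y.mul_mem (zpow_mem hgY i)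
        (Subgroup.subset_closure (Or.inl hj))) (Y.inv_mem (zpow_mem hgY i)))
    have hSJ : R ≤ Subgroup.normalizer (J : Set G) := by
      have hRS : R ≤ S := (pCoreOf_le_pCoreOf_of_subnormal (le_sup_left : K ≤ X)
        (Subgroup.Normal.isSubnormal ((Subgroup.normal_subgroupOf_iff_le_normalizer le_sup_left).2 hXK))).trans hRXS
      exact hJSeq ▸ hRS.trans (Subgroup.le_normalizer.trans (normalizer_le_normalizer_thompson S))
    have hEn : ∀ k ∈ K, ∀ y ∈ E, k * y * k⁻¹ ∈ E := by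
      have hg'E : ∀ i : ℤ, ∀ y ∈ E, g' ^ i * y * (g' ^ i)⁻¹ ∈ E := by
        intro i y hy
        induction hy using Subgroup.closure_induction with
        | mem y hy =>
          obtain ⟨m, j, hj, rfl⟩ := hy
          exact Subgroup.subset_closure ⟨i + m, j, hj, by rw [zpow_add]; group⟩
        | one => simp
        | mul p q _ _ hp hq => rw [← conj_mul]; exact mul_mem hp hq
        | inv p _ hp => rw [← conj_inv]; exact inv_mem hp
      have hRE : ∀ r ∈ R, ∀ y ∈ E, r * y * r⁻¹ ∈ E := by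
        intro r hr y hy
        induction hy using Subgroup.closure_induction with
        | mem y hy =>
          obtain ⟨m, j, hj, rfl⟩ := hy
          have hr' : (g' ^ m)⁻¹ * r * g' ^ m ∈ R := by
            have := (Subgroup.mem_normalizer_iff.1
              (inv_mem (le_normalizer_pCoreOf (p := 2) K (zpow_mem hg'K m))) r).1 hr
            rwa [inv_inv] at this
          refine Subgroup.subset_closure ⟨m, _, (Subgroup.mem_normalizer_iff.1 (hSJ hr') j).1 hj, ?_⟩
          group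
        | one => simp
        | mul p q _ _ hp hq => rw [← conj_mul]; exact mul_mem hp hq
        | inv p _ hp => rw [← conj_inv]; exact inv_mem hp
      intro k hk y hy
      have hEg : R ⊔ Subgroup.zpowers g' = K := by
        have hle : R ⊔ Subgroup.zpowers g' ≤ K := sup_le (pCoreOf_le K) (Subgroup.zpowers_le.2 hg'K)
        have hmul := Subgroup.relIndex_mul_relIndex R _ K le_sup_left hle
        rw [hRdef, hK.2.2.1, ← hRdef] at hmul
        rcases (Nat.dvd_prime Nat.prime_three).1 (Dvd.intro _ hmul) with h1 | h1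
        · exact absurd (Subgroup.relIndex_eq_one.1 h1 (Subgroup.mem_sup_right (Subgroup.mem_zpowers g'))) hg'R
        · rw [h1] at hmul
          exact le_antisymm hle (Subgroup.relIndex_eq_one.1 (by omega))
      have hzn : Subgroup.zpowers g' ≤ Subgroup.normalizer (R : Set G) :=
        (Subgroup.zpowers_le.2 hg'K).trans (le_normalizer_pCoreOf K)
      obtain ⟨c, hc, r, hr, rfl⟩ := exists_mul_of_mem_sup hzn
        (show k ∈ Subgroup.zpowers g' ⊔ R by rw [sup_comm, hEg]; exact hk)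
      obtain ⟨i, rfl⟩ := Subgroup.mem_zpowers_iff.1 hc
      have := hg'E i _ (hRE r hr y hy)
      simpa [mul_assoc] using this
    refine sup_le ?_ (fun j hj => Subgroup.subset_closure (Or.inl hj))
    calc K = ⁅K, J⁆ := hK.2.1.symm
      _ ≤ E := by
        rw [Subgroup.commutator_le]
        intro k hk j hj
        rw [commutatorElement_def]
        exact mul_mem (hEn k hk j (hJE hj)) (inv_mem (hJE hj))
      _ ≤ Y := hEY
  -- the splitting
  refine le_antisymm (sup_le inf_le_left inf_le_left) fun u hu => ?_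
  obtain ⟨r, hr, k, hk, hrk⟩ := exists_range_mul_ker omega_sq hodd' (⟨u, hZ0U hu⟩ : ↥U)
  have hinv : a * g * a⁻¹ = g⁻¹ := by
    have hai : a⁻¹ = a := inv_eq_of_mul_eq_one_left (elem_sq hA.2.1 haA)
    calc a * g * a⁻¹ = a * (s : G) * a * (s : G)⁻¹ * (a⁻¹ * a⁻¹) := by rw [hg]; group
      _ = a * (s : G) * a⁻¹ * (s : G)⁻¹ := by rw [← mul_inv_rev, elem_sq hA.2.1 haA, hai]; group
      _ = g⁻¹ := by rw [hg]; group
  have hpa : p aX * p g'X * (p aX)⁻¹ = (p g'X)⁻¹ := by
    rw [← map_inv, ← map_inv, ← map_mul, ← map_mul]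
    congr 1
    refine Subtype.ext ?_
    show a * g' * a⁻¹ = g'⁻¹
    rw [hg', ← conj_pow, hinv, inv_pow]
  have hau : p aX • (⟨u, hZ0U hu⟩ : ↥U) = ⟨u, hZ0U hu⟩ :=
    (smul_eq_iff hUn aX _).2 ((mem_omegaCenterOf.1 hu).2.1 a haJ)
  have har : p aX • r = r := by
    have h1 : p aX • r ∈ (disp (p g'X) : ↥U →* ↥U).range := smul_disp_range_of_inv hpa hr
    have h2 : p aX • k ∈ (disp (p g'X) : ↥U →* ↥U).ker := by
      rw [mem_ker_disp] at hk ⊢
      have e1 : p g'X * p aX = p aX * (p g'X)⁻¹ := by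
        calc p g'X * p aX = (p aX * p g'X * (p aX)⁻¹)⁻¹ * p aX := by rw [hpa, inv_inv]
          _ = p aX * (p g'X)⁻¹ := by group
      rw [smul_smul, e1, ← smul_smul, inv_smul_eq_iff.2 hk.symm]
    have h3 : (p aX • r)⁻¹ * r = (p aX • k) * k⁻¹ := by
      rw [← hrk, smul_mul'] at hau
      rw [inv_mul_eq_iff_eq_mul, ← mul_assoc, hau, mul_inv_cancel_right]
    have h4 : (p aX • r)⁻¹ * r ∈ (disp (p g'X) : ↥U →* ↥U).range ⊓ (disp (p g'X)).ker :=
      Subgroup.mem_inf.2 ⟨mul_mem (inv_mem h1) hr, h3 ▸ mul_mem h2 (inv_mem hk)⟩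
    rw [range_inf_ker_eq_bot omega_sq hodd', Subgroup.mem_bot, inv_mul_eq_one] at h4
    exact h4
  have hrW : (r : G) ∈ W := by
    rw [← hWrange] at hr
    exact hr
  have hrZ : (r : G) ∈ Z0 ⊓ W :=
    (hZ0W _).2 (hWfix a haX haW (hJz a haJ) _ hrW ((smul_eq_iff hUn aX r).1 har))
  have hk0 : (k : G) ∈ Z0 := by
    have e : k = r⁻¹ * (⟨u, hZ0U hu⟩ : ↥U) := by rw [← hrk, inv_mul_cancel_left]
    rw [e]
    exact Z0.mul_mem (Z0.inv_mem (Subgroup.mem_inf.1 hrZ).1) hu
  have hkX : (k : G) ∈ X ⊓ Subgroup.centralizer (X : Set G) := by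
    refine Subgroup.mem_inf.2 ⟨Subgroup.mem_sup_right (omegaCenterOf_le J hk0), ?_⟩
    rw [Subgroup.mem_centralizer_iff]
    intro y hy
    have hle : Subgroup.closure ((J : Set G) ∪ {g'}) ≤ Subgroup.centralizer ({(k : G)} : Set G) := by
      rw [Subgroup.closure_le]
      rintro y (hy | rfl) <;> rw [SetLike.mem_coe, Subgroup.mem_centralizer_singleton_iff]
      · exact (mem_omegaCenterOf.1 hk0).2.1 y hy
      · exact (smul_eq_iff hUn g'X k).1 (mem_ker_disp.1 hk)
    exact Subgroup.mem_centralizer_singleton_iff.1 (hle (hgenX hy))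
  have hu' : u = (k : G) * (r : G) := by
    have := congrArg (fun y : ↥U => (y : G)) hrk
    exact (this.symm.trans (elem_comm (omegaCenterOf_elem _) r.2 k.2) : _)
  rw [hu']
  exact mul_mem (Subgroup.mem_sup_left (Subgroup.mem_inf.2 ⟨hk0, hkX⟩)) (Subgroup.mem_sup_right hrZ)

end H77
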