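import Cfsg.Agent.H77.JComp

/-!
Structure of `L ∈ ℒ(T)`: Frattini over the tiny group, components and their normalisers.
-/

set_option autoImplicit false

namespace H77

variable {G : Type*} [Group G]

/-- A step in a subnormal series inside `L`. -/
theorem isSubnormal_step {H K L : Subgroup G} (hHK : H ≤ K) (hn : K ≤ Subgroup.normalizer (H : Set G))
    (hs : (K.subgroupOf L).IsSubnormal) : (H.subgroupOf L).IsSubnormal := by
  refine Subgroup.IsSubnormal.step _ _ (Subgroup.comap_mono hHK) hs ?_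
  refine ⟨fun h hh k => ?_⟩
  exact (Subgroup.mem_normalizer_iff.1 (hn k.2) ((h : ↥L) : G)).1 hh

variable [Finite G]

namespace JCtx

variable {T L : Subgroup G} (h : JCtx T L)
include h

/-- `L = M (L ∩ N(J(T)))`. -/
theorem frattini_J {g : G} (hg : g ∈ L) :
    ∃ m ∈ mOf L, m⁻¹ * g ∈ Subgroup.normalizer (Cfsg.thompsonSubgroupOf 2 T : Set G) := by
  set B := bOf L with hB
  have hsyl := sylTwo_inf_normal h.sylT (bOf_le L) (le_normalizer_bOf L)
  have hNJ : Subgroup.normalizer ((T ⊓ B : Subgroup G) : Set G) ≤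
      Subgroup.normalizer (Cfsg.thompsonSubgroupOf 2 T : Set G) := by
    have := normalizer_le_normalizer_thompson (T ⊓ B)
    rwa [thompson_eq_of_thompson_le inf_le_left (le_inf (thompson_le T) h.J_le_bOf)] at this
  obtain ⟨b, hb, hbn⟩ := frattini_two hsyl (le_normalizer_bOf L) hg
  have hE : B ≤ mOf L ⊔ T ⊓ B := by
    rw [← Subgroup.subgroupOf_eq_top]
    refine eq_top_of_odd_mem ?_ fun x hx => Subgroup.mem_subgroupOf.2 (Subgroup.mem_sup_left ?_)
    · intro hd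
      have h1 : (mOf L ⊔ T ⊓ B).relIndex B ∣ (T ⊓ B).relIndex B :=
        Subgroup.relIndex_dvd_of_le_left B le_sup_right
      exact (Nat.not_even_iff_odd.2 hsyl.2.2) (even_iff_two_dvd.2 (hd.trans h1))
    · have hxL : (x : G) ∈ L := bOf_le L x.2
      refine (coe_mem_mOf (l := ⟨(x : G), hxL⟩)).2
        (odd_mem_tinyGroup omega_sq ((coe_mem_bOf (l := ⟨(x : G), hxL⟩)).1 x.2) ?_)
      exact Odd.of_dvd_nat hx ((orderOf_map_dvd (psi L) _).trans
        (dvd_of_eq ((Subgroup.orderOf_mk (x : G) hxL).trans (Subgroup.orderOf_coe x))))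
  obtain ⟨t, ht, m, hm, rfl⟩ := exists_mul_of_mem_sup (A := T ⊓ B) (W := mOf L)
    ((inf_le_left.trans h.T_le).trans (le_normalizer_mOf L)) (by rw [sup_comm]; exact hE hb)
  refine ⟨t * m * t⁻¹, (Subgroup.mem_normalizer_iff.1 (le_normalizer_mOf L (h.T_le (Subgroup.mem_inf.1 ht).1)) m).1 hm, ?_⟩
  have ht' : t ∈ Subgroup.normalizer (Cfsg.thompsonSubgroupOf 2 T : Set G) :=
    normalizer_le_normalizer_thompson T (Subgroup.le_normalizer (Subgroup.mem_inf.1 ht).1)
  have := mul_mem ht' (hNJ hbn)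
  convert this using 1
  group

theorem exists_root_any : ∃ a s : ↥L, IsRoot T L a s := by
  by_contra hcon
  push Not at hcon
  refine h.not_J_le_cOf ?_
  rw [thompson_eq]
  refine sSup_le fun A hA => fun a ha => ?_
  have hS : {b | b ∈ imgOf (le_normalizer_vOf L) A ∧ b ∈ invTransv ↥(vOf L) (Cfsg.pCore 3 ↥(xImg L))} = ∅ := by
    rw [Set.eq_empty_iff_forall_notMem]
    rintro b ⟨hbA, hbt, x, hx3, hx, hinv⟩
    obtain ⟨a, s, r, -, -⟩ := h.exists_root hA hbA hbt hx hx3 hinv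
    exact hcon a s r
  have h1 := h.mea_le_closure hA (imgHom_mem_imgOf (le_normalizer_vOf L) (l := ⟨a, h.T_le (hA.1 ha)⟩) ha)
  rw [hS, Subgroup.closure_empty, Subgroup.mem_bot] at h1
  exact (psi_eq_one_iff _).1 h1

theorem exists_component : ∃ K : Subgroup G, Cfsg.IsJComponent T K ∧ K ≤ L := by
  obtain ⟨a, s, r⟩ := h.exists_root_any
  exact ⟨kComp L s, h.isJComponent_kComp r, kComp_le s⟩

variable {a s : ↥L} (r : IsRoot T L a s)
include r

theorem wOf_kComp_eq : Cfsg.wOf (kComp L s) =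
    ((disp (psi L s) : ↥(vOf L) →* ↥(vOf L)).range).map (vOf L).subtype := (h.wOf_kComp r).1

/-- An element of `L` moving a nontrivial point of `W` into `W` normalises the image of `s`. -/
theorem psi_normalizes_of_meet {g : ↥L} {v : ↥(vOf L)}
    (hv : v ∈ (disp (psi L s) : ↥(vOf L) →* ↥(vOf L)).range) (hv1 : v ≠ 1)
    (hgv : psi L g • v ∈ (disp (psi L s) : ↥(vOf L) →* ↥(vOf L)).range) :
    psi L g * psi L s * (psi L g)⁻¹ ∈ Subgroup.zpowers (psi L s) := by
  set y := psi L g * psi L s * (psi L g)⁻¹ with hy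
  have hy3 : y ∈ Cfsg.pCore 3 ↥(xImg L) := (H1.pCore_normal' 3 _).conj_mem _ r.o3 _
  have hyt : IsTiny ↥(vOf L) y := r.tiny.conj _
  by_cases hne : Subgroup.zpowers (psi L s) = Subgroup.zpowers y
  · rw [hne]; exact Subgroup.mem_zpowers y
  exfalso
  have hd := (tiny_disjoint omega_sq r.tiny hyt
    (tiny_commute omega_sq _ (H1.isPGroup_pCore 3 _) _ _ r.o3 hy3 r.tiny hyt) hne).2
  have h1 : psi L g • v ∈ (⊥ : Subgroup ↥(vOf L)) := hd ▸ Subgroup.mem_inf.2 ⟨hgv, smul_disp_range _ _ hv⟩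
  rw [Subgroup.mem_bot] at h1
  exact hv1 (smul_left_cancel (psi L g) (h1.trans (smul_one _).symm))

theorem exists_ne_one_mem_range : ∃ v ∈ (disp (psi L s) : ↥(vOf L) →* ↥(vOf L)).range, v ≠ 1 := by
  refine (Subgroup.bot_or_exists_ne_one _).resolve_left fun h0 => ?_
  have h4 := r.tiny.2
  rw [h0, Subgroup.card_bot] at h4
  omega

/-- `N_L(W) ≤ N(K)`. -/
theorem mem_normalizer_of_wOf {g : G} (hgL : g ∈ L)
    (hg : g ∈ Subgroup.normalizer (Cfsg.wOf (kComp L s) : Set G)) :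
    g ∈ Subgroup.normalizer (hOf L s : Set G) := by
  obtain ⟨m, hm, hn⟩ := h.frattini_J hgL
  have hmL := mOf_le L hm
  have hnL : m⁻¹ * g ∈ L := L.mul_mem (L.inv_mem hmL) hgL
  suffices hnH : m⁻¹ * g ∈ Subgroup.normalizer (hOf L s : Set G) by
    have := mul_mem (h.mOf_le_normalizer_hOf r hm) hnH
    rwa [mul_inv_cancel_left] at this
  set mL : ↥L := ⟨m, hmL⟩ with hmL'
  set n : ↥L := ⟨m⁻¹ * g, hnL⟩ with hn'
  obtain ⟨v, hv, hv1⟩ := h.exists_ne_one_mem_range r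
  have hW := h.wOf_kComp_eq r
  have hgv : psi L (⟨g, hgL⟩ : ↥L) • v ∈ (disp (psi L s) : ↥(vOf L) →* ↥(vOf L)).range := by
    have h1 : (v : G) ∈ Cfsg.wOf (kComp L s) := by rw [hW]; exact ⟨v, hv, rfl⟩
    have h2 : g * (v : G) * g⁻¹ ∈ Cfsg.wOf (kComp L s) := (Subgroup.mem_normalizer_iff.1 hg _).1 h1
    rw [hW] at h2
    obtain ⟨w, hw, he⟩ := h2
    have : w = psi L (⟨g, hgL⟩ : ↥L) • v := Subtype.ext he
    exact this ▸ hw
  have hgx := h.psi_normalizes_of_meet r hv hv1 hgv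
  have hxM : psi L s ∈ tinyGroup (X := ↥(xImg L)) ↥(vOf L) := Subgroup.subset_closure ⟨r.tiny, r.o3⟩
  have hmx : Commute (psi L mL) (psi L s) :=
    tinyGroup_commute omega_sq ((coe_mem_mOf (l := mL)).1 hm) hxM
  have hnx : psi L n * psi L s * (psi L n)⁻¹ ∈ Subgroup.zpowers (psi L s) := by
    obtain ⟨i, hi⟩ := Subgroup.mem_zpowers_iff.1 hgx
    refine Subgroup.mem_zpowers_iff.2 ⟨i, ?_⟩
    have e : n = mL⁻¹ * ⟨g, hgL⟩ := rfl
    calc psi L s ^ i = (psi L mL)⁻¹ * psi L s ^ i * psi L mL := by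
          rw [mul_assoc, (hmx.zpow_right i).symm.eq, inv_mul_cancel_left]
      _ = _ := by rw [hi, e, map_mul, map_inv]; group
  refine mem_normalizer_hOf (g := n) ?_
  have hb : ((n * a * n⁻¹ : ↥L) : G) ∈ T :=
    thompson_le T ((Subgroup.mem_normalizer_iff.1 hn (a : G)).1 r.a_mem_J)
  have hmem := h.inverted_mem r (l := n * s * n⁻¹) (b := n * a * n⁻¹)
    (by rw [map_mul, map_mul, map_inv]; exact hnx) hb (by
      rw [← map_inv (bar L) (n * a * n⁻¹), ← map_inv (bar L) (n * s * n⁻¹), ← map_mul, ← map_mul]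
      refine congrArg (bar L) ?_
      rw [show (n * s * n⁻¹)⁻¹ = n * s⁻¹ * n⁻¹ by group, ← r.inv]
      group)
  rwa [map_mul, map_mul, map_inv] at hmem

theorem normalizer_wOf_inf_le :
    L ⊓ Subgroup.normalizer (Cfsg.wOf (kComp L s) : Set G) ≤ Subgroup.normalizer (kComp L s : Set G) :=
  fun _ hg => normalizer_hOf_le L s (h.mem_normalizer_of_wOf r (Subgroup.mem_inf.1 hg).1 (Subgroup.mem_inf.1 hg).2)

/-- An element of `T` fixing a nontrivial point of `W` normalises `K`. -/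
theorem mem_normalizer_of_fix {t z : G} (ht : t ∈ T) (hz : z ∈ Cfsg.wOf (kComp L s)) (hz1 : z ≠ 1)
    (hc : t * z = z * t) : t ∈ Subgroup.normalizer (kComp L s : Set G) := by
  rw [h.wOf_kComp_eq r] at hz
  obtain ⟨v, hv, rfl⟩ := hz
  refine normalizer_hOf_le L s (mem_normalizer_hOf (g := ⟨t, h.T_le ht⟩) (h.normalize_root r ht ?_))
  refine h.psi_normalizes_of_meet r hv (fun hv1 => hz1 (by rw [hv1]; rfl)) ?_
  have h1 : psi L (⟨t, h.T_le ht⟩ : ↥L) • v = v := (smul_eq_iff _ _ v).2 hc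
  rw [h1]
  exact hv

/-- Components are subnormal in `L`. -/
theorem isSubnormal_kComp : ((kComp L s).subgroupOf L).IsSubnormal := by
  set P := ((Subgroup.zpowers (psi L s)).comap (psi L)).map L.subtype with hP
  have hxM : psi L s ∈ tinyGroup (X := ↥(xImg L)) ↥(vOf L) := Subgroup.subset_closure ⟨r.tiny, r.o3⟩
  have hPL : P ≤ L := Subgroup.map_subtype_le _
  refine isSubnormal_step (kComp_le_hOf s) (Subgroup.le_normalizer.trans (normalizer_hOf_le L s)) ?_
  refine isSubnormal_step (K := P) ?_ ?_ ?_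
  · intro x hx
    obtain ⟨i, hi⟩ := Subgroup.mem_zpowers_iff.1 ((coe_mem_hOf (l := ⟨x, hOf_le s hx⟩)).1 hx)
    refine ⟨⟨x, hOf_le s hx⟩, ?_, rfl⟩
    rw [SetLike.mem_coe, Subgroup.mem_comap,
      ← psi_eq_of_bar_eq (show bar L (s ^ i) = bar L ⟨x, hOf_le s hx⟩ by rw [map_zpow, hi]), map_zpow]
    exact zpow_mem (Subgroup.mem_zpowers _) i
  · rintro _ ⟨l, hl, rfl⟩
    refine mem_normalizer_hOf (g := l) ?_
    obtain ⟨c, i, -, hci, hsc⟩ := h.decomp r hl
    rw [hci, (Commute.mul_right hsc ((Commute.refl (bar L s)).zpow_right i)).symm.eq, mul_inv_cancel_right]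
    exact Subgroup.mem_zpowers _
  refine isSubnormal_step (K := mOf L) ?_ ?_ ?_
  · rintro _ ⟨l, hl, rfl⟩
    exact coe_mem_mOf.2 ((Subgroup.zpowers_le.2 hxM) hl)
  · intro m hm
    refine mem_normalizer_of_forall fun x hx => ?_
    obtain ⟨l, hl, rfl⟩ := hx
    refine ⟨⟨m, mOf_le L hm⟩ * l * ⟨m, mOf_le L hm⟩⁻¹, ?_, rfl⟩
    have hl' : psi L l ∈ Subgroup.zpowers (psi L s) := hl
    rw [SetLike.mem_coe, Subgroup.mem_comap, map_mul, map_mul, map_inv,
      (tinyGroup_commute omega_sq ((coe_mem_mOf (l := ⟨m, mOf_le L hm⟩)).1 hm)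
        ((Subgroup.zpowers_le.2 hxM) hl')).eq, mul_inv_cancel_right]
    exact hl'
  refine isSubnormal_step (K := L) (mOf_le L) (le_normalizer_mOf L) ?_
  rw [Subgroup.subgroupOf_self]
  exact Subgroup.IsSubnormal.top

omit r in
/-- `L` is generated by `N_L(J(T))` and its components. -/
theorem le_sup_components :
    L ≤ (L ⊓ Subgroup.normalizer (Cfsg.thompsonSubgroupOf 2 T : Set G)) ⊔
      ⨆ K : {K : Subgroup G // Cfsg.IsJComponent T K ∧ K ≤ L}, (K : Subgroup G) := by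
  set J := Cfsg.thompsonSubgroupOf 2 T with hJ
  set Y := (L ⊓ Subgroup.normalizer (J : Set G)) ⊔
      ⨆ K : {K : Subgroup G // Cfsg.IsJComponent T K ∧ K ≤ L}, (K : Subgroup G) with hY
  have hCY : cOf L ≤ Y := (le_inf (cOf_le L) h.cOf_le_normalizer_J).trans le_sup_left
  have hJY : J ≤ Y := (le_inf h.J_le_L Subgroup.le_normalizer).trans le_sup_left
  have hHY : ∀ {a s : ↥L}, IsRoot T L a s → hOf L s ≤ Y := by
    intro a s r x hx
    obtain ⟨i, hi⟩ := Subgroup.mem_zpowers_iff.1 ((coe_mem_hOf (l := ⟨x, hOf_le s hx⟩)).1 hx)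
    have hq : x * ((s : G) ^ i)⁻¹ ∈ qOf L := by
      have h1 : bar L (⟨x, hOf_le s hx⟩ * (s ^ i)⁻¹) = 1 := by rw [map_mul, map_inv, map_zpow, hi, mul_inv_cancel]
      exact (bar_eq_one_iff _).1 h1
    rw [show x = x * ((s : G) ^ i)⁻¹ * (s : G) ^ i by group]
    refine mul_mem (hCY (qOf_le_cOf L hq)) (zpow_mem ?_ i)
    exact Subgroup.mem_sup_right (le_iSup (fun K : {K : Subgroup G // Cfsg.IsJComponent T K ∧ K ≤ L} => (K : Subgroup G))
      ⟨kComp L s, h.isJComponent_kComp r, kComp_le s⟩ (h.root_mem_kComp r))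
  have hconj : ∀ m : ↥L, (m : G) ∈ mOf L → ∀ j ∈ J, (m : G) * j * (m : G)⁻¹ ∈ Y := by
    intro m hm
    set Ys := (Y.subgroupOf L).comap (MulAut.conj m).toMonoidHom with hYs
    have hmem : ∀ l : ↥L, l ∈ Ys ↔ (m : G) * (l : G) * (m : G)⁻¹ ∈ Y := fun l => Iff.rfl
    have hker : ∀ c : ↥L, psi L c = 1 → c ∈ Ys := fun c hc => by
      rw [hmem]
      exact hCY ((Subgroup.mem_normalizer_iff.1 (le_normalizer_cOf L m.2) _).1 ((psi_eq_one_iff c).1 hc))
    suffices hJs : J ≤ Ys.map L.subtype by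
      intro j hj
      obtain ⟨l, hl, rfl⟩ := hJs hj
      exact hl
    rw [hJ, thompson_eq]
    refine sSup_le fun A hA => fun x hx => ?_
    refine ⟨⟨x, h.T_le (hA.1 hx)⟩, ?_, rfl⟩
    have h1 : psi L ⟨x, h.T_le (hA.1 hx)⟩ ∈ Ys.map (psi L) := by
      refine (Subgroup.closure_le _).2 ?_ (h.mea_le_closure hA (imgHom_mem_imgOf _ hx))
      rintro b ⟨hbA, hbt, y, hy3, hy, hby⟩
      obtain ⟨a, s, r, rfl, rfl⟩ := h.exists_root hA hbA hbt hy hy3 hby
      refine ⟨a, (hmem a).2 ?_, rfl⟩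
      have h2 := hHY r (coe_mem_hOf.2 (h.comm_root_mem r ((coe_mem_mOf (l := m)).1 hm)))
      have h3 := Y.mul_mem (Y.inv_mem h2) (hJY r.a_mem_J)
      simpa [mul_assoc] using h3
    obtain ⟨l, hl, he⟩ := h1
    have : ⟨x, h.T_le (hA.1 hx)⟩ * l⁻¹ ∈ Ys := hker _ (by rw [map_mul, map_inv, he, mul_inv_cancel])
    have := mul_mem this hl
    rwa [inv_mul_cancel_right] at this
  set E := Subgroup.closure {x : G | ∃ g ∈ L, ∃ j ∈ J, x = g * j * g⁻¹} with hE
  have hEL : E ≤ L := (Subgroup.closure_le _).2 (by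
    rintro _ ⟨g, hg, j, hj, rfl⟩
    exact L.mul_mem (L.mul_mem hg (h.J_le_L hj)) (L.inv_mem hg))
  have hEn : L ≤ Subgroup.normalizer (E : Set G) := by
    intro g hg
    refine mem_normalizer_of_forall fun x hx => ?_
    induction hx using Subgroup.closure_induction with
    | mem y hy =>
      obtain ⟨g', hg', j, hj, rfl⟩ := hy
      exact Subgroup.subset_closure ⟨g * g', L.mul_mem hg hg', j, hj, by group⟩
    | one => simp
    | mul p q _ _ hp hq => rw [← conj_mul]; exact mul_mem hp hq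
    | inv p _ hp => rw [← conj_inv]; exact inv_mem hp
  have hEY : E ≤ Y := (Subgroup.closure_le _).2 (by
    rintro _ ⟨g, hg, j, hj, rfl⟩
    obtain ⟨m, hm, hn⟩ := h.frattini_J hg
    have h1 := hconj ⟨m, mOf_le L hm⟩ hm _ ((Subgroup.mem_normalizer_iff.1 hn j).1 hj)
    simpa [mul_assoc] using h1)
  have hJE : J ≤ E := fun j hj => Subgroup.subset_closure ⟨1, L.one_mem, j, hj, by group⟩
  intro g hg
  obtain ⟨e, he, hen⟩ := frattini_two (sylTwo_inf_normal h.sylT hEL hEn) hEn hg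
  have h2 : e⁻¹ * g ∈ L ⊓ Subgroup.normalizer (J : Set G) := by
    refine Subgroup.mem_inf.2 ⟨L.mul_mem (L.inv_mem (hEL he)) hg, ?_⟩
    have := normalizer_le_normalizer_thompson (T ⊓ E) hen
    rwa [thompson_eq_of_thompson_le inf_le_left (le_inf (thompson_le T) hJE)] at this
  have := Y.mul_mem (hEY he) (Subgroup.mem_sup_left h2)
  rwa [mul_inv_cancel_left] at this

end JCtx

end H77
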