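import Cfsg.Agent.H77.JData
import Cfsg.Agent.H77.Blocks

/-!
A subnormal component of a conjugate is normalised by `J(T)` on its four-group.
-/

set_option autoImplicit false

namespace H77

variable {G : Type*} [Group G] [Finite G]

theorem J_le_normalizer_wOf_of_subnormal {T T' L K : Subgroup G} (h : JCtx T L) (hKL : K ≤ L)
    (hsn : (K.subgroupOf (K ⊔ Cfsg.thompsonSubgroupOf 2 T)).IsSubnormal) (hK : Cfsg.IsJComponent T' K) :
    Cfsg.thompsonSubgroupOf 2 T ≤ Subgroup.normalizer (Cfsg.wOf K : Set G) := by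
  classical
  obtain ⟨s, hs3, hdec, htiny, hW⟩ := jcomp_data hK
  set J := Cfsg.thompsonSubgroupOf 2 T with hJ
  set X := K ⊔ J with hX
  have hKX : K ≤ X := le_sup_left
  have hXL : X ≤ L := sup_le hKL h.J_le_L
  set R := Cfsg.pCoreOf 2 X with hR
  set RK := Cfsg.pCoreOf 2 K with hRK
  have hRn : R ≤ Subgroup.normalizer (K : Set G) := pCoreOf_le_normalizer_of_subnormal hKX hK.1 hsn
  have hRKR : RK ≤ R := pCoreOf_le_pCoreOf_of_subnormal hKX hsn
  have hcap : ∀ y ∈ K, y ∈ R → y ∈ RK := fun y hy hy' =>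
    le_pCoreOf (K := R ⊓ K) inf_le_right ((isPGroup_pCoreOf X).to_le inf_le_left)
      ((le_inf (hKX.trans (le_normalizer_pCoreOf X)) Subgroup.le_normalizer).trans
        Subgroup.inf_normalizer_le_normalizer_inf) (Subgroup.mem_inf.2 ⟨hy', hy⟩)
  set U := Cfsg.omegaCenterOf R with hU
  set UK := Cfsg.omegaCenterOf RK with hUK
  set p := imgHom (le_normalizer_omega_core X) with hp
  set pK := imgHom (le_normalizer_omega_core K) with hpK
  let sX : ↥X := ⟨(s : G), hKX s.2⟩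
  set x := p sX with hx
  -- `[U, s]` lies in `U_K`
  have hUUK : ∀ u : ↥U, ((disp x u : ↥U) : G) ∈ UK := by
    intro u
    obtain ⟨hu1, hu2, hu3⟩ := mem_omegaCenterOf.1 u.2
    obtain ⟨hd1, hd2, hd3⟩ := mem_omegaCenterOf.1 (disp x u).2
    refine mem_omegaCenterOf.2 ⟨hcap _ ?_ hd1, fun y hy => hd2 y (hRKR hy), hd3⟩
    rw [hx, disp_coe]
    have h1 := (Subgroup.mem_normalizer_iff.1 (hRn hu1) (s : G)⁻¹).1 (inv_mem s.2)
    have h2 := K.mul_mem s.2 h1
    simpa [sX, mul_assoc] using h2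
  -- `W ≤ U`
  have hWU : ∀ w : ↥UK, w ∈ (disp (pK s) : ↥UK →* ↥UK).range → (w : G) ∈ U := by
    intro w hw
    obtain ⟨hw1, hw2, hw3⟩ := mem_omegaCenterOf.1 w.2
    refine mem_omegaCenterOf.2 ⟨hRKR hw1, fun r hr => ?_, hw3⟩
    have hN : K ⊔ R ≤ Subgroup.normalizer (UK : Set G) := by
      refine sup_le (le_normalizer_omega_core K) ?_
      refine le_trans ?_ (normalizer_le_normalizer_omegaCenterOf RK)
      intro r hr
      refine mem_normalizer_of_cmap_eq ?_
      rw [hRK]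
      conv_rhs => rw [← cmap_eq_of_mem_normalizer (hRn hr)]
      exact (H74.pCoreOf_map K (MulAut.conj r).toMonoidHom (MulAut.conj r).injective).symm
    set q := imgHom hN with hq
    let sN : ↥(K ⊔ R : Subgroup G) := ⟨(s : G), Subgroup.mem_sup_left s.2⟩
    let rN : ↥(K ⊔ R : Subgroup G) := ⟨r, Subgroup.mem_sup_right hr⟩
    have hwq : w ∈ (disp (q sN) : ↥UK →* ↥UK).range := by
      obtain ⟨v, rfl⟩ := hw
      exact ⟨v, rfl⟩
    have htq : IsTiny ↥UK (q sN) := by
      refine ⟨?_, ?_⟩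
      · haveI : Fact (Nat.Prime 3) := ⟨Nat.prime_three⟩
        refine orderOf_eq_prime ?_ fun h1 => ?_
        · rw [← map_pow, imgHom_eq_one_iff, Subgroup.mem_centralizer_iff]
          exact fun v hv => by simpa [sN] using ((mem_omegaCenterOf.1 hv).2.1 _ hs3).symm
        · have h2 : pK s = 1 := by
            rw [imgHom_eq_one_iff] at h1 ⊢
            exact h1
          have h3 := htiny.1
          rw [h2, orderOf_one] at h3
          omega
      · have : (disp (q sN) : ↥UK →* ↥UK) = disp (pK s) := MonoidHom.ext fun v => rfl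
        rw [this]; exact htiny.2
    obtain ⟨k, hk⟩ := pow_two_pow_of_mem (isPGroup_pCoreOf X) hr
    have hcomm : Commute (q rN) (q sN) := by
      have h1 : q (rN * sN * rN⁻¹ * sN⁻¹) = 1 := by
        rw [imgHom_eq_one_iff, Subgroup.mem_centralizer_iff]
        intro v hv
        have hc1 : r * (s : G) * r⁻¹ * (s : G)⁻¹ ∈ RK := by
          refine hcap _ (K.mul_mem ((Subgroup.mem_normalizer_iff.1 (hRn hr) _).1 s.2) (K.inv_mem s.2)) ?_
          have := R.mul_mem hr ((Subgroup.mem_normalizer_iff.1 (le_normalizer_pCoreOf X (hKX s.2)) r⁻¹).1 (R.inv_mem hr))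
          simpa [mul_assoc] using this
        simpa [rN, sN] using ((mem_omegaCenterOf.1 hv).2.1 _ hc1).symm
      rwa [map_mul, map_mul, map_mul, map_inv, map_inv, mul_inv_eq_one, mul_inv_eq_iff_eq_mul] at h1
    have hfix := two_pow_fix_range omega_sq (k := k) (by
      rw [← map_pow, show rN ^ 2 ^ k = 1 from Subtype.ext (by
        rw [SubmonoidClass.coe_pow, OneMemClass.coe_one]; exact hk), map_one]) hcomm htq hwq
    exact (smul_eq_iff hN rN w).1 hfix
  have hrange : ((disp x : ↥U →* ↥U).range).map U.subtype = Cfsg.wOf K := by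
    rw [hW]
    have hsurj : ((disp (pK s) : ↥UK →* ↥UK).range).map (disp (pK s)) = (disp (pK s) : ↥UK →* ↥UK).range := by
      refine Subgroup.eq_of_le_of_card_ge ?_ ?_
      · rintro _ ⟨u, -, rfl⟩; exact ⟨u, rfl⟩
      · have h1 := card_eq_map_mul_inf (disp (pK s) : ↥UK →* ↥UK).range (disp (pK s))
        rw [range_inf_ker_eq_bot omega_sq htiny.odd, Subgroup.card_bot, mul_one] at h1
        exact h1.le
    refine le_antisymm ?_ ?_
    · rintro _ ⟨_, ⟨u, rfl⟩, rfl⟩
      -- decompose in `U_K`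
      set d : ↥UK := ⟨_, hUUK u⟩ with hd
      obtain ⟨r0, hr0, k0, hk0, hrk⟩ := exists_range_mul_ker omega_sq htiny.odd d
      refine ⟨d, ?_, rfl⟩
      have hr0U := hWU r0 hr0
      have hk0U : (k0 : G) ∈ U := by
        have : k0 = r0⁻¹ * d := by rw [← hrk, inv_mul_cancel_left]
        rw [this]
        exact U.mul_mem (U.inv_mem hr0U) (disp x u).2
      have hk0fix : x • (⟨k0, hk0U⟩ : ↥U) = ⟨k0, hk0U⟩ := by
        rw [hx, smul_eq_iff]
        exact (smul_eq_iff (le_normalizer_omega_core K) s k0).1 (mem_ker_disp.1 hk0)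
      obtain ⟨r1, hr1, hr1e⟩ := (hsurj.symm ▸ hr0 : r0 ∈ _)
      obtain ⟨v1, rfl⟩ := hr1
      have hr0mem : (⟨r0, hr0U⟩ : ↥U) ∈ (disp x : ↥U →* ↥U).range :=
        ⟨⟨_, hWU _ ⟨v1, rfl⟩⟩, Subtype.ext (congrArg (fun z : ↥UK => (z : G)) hr1e)⟩
      have hk0mem : (⟨k0, hk0U⟩ : ↥U) ∈ (disp x : ↥U →* ↥U).range := by
        have e : (⟨k0, hk0U⟩ : ↥U) = (⟨r0, hr0U⟩ : ↥U)⁻¹ * disp x u := by
          apply Subtype.ext
          have : (r0 : G) * (k0 : G) = ((disp x u : ↥U) : G) := congrArg (fun z : ↥UK => (z : G)) hrk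
          simp only [Subgroup.coe_mul, Subgroup.coe_inv, ← this, inv_mul_cancel_left]
        rw [e]
        exact mul_mem (inv_mem hr0mem) ⟨u, rfl⟩
      have hodd : Odd (orderOf x) := by
        refine Odd.of_dvd_nat (show Odd 3 by decide) (orderOf_dvd_of_pow_eq_one ?_)
        rw [hx, ← map_pow, imgHom_eq_one_iff, Subgroup.mem_centralizer_iff]
        exact fun v hv => by simpa [sX] using ((mem_omegaCenterOf.1 hv).2.1 _ (hRKR hs3)).symm
      have hk01 := range_disp_fix_eq_one omega_sq hodd hk0mem hk0fix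
      have hk01' : k0 = 1 := Subtype.ext (congrArg (fun z : ↥U => (z : G)) hk01)
      rw [hk01', mul_one] at hrk
      exact hrk ▸ hr0
    · rintro _ ⟨w, hw, rfl⟩
      obtain ⟨w', hw', rfl⟩ := (hsurj.symm ▸ hw : w ∈ _)
      exact ⟨disp x ⟨w', hWU w' hw'⟩, ⟨_, rfl⟩, rfl⟩
  have hxtiny : IsTiny ↥U x := by
    haveI : Fact (Nat.Prime 3) := ⟨Nat.prime_three⟩
    refine ⟨orderOf_eq_prime ?_ fun h1 => ?_, ?_⟩
    · rw [hx, ← map_pow, imgHom_eq_one_iff, Subgroup.mem_centralizer_iff]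
      exact fun v hv => by simpa [sX] using ((mem_omegaCenterOf.1 hv).2.1 _ (hRKR hs3)).symm
    · refine jcomp_wOf_ne_bot hK ?_
      rw [← hrange, eq_bot_iff]
      rintro _ ⟨_, ⟨u, rfl⟩, rfl⟩
      rw [Subgroup.mem_bot]
      have : disp x u = 1 := MonoidHom.mem_ker.1 (mem_ker_disp.2 (by rw [h1, one_smul]))
      rw [this]; rfl
    · have h4 := hK.2.2.2.2.1
      rwa [← hrange, ← Nat.card_congr (Subgroup.equivMapOfInjective _ U.subtype U.subtype_injective).toEquiv] at h4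
  have hx3 : x ∈ Cfsg.pCore 3 ↥(imgGroup (le_normalizer_omega_core X)) := by
    have hle : (K.subgroupOf X).map p = Subgroup.zpowers x := by
      refine le_antisymm ?_ (Subgroup.zpowers_le.2 ⟨sX, Subgroup.mem_subgroupOf.2 s.2, rfl⟩)
      rintro _ ⟨k, hk, rfl⟩
      obtain ⟨i, hi⟩ := hdec k (Subgroup.mem_subgroupOf.1 hk)
      have h1 : p (k * (sX ^ i)⁻¹) = 1 := by
        rw [imgHom_eq_one_iff, Subgroup.mem_centralizer_iff]
        exact fun v hv => by simpa [sX] using ((mem_omegaCenterOf.1 hv).2.1 _ (hRKR hi)).symm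
      rw [map_mul, map_inv, map_zpow, mul_inv_eq_one] at h1
      exact h1 ▸ zpow_mem (Subgroup.mem_zpowers x) i
    have hsn' := Subgroup.IsSubnormal.map (f := p) (imgHom_surjective _) hsn
    rw [hle] at hsn'
    refine H75.le_pCore_of_subnormal hsn' ?_ (Subgroup.mem_zpowers x)
    exact IsPGroup.of_card (n := 1) (by rw [Nat.card_zpowers, hxtiny.1, pow_one])
  -- offenders
  rw [hJ, thompson_eq]
  refine sSup_le fun A hA => ?_
  have hAX : A ≤ X := (mea_le_thompson hA).trans le_sup_right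
  have hSp : IsPGroup 2 ↥(J ⊔ R : Subgroup G) :=
    IsPGroup.to_sup_of_normal_right' (h.T_pgroup.to_le (thompson_le T)) (isPGroup_pCoreOf X)
      ((le_sup_right : J ≤ X).trans (le_normalizer_pCoreOf X))
  obtain ⟨g, hg, hgS⟩ := exists_cmap_le_sylTwo h.sylT hSp (sup_le h.J_le_L ((pCoreOf_le X).trans hXL))
  have hAS : A ∈ mea (J ⊔ R : Subgroup G) := by
    refine mem_mea_of_maxOrder_le hA ((mea_le_thompson hA).trans le_sup_left) ?_
    rw [← maxOrder_cmap g]
    exact maxOrder_mono hgS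
  have hoff := isOffer_imgOf (le_normalizer_omega_core X) hAS ((omegaCenterOf_le R).trans le_sup_right) hAX
  intro a ha
  have hblock := offer_fix_block omega_sq (imgOf_sq _ hA.2.1) (imgOf_comm _ hA.2.1) hoff hxtiny hx3
    (imgHom_mem_imgOf (le_normalizer_omega_core X) (l := ⟨a, hAX ha⟩) ha)
  refine mem_normalizer_of_forall fun w hw => ?_
  rw [← hrange] at hw ⊢
  obtain ⟨u, hu, rfl⟩ := hw
  refine ⟨p ⟨a, hAX ha⟩ • u, ?_, rfl⟩
  have h1 := smul_disp_range (p ⟨a, hAX ha⟩) x hu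
  have hne : p ⟨a, hAX ha⟩ * x * (p ⟨a, hAX ha⟩)⁻¹ ≠ 1 := fun e => by
    rw [conj_eq_one_iff] at e
    have := hxtiny.1
    rw [e, orderOf_one] at this
    omega
  rcases eq_or_eq_inv_of_mem_zpowers hxtiny.1 hblock hne with e | e
  · rwa [e] at h1
  · rwa [e, range_disp_inv] at h1

end H77
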