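import Cfsg.Agent.H77.JMax
import Cfsg.Agent.H77.JSplit

/-!
Outside components have exactly one maximal 2-local overgroup together with `J(T)`.
-/

set_option autoImplicit false

namespace H77

variable {G : Type*} [Group G]

/-- `L` is a maximal 2-local subgroup containing `K` and `J(T)`. -/
structure IsTop (T K L : Subgroup G) : Prop where
  maxLocal : Cfsg.IsMaximalTwoLocal L
  comp_le : K ≤ L
  J_le : Cfsg.thompsonSubgroupOf 2 T ≤ L

theorem cmap_iSup {ι : Sort*} (g : G) (f : ι → Subgroup G) : cmap g (⨆ i, f i) = ⨆ i, cmap g (f i) :=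
  Subgroup.map_iSup _ f

variable [Finite G]

theorem exists_maximalTwoLocal_ge {N : Subgroup G} (hN : Cfsg.IsTwoLocal N) :
    ∃ L : Subgroup G, Cfsg.IsMaximalTwoLocal L ∧ N ≤ L := by
  obtain ⟨L, ⟨hL, hNL⟩, hmax⟩ := Set.exists_max_image {L : Subgroup G | Cfsg.IsTwoLocal L ∧ N ≤ L}
    (fun L => Nat.card ↥L) (Set.toFinite _) ⟨N, hN, le_rfl⟩
  exact ⟨L, ⟨hL, fun L' hL' hle => (Subgroup.eq_of_le_of_card_ge hle (hmax L' ⟨hL', hNL.trans hle⟩)).symm⟩, hNL⟩

theorem maximalTwoLocal_normalizer_le {L : Subgroup G} (hL : Cfsg.IsMaximalTwoLocal L) :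
    Subgroup.normalizer (L : Set G) ≤ L := by
  obtain ⟨⟨P, hP, hP1, rfl⟩, hmax⟩ := hL
  set L := Subgroup.normalizer (P : Set G) with hLdef
  have hPQ : P ≤ Cfsg.pCoreOf 2 L := le_pCoreOf Subgroup.le_normalizer hP le_rfl
  have h2 : Cfsg.IsTwoLocal (Subgroup.normalizer (Cfsg.pCoreOf 2 L : Set G)) :=
    isTwoLocal_normalizer (isPGroup_pCoreOf L) (fun h0 => hP1 (le_bot_iff.1 (h0 ▸ hPQ)))
  have h3 := hmax _ h2 (le_normalizer_pCoreOf L)
  intro g hg
  rw [← h3]
  refine mem_normalizer_of_cmap_eq ?_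
  conv_rhs => rw [← cmap_eq_of_mem_normalizer hg]
  exact (H74.pCoreOf_map L (MulAut.conj g).toMonoidHom (MulAut.conj g).injective).symm

namespace JCtx

variable {T L : Subgroup G} (h : JCtx T L)
include h

theorem kComp_le_mOf {a s : ↥L} (r : IsRoot T L a s) : kComp L s ≤ mOf L := by
  intro k hk
  have hkL := kComp_le s hk
  refine (coe_mem_mOf (l := ⟨k, hkL⟩)).2 ?_
  obtain ⟨i, hi⟩ := Subgroup.mem_zpowers_iff.1 ((coe_mem_hOf (l := ⟨k, hkL⟩)).1 (kComp_le_hOf s hk))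
  rw [← map_zpow] at hi
  rw [← psi_eq_of_bar_eq hi, map_zpow]
  exact zpow_mem (Subgroup.subset_closure (show psi L s ∈ {x | IsTiny ↥(vOf L) x ∧ x ∈ Cfsg.pCore 3 ↥(xImg L)} from ⟨r.tiny, r.o3⟩)) i

/-- Components inside one member of `ℒ(T)` normalise each other. -/
theorem comp_le_normalizer {K K' : Subgroup G} (hK : Cfsg.IsJComponent T K) (hKL : K ≤ L)
    (hK' : Cfsg.IsJComponent T K') (hK'L : K' ≤ L) : K' ≤ Subgroup.normalizer (K : Set G) := by
  obtain ⟨a, s, r, rfl⟩ := h.exists_root_of_component hK hKL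
  obtain ⟨a', s', r', rfl⟩ := h.exists_root_of_component hK' hK'L
  exact (h.kComp_le_mOf r').trans ((h.mOf_le_normalizer_hOf r).trans (normalizer_hOf_le L s))

theorem wOf_le_vOf {K : Subgroup G} (hK : Cfsg.IsJComponent T K) (hKL : K ≤ L) : Cfsg.wOf K ≤ vOf L := by
  obtain ⟨a, s, r, rfl⟩ := h.exists_root_of_component hK hKL
  rw [(h.wOf_kComp r).1]
  exact Subgroup.map_subtype_le _

/-- Distinct components centralise each other's `W`, and these meet trivially. -/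
theorem comp_disjoint {K K' : Subgroup G} (hK : Cfsg.IsJComponent T K) (hKL : K ≤ L)
    (hK' : Cfsg.IsJComponent T K') (hK'L : K' ≤ L) (hne : K ≠ K') :
    (∀ k ∈ K, ∀ w ∈ Cfsg.wOf K', k * w = w * k) ∧ Cfsg.wOf K ⊓ Cfsg.wOf K' = ⊥ := by
  obtain ⟨a, s, r, rfl⟩ := h.exists_root_of_component hK hKL
  obtain ⟨a', s', r', rfl⟩ := h.exists_root_of_component hK' hK'L
  have hzne : Subgroup.zpowers (psi L s) ≠ Subgroup.zpowers (psi L s') := by
    intro he
    refine hne ?_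
    obtain ⟨e, he'⟩ := Subgroup.mem_zpowers_iff.1 (he ▸ Subgroup.mem_zpowers (psi L s') :
      psi L s' ∈ Subgroup.zpowers (psi L s))
    set c : ↥L := s' * (s ^ e)⁻¹ with hc
    have hc1 : psi L c = 1 := by rw [hc, map_mul, map_inv, map_zpow, he', mul_inv_cancel]
    have hcs : Commute (bar L s) (bar L c) := h.commute_ker_root r hc1
    have hca : Commute (bar L c) (bar L a) := h.commute_ker hc1 r.a_mem_T
    have hbs' : bar L s' = bar L c * bar L s ^ e := by rw [← map_zpow, ← map_mul, hc, inv_mul_cancel_right]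
    have hcs' : Commute (bar L c) (bar L s ^ e) := (hcs.symm.zpow_right e)
    have hs3 : bar L s' ^ 3 = 1 := by rw [← map_pow, r'.s_cube, map_one]
    have hcb : bar L c = 1 := by
      have hc3 : bar L c ^ 3 = 1 := by
        have e3 : (bar L s ^ e) ^ 3 = 1 := by
          rw [← zpow_natCast, ← zpow_mul, mul_comm, zpow_mul, zpow_natCast, ← map_pow, r.s_cube, map_one, one_zpow]
        have h1 := hs3
        rw [hbs', hcs'.mul_pow, e3, mul_one] at h1
        exact h1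
      obtain ⟨i, hi⟩ := Subgroup.mem_zpowers_iff.1
        (h.normalize_root r' (j := a) r.a_mem_T (h.J_psi_normalizes r'.tiny r'.o3 r.a_mem_J))
      have hlhs : bar L a * bar L s' * (bar L a)⁻¹ = bar L c * (bar L s ^ e)⁻¹ := by
        rw [hbs', ← conj_mul, hca.symm.eq, mul_inv_cancel_right, ← conj_zpow, r.bar_conj, inv_zpow]
      rw [hlhs] at hi
      by_cases h1 : bar L c * (bar L s ^ e)⁻¹ = bar L s'
      · exfalso
        rw [hbs'] at h1
        have h2 : (bar L s ^ e) ^ 2 = 1 := by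
          rw [sq]; nth_rw 1 [← mul_left_cancel h1]; exact inv_mul_cancel _
        have h3 : psi L s' ^ 2 = 1 := by
          rw [← he', ← map_zpow, ← map_pow]
          exact (psi_eq_of_bar_eq (by rw [map_pow, map_zpow, h2, map_one])).trans (map_one _)
        have h4 := orderOf_dvd_of_pow_eq_one h3
        rw [r'.tiny.1] at h4
        omega
      · haveI : Fact (Nat.Prime 3) := ⟨Nat.prime_three⟩
        have hne1 : bar L c * (bar L s ^ e)⁻¹ ≠ 1 := by
          intro h2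
          rw [mul_inv_eq_one] at h2
          have h3 : psi L c = psi L (s ^ e) := psi_eq_of_bar_eq (by rw [map_zpow]; exact h2)
          rw [hc1, map_zpow, he'] at h3
          have h4 := r'.tiny.1
          rw [← h3, orderOf_one] at h4
          omega
        have h5 := (eq_or_eq_inv_of_mem_zpowers (h.orderOf_bar_root r')
          (Subgroup.mem_zpowers_iff.2 ⟨i, hi⟩) hne1).resolve_left h1
        rw [hbs', mul_inv_rev, (hcs'.inv_inv).symm.eq] at h5
        have hc2 : bar L c ^ 2 = 1 := by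
          rw [sq]; nth_rw 1 [mul_right_cancel h5]; exact inv_mul_cancel _
        calc bar L c = bar L c ^ 3 * (bar L c ^ 2)⁻¹ := by group
          _ = 1 := by rw [hc3, hc2, inv_one, one_mul]
    rw [hcb, one_mul] at hbs'
    have hbs : Subgroup.zpowers (bar L s) = Subgroup.zpowers (bar L s') := by
      refine (Subgroup.eq_of_le_of_card_ge (Subgroup.zpowers_le.2 (hbs' ▸ zpow_mem (Subgroup.mem_zpowers _) e))
        ?_).symm
      rw [Nat.card_zpowers, Nat.card_zpowers, h.orderOf_bar_root r, h.orderOf_bar_root r']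
    rw [kComp, kComp, hOf, hOf, hbs]
  obtain ⟨hfix, hdisj⟩ := tiny_disjoint omega_sq r.tiny r'.tiny
    (tiny_commute omega_sq _ (H1.isPGroup_pCore 3 _) _ _ r.o3 r'.o3 r.tiny r'.tiny) hzne
  refine ⟨fun k hk w hw => ?_, ?_⟩
  · rw [(h.wOf_kComp r').1] at hw
    obtain ⟨v, hv, rfl⟩ := hw
    have hkL := kComp_le s hk
    obtain ⟨i, hi⟩ := Subgroup.mem_zpowers_iff.1 ((coe_mem_hOf (l := ⟨k, hkL⟩)).1 (kComp_le_hOf s hk))
    rw [← map_zpow] at hi
    have h1 : psi L ⟨k, hkL⟩ ∈ MulAction.stabilizer ↥(xImg L) v := by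
      rw [← psi_eq_of_bar_eq hi, map_zpow]
      exact zpow_mem (MulAction.mem_stabilizer_iff.2 (hfix v hv)) i
    exact (smul_eq_iff _ _ v).1 h1
  · rw [(h.wOf_kComp r).1, (h.wOf_kComp r').1,
      ← Subgroup.map_inf _ _ _ (vOf L).subtype_injective, hdisj, Subgroup.map_bot]

theorem comp_isSubnormal {K : Subgroup G} (hK : Cfsg.IsJComponent T K) (hKL : K ≤ L) :
    (K.subgroupOf L).IsSubnormal := by
  obtain ⟨a, s, r, rfl⟩ := h.exists_root_of_component hK hKL
  exact h.isSubnormal_kComp r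

end JCtx

namespace MCtx

variable {M T : Subgroup G} (h : MCtx M T)
include h

theorem top_not_le {K L : Subgroup G} (hKM : ¬ K ≤ M) (hL : IsTop T K L) : ¬ L ≤ M :=
  fun hle => hKM (hL.comp_le.trans hle)

theorem top_ctx {L : Subgroup G} (hL : Cfsg.IsTwoLocal L) (hLM : ¬ L ≤ M)
    (hJL : Cfsg.thompsonSubgroupOf 2 T ≤ L) :
    ∃ S : Subgroup G, JCtx S L ∧ Cfsg.thompsonSubgroupOf 2 S = Cfsg.thompsonSubgroupOf 2 T := by
  obtain ⟨S, hS, hJS⟩ := exists_sylTwo_ge h.J_pgroup hJL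
  obtain ⟨he, -, hctx⟩ := h.overgroup hL hLM hS hJS
  exact ⟨S, hctx, he⟩

theorem exists_top {K : Subgroup G} (hK : Cfsg.IsJComponent T K) : ∃ L : Subgroup G, IsTop T K L := by
  obtain ⟨L, hL, hle⟩ := exists_maximalTwoLocal_ge
    (isTwoLocal_normalizer (wOf_isPGroup K) (jcomp_wOf_ne_bot hK))
  exact ⟨L, hL, (Subgroup.le_normalizer.trans (normalizer_le_normalizer_wOf K)).trans hle,
    ((jcomp_J_le_normalizer hK).trans (normalizer_le_normalizer_wOf K)).trans hle⟩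

theorem cmap_comp {K : Subgroup G} (hK : Cfsg.IsJComponent T K) {g : G}
    (hg : g ∈ Subgroup.normalizer (Cfsg.thompsonSubgroupOf 2 T : Set G)) : Cfsg.IsJComponent T (cmap g K) :=
  isJComponent_congr (by rw [thompson_cmap, cmap_eq_of_mem_normalizer hg]) (isJComponent_cmap g hK)

theorem cmap_not_le {K : Subgroup G} (hKM : ¬ K ≤ M) {g : G} (hg : g ∈ M) : ¬ cmap g K ≤ M := by
  intro hle
  refine hKM ?_
  have h1 := cmap_mono g⁻¹ hle
  rwa [cmap_inv_cmap, cmap_eq_of_mem_normalizer (Subgroup.le_normalizer (M.inv_mem hg))] at h1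

/-- The join of the `W`'s of the outside components of a top is normal in it. -/
theorem top_eq_normalizer {K L : Subgroup G} (hK : Cfsg.IsJComponent T K) (hKM : ¬ K ≤ M) (hL : IsTop T K L) :
    L = Subgroup.normalizer ((⨆ K' : {K' : Subgroup G // Cfsg.IsJComponent T K' ∧ ¬ K' ≤ M ∧ K' ≤ L},
      Cfsg.wOf (K' : Subgroup G) : Subgroup G) : Set G) := by
  obtain ⟨S, hctx, hJS⟩ := h.top_ctx hL.maxLocal.1 (h.top_not_le hKM hL) hL.J_le
  set ι := {K' : Subgroup G // Cfsg.IsJComponent T K' ∧ ¬ K' ≤ M ∧ K' ≤ L}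
  set W := ⨆ K' : ι, Cfsg.wOf (K' : Subgroup G) with hW
  have hWv : W ≤ vOf L := iSup_le fun K' => hctx.wOf_le_vOf (isJComponent_congr hJS K'.2.1) K'.2.2.2
  have hW1 : W ≠ ⊥ := fun h0 =>
    jcomp_wOf_ne_bot hK (le_bot_iff.1 (h0 ▸ le_iSup (fun K' : ι => Cfsg.wOf (K' : Subgroup G))
      ⟨K, hK, hKM, hL.comp_le⟩))
  have hn : L ≤ Subgroup.normalizer (W : Set G) := by
    refine hctx.le_sup_components.trans (sup_le ?_ (iSup_le fun K'' => ?_))
    · intro g hg
      obtain ⟨hgL, hgJ⟩ := Subgroup.mem_inf.1 hg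
      rw [hJS] at hgJ
      have hgM : g ∈ M := h.normalizer_J_le hgJ
      refine mem_normalizer_of_cmap_eq (Subgroup.eq_of_le_of_card_ge ?_ (card_cmap g W).ge)
      rw [hW, cmap_iSup]
      refine iSup_le fun K' => ?_
      rw [← wOf_cmap]
      refine le_iSup (fun K' : ι => Cfsg.wOf (K' : Subgroup G))
        ⟨cmap g K', h.cmap_comp K'.2.1 hgJ, h.cmap_not_le K'.2.2.1 hgM, ?_⟩
      exact (cmap_mono g K'.2.2.2).trans (cmap_eq_of_mem_normalizer (Subgroup.le_normalizer hgL)).le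
    · intro k hk
      refine mem_normalizer_of_cmap_eq (Subgroup.eq_of_le_of_card_ge ?_ (card_cmap k W).ge)
      rw [hW, cmap_iSup]
      refine iSup_le fun K' => ?_
      show cmap k (Cfsg.wOf (K' : Subgroup G)) ≤ _
      rw [cmap_eq_of_mem_normalizer (normalizer_le_normalizer_wOf _
        (hctx.comp_le_normalizer (isJComponent_congr hJS K'.2.1) K'.2.2.2 K''.2.1 K''.2.2 hk))]
      exact le_iSup (fun K' : ι => Cfsg.wOf (K' : Subgroup G)) K'
  exact (hL.maxLocal.2 _ (isTwoLocal_normalizer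
    ((elem_isPGroup (omegaCenterOf_elem (qOf L))).to_le hWv) hW1) hn).symm

/-- Uniqueness of the maximal 2-local overgroup of `⟨K, J(T)⟩`. -/
theorem top_unique {K L1 L2 : Subgroup G} (hK : Cfsg.IsJComponent T K) (hKM : ¬ K ≤ M)
    (hL1 : IsTop T K L1) (hL2 : IsTop T K L2) : L1 = L2 := by
  obtain ⟨S, -, hJS, hctx⟩ := exists_ctx_normalizer_wOf h.char2 h.sol h.cen h.T_pgroup
    (h.mem_jComponentsZero hK hKM)
  have key : ∀ L L' : Subgroup G, IsTop T K L → IsTop T K L' →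
      ∀ K' : Subgroup G, Cfsg.IsJComponent T K' → ¬ K' ≤ M → K' ≤ L → K' ≤ L' := by
    intro L L' hL hL' K' hK' hK'M hK'L
    rw [h.top_eq_normalizer hK hKM hL']
    obtain ⟨S1, hctx1, hJ1⟩ := h.top_ctx hL.maxLocal.1 (h.top_not_le hKM hL) hL.J_le
    obtain ⟨S2, hctx2, hJ2⟩ := h.top_ctx hL'.maxLocal.1 (h.top_not_le hKM hL') hL'.J_le
    have h1 : K' ≤ Subgroup.normalizer (Cfsg.wOf K : Set G) :=
      (hctx1.comp_le_normalizer (isJComponent_congr hJ1 hK) hL.comp_le (isJComponent_congr hJ1 hK') hK'L).trans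
        (normalizer_le_normalizer_wOf K)
    intro k hk
    refine mem_normalizer_of_cmap_eq (Subgroup.eq_of_le_of_card_ge ?_ (card_cmap k _).ge)
    rw [cmap_iSup]
    refine iSup_le fun Kj => ?_
    have h2 : (Kj : Subgroup G) ≤ Subgroup.normalizer (Cfsg.wOf K : Set G) :=
      (hctx2.comp_le_normalizer (isJComponent_congr hJ2 hK) hL'.comp_le (isJComponent_congr hJ2 Kj.2.1)
        Kj.2.2.2).trans (normalizer_le_normalizer_wOf K)
    rw [cmap_eq_of_mem_normalizer (normalizer_le_normalizer_wOf _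
      (hctx.comp_le_normalizer (isJComponent_congr hJS Kj.2.1) h2 (isJComponent_congr hJS hK') h1 hk))]
    exact le_iSup (fun K' : {K' : Subgroup G // Cfsg.IsJComponent T K' ∧ ¬ K' ≤ M ∧ K' ≤ L'} =>
      Cfsg.wOf (K' : Subgroup G)) Kj
  rw [h.top_eq_normalizer hK hKM hL1, h.top_eq_normalizer hK hKM hL2]
  have hiff : ∀ K' : Subgroup G, (Cfsg.IsJComponent T K' ∧ ¬ K' ≤ M ∧ K' ≤ L1) ↔
      (Cfsg.IsJComponent T K' ∧ ¬ K' ≤ M ∧ K' ≤ L2) := fun K' =>
    ⟨fun hh => ⟨hh.1, hh.2.1, key L1 L2 hL1 hL2 K' hh.1 hh.2.1 hh.2.2⟩,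
      fun hh => ⟨hh.1, hh.2.1, key L2 L1 hL2 hL1 K' hh.1 hh.2.1 hh.2.2⟩⟩
  have : (⨆ K' : {K' : Subgroup G // Cfsg.IsJComponent T K' ∧ ¬ K' ≤ M ∧ K' ≤ L1}, Cfsg.wOf (K' : Subgroup G)) =
      ⨆ K' : {K' : Subgroup G // Cfsg.IsJComponent T K' ∧ ¬ K' ≤ M ∧ K' ≤ L2}, Cfsg.wOf (K' : Subgroup G) := by
    refine le_antisymm (iSup_le fun K' => ?_) (iSup_le fun K' => ?_)
    · exact le_iSup (fun X : {K' : Subgroup G // Cfsg.IsJComponent T K' ∧ ¬ K' ≤ M ∧ K' ≤ L2} =>
        Cfsg.wOf (X : Subgroup G)) ⟨K'.1, (hiff _).1 K'.2⟩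
    · exact le_iSup (fun X : {K' : Subgroup G // Cfsg.IsJComponent T K' ∧ ¬ K' ≤ M ∧ K' ≤ L1} =>
        Cfsg.wOf (X : Subgroup G)) ⟨K'.1, (hiff _).2 K'.2⟩
  rw [this]

/-- An outside component with `O₂(⟨K, T⟩) ≠ 1`: its top contains `T` as a Sylow 2-subgroup. -/
theorem exists_top_T {K : Subgroup G} (hK : K ∈ Cfsg.jComponentsOutside M T) :
    ∃ L : Subgroup G, IsTop T K L ∧ T ≤ L ∧ JCtx T L := by
  obtain ⟨⟨-, -⟩, hKM, hQ⟩ := hK
  obtain ⟨L, hL, hle⟩ := exists_maximalTwoLocal_ge (isTwoLocal_normalizer (isPGroup_pCoreOf (K ⊔ T)) hQ)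
  have hKT : K ⊔ T ≤ L := (le_normalizer_pCoreOf (K ⊔ T)).trans hle
  have hTL : T ≤ L := le_sup_right.trans hKT
  exact ⟨L, ⟨hL, le_sup_left.trans hKT, (thompson_le T).trans hTL⟩, hTL,
    h.ctx_of_T_le hL.1 (fun hM' => hKM ((le_sup_left.trans hKT).trans hM')) hTL⟩

end MCtx

end H77
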