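import Cfsg.Agent.H77.JStruct

/-!
General facts on `J(T)`-components and the 2-local subgroup `N(W_K)`.
-/

set_option autoImplicit false

namespace H77

variable {G : Type*} [Group G]

theorem isJComponent_congr {T T' K : Subgroup G}
    (h : Cfsg.thompsonSubgroupOf 2 T' = Cfsg.thompsonSubgroupOf 2 T) (hK : Cfsg.IsJComponent T K) :
    Cfsg.IsJComponent T' K := by
  unfold Cfsg.IsJComponent at hK ⊢
  rw [h]
  exact hK

theorem jcomp_J_le_normalizer {T K : Subgroup G} (hK : Cfsg.IsJComponent T K) :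
    Cfsg.thompsonSubgroupOf 2 T ≤ Subgroup.normalizer (K : Set G) := by
  conv_rhs => rw [← hK.2.1]
  exact H1.right_le_normalizer_commutator (A := Cfsg.thompsonSubgroupOf 2 T) (K := K)

theorem wOf_cmap [Finite G] (g : G) (K : Subgroup G) : Cfsg.wOf (cmap g K) = cmap g (Cfsg.wOf K) := by
  have h1 : Cfsg.pCoreOf 2 (cmap g K) = cmap g (Cfsg.pCoreOf 2 K) :=
    H74.pCoreOf_map K (MulAut.conj g).toMonoidHom (MulAut.conj g).injective
  rw [Cfsg.wOf, Cfsg.wOf, h1, omegaCenterOf_cmap]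
  exact (Subgroup.map_commutator _ _ _).symm

theorem normalizer_le_normalizer_wOf [Finite G] (K : Subgroup G) :
    Subgroup.normalizer (K : Set G) ≤ Subgroup.normalizer (Cfsg.wOf K : Set G) := fun g hg =>
  mem_normalizer_of_cmap_eq (by rw [← wOf_cmap, cmap_eq_of_mem_normalizer hg])

theorem wOf_le_omega [Finite G] (K : Subgroup G) : Cfsg.wOf K ≤ Cfsg.omegaCenterOf (Cfsg.pCoreOf 2 K) := by
  rw [Cfsg.wOf, Subgroup.commutator_le]
  intro u hu k hk
  have hn := normalizer_le_normalizer_omegaCenterOf _ (le_normalizer_pCoreOf (p := 2) K hk)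
  rw [commutatorElement_def]
  have := (Cfsg.omegaCenterOf (Cfsg.pCoreOf 2 K)).mul_mem hu ((Subgroup.mem_normalizer_iff.1 hn u⁻¹).1 (inv_mem hu))
  simpa [mul_assoc] using this

theorem wOf_isPGroup [Finite G] (K : Subgroup G) : IsPGroup 2 ↥(Cfsg.wOf K) :=
  (elem_isPGroup (omegaCenterOf_elem (Cfsg.pCoreOf 2 K))).to_le (wOf_le_omega K)

theorem jcomp_wOf_ne_bot [Finite G] {T K : Subgroup G} (hK : Cfsg.IsJComponent T K) : Cfsg.wOf K ≠ ⊥ := by
  intro h0
  have h4 := hK.2.2.2.2.1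
  rw [h0, Subgroup.card_bot] at h4
  omega

/-- A component is not contained in a 2-group. -/
theorem jcomp_not_le_twoGroup [Finite G] {T K P : Subgroup G} (hK : Cfsg.IsJComponent T K) (hP : IsPGroup 2 ↥P) :
    ¬ K ≤ P := by
  intro hle
  have hbot : K = ⊥ := by
    rw [← hK.1, Subgroup.closure_eq_bot_iff]
    rintro k ⟨hk, ho⟩
    obtain ⟨n, hn⟩ := pow_two_pow_of_mem hP (hle hk)
    exact eq_one_of_two_pow_of_odd hn ho
  have hidx := hK.2.2.1
  rw [hbot, Subgroup.relIndex_bot_right] at hidx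
  omega

/-- `J(T)` is not contained in the 2-core of a group containing `K` and `J(T)`. -/
theorem jcomp_not_J_le_pCoreOf [Finite G] {T K L : Subgroup G} (hK : Cfsg.IsJComponent T K) (hKL : K ≤ L) :
    ¬ Cfsg.thompsonSubgroupOf 2 T ≤ Cfsg.pCoreOf 2 L := by
  intro hJ
  refine jcomp_not_le_twoGroup hK (isPGroup_pCoreOf L) ?_
  conv_lhs => rw [← hK.2.1]
  rw [Subgroup.commutator_le]
  intro k hk j hj
  rw [commutatorElement_def]
  exact mul_mem ((Subgroup.mem_normalizer_iff.1 (le_normalizer_pCoreOf L (hKL hk)) j).1 (hJ hj)) (inv_mem (hJ hj))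

theorem cmap_commutator (g : G) (A B : Subgroup G) : cmap g ⁅A, B⁆ = ⁅cmap g A, cmap g B⁆ :=
  Subgroup.map_commutator _ _ _

theorem isJComponent_cmap [Finite G] {T K : Subgroup G} (g : G) (hK : Cfsg.IsJComponent T K) :
    Cfsg.IsJComponent (cmap g T) (cmap g K) := by
  obtain ⟨h1, h2, h3, h4, h5, h6⟩ := hK
  refine ⟨?_, ?_, ?_, ?_, ?_, ?_⟩
  · conv_rhs => rw [← h1]
    show _ = Subgroup.map _ _
    rw [MonoidHom.map_closure]
    congr 1
    ext x
    simp only [Set.mem_setOf_eq, Set.mem_image, Subgroup.mem_map]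
    constructor
    · rintro ⟨⟨k, hk, rfl⟩, ho⟩
      exact ⟨k, ⟨hk, by rwa [orderOf_injective _ (MulAut.conj g).injective] at ho⟩, rfl⟩
    · rintro ⟨k, ⟨hk, ho⟩, rfl⟩
      exact ⟨⟨k, hk, rfl⟩, by rw [orderOf_injective _ (MulAut.conj g).injective]; exact ho⟩
  · rw [thompson_cmap, ← cmap_commutator, h2]
  · rw [H74.pCoreOf_map K (MulAut.conj g).toMonoidHom (MulAut.conj g).injective,
      Subgroup.relIndex_map_map_of_injective _ _ (MulAut.conj g).injective, h3]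
  · intro S hS hJS
    rw [thompson_cmap] at hJS ⊢
    have h7 := sylTwo_cmap hS g⁻¹
    have e : cmap g⁻¹ (cmap g K ⊔ Cfsg.thompsonSubgroupOf 2 (cmap g T)) = K ⊔ Cfsg.thompsonSubgroupOf 2 T := by
      show Subgroup.map _ _ = _
      rw [Subgroup.map_sup, thompson_cmap]
      exact congrArg₂ (· ⊔ ·) (cmap_inv_cmap g K) (cmap_inv_cmap g _)
    rw [e] at h7
    have h8 := h4 (cmap g⁻¹ S) h7 (cmap_le_iff.1 hJS)
    rw [thompson_cmap] at h8
    rw [← h8, cmap_cmap_inv]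
  · rw [wOf_cmap, card_cmap, h5]
  · intro w hw
    rw [wOf_cmap] at hw
    obtain ⟨v, hv, rfl⟩ := hw
    rw [← map_mul, h6 v hv, map_one]

variable [Finite G]

/-- For `K ∈ 𝒦₀(T)`, the group `N(W_K)` lies in `ℒ(S)` for a Sylow 2-subgroup `S` with `J(S) = J(T)`. -/
theorem exists_ctx_normalizer_wOf (hL : Cfsg.IsCharacteristicTwoType G)
    (hN : ∀ N : Subgroup G, Cfsg.IsTwoLocal N → Group.IsSolvable ↥N)
    (hZ : ∀ S : Sylow 2 G, Subgroup.centralizer (Cfsg.omegaCenterOf (S : Subgroup G) : Set G) ≤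
      Subgroup.normalizer ((S : Subgroup G) : Set G))
    {T K : Subgroup G} (hT : IsPGroup 2 ↥T) (hK : K ∈ Cfsg.jComponentsZero T) :
    ∃ S : Subgroup G, Cfsg.thompsonSubgroupOf 2 T ≤ S ∧
      Cfsg.thompsonSubgroupOf 2 S = Cfsg.thompsonSubgroupOf 2 T ∧
      JCtx S (Subgroup.normalizer (Cfsg.wOf K : Set G)) := by
  obtain ⟨hKc, hKz⟩ := hK
  set J := Cfsg.thompsonSubgroupOf 2 T with hJ
  set L0 := Subgroup.normalizer (Cfsg.wOf K : Set G) with hL0
  have hJL : J ≤ L0 := (jcomp_J_le_normalizer hKc).trans (normalizer_le_normalizer_wOf K)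
  have hKL : K ≤ L0 := Subgroup.le_normalizer.trans (normalizer_le_normalizer_wOf K)
  obtain ⟨S, hS, hJS⟩ := exists_sylTwo_ge (hT.to_le (thompson_le T)) hJL
  have hJSeq := hKz S hJS hS
  refine ⟨S, hJS, hJSeq, hL, hN, hZ, hS, ?_, ?_⟩
  · rw [hJSeq]
    exact jcomp_not_J_le_pCoreOf hKc hKL
  · have hW : Cfsg.wOf K ≤ Cfsg.pCoreOf 2 L0 :=
      le_pCoreOf Subgroup.le_normalizer (wOf_isPGroup K) le_rfl
    have h1 : Subgroup.centralizer (Cfsg.pCoreOf 2 L0 : Set G) ≤ L0 :=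
      (Subgroup.centralizer_le (SetLike.coe_subset_coe.2 hW)).trans (Subgroup.centralizer_le_normalizer _)
    have h2 := charP_subgroup_iff.1 (hL.2 _ (wOf_isPGroup K) (jcomp_wOf_ne_bot hKc) :
      Subgroup.centralizer (Cfsg.pCore 2 ↥L0 : Set ↥L0) ≤ Cfsg.pCore 2 ↥L0)
    exact (le_inf h1 le_rfl).trans h2

/-- `N(W_K) ≤ N(K)` for `K ∈ 𝒦₀(T)`. -/
theorem normalizer_wOf_le (hL : Cfsg.IsCharacteristicTwoType G)
    (hN : ∀ N : Subgroup G, Cfsg.IsTwoLocal N → Group.IsSolvable ↥N)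
    (hZ : ∀ S : Sylow 2 G, Subgroup.centralizer (Cfsg.omegaCenterOf (S : Subgroup G) : Set G) ≤
      Subgroup.normalizer ((S : Subgroup G) : Set G))
    {T K : Subgroup G} (hT : IsPGroup 2 ↥T) (hK : K ∈ Cfsg.jComponentsZero T) :
    Subgroup.normalizer (Cfsg.wOf K : Set G) ≤ Subgroup.normalizer (K : Set G) := by
  obtain ⟨S, -, hJS, h⟩ := exists_ctx_normalizer_wOf hL hN hZ hT hK
  have hKL : K ≤ Subgroup.normalizer (Cfsg.wOf K : Set G) :=
    Subgroup.le_normalizer.trans (normalizer_le_normalizer_wOf K)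
  obtain ⟨a, s, r, he⟩ := h.exists_root_of_component (isJComponent_congr hJS hK.1) hKL
  have h1 := h.normalizer_wOf_inf_le r
  rw [← he, inf_idem] at h1
  exact h1

/-- Transport to conjugates of `T` with Thompson subgroup inside `N(W_K)`. -/
theorem isJComponent_conj (hL : Cfsg.IsCharacteristicTwoType G)
    (hN : ∀ N : Subgroup G, Cfsg.IsTwoLocal N → Group.IsSolvable ↥N)
    (hZ : ∀ S : Sylow 2 G, Subgroup.centralizer (Cfsg.omegaCenterOf (S : Subgroup G) : Set G) ≤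
      Subgroup.normalizer ((S : Subgroup G) : Set G))
    {T K : Subgroup G} (hT : IsPGroup 2 ↥T) (hK : K ∈ Cfsg.jComponentsZero T) {g : G}
    (hg : Cfsg.thompsonSubgroupOf 2 (cmap g T) ≤ Subgroup.normalizer (Cfsg.wOf K : Set G)) :
    Cfsg.IsJComponent (cmap g T) K := by
  obtain ⟨S, hJS, hJSeq, h⟩ := exists_ctx_normalizer_wOf hL hN hZ hT hK
  have hp : IsPGroup 2 ↥(Cfsg.thompsonSubgroupOf 2 (cmap g T)) :=
    ((hT.map (MulAut.conj g).toMonoidHom) : IsPGroup 2 ↥(cmap g T)).to_le (thompson_le _)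
  obtain ⟨x, hx, hxS⟩ := exists_cmap_le_sylTwo h.sylT hp hg
  have ha : Cfsg.maxElemAbelianOrder S ≤ Cfsg.maxElemAbelianOrder (cmap x (cmap g T)) := by
    rw [maxOrder_cmap, maxOrder_cmap, ← maxOrder_eq_of_thompson_le (thompson_le S) le_rfl,
      ← maxOrder_eq_of_thompson_le (thompson_le T) le_rfl, hJSeq]
  have h2 := thompson_mono (S := cmap x (cmap g T)) (S' := S) (by rw [thompson_cmap]; exact hxS) ha
  rw [hJSeq, thompson_cmap, thompson_cmap] at h2
  have h3 : cmap x (cmap g (Cfsg.thompsonSubgroupOf 2 T)) = Cfsg.thompsonSubgroupOf 2 T :=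
    Subgroup.eq_of_le_of_card_ge h2 (by rw [card_cmap, card_cmap])
  have hxi : x⁻¹ ∈ Subgroup.normalizer (K : Set G) := inv_mem (normalizer_wOf_le hL hN hZ hT hK hx)
  have h4 := isJComponent_cmap x⁻¹ hK.1
  rw [cmap_eq_of_mem_normalizer hxi] at h4
  refine isJComponent_congr ?_ h4
  rw [thompson_cmap, thompson_cmap]
  conv_rhs => rw [← h3]
  rw [cmap_inv_cmap]

end H77
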