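import Cfsg.Agent.H68.CharP
import Cfsg.Agent.H77.CharP

/-! `N(B)` and `C(B)` have characteristic `p` when `N(C)` has, for `C` normal in the `p`-group `B`. -/

set_option autoImplicit false

namespace H77

variable {X : Type*} [Group X] [Finite X] {p : ℕ} [Fact p.Prime]

theorem charP_normalizer_centralizer_of_normal (B C : Subgroup X) (hB : IsPGroup p ↥B) (hCB : C ≤ B)
    (hCn : B ≤ Subgroup.normalizer (C : Set X))
    (hC : Subgroup.centralizer (Cfsg.pCore p ↥(Subgroup.normalizer (C : Set X)) : Set _) ≤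
      Cfsg.pCore p ↥(Subgroup.normalizer (C : Set X))) :
    Subgroup.centralizer (Cfsg.pCore p ↥(Subgroup.normalizer (B : Set X)) : Set _) ≤
        Cfsg.pCore p ↥(Subgroup.normalizer (B : Set X)) ∧
      Subgroup.centralizer (Cfsg.pCore p ↥(Subgroup.centralizer (B : Set X)) : Set _) ≤
        Cfsg.pCore p ↥(Subgroup.centralizer (B : Set X)) := by
  have h1 := H68.centralizer_pCore_le_inf_centralizer (U := B) hB
    (hCn.trans Subgroup.le_normalizer) hC
  have hD : Subgroup.normalizer (C : Set X) ⊓ Subgroup.centralizer (B : Set X) =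
      Subgroup.centralizer (B : Set X) := inf_of_le_right
    ((Subgroup.centralizer_le (SetLike.coe_subset_coe.2 hCB)).trans fun g hg =>
      mem_normalizer_of_forall fun c hc => by
        rwa [mem_cent.1 hg c hc, mul_inv_cancel_right])
  rw [hD] at h1
  refine ⟨?_, h1⟩
  rw [charP_subgroup_iff] at h1 ⊢
  set N := Subgroup.normalizer (B : Set X)
  set D := Subgroup.centralizer (B : Set X)
  refine charP_of_pPrime_trivial fun k hk hk' hcomm => ?_
  have hBO : B ≤ Cfsg.pCoreOf p N := le_pCoreOf Subgroup.le_normalizer hB le_rfl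
  have hkD : k ∈ D := mem_cent.2 fun b hb => hcomm b (hBO hb)
  have hDN : D ≤ N := fun g hg => mem_normalizer_of_forall fun b hb => by
    rwa [mem_cent.1 hg b hb, mul_inv_cancel_right]
  -- the `p`-core of `D` lies in the `p`-core of `N`
  have hND : N ≤ Subgroup.normalizer (D : Set X) := by
    intro g hg
    refine mem_normalizer_of_forall fun d hd => mem_cent.2 fun b hb => ?_
    have h2 : g⁻¹ * b * g ∈ B := by
      have := (Subgroup.mem_normalizer_iff.1 (N.inv_mem hg) b).1 hb
      rwa [inv_inv] at this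
    calc g * d * g⁻¹ * b = g * (d * (g⁻¹ * b * g)) * g⁻¹ := by group
      _ = g * ((g⁻¹ * b * g) * d) * g⁻¹ := by rw [mem_cent.1 hd _ h2]
      _ = b * (g * d * g⁻¹) := by group
  have hOD : Cfsg.pCoreOf p D ≤ Cfsg.pCoreOf p N := by
    refine le_pCoreOf ((pCoreOf_le D).trans hDN) (isPGroup_pCoreOf D) ?_
    haveI : (Cfsg.pCore p ↥D).Characteristic := H1.pCore_characteristic p ↥D
    exact hND.trans (Cfsg.Comp.le_normalizer_map_subtype _)
  refine eq_one_of_mem_pGroup (isPGroup_pCoreOf D) (h1 ⟨hkD, mem_cent.2 fun r hr => ?_⟩) hk'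
  exact hcomm r (hOD hr)

end H77
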