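import Cfsg.Agent.H31.WreathModel
import Cfsg.Prelude
import Mathlib

/-!
Explicit elements of `O⁻₆(2)` generating a copy of `D₈ ≀ C₂`, with commutator expressions for the
even generators.
-/

set_option autoImplicit false
open Matrix

namespace H77.OMinus

/-- Index set. -/
abbrev Idx := (Fin 2 ⊕ Fin 2) ⊕ Fin 2

/-- Six rows indexed by `Idx`. -/
def num : Idx → Fin 6
  | .inl (.inl 0) => 0
  | .inl (.inl 1) => 1
  | .inl (.inr 0) => 2
  | .inl (.inr 1) => 3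
  | .inr 0 => 4
  | .inr 1 => 5

/-- Re-indexed matrix. -/
def mk (M : Matrix (Fin 6) (Fin 6) (ZMod 2)) : Matrix Idx Idx (ZMod 2) := fun i j => M (num i) (num j)

/-- The elliptic form in dimension six over two elements. -/
abbrev form : (Idx → ZMod 2) → ZMod 2 := Cfsg.quadFormMinus 2 (ZMod 2) 1 1

/-- The orthogonal group. -/
abbrev O6 : Subgroup (GL Idx (ZMod 2)) := Cfsg.isometryGroup (ZMod 2) form

/-- An element from a matrix, its inverse and the invariance of the form. -/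
def elt (M N : Matrix (Fin 6) (Fin 6) (ZMod 2)) (h1 : mk M * mk N = 1) (h2 : mk N * mk M = 1)
    (h : ∀ u, form (mk M *ᵥ u) = form u) : ↥O6 :=
  ⟨⟨mk M, mk N, h1, h2⟩, fun u _ => h u⟩

theorem elt_ext {a b : ↥O6} (h : ((a : GL Idx (ZMod 2)) : Matrix Idx Idx (ZMod 2)) =
    ((b : GL Idx (ZMod 2)) : Matrix Idx Idx (ZMod 2))) : a = b :=
  Subtype.ext (Units.ext h)

instance : DecidableEq ↥O6 := fun a b =>
  decidable_of_iff (((a : GL Idx (ZMod 2)) : Matrix Idx Idx (ZMod 2)) =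
    ((b : GL Idx (ZMod 2)) : Matrix Idx Idx (ZMod 2))) ⟨elt_ext, fun h => h ▸ rfl⟩

/-- Matrix data. -/
def mp : Matrix (Fin 6) (Fin 6) (ZMod 2) := !![0,0,1,0,0,0; 0,1,0,0,0,0; 1,0,0,0,0,0; 0,0,0,1,0,0; 0,0,0,0,1,0; 0,0,0,0,0,1]
/-- Matrix data. -/
def mq : Matrix (Fin 6) (Fin 6) (ZMod 2) := !![1,1,1,0,0,1; 1,1,0,1,0,1; 1,0,1,1,0,1; 0,1,1,1,0,1; 1,1,1,1,1,0; 0,0,0,0,0,1]
/-- Matrix data. -/
def mx : Matrix (Fin 6) (Fin 6) (ZMod 2) := !![1,1,1,0,1,0; 0,1,0,0,0,0; 1,1,1,0,1,1; 1,0,1,1,0,1; 1,1,0,0,0,1; 1,0,1,0,0,0]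
/-- Matrix data. -/
def mqg : Matrix (Fin 6) (Fin 6) (ZMod 2) := !![0,0,1,0,0,0; 0,0,0,1,0,0; 1,0,0,0,0,0; 0,1,0,0,0,0; 0,0,0,0,1,0; 0,0,0,0,0,1]
/-- Matrix data. -/
def mqh : Matrix (Fin 6) (Fin 6) (ZMod 2) := !![1,0,0,0,0,0; 1,1,0,1,0,1; 1,0,1,1,0,1; 0,0,0,1,0,0; 1,0,0,1,1,1; 0,0,0,0,0,1]
/-- Matrix data. -/
def mxg : Matrix (Fin 6) (Fin 6) (ZMod 2) := !![0,0,1,0,0,0; 0,1,0,0,0,0; 1,0,0,0,0,0; 0,0,0,1,0,0; 0,0,0,0,1,1; 0,0,0,0,0,1]
/-- Matrix data. -/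
def mxh : Matrix (Fin 6) (Fin 6) (ZMod 2) := !![1,1,1,0,1,0; 0,1,0,0,0,0; 0,0,1,0,0,0; 0,1,1,1,1,0; 0,0,0,0,1,0; 0,1,1,0,1,1]
/-- Matrix data. -/
def mw : Matrix (Fin 6) (Fin 6) (ZMod 2) := !![1,0,0,1,0,0; 1,1,1,1,0,0; 0,0,1,1,0,0; 0,0,0,1,0,0; 0,0,0,0,1,0; 0,0,0,0,0,1]

/-- reflection -/
def p : ↥O6 := elt mp mp (by decide +kernel) (by decide +kernel) (by decide +kernel)
/-- generator -/
def q : ↥O6 := elt mq mq (by decide +kernel) (by decide +kernel) (by decide +kernel)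
/-- generator -/
def x : ↥O6 := elt mx mx (by decide +kernel) (by decide +kernel) (by decide +kernel)
/-- auxiliary -/
def qg : ↥O6 := elt mqg mqg (by decide +kernel) (by decide +kernel) (by decide +kernel)
/-- auxiliary -/
def qh : ↥O6 := elt mqh mqh (by decide +kernel) (by decide +kernel) (by decide +kernel)
/-- auxiliary -/
def xg : ↥O6 := elt mxg mxg (by decide +kernel) (by decide +kernel) (by decide +kernel)
/-- auxiliary -/
def xh : ↥O6 := elt mxh mxh (by decide +kernel) (by decide +kernel) (by decide +kernel)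
/-- auxiliary -/
def w : ↥O6 := elt mw (mw * mw * mw) (by decide +kernel) (by decide +kernel) (by decide +kernel)

open scoped commutatorElement in
theorem q_eq : q = qg * qh * qg⁻¹ * qh⁻¹ := by decide +kernel

theorem x_eq : x = xg * xh * xg⁻¹ * xh⁻¹ := by decide +kernel

/-- The embedding of `D ≀ C₂`. -/
theorem exists_hom : ∃ φ : H31.DWr.W →* ↥O6, Function.Injective φ ∧ φ H31.DWr.e = p ∧
    φ H31.DWr.f = q ∧ φ H31.DWr.t = x :=
  H31.DWr.nonempty_mulEquiv p q x (by decide +kernel) (by decide +kernel) (by decide +kernel)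
    (by decide +kernel) (by decide +kernel) (by decide +kernel) (by decide +kernel)
    (by decide +kernel)

theorem w_not_comm : (w * q * w⁻¹) * ((p * q) ^ 2 * (x * (p * q) ^ 2 * x)) ≠
    (p * q) ^ 2 * (x * (p * q) ^ 2 * x) * (w * q * w⁻¹) := by decide +kernel

theorem q_mem : q ∈ commutator ↥O6 := by
  rw [q_eq]
  exact Subgroup.commutator_mem_commutator (Subgroup.mem_top qg) (Subgroup.mem_top qh)

theorem x_mem : x ∈ commutator ↥O6 := by
  rw [x_eq]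
  exact Subgroup.commutator_mem_commutator (Subgroup.mem_top xg) (Subgroup.mem_top xh)

end H77.OMinus
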