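import Cfsg.Agent.H77.QuadSystems
import Mathlib

/-!
The two shapes of a linked system of quads (pairs, or the planes on eight points) both give an
elementary abelian normal subgroup; hence a three-cycle must exist.
-/

set_option autoImplicit false
open Cfsg Equiv Equiv.Perm

namespace H77.Quads

open H63 (cyc)

variable {α : Type*} [Fintype α] [DecidableEq α] {H : Subgroup (Perm α)}

/-- Same quads through two points. -/
def Same (H : Subgroup (Perm α)) (x y : α) : Prop := ∀ Q, Quad H Q → (x ∈ Q ↔ y ∈ Q)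

omit [Fintype α] in
theorem same_map {g : Perm α} (hg : g ∈ H) {x y : α} (h : Same H x y) : Same H (g x) (g y) := by
  intro Q hQ
  have h1 := h _ (quad_map (H.inv_mem hg) hQ)
  have key : ∀ z, z ∈ Q.image (g⁻¹ : Perm α) ↔ g z ∈ Q := fun z => by
    rw [Finset.mem_image]
    exact ⟨fun ⟨w, hw, e⟩ => by simpa [← e] using hw, fun hz => ⟨g z, hz, by simp⟩⟩
  rwa [key, key] at h1

/-- A linked system: every nonempty set closed under quads contains all covered points. -/
theorem closed_top (hF : IsQuasisimple ↥(generalizedFittingSubgroup ↥H))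
    (V : Finset α) (hV : V.card ≤ 3) (hcov : ∀ x ∉ V, QCov H x) {S : Finset α} {x : α}
    (hx : QCov H x) (hxS : x ∈ S) (hS : ∀ Q, Quad H Q → ∀ u ∈ Q, u ∈ S → Q ⊆ S) {y : α}
    (hy : QCov H y) : y ∈ S := by
  have key : ∀ u w, Relation.EqvGen (Link H) u w → (u ∈ S ↔ w ∈ S) := by
    intro u w h
    induction h with
    | rel a b hab =>
      obtain ⟨Q, hQ, ha, hb⟩ := hab
      exact ⟨fun h => hS Q hQ a ha h hb, fun h => hS Q hQ b hb h ha⟩
    | refl a => exact Iff.rfl
    | symm a b _ ih => exact ih.symm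
    | trans a b c _ _ ih1 ih2 => exact ih1.trans ih2
  exact (key x y (conn_all hF V hV hcov hx hy)).mp hxS

/-- The pair case. -/
theorem false_of_consistent (hF : IsQuasisimple ↥(generalizedFittingSubgroup ↥H))
    (hno : NoCyc H) (V : Finset α) (hV : V.card ≤ 3) (hcov : ∀ x ∉ V, QCov H x)
    (htwo : ∃ Q R, Quad H Q ∧ Quad H R ∧ Disjoint Q R)
    (hcons : ∀ Q Q' Q'', Quad H Q → Quad H Q' → Quad H Q'' → (Q ∩ Q').card = 2 →
      (Q ∩ Q'').card = 2 → Q ∩ Q'' = Q ∩ Q' ∨ Q ∩ Q'' = Q \ Q') : False := by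
  classical
  set L := generalizedFittingSubgroup ↥H with hL
  have hmeet : ∀ Q, Quad H Q → ∃ Q', Quad H Q' ∧ (Q ∩ Q').card = 2 := by
    intro Q hQ
    by_contra hcon
    push Not at hcon
    obtain ⟨x, hx⟩ := Finset.card_pos.mp (show 0 < Q.card by rw [hQ.1]; omega)
    have hsub : ∀ y, QCov H y → y ∈ Q := fun y hy =>
      closed_top hF V hV hcov ⟨Q, hQ, hx⟩ hx (fun R hR u hu huQ => by
        rcases inter_cases hno hQ hR huQ hu with rfl | h
        · exact subset_rfl
        · exact absurd h (hcon R hR)) hy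
    obtain ⟨A, B, hA, hB, hAB⟩ := htwo
    have h1 : A ∪ B ⊆ Q := Finset.union_subset (fun y hy => hsub y ⟨A, hA, hy⟩)
      (fun y hy => hsub y ⟨B, hB, hy⟩)
    have h2 := Finset.card_le_card h1
    rw [Finset.card_union_of_disjoint hAB, hA.1, hB.1, hQ.1] at h2
    omega
  have hpair : ∀ x, QCov H x → ∃ y, y ≠ x ∧ QCov H y ∧ ∀ z, Same H x z ↔ (z = x ∨ z = y) := by
    rintro x ⟨Q, hQ, hxQ⟩
    obtain ⟨Q1, hQ1, hQ1c, hx1⟩ : ∃ Q1, Quad H Q1 ∧ (Q ∩ Q1).card = 2 ∧ x ∈ Q ∩ Q1 := by
      obtain ⟨Q', hQ', hc⟩ := hmeet Q hQ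
      by_cases hx : x ∈ Q'
      · exact ⟨Q', hQ', hc, Finset.mem_inter.mpr ⟨hxQ, hx⟩⟩
      · have he : Q ∩ ((Q \ Q') ∪ (Q' \ Q)) = Q \ Q' := by
          ext u; simp; tauto
        refine ⟨_, quad_symm hQ hQ' hc, ?_, ?_⟩
        · rw [he]
          have := Finset.card_sdiff_add_card_inter Q Q'
          rw [hc, hQ.1] at this
          omega
        · rw [he]
          exact Finset.mem_sdiff.mpr ⟨hxQ, hx⟩
    obtain ⟨y, hyx, he⟩ := exists_pair hQ1c hx1
    have hy : y ∈ Q ∩ Q1 := by simp [he]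
    have hrule : ∀ R, Quad H R → ∀ u ∈ Q ∩ Q1, u ∈ R → Q ∩ Q1 ⊆ R := by
      intro R hR u hu huR
      rcases inter_cases hno hQ hR (Finset.mem_inter.mp hu).1 huR with rfl | h
      · exact Finset.inter_subset_left
      · rcases hcons Q Q1 R hQ hQ1 hR hQ1c h with h' | h'
        · rw [← h']; exact Finset.inter_subset_right
        · have h2 : u ∈ Q ∩ R := Finset.mem_inter.mpr ⟨(Finset.mem_inter.mp hu).1, huR⟩
          rw [h'] at h2
          exact absurd (Finset.mem_inter.mp hu).2 (Finset.mem_sdiff.mp h2).2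
    refine ⟨y, hyx, ⟨Q, hQ, (Finset.mem_inter.mp hy).1⟩, fun z => ⟨fun hz => ?_, ?_⟩⟩
    · have h1 : z ∈ Q ∩ Q1 := Finset.mem_inter.mpr
        ⟨(hz Q hQ).mp hxQ, (hz Q1 hQ1).mp (Finset.mem_inter.mp hx1).2⟩
      simpa [he] using h1
    · rintro (rfl | rfl)
      · exact fun _ _ => Iff.rfl
      · exact fun R hR => ⟨fun h => hrule R hR x hx1 h hy, fun h => hrule R hR z hy h hx1⟩
  let A : Subgroup H :=
    { carrier := {g | ∀ x, Same H x ((g : Perm α) x) ∧ (¬ QCov H x → (g : Perm α) x = x)}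
      one_mem' := fun x => by simp [Same]
      mul_mem' := fun {a b} ha hb x => ⟨fun Q hQ => ((hb x).1 Q hQ).trans ((ha _).1 Q hQ),
        fun hx => by simp [(hb x).2 hx, (ha x).2 hx]⟩
      inv_mem' := fun {a} ha x =>
        ⟨fun Q hQ => by simpa using ((ha ((a : Perm α)⁻¹ x)).1 Q hQ).symm,
          fun hx => by
            conv_lhs => rw [← (ha x).2 hx]
            simp⟩ }
  have hAn : A.Normal := ⟨fun a ha g x => by
    refine ⟨?_, fun hx => ?_⟩
    · simpa using same_map g.2 (ha ((g : Perm α)⁻¹ x)).1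
    · have h1 : ¬ QCov H ((g : Perm α)⁻¹ x) := fun h => hx (by simpa using qcov_map g.2 h)
      simp only [Subgroup.coe_mul, InvMemClass.coe_inv, Perm.mul_apply]
      rw [(ha _).2 h1]
      simp⟩
  have hsq : ∀ a ∈ A, a * a = 1 := by
    intro a ha
    refine Subtype.ext (Perm.ext fun x => ?_)
    show (a : Perm α) ((a : Perm α) x) = x
    by_cases hx : QCov H x
    · obtain ⟨y, hyx, -, hy⟩ := hpair x hx
      rcases (hy _).mp (ha x).1 with h | h
      · rw [h, h]
      · rw [h]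
        have h2 : Same H x ((a : Perm α) y) :=
          fun Q hQ => (((hy y).mpr (.inr rfl)) Q hQ).trans ((ha y).1 Q hQ)
        rcases (hy _).mp h2 with h3 | h3
        · exact h3
        · exact absurd ((a : Perm α).injective (h3.trans h.symm)) hyx
    · rw [(ha x).2 hx, (ha x).2 hx]
  have hkeep : ∀ l ∈ L, ∀ Q, Quad H Q → ∀ x ∈ Q, (l : Perm α) x ∈ Q := by
    intro l hl Q hQ x hx
    obtain ⟨y, hyx, -, hy⟩ := hpair x ⟨Q, hQ, hx⟩
    have hyQ : y ∈ Q := ((hy y).mpr (.inr rfl) Q hQ).mp hx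
    obtain ⟨c, d, h1, h2, h3, h4, h5, he⟩ := exists_complete hQ.1 hyx.symm hx hyQ
    obtain ⟨s1, s2, s3, s4, s5, s6⟩ := swaps_spec hyx.symm h1 h2 h3 h4 h5
    have hsame : Same H c d := by
      obtain ⟨c', hc'c, -, hc'⟩ := hpair c ⟨Q, hQ, by simp [he]⟩
      have hs := (hc' c').mpr (.inr rfl)
      have hc'Q : c' ∈ Q := (hs Q hQ).mp (by simp [he])
      simp only [he, Finset.mem_insert, Finset.mem_singleton] at hc'Q
      rcases hc'Q with e | e | e | e
      · exact absurd ((hy c).mp fun R hR => ((hs R hR).trans (by rw [e])).symm)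
          (not_or.mpr ⟨h1.symm, h3.symm⟩)
      · exact absurd ((hy c).mp fun R hR => ((hy y).mpr (.inr rfl) R hR).trans
          ((hs R hR).trans (by rw [e])).symm) (not_or.mpr ⟨h1.symm, h3.symm⟩)
      · exact absurd e hc'c
      · exact e ▸ hs
    set v := swap x y * swap c d with hv
    have hvH : v ∈ H := quad_elem hQ hyx.symm h1 h2 h3 h4 h5 he
    have hvA : (⟨v, hvH⟩ : H) ∈ A := by
      intro u
      by_cases hu : u ∈ Q
      · refine ⟨?_, fun h => absurd ⟨Q, hQ, hu⟩ h⟩
        show Same H u (v u)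
        simp only [he, Finset.mem_insert, Finset.mem_singleton] at hu
        rcases hu with rfl | rfl | rfl | rfl
        · rw [s3]; exact (hy y).mpr (.inr rfl)
        · rw [s4]; exact fun R hR => ((hy u).mpr (.inr rfl) R hR).symm
        · rw [s5]; exact hsame
        · rw [s6]; exact fun R hR => (hsame R hR).symm
      · have h0 : v u = u := not_not.mp (mt (s1 u).mp (he ▸ hu))
        exact ⟨fun R _ => by rw [show ((⟨v, hvH⟩ : H) : Perm α) u = u from h0], fun _ => h0⟩
    have := central_action hF A hsq hl hvA x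
    rw [show ((⟨v, hvH⟩ : H) : Perm α) x = y from s3] at this
    rw [he]
    refine (s1 _).mp ?_
    rw [show v ((l : Perm α) x) = (l : Perm α) y from this.symm]
    exact (l : Perm α).injective.ne hyx
  have hclass : ∀ l ∈ L, ∀ x, Same H x ((l : Perm α) x) := fun l hl x Q hQ =>
    ⟨hkeep l hl Q hQ x, fun h => by simpa using hkeep _ (L.inv_mem hl) Q hQ _ h⟩
  refine false_of_abelian_action hF V hV hcov fun l hl m hm x hx => ?_
  obtain ⟨y, hyx, -, hy⟩ := hpair x hx
  have hty : ∀ k ∈ L, ((k : Perm α) x = x ∧ (k : Perm α) y = y) ∨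
      ((k : Perm α) x = y ∧ (k : Perm α) y = x) := by
    intro k hk
    have h2 := (hy _).mp fun R hR => ((hy y).mpr (.inr rfl) R hR).trans (hclass k hk y R hR)
    rcases (hy _).mp (hclass k hk x) with h | h <;> rcases h2 with h' | h'
    · exact absurd ((k : Perm α).injective (h'.trans h.symm)) hyx
    · exact .inl ⟨h, h'⟩
    · exact .inr ⟨h, h'⟩
    · exact absurd ((k : Perm α).injective (h'.trans h.symm)) hyx
  rcases hty l hl with ⟨a, b⟩ | ⟨a, b⟩ <;> rcases hty m hm with ⟨c, d⟩ | ⟨c, d⟩ <;>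
    simp [a, b, c, d]

omit [Fintype α] in
/-- The planes spanned by the three basic quads. -/
theorem planes_true (w : Fin 8 ↪ α) (h1 : Quad H ((plane 1 true).map w))
    (h2 : Quad H ((plane 2 true).map w)) (h4 : Quad H ((plane 4 true).map w)) :
    ∀ a : Fin 8, a ≠ 0 → Quad H ((plane a true).map w) := by
  have step : ∀ a c : Fin 8, a ≠ 0 → c ≠ 0 → a ≠ c → Quad H ((plane a true).map w) →
      Quad H ((plane c true).map w) → Quad H ((plane (a ^^^ c) true).map w) := by
    intro a c ha hc hac qa qc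
    obtain ⟨i1, i2⟩ := inter_true a c ha hc hac
    have := quad_symm qa qc (by rw [← Finset.map_inter, Finset.card_map, i1])
    rwa [← Finset.map_sdiff, ← Finset.map_sdiff, ← Finset.map_union, i2] at this
  intro a ha
  have h12 := step 1 2 (by decide) (by decide) (by decide) h1 h2
  rcases nonzero_cases a ha with rfl | rfl | rfl | rfl | rfl | rfl | rfl
  · exact h1
  · exact h2
  · exact h4
  · exact h12
  · exact step 1 4 (by decide) (by decide) (by decide) h1 h4
  · exact step 2 4 (by decide) (by decide) (by decide) h2 h4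
  · exact step _ 4 (by decide) (by decide) (by decide) h12 h4

/-- Labels for an inconsistent triple. -/
theorem exists_label (hno : NoCyc H) (htwo : ∃ Q R, Quad H Q ∧ Quad H R ∧ Disjoint Q R)
    {Q Q' Q'' : Finset α} (hQ : Quad H Q) (hQ' : Quad H Q') (hQ'' : Quad H Q'')
    (hc' : (Q ∩ Q').card = 2) (hc'' : (Q ∩ Q'').card = 2) (hne1 : Q ∩ Q'' ≠ Q ∩ Q')
    (hne2 : Q ∩ Q'' ≠ Q \ Q') :
    ∃ w0 : Fin 8 ↪ α, Quad H ((plane 1 true).map w0) ∧ Quad H ((plane 2 true).map w0) ∧
      Quad H ((plane 4 true).map w0) := by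
  classical
  -- labels
  obtain ⟨a, c, hac, hpac⟩ : ∃ a c, a ≠ c ∧ Q ∩ Q'' = {a, c} := Finset.card_eq_two.mp hc''
  obtain ⟨a, c, hac, hpac, haQ', hcQ'⟩ :
      ∃ a c, a ≠ c ∧ Q ∩ Q'' = {a, c} ∧ a ∈ Q' ∧ c ∉ Q' := by
    have ha : a ∈ Q := (Finset.mem_inter.mp (show a ∈ Q ∩ Q'' by simp [hpac])).1
    have hc : c ∈ Q := (Finset.mem_inter.mp (show c ∈ Q ∩ Q'' by simp [hpac])).1
    by_cases h1 : a ∈ Q' <;> by_cases h2 : c ∈ Q'
    · exact absurd (Finset.eq_of_subset_of_card_le
        (by rw [hpac]; simp [Finset.insert_subset_iff, ha, hc, h1, h2]) (by omega)) hne1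
    · exact ⟨a, c, hac, hpac, h1, h2⟩
    · exact ⟨c, a, hac.symm, hpac.trans (Finset.pair_comm a c), h2, h1⟩
    · refine absurd (Finset.eq_of_subset_of_card_le
        (by rw [hpac]; simp [Finset.insert_subset_iff, ha, hc, h1, h2]) ?_) hne2
      have := Finset.card_sdiff_add_card_inter Q Q'
      rw [hc', hQ.1] at this
      omega
  have ha2 := Finset.mem_inter.mp (show a ∈ Q ∩ Q'' by simp [hpac])
  have hc2 := Finset.mem_inter.mp (show c ∈ Q ∩ Q'' by simp [hpac])
  obtain ⟨b, hba, heab⟩ := exists_pair hc' (Finset.mem_inter.mpr ⟨ha2.1, haQ'⟩)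
  have hb2 := Finset.mem_inter.mp (show b ∈ Q ∩ Q' by simp [heab])
  have hbc : b ≠ c := fun e => hcQ' (e ▸ hb2.2)
  obtain ⟨b1, c1, hab', hac', hbb', hbc', hb1c1, heQ⟩ := exists_complete hQ.1 hba.symm ha2.1 hb2.1
  obtain ⟨d, hcd, had, hbd, heQ⟩ : ∃ d, c ≠ d ∧ a ≠ d ∧ b ≠ d ∧ Q = {a, b, c, d} := by
    have : c ∈ Q := hc2.1
    simp only [heQ, Finset.mem_insert, Finset.mem_singleton] at this
    rcases this with e | e | e | e
    · exact absurd e hac.symm
    · exact absurd e hbc.symm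
    · exact ⟨c1, e ▸ hb1c1, hac', hbc', e ▸ heQ⟩
    · exact ⟨b1, e ▸ hb1c1.symm, hab', hbb', by rw [heQ, e, Finset.pair_comm b1 c1]⟩
  have hd2 : d ∈ Q ∧ d ∉ Q' ∧ d ∉ Q'' := by
    refine ⟨by simp [heQ], fun h => ?_, fun h => ?_⟩
    · have : d ∈ Q ∩ Q' := Finset.mem_inter.mpr ⟨by simp [heQ], h⟩
      simp [heab, had.symm, hbd.symm] at this
    · have : d ∈ Q ∩ Q'' := Finset.mem_inter.mpr ⟨by simp [heQ], h⟩
      simp [hpac, had.symm, hcd.symm] at this
  have hbQ'' : b ∉ Q'' := fun h => by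
    have : b ∈ Q ∩ Q'' := Finset.mem_inter.mpr ⟨hb2.1, h⟩
    simp [hpac, hba, hbc] at this
  have h23 : (Q' ∩ Q'').card = 2 :=
    (inter_cases hno hQ' hQ'' haQ' ha2.2).resolve_left fun e => hcQ' (e ▸ hc2.2)
  obtain ⟨e, hea, heae⟩ := exists_pair h23 (Finset.mem_inter.mpr ⟨haQ', ha2.2⟩)
  have he2 := Finset.mem_inter.mp (show e ∈ Q' ∩ Q'' by simp [heae])
  have heQn : e ∉ Q := fun h => by
    have : e ∈ Q ∩ Q' := Finset.mem_inter.mpr ⟨h, he2.1⟩
    rw [heab] at this
    simp only [Finset.mem_insert, Finset.mem_singleton] at this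
    rcases this with rfl | rfl
    · exact hea rfl
    · exact hbQ'' he2.2
  obtain ⟨b2, f, hab2, haf, hbb2, hef, hb2f, heQ'⟩ : ∃ b2 f, a ≠ b2 ∧ a ≠ f ∧ e ≠ b2 ∧ e ≠ f ∧
      b2 ≠ f ∧ Q' = {a, e, b2, f} := exists_complete hQ'.1 hea.symm haQ' he2.1
  obtain ⟨f, haf, hbf, hef, heQ'⟩ : ∃ f, a ≠ f ∧ b ≠ f ∧ e ≠ f ∧ Q' = {a, b, e, f} := by
    have : b ∈ Q' := hb2.2
    simp only [heQ', Finset.mem_insert, Finset.mem_singleton] at this
    rcases this with e' | e' | e' | e'
    · exact absurd e' hba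
    · exact absurd (e' ▸ hb2.1) heQn
    · refine ⟨f, haf, e' ▸ hb2f, hef, ?_⟩
      rw [heQ', e', Finset.insert_comm e]
    · refine ⟨b2, hab2, e' ▸ hb2f.symm, hbb2, ?_⟩
      rw [heQ', e', Finset.pair_comm b2 f, Finset.insert_comm e]
  have hf2 : f ∉ Q ∧ f ∉ Q'' := by
    refine ⟨fun h => ?_, fun h => ?_⟩
    · have : f ∈ Q ∩ Q' := Finset.mem_inter.mpr ⟨h, by simp [heQ']⟩
      simp [heab, haf.symm, hbf.symm] at this
    · have : f ∈ Q' ∩ Q'' := Finset.mem_inter.mpr ⟨by simp [heQ'], h⟩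
      simp [heae, haf.symm, hef.symm] at this
  obtain ⟨c3, g, hac3, hag, hec3, heg, hc3g, heQ''⟩ : ∃ c3 g, a ≠ c3 ∧ a ≠ g ∧ e ≠ c3 ∧ e ≠ g ∧
      c3 ≠ g ∧ Q'' = {a, e, c3, g} := exists_complete hQ''.1 hea.symm ha2.2 he2.2
  obtain ⟨g, hag, hcg, heg, heQ''⟩ : ∃ g, a ≠ g ∧ c ≠ g ∧ e ≠ g ∧ Q'' = {a, c, e, g} := by
    have : c ∈ Q'' := hc2.2
    simp only [heQ'', Finset.mem_insert, Finset.mem_singleton] at this
    rcases this with e' | e' | e' | e'
    · exact absurd e' hac.symm
    · exact absurd (e' ▸ hc2.1) heQn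
    · refine ⟨g, hag, e' ▸ hc3g, heg, ?_⟩
      rw [heQ'', e', Finset.insert_comm e]
    · refine ⟨c3, hac3, e' ▸ hc3g.symm, hec3, ?_⟩
      rw [heQ'', e', Finset.pair_comm c3 g, Finset.insert_comm e]
  have hg2 : g ∉ Q ∧ g ∉ Q' := by
    refine ⟨fun h => ?_, fun h => ?_⟩
    · have : g ∈ Q ∩ Q'' := Finset.mem_inter.mpr ⟨h, by simp [heQ'']⟩
      simp [hpac, hag.symm, hcg.symm] at this
    · have : g ∈ Q' ∩ Q'' := Finset.mem_inter.mpr ⟨h, by simp [heQ'']⟩
      simp [heae, hag.symm, heg.symm] at this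
  -- a point outside
  set W : Finset α := {a, b, c, d, e, f, g} with hW
  have hWcard : W.card ≤ 7 := by
    refine (Finset.card_insert_le _ _).trans (Nat.add_le_add_right ?_ 1)
    refine (Finset.card_insert_le _ _).trans (Nat.add_le_add_right ?_ 1)
    refine (Finset.card_insert_le _ _).trans (Nat.add_le_add_right ?_ 1)
    refine (Finset.card_insert_le _ _).trans (Nat.add_le_add_right ?_ 1)
    exact Finset.card_le_three
  obtain ⟨A, B, hA, hB, hAB⟩ := htwo
  obtain ⟨z₀, hz₀⟩ : ∃ z, z ∉ W := by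
    by_contra h
    push Not at h
    have h1 := Finset.card_le_card (fun y _ => h y : A ∪ B ⊆ W)
    rw [Finset.card_union_of_disjoint hAB, hA.1, hB.1] at h1
    omega
  simp only [hW, Finset.mem_insert, Finset.mem_singleton, not_or] at hz₀
  have hnd : [z₀, d, f, b, g, c, e, a].Nodup := by
    simp only [heQ, heQ', heQ'', Finset.mem_insert, Finset.mem_singleton, not_or] at hd2 hbQ'' hcQ' heQn hf2 hg2
    simp only [List.nodup_cons, List.mem_cons, List.not_mem_nil, or_false, not_or, List.nodup_nil,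
      and_true, not_false_eq_true]
    grind
  let w0 : Fin 8 ↪ α := ⟨fun i => [z₀, d, f, b, g, c, e, a].get i, List.nodup_iff_injective_get.mp hnd⟩
  obtain ⟨p1, p2, p4⟩ := base_planes
  refine ⟨w0,
    (by convert hQ using 1; rw [p1, heQ]; ext; simp [w0]),
    (by convert hQ' using 1; rw [p2, heQ']; ext; simp [w0]),
    (by convert hQ'' using 1; rw [p4, heQ'']; ext; simp [w0])⟩

/-- The affine case. -/
theorem false_of_inconsistent (hF : IsQuasisimple ↥(generalizedFittingSubgroup ↥H))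
    (hno : NoCyc H) (V : Finset α) (hV : V.card ≤ 3) (hcov : ∀ x ∉ V, QCov H x)
    (htwo : ∃ Q R, Quad H Q ∧ Quad H R ∧ Disjoint Q R)
    {Q Q' Q'' : Finset α} (hQ : Quad H Q) (hQ' : Quad H Q') (hQ'' : Quad H Q'')
    (hc' : (Q ∩ Q').card = 2) (hc'' : (Q ∩ Q'').card = 2) (hne1 : Q ∩ Q'' ≠ Q ∩ Q')
    (hne2 : Q ∩ Q'' ≠ Q \ Q') : False := by
  classical
  obtain ⟨w0, p1, p2, p4⟩ := exists_label hno htwo hQ hQ' hQ'' hc' hc'' hne1 hne2
  have hplanes := planes_true w0 p1 p2 p4
  obtain ⟨A, B, hA, hB, hAB⟩ := htwo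
  -- points meeting the seven
  have hclass : ∀ (w : Fin 8 ↪ α), (∀ i : Fin 8, i ≠ 0 → Quad H ((plane i true).map w)) →
      ∀ R, Quad H R → ∀ i : Fin 8, i ≠ 0 → w i ∈ R → ∃ j : Fin 8, j ≠ 0 ∧
        (R = (plane j true).map w ∨
          ∃ z, (∀ k : Fin 8, k ≠ 0 → w k ≠ z) ∧
            R = insert z (((plane j false).erase 0).map w)) := by
    intro w hw R hR i hi hiR
    set S := Finset.univ.filter fun k => w k ∈ R with hS
    have hSR : ∀ T : Finset (Fin 8), (S ∩ T).card = (R ∩ T.map w).card := by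
      intro T
      rw [← Finset.card_map w]
      congr 1
      ext y
      simp only [Finset.mem_map, Finset.mem_inter, hS, Finset.mem_filter, Finset.mem_univ, true_and]
      constructor
      · rintro ⟨k, ⟨hk, hkT⟩, rfl⟩; exact ⟨hk, k, hkT, rfl⟩
      · rintro ⟨hy, k, hk, rfl⟩; exact ⟨k, ⟨hy, hk⟩, rfl⟩
    obtain ⟨j, hj, hj'⟩ := punctured_code S
      (fun k hk => by rw [hSR]; exact inter_card hno hR (hw k hk))
      (by rw [← Finset.card_map w]; refine (Finset.card_le_card ?_).trans hR.1.le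
          intro y hy
          obtain ⟨k, hk, rfl⟩ := Finset.mem_map.mp hy
          exact (Finset.mem_filter.mp hk).2)
      ⟨i, Finset.mem_erase.mpr ⟨hi, by simp [hS, hiR]⟩⟩
    refine ⟨j, hj, ?_⟩
    have hsub : ∀ T : Finset (Fin 8), S.erase 0 = T → T.map w ⊆ R := by
      rintro T rfl y hy
      obtain ⟨k, hk, rfl⟩ := Finset.mem_map.mp hy
      exact (Finset.mem_filter.mp (Finset.mem_of_mem_erase hk)).2
    rcases hj' with h | h
    · exact .inl (Finset.eq_of_subset_of_card_le (hsub _ h)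
        (by rw [Finset.card_map, card_plane j true hj, hR.1])).symm
    · have h3 : ((plane j false).erase 0).card = 3 := by
        rw [Finset.card_erase_of_mem (zero_mem_false j).1, card_plane j false hj]
      obtain ⟨z, hz⟩ : ∃ z, R \ ((plane j false).erase 0).map w = {z} := Finset.card_eq_one.mp (by
        rw [Finset.card_sdiff_of_subset (hsub _ h), Finset.card_map, h3, hR.1])
      have hz' : z ∈ R ∧ z ∉ ((plane j false).erase 0).map w :=
        Finset.mem_sdiff.mp (hz.symm ▸ Finset.mem_singleton_self z)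
      refine .inr ⟨z, fun k hk e => hz'.2 ?_, ?_⟩
      · rw [← h]
        exact Finset.mem_map.mpr ⟨k, Finset.mem_erase.mpr ⟨hk, by simp [hS, e, hz'.1]⟩, e⟩
      · rw [Finset.insert_eq, ← hz, Finset.sdiff_union_of_subset (hsub _ h)]
  obtain ⟨R₀, hR₀, i₀, hi₀, hiR₀, hR₀out⟩ : ∃ R, Quad H R ∧ ∃ i : Fin 8, i ≠ 0 ∧ w0 i ∈ R ∧
      ¬ R ⊆ (Finset.univ.erase 0).map w0 := by
    by_contra hcon
    push Not at hcon
    have hsub : ∀ y, QCov H y → y ∈ (Finset.univ.erase 0).map w0 := fun y hy =>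
      closed_top hF V hV hcov (x := w0 7) ⟨_, hplanes 1 (by decide),
        Finset.mem_map_of_mem _ (by decide)⟩ (Finset.mem_map_of_mem _ (by decide))
        (fun R hR u hu hu' => by
          obtain ⟨i, hi, rfl⟩ := Finset.mem_map.mp hu'
          exact hcon R hR i (Finset.mem_erase.mp hi).1 hu) hy
    have h1 : A ∪ B ⊆ (Finset.univ.erase 0).map w0 :=
      Finset.union_subset (fun y hy => hsub y ⟨A, hA, hy⟩) (fun y hy => hsub y ⟨B, hB, hy⟩)
    have h2 := Finset.card_le_card h1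
    rw [Finset.card_union_of_disjoint hAB, hA.1, hB.1, Finset.card_map,
      Finset.card_erase_of_mem (Finset.mem_univ _)] at h2
    simp at h2
  obtain ⟨j, hj, hjR⟩ := hclass w0 hplanes R₀ hR₀ i₀ hi₀ hiR₀
  obtain ⟨z, hz, hRz⟩ := hjR.resolve_left fun e => hR₀out (by
    rw [e]; refine Finset.map_subset_map.mpr fun k hk => Finset.mem_erase.mpr ⟨fun h0 => ?_,
      Finset.mem_univ k⟩
    exact (zero_mem_false j).2 (h0 ▸ hk))
  let w : Fin 8 ↪ α := ⟨Function.update w0 0 z, fun p q hpq => by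
    by_cases hp : p = 0 <;> by_cases hq : q = 0
    · rw [hp, hq]
    · rw [hp, Function.update_self, Function.update_of_ne hq] at hpq
      exact absurd hpq.symm (hz q hq)
    · rw [hq, Function.update_self, Function.update_of_ne hp] at hpq
      exact absurd hpq (hz p hp)
    · rw [Function.update_of_ne hp, Function.update_of_ne hq] at hpq
      exact w0.injective hpq⟩
  have hw0 : w 0 = z := by
    show Function.update (⇑w0) 0 z 0 = z
    exact Function.update_self _ _ _
  have hwk : ∀ k : Fin 8, k ≠ 0 → w k = w0 k := fun k hk => Function.update_of_ne hk ..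
  have hmapeq : ∀ T : Finset (Fin 8), 0 ∉ T → T.map w = T.map w0 := by
    intro T hT
    ext y
    simp only [Finset.mem_map]
    refine exists_congr fun k => and_congr_right fun hk => ?_
    rw [hwk k fun e => hT (e ▸ hk)]
  have htrue : ∀ i : Fin 8, i ≠ 0 → Quad H ((plane i true).map w) := fun i hi => by
    rw [hmapeq _ (zero_mem_false i).2]; exact hplanes i hi
  have hfalse₀ : Quad H ((plane j false).map w) := by
    convert hR₀ using 1
    rw [hRz, ← Finset.insert_erase (zero_mem_false j).1, Finset.map_insert, hw0,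
      hmapeq _ (Finset.notMem_erase 0 _)]
    simp
  have hall : ∀ (i : Fin 8) (v : Bool), i ≠ 0 → Quad H ((plane i v).map w) := by
    intro i v hi
    cases v with
    | true => exact htrue i hi
    | false =>
      by_cases hij : j = i
      · exact hij ▸ hfalse₀
      obtain ⟨hx0, hxx⟩ := xor_left_inj j i hij
      have hne : j ≠ j ^^^ i := fun e => by
        have h5 : j ^^^ (j ^^^ i) = i := hxx
        rw [← e] at h5
        have : ∀ k : Fin 8, k ^^^ k = 0 := by decide
        rw [this] at h5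
        exact hi h5.symm
      obtain ⟨i1, i2⟩ := inter_false j (j ^^^ i) hj hx0 hne
      have := quad_symm hfalse₀ (htrue _ hx0) (by rw [← Finset.map_inter, Finset.card_map, i1])
      rwa [← Finset.map_sdiff, ← Finset.map_sdiff, ← Finset.map_union, i2, hxx] at this
  have hU : ∀ R, Quad H R → ∀ k : Fin 8, w k ∈ R →
      ∃ (i : Fin 8) (v : Bool), i ≠ 0 ∧ R = (plane i v).map w := by
    intro R hR k hk
    set S := Finset.univ.filter fun k => w k ∈ R with hS
    have hsub : S.map w ⊆ R := by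
      intro y hy
      obtain ⟨k, hk, rfl⟩ := Finset.mem_map.mp hy
      exact (Finset.mem_filter.mp hk).2
    have hSR : ∀ T : Finset (Fin 8), (S ∩ T).card = (R ∩ T.map w).card := by
      intro T
      rw [← Finset.card_map w]
      congr 1
      ext y
      simp only [Finset.mem_map, Finset.mem_inter, hS, Finset.mem_filter, Finset.mem_univ, true_and]
      constructor
      · rintro ⟨k, ⟨hk, hkT⟩, rfl⟩; exact ⟨hk, k, hkT, rfl⟩
      · rintro ⟨hy, k, hk, rfl⟩; exact ⟨k, ⟨hy, hk⟩, rfl⟩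
    obtain ⟨hS4, i, v, hi, hSe⟩ := full_code S
      (fun i v hi => by rw [hSR]; exact inter_card hno hR (hall i v hi))
      (by rw [← Finset.card_map w]; exact (Finset.card_le_card hsub).trans hR.1.le)
      ⟨k, by simp [hS, hk]⟩
    refine ⟨i, v, hi, ?_⟩
    rw [← hSe]
    exact (Finset.eq_of_subset_of_card_le hsub (by rw [Finset.card_map, hS4, hR.1])).symm
  have hwcov : ∀ k, QCov H (w k) := fun k => by
    refine ⟨_, hall 1 (dot 1 k) (by decide), Finset.mem_map_of_mem _ (mem_plane.mpr rfl)⟩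
  have hcovw : ∀ y, QCov H y → ∃ k, w k = y := by
    intro y hy
    have := closed_top hF V hV hcov (hwcov 0) (Finset.mem_map_of_mem w (Finset.mem_univ 0))
      (fun R hR u hu hu' => by
        obtain ⟨k, -, rfl⟩ := Finset.mem_map.mp hu'
        obtain ⟨i, v, -, rfl⟩ := hU R hR k hu
        exact Finset.map_subset_map.mpr (Finset.subset_univ _)) hy
    obtain ⟨k, -, rfl⟩ := Finset.mem_map.mp this
    exact ⟨k, rfl⟩
  let T : Subgroup H :=
    { carrier := {g | (∀ x, ¬ QCov H x → (g : Perm α) x = x) ∧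
        ∀ R, Quad H R → ∀ x y, QCov H x → QCov H y →
          (((g : Perm α) x ∈ R ↔ (g : Perm α) y ∈ R) ↔ (x ∈ R ↔ y ∈ R))}
      one_mem' := ⟨fun x _ => by simp, fun R _ x y _ _ => Iff.rfl⟩
      mul_mem' := fun {g g'} hg hg' => ⟨fun x hx => by simp [hg'.1 x hx, hg.1 x hx],
        fun R hR x y hx hy =>
          (hg.2 R hR _ _ (qcov_map g'.2 hx) (qcov_map g'.2 hy)).trans (hg'.2 R hR x y hx hy)⟩
      inv_mem' := fun {g} hg => ⟨fun x hx => by
          conv_lhs => rw [← hg.1 x hx]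
          simp,
        fun R hR x y hx hy => by
          have := hg.2 R hR _ _ (qcov_map (H.inv_mem g.2) hx) (qcov_map (H.inv_mem g.2) hy)
          simpa using this.symm⟩ }
  have hTn : T.Normal := ⟨fun t ht g => ⟨fun x hx => by
      have h1 : ¬ QCov H ((g : Perm α)⁻¹ x) := fun h => hx (by simpa using qcov_map g.2 h)
      simp only [Subgroup.coe_mul, InvMemClass.coe_inv, Perm.mul_apply]
      rw [ht.1 _ h1]
      simp,
    fun R hR x y hx hy => by
      have h1 := ht.2 _ (quad_map (H.inv_mem g.2) hR) _ _ (qcov_map (H.inv_mem g.2) hx)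
        (qcov_map (H.inv_mem g.2) hy)
      have key : ∀ u, u ∈ R.image ((g : Perm α)⁻¹ : Perm α) ↔ (g : Perm α) u ∈ R := fun u => by
        rw [Finset.mem_image]
        exact ⟨fun ⟨v, hv, e⟩ => by simpa [← e] using hv, fun hu => ⟨_, hu, by simp⟩⟩
      simp only [key] at h1
      simpa using h1⟩⟩
  have hmem : ∀ k i : Fin 8, ∀ v, (w k ∈ (plane i v).map w ↔ dot i k = v) := fun k i v => by
    rw [Finset.mem_map', mem_plane]
  have hsq : ∀ t ∈ T, t * t = 1 := by
    intro t ht
    refine Subtype.ext (Perm.ext fun x => ?_)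
    show (t : Perm α) ((t : Perm α) x) = x
    by_cases hx : QCov H x
    · obtain ⟨k, rfl⟩ := hcovw x hx
      obtain ⟨k', hk'⟩ := hcovw _ (qcov_map t.2 (qcov_map t.2 hx))
      rw [← hk']
      congr 1
      refine dot_separates _ _ fun i hi => ?_
      have h1 := ht.2 _ (hall i (dot i k) hi) _ _ hx (qcov_map t.2 hx)
      rw [← hk', hmem, hmem] at h1
      tauto
    · rw [ht.1 x hx, ht.1 x hx]
  -- the translations
  have htr : ∀ u : Fin 8, u ≠ 0 → ∃ t : H, t ∈ T ∧ ∀ k, (t : Perm α) (w k) = w (k ^^^ u) := by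
    intro u hu
    obtain ⟨i, hi, hiu⟩ := exists_orthogonal u
    let part : Bool → Perm (Fin 8) := fun v =>
      Function.Involutive.toPerm (fun x => if dot i x = v then x ^^^ u else x) fun x => by
        by_cases h : dot i x = v
        · simp only [h, ↓reduceIte, dot_xor, hiu, Bool.xor_false]
          exact (xor_cancel x u).1
        · simp only [h, ↓reduceIte]
    have hpart : ∀ v x, part v x = if dot i x = v then x ^^^ u else x := fun v x => rfl
    have hmem' : ∀ v, (part v).viaEmbedding w ∈ H := by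
      intro v
      refine (hall i v hi).2 _ (fun y => ?_) ?_
      · by_cases hy : y ∈ Set.range w
        · obtain ⟨x, rfl⟩ := hy
          rw [viaEmbedding_apply, hmem, hpart, w.injective.ne_iff]
          by_cases h : dot i x = v
          · simp only [h, ↓reduceIte, iff_true]
            exact fun e => hu ((xor_cancel x u).2.1.mp e)
          · simp [h]
        · rw [viaEmbedding_apply_of_notMem _ _ _ hy]
          refine iff_of_false (fun h => h rfl) fun h => ?_
          obtain ⟨x, -, e⟩ := Finset.mem_map.mp h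
          exact hy ⟨x, e⟩
      · ext y
        by_cases hy : y ∈ Set.range w
        · obtain ⟨x, rfl⟩ := hy
          rw [Perm.mul_apply, viaEmbedding_apply, viaEmbedding_apply, Perm.one_apply]
          congr 1
          by_cases h : dot i x = v
          · simp [hpart, h, dot_xor, hiu, (xor_cancel x u).1]
          · simp [hpart, h]
        · simp [viaEmbedding_apply_of_notMem _ _ _ hy]
    set t : H := ⟨_, hmem' true⟩ * ⟨_, hmem' false⟩ with ht
    have htw : ∀ k, (t : Perm α) (w k) = w (k ^^^ u) := by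
      intro k
      show ((part true).viaEmbedding w * (part false).viaEmbedding w) (w k) = _
      rw [Perm.mul_apply, viaEmbedding_apply, viaEmbedding_apply, hpart false, hpart true]
      cases h : dot i k <;> simp [h, dot_xor, hiu]
    refine ⟨t, ⟨fun x hx => ?_, fun R hR x y hx hy => ?_⟩, htw⟩
    · have hy : x ∉ Set.range w := fun ⟨k, hk⟩ => hx (hk ▸ hwcov k)
      show ((part true).viaEmbedding w * (part false).viaEmbedding w) x = x
      rw [Perm.mul_apply, viaEmbedding_apply_of_notMem _ _ _ hy,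
        viaEmbedding_apply_of_notMem _ _ _ hy]
    · obtain ⟨p, rfl⟩ := hcovw x hx
      obtain ⟨q, rfl⟩ := hcovw y hy
      rw [htw, htw]
      by_cases hk : ∃ k, w k ∈ R
      · obtain ⟨k, hk⟩ := hk
        obtain ⟨i', v, -, rfl⟩ := hU R hR k hk
        simp only [hmem, dot_xor]
        cases dot i' p <;> cases dot i' q <;> cases dot i' u <;> cases v <;> simp
      · push Not at hk
        simp [hk]
  -- `F*(H)` acts by translations
  have hshift : ∀ l ∈ generalizedFittingSubgroup ↥H, ∃ u, ∀ k, (l : Perm α) (w k) = w (k ^^^ u) := by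
    intro l hl
    obtain ⟨u, hu⟩ := hcovw _ (qcov_map l.2 (hwcov 0))
    refine ⟨u, fun k => ?_⟩
    have h0' : ∀ m v : Fin 8, 0 ^^^ m = m ∧ m ^^^ v = v ^^^ m := by decide
    have h0 := fun m => h0' m u
    by_cases hk : k = 0
    · rw [hk, ← hu, (h0 u).1]
    · obtain ⟨t, ht, htw⟩ := htr k hk
      have := central_action hF T hsq hl ht (w 0)
      rw [htw, (h0 k).1, ← hu, htw] at this
      rw [this, (h0 k).2]
  refine false_of_abelian_action hF V hV hcov fun l hl m hm x hx => ?_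
  obtain ⟨k, rfl⟩ := hcovw x hx
  obtain ⟨u, hu⟩ := hshift l hl
  obtain ⟨u', hu'⟩ := hshift m hm
  rw [hu', hu, hu, hu', xor_comm3]

/-- If quads cover all but three points and two of them are disjoint, and `F*(H)` is quasisimple,
then `H` contains a three-cycle. -/
theorem exists_cyc (hF : IsQuasisimple ↥(generalizedFittingSubgroup ↥H))
    (V : Finset α) (hV : V.card ≤ 3) (hcov : ∀ x ∉ V, QCov H x)
    (htwo : ∃ Q R, Quad H Q ∧ Quad H R ∧ Disjoint Q R) :
    ∃ a b c : α, a ≠ b ∧ a ≠ c ∧ b ≠ c ∧ cyc a b c ∈ H := by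
  by_contra hcon
  push Not at hcon
  by_cases hcons : ∀ Q Q' Q'', Quad H Q → Quad H Q' → Quad H Q'' → (Q ∩ Q').card = 2 →
      (Q ∩ Q'').card = 2 → Q ∩ Q'' = Q ∩ Q' ∨ Q ∩ Q'' = Q \ Q'
  · exact false_of_consistent hF hcon V hV hcov htwo hcons
  · push Not at hcons
    obtain ⟨Q, Q', Q'', h, h', h'', hc', hc'', n1, n2⟩ := hcons
    exact false_of_inconsistent hF hcon V hV hcov htwo h h' h'' hc' hc'' n1 n2

end H77.Quads
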