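import Cfsg.Agent.H77.QuadMain
import Mathlib

/-!
Overgroups of a Sylow 2-subgroup of `A_n` contain regular four-groups on `n / 4` disjoint
four-point sets.
-/

set_option autoImplicit false
open Cfsg Equiv Equiv.Perm

namespace H77.Quads

variable {n : ℕ}

theorem exists_quads_of_sylow {H : Subgroup (Perm (Fin n))} (P : Sylow 2 ↥(alternatingGroup (Fin n)))
    (hP : (P : Subgroup ↥(alternatingGroup (Fin n))).map (alternatingGroup (Fin n)).subtype ≤ H) :
    ∃ F : Fin (n / 4) → Finset (Fin n), (∀ i, Quad H (F i)) ∧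
      ∀ i j, i ≠ j → Disjoint (F i) (F j) := by
  classical
  haveI : Fact (Nat.Prime 2) := ⟨by norm_num⟩
  let pt : Fin (n / 4) → Fin 4 → Fin n := fun i j => ⟨4 * i.1 + j.1, by omega⟩
  let G : Fin (n / 4) → Finset (Fin n) := fun i => Finset.univ.image (pt i)
  have hcard : ∀ i, (G i).card = 4 := fun i => by
    rw [Finset.card_image_of_injective _ fun j j' h => ?_, Finset.card_univ, Fintype.card_fin]
    have := congrArg Fin.val h
    simp only [pt] at this
    ext; omega
  have hdisj : ∀ i j, i ≠ j → Disjoint (G i) (G j) := by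
    intro i j hij
    rw [Finset.disjoint_left]
    intro x hx hx'
    obtain ⟨p, -, rfl⟩ := Finset.mem_image.mp hx
    obtain ⟨q, -, hq⟩ := Finset.mem_image.mp hx'
    have := congrArg Fin.val hq
    simp only [pt] at this
    refine hij (Fin.ext ?_)
    omega
  let T : Set ↥(alternatingGroup (Fin n)) :=
    {v | (v : Perm (Fin n)) * v = 1 ∧ ∃ i, ∀ x, (v : Perm (Fin n)) x ≠ x ↔ x ∈ G i}
  have hTcomm : ∀ u ∈ T, ∀ v ∈ T, u * v = v * u := by
    rintro u ⟨hu2, i, hu⟩ v ⟨hv2, j, hv⟩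
    refine Subtype.ext ?_
    rcases eq_or_ne i j with rfl | hij
    · exact (comm_on (hcard i) hu hu2 hv hv2).eq
    · refine (Perm.Disjoint.commute fun x => ?_).eq
      by_cases hx : x ∈ G i
      · exact .inr (not_not.mp (mt (hv x).mp (Finset.disjoint_left.mp (hdisj i j hij) hx)))
      · exact .inl (not_not.mp (mt (hu x).mp hx))
  set W := Subgroup.closure T with hW
  have hWc : ∀ a ∈ W, ∀ b ∈ W, Commute a b := by
    have h1 : W ≤ Subgroup.centralizer T :=
      (Subgroup.closure_le _).mpr fun u hu => Subgroup.mem_centralizer_iff.mpr fun v hv =>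
        hTcomm v hv u hu
    have h2 : W ≤ Subgroup.centralizer (W : Set ↥(alternatingGroup (Fin n))) :=
      (Subgroup.closure_le _).mpr fun u hu => Subgroup.mem_centralizer_iff.mpr fun a ha =>
        ((Subgroup.mem_centralizer_iff.mp (h1 ha)) u hu).symm
    exact fun a ha b hb => Subgroup.mem_centralizer_iff.mp (h2 hb) a ha
  have hW2 : IsPGroup 2 W := by
    rintro ⟨a, ha⟩
    refine ⟨1, Subtype.ext ?_⟩
    show a ^ 2 ^ 1 = 1
    rw [pow_one]
    refine Subgroup.closure_induction (p := fun x _ => x ^ 2 = 1) ?_ (one_pow 2) ?_ ?_ ha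
    · intro v hv
      rw [pow_two]
      exact Subtype.ext hv.1
    · intro x y hx hy hx2 hy2
      rw [(hWc x hx y hy).mul_pow, hx2, hy2, one_mul]
    · intro x _ hx2
      rw [inv_pow, hx2, inv_one]
  obtain ⟨S, hS⟩ := hW2.exists_le_sylow
  obtain ⟨g, hg⟩ := MulAction.exists_smul_eq ↥(alternatingGroup (Fin n)) S P
  refine ⟨fun i => (G i).image (g : Perm (Fin n)), fun i =>
    ⟨by rw [Finset.card_image_of_injective _ (g : Perm (Fin n)).injective, hcard], fun v hv hv2 => ?_⟩,
    fun i j hij => (Finset.disjoint_image (g : Perm (Fin n)).injective).mpr (hdisj i j hij)⟩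
  set u : Perm (Fin n) := (g : Perm (Fin n))⁻¹ * v * g with hu
  have hus : ∀ x, u x ≠ x ↔ x ∈ G i := by
    intro x
    rw [show (x ∈ G i ↔ (g : Perm (Fin n)) x ∈ (G i).image (g : Perm (Fin n))) by simp,
      ← hv ((g : Perm (Fin n)) x), hu, Perm.mul_apply, Perm.mul_apply, Ne, Perm.inv_eq_iff_eq, ne_eq]
  have hu2 : u * u = 1 := by
    calc u * u = (g : Perm (Fin n))⁻¹ * (v * v) * g := by rw [hu]; group
      _ = 1 := by rw [hv2]; group
  obtain ⟨a, b, c, d, hab, -, -, -, -, hcd, -, hform⟩ := quad_form (hcard i) hus hu2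
  have huA : u ∈ alternatingGroup (Fin n) :=
    hform ▸ H63.swap_mul_swap_mem_alternating hab hcd
  have h1 : g * ⟨u, huA⟩ * g⁻¹ ∈ (P : Subgroup ↥(alternatingGroup (Fin n))) := by
    rw [← hg]
    exact ⟨⟨u, huA⟩, hS (Subgroup.subset_closure (show (⟨u, huA⟩ : ↥(alternatingGroup (Fin n))) ∈ T
      from ⟨hu2, i, hus⟩)), by simp [MulAut.conj]⟩
  have h2 : ((g * ⟨u, huA⟩ * g⁻¹ : ↥(alternatingGroup (Fin n))) : Perm (Fin n)) ∈ H :=
    hP ⟨_, h1, rfl⟩
  convert h2 using 1
  simp [hu, mul_assoc]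

end H77.Quads
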