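import Mathlib

/-!
Finite tables for the system of the fourteen planes of the affine geometry on eight points.
-/

set_option autoImplicit false

namespace H77.Quads

/-- Scalar product on the three binary digits. -/
def dot (a x : Fin 8) : Bool :=
  xor (xor (a.val.testBit 0 && x.val.testBit 0) (a.val.testBit 1 && x.val.testBit 1))
    (a.val.testBit 2 && x.val.testBit 2)

/-- A plane. -/
def plane (a : Fin 8) (b : Bool) : Finset (Fin 8) :=
  Finset.univ.filter fun x => dot a x = b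

theorem mem_plane {a x : Fin 8} {b : Bool} : x ∈ plane a b ↔ dot a x = b := by simp [plane]

theorem card_plane : ∀ (a : Fin 8) (b : Bool), a ≠ 0 → (plane a b).card = 4 := by decide +kernel

theorem inter_true : ∀ a c : Fin 8, a ≠ 0 → c ≠ 0 → a ≠ c →
    (plane a true ∩ plane c true).card = 2 ∧
      (plane a true \ plane c true) ∪ (plane c true \ plane a true) = plane (a ^^^ c) true := by
  decide +kernel

theorem inter_false : ∀ a c : Fin 8, a ≠ 0 → c ≠ 0 → a ≠ c →
    (plane a false ∩ plane c true).card = 2 ∧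
      (plane a false \ plane c true) ∪ (plane c true \ plane a false) =
        plane (a ^^^ c) false := by
  decide +kernel

theorem xor_left_inj : ∀ a c : Fin 8, a ≠ c → a ^^^ c ≠ 0 ∧ a ^^^ (a ^^^ c) = c := by
  decide +kernel

theorem base_planes :
    plane 1 true = {7, 3, 5, 1} ∧ plane 2 true = {7, 3, 6, 2} ∧ plane 4 true = {7, 5, 6, 4} := by
  decide +kernel

theorem nonzero_cases : ∀ a : Fin 8, a ≠ 0 →
    a = 1 ∨ a = 2 ∨ a = 4 ∨ a = 1 ^^^ 2 ∨ a = 1 ^^^ 4 ∨ a = 2 ^^^ 4 ∨ a = (1 ^^^ 2) ^^^ 4 := by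
  decide +kernel

theorem punctured_code : ∀ S : Finset (Fin 8),
    (∀ a : Fin 8, a ≠ 0 → (S ∩ plane a true).card ≠ 1 ∧ (S ∩ plane a true).card ≠ 3) →
      S.card ≤ 4 → (S.erase 0).Nonempty →
      ∃ a : Fin 8, a ≠ 0 ∧
        (S.erase 0 = plane a true ∨ S.erase 0 = (plane a false).erase 0) := by
  decide +kernel

theorem zero_mem_false : ∀ a : Fin 8, (0 : Fin 8) ∈ plane a false ∧ (0 : Fin 8) ∉ plane a true := by
  decide +kernel

theorem full_code : ∀ S : Finset (Fin 8),
    (∀ (a : Fin 8) (b : Bool), a ≠ 0 → (S ∩ plane a b).card ≠ 1 ∧ (S ∩ plane a b).card ≠ 3) →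
      S.card ≤ 4 → S.Nonempty → S.card = 4 ∧ ∃ (a : Fin 8) (b : Bool), a ≠ 0 ∧ S = plane a b := by
  decide +kernel

theorem dot_separates : ∀ x y : Fin 8, (∀ a : Fin 8, a ≠ 0 → dot a x = dot a y) → x = y := by
  decide +kernel

theorem dot_xor : ∀ a x u : Fin 8, dot a (x ^^^ u) = xor (dot a x) (dot a u) := by
  decide +kernel

theorem exists_orthogonal : ∀ u : Fin 8, ∃ a : Fin 8, a ≠ 0 ∧ dot a u = false := by
  decide +kernel

theorem xor_cancel : ∀ x u : Fin 8, (x ^^^ u) ^^^ u = x ∧ (x ^^^ u = x ↔ u = 0) ∧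
    x ^^^ (x ^^^ u) = u := by
  decide +kernel

theorem xor_comm3 : ∀ k a b : Fin 8, (k ^^^ a) ^^^ b = (k ^^^ b) ^^^ a := by
  decide +kernel

end H77.Quads
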