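import Cfsg.Agent.H77.ThreeCycleBlocks
import Cfsg.Agent.H77.QuadTables
import Mathlib

/-!
Subgroups of symmetric groups containing regular four-groups on four-point sets and no
three-cycle: the generalized Fitting subgroup is not quasisimple if the four-point sets cover all
but three points and two of them are disjoint.
-/

set_option autoImplicit false
open Cfsg Equiv Equiv.Perm

namespace H77.Quads

open H63 (cyc)

variable {α : Type*} [Fintype α] [DecidableEq α]

/-- All fixed-point-free involutions of the four-point set `Q` lie in `H`. -/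
def Quad (H : Subgroup (Perm α)) (Q : Finset α) : Prop :=
  Q.card = 4 ∧ ∀ g : Perm α, (∀ x, g x ≠ x ↔ x ∈ Q) → g * g = 1 → g ∈ H

/-- `x` lies in some quad. -/
def QCov (H : Subgroup (Perm α)) (x : α) : Prop := ∃ Q, Quad H Q ∧ x ∈ Q

variable {H : Subgroup (Perm α)}

omit [Fintype α] in
theorem swaps_spec {a b c d : α} (hab : a ≠ b) (hac : a ≠ c) (had : a ≠ d) (hbc : b ≠ c)
    (hbd : b ≠ d) (hcd : c ≠ d) :
    (∀ x, (swap a b * swap c d) x ≠ x ↔ x ∈ ({a, b, c, d} : Finset α)) ∧
      (swap a b * swap c d) * (swap a b * swap c d) = 1 ∧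
      (swap a b * swap c d) a = b ∧ (swap a b * swap c d) b = a ∧
      (swap a b * swap c d) c = d ∧ (swap a b * swap c d) d = c := by
  refine ⟨fun x => ?_, ?_, ?_, ?_, ?_, ?_⟩
  · simp only [Perm.mul_apply, swap_apply_def, Finset.mem_insert, Finset.mem_singleton]
    grind
  · ext x
    simp only [Perm.mul_apply, swap_apply_def, Perm.one_apply]
    grind
  all_goals simp only [Perm.mul_apply, swap_apply_def]; grind

omit [Fintype α] in
theorem quad_elem {Q : Finset α} (hQ : Quad H Q) {a b c d : α} (hab : a ≠ b) (hac : a ≠ c)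
    (had : a ≠ d) (hbc : b ≠ c) (hbd : b ≠ d) (hcd : c ≠ d) (he : Q = {a, b, c, d}) :
    swap a b * swap c d ∈ H :=
  hQ.2 _ (fun x => he ▸ (swaps_spec hab hac had hbc hbd hcd).1 x)
    (swaps_spec hab hac had hbc hbd hcd).2.1

omit [Fintype α] in
theorem exists_pair {s : Finset α} {x : α} (hs : s.card = 2) (hx : x ∈ s) :
    ∃ y, y ≠ x ∧ s = {x, y} := by
  obtain ⟨u, v, huv, rfl⟩ := Finset.card_eq_two.mp hs
  simp only [Finset.mem_insert, Finset.mem_singleton] at hx
  rcases hx with rfl | rfl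
  · exact ⟨v, huv.symm, rfl⟩
  · exact ⟨u, huv, Finset.pair_comm u x⟩

omit [Fintype α] in
/-- A four-point set containing two given distinct points. -/
theorem exists_complete {Q : Finset α} (hQ : Q.card = 4) {x y : α} (hxy : x ≠ y) (hx : x ∈ Q)
    (hy : y ∈ Q) : ∃ c d, x ≠ c ∧ x ≠ d ∧ y ≠ c ∧ y ≠ d ∧ c ≠ d ∧ Q = {x, y, c, d} := by
  have h1 : ((Q.erase x).erase y).card = 2 := by
    rw [Finset.card_erase_of_mem (Finset.mem_erase.mpr ⟨hxy.symm, hy⟩),
      Finset.card_erase_of_mem hx, hQ]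
  obtain ⟨c, d, hcd, he⟩ := Finset.card_eq_two.mp h1
  have hc : c ∈ (Q.erase x).erase y := by simp [he]
  have hd : d ∈ (Q.erase x).erase y := by simp [he]
  simp only [Finset.mem_erase] at hc hd
  refine ⟨c, d, hc.2.1.symm, hd.2.1.symm, hc.1.symm, hd.1.symm, hcd, ?_⟩
  rw [← he, Finset.insert_erase (Finset.mem_erase.mpr ⟨hxy.symm, hy⟩), Finset.insert_erase hx]

omit [Fintype α] in
theorem quad_form {Q : Finset α} (hQ : Q.card = 4) {g : Perm α}
    (hg : ∀ x, g x ≠ x ↔ x ∈ Q) (hg2 : g * g = 1) :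
    ∃ a b c d, a ≠ b ∧ a ≠ c ∧ a ≠ d ∧ b ≠ c ∧ b ≠ d ∧ c ≠ d ∧ Q = {a, b, c, d} ∧
      g = swap a b * swap c d := by
  have hgg : ∀ x, g (g x) = x := fun x => by rw [← Perm.mul_apply, hg2]; rfl
  obtain ⟨a, ha⟩ := Finset.card_pos.mp (show 0 < Q.card by omega)
  have hga : g a ≠ a := (hg a).mpr ha
  have hgaQ : g a ∈ Q := (hg _).mp (by rw [hgg]; exact hga.symm)
  obtain ⟨c, d, hac, had, hbc, hbd, hcd, he⟩ := exists_complete hQ hga.symm ha hgaQ
  refine ⟨a, g a, c, d, hga.symm, hac, had, hbc, hbd, hcd, he, ?_⟩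
  have hc : g c = d := by
    have h1 : g c ≠ c := (hg c).mpr (by simp [he])
    have h2 : g c ∈ Q := (hg _).mp (by rw [hgg]; exact h1.symm)
    simp only [he, Finset.mem_insert, Finset.mem_singleton] at h2
    rcases h2 with h | h | h | h
    · exact absurd ((hgg c).symm.trans (congrArg g h)) hbc.symm
    · exact absurd (g.injective h) hac.symm
    · exact absurd h h1
    · exact h
  have hd : g d = c := by rw [← hc, hgg]
  obtain ⟨s1, -, s3, s4, s5, s6⟩ := swaps_spec hga.symm hac had hbc hbd hcd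
  ext x
  by_cases hx : x ∈ Q
  · simp only [he, Finset.mem_insert, Finset.mem_singleton] at hx
    rcases hx with rfl | rfl | rfl | rfl
    · rw [s3]
    · rw [s4, hgg]
    · rw [s5, hc]
    · rw [s6, hd]
  · rw [not_not.mp (mt (hg x).mp hx), not_not.mp (mt (s1 x).mp (he ▸ hx))]

omit [Fintype α] in
/-- Fixed-point-free involutions of one quad commute. -/
theorem comm_on {Q : Finset α} (hQ : Q.card = 4) {g h : Perm α} (hg : ∀ x, g x ≠ x ↔ x ∈ Q)
    (hg2 : g * g = 1) (hh : ∀ x, h x ≠ x ↔ x ∈ Q) (hh2 : h * h = 1) : Commute g h := by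
  have hgg : ∀ x, g (g x) = x := fun x => by rw [← Perm.mul_apply, hg2]; rfl
  have hhh : ∀ x, h (h x) = x := fun x => by rw [← Perm.mul_apply, hh2]; rfl
  have hgQ : ∀ x ∈ Q, g x ∈ Q := fun x hx => (hg _).mp (by rw [hgg]; exact ((hg x).mpr hx).symm)
  have hhQ : ∀ x ∈ Q, h x ∈ Q := fun x hx => (hh _).mp (by rw [hhh]; exact ((hh x).mpr hx).symm)
  ext x
  rw [Perm.mul_apply, Perm.mul_apply]
  by_cases hx : x ∈ Q
  · by_cases he : g x = h x
    · rw [← he, hgg, he, hhh]
    have h3 : (((Q.erase x).erase (g x)).erase (h x)).card = 1 := by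
      rw [Finset.card_erase_of_mem, Finset.card_erase_of_mem, Finset.card_erase_of_mem hx, hQ]
      · exact Finset.mem_erase.mpr ⟨(hg x).mpr hx, hgQ x hx⟩
      · exact Finset.mem_erase.mpr ⟨Ne.symm he, Finset.mem_erase.mpr ⟨(hh x).mpr hx, hhQ x hx⟩⟩
    refine Finset.card_le_one.mp h3.le _ ?_ _ ?_
    · simp only [Finset.mem_erase]
      refine ⟨?_, ?_, ?_, hgQ _ (hhQ x hx)⟩
      · exact (hg _).mpr (hhQ x hx)
      · exact g.injective.ne ((hh x).mpr hx)
      · exact fun e => he ((hgg (h x)).symm.trans (congrArg g e)).symm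
    · simp only [Finset.mem_erase]
      refine ⟨?_, ?_, ?_, hhQ _ (hgQ x hx)⟩
      · exact h.injective.ne ((hg x).mpr hx)
      · exact (hh _).mpr (hgQ x hx)
      · exact fun e => he ((hhh (g x)).symm.trans (congrArg h e))
  · rw [not_not.mp (mt (hg x).mp hx), not_not.mp (mt (hh x).mp hx),
      not_not.mp (mt (hg x).mp hx)]

omit [Fintype α] in
theorem quad_map {g : Perm α} (hg : g ∈ H) {Q : Finset α} (hQ : Quad H Q) :
    Quad H (Q.image g) := by
  refine ⟨by rw [Finset.card_image_of_injective _ g.injective, hQ.1], fun v hv hv2 => ?_⟩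
  have h1 : g⁻¹ * v * g ∈ H := by
    refine hQ.2 _ (fun x => ?_) ?_
    · rw [show (x ∈ Q ↔ g x ∈ Q.image g) by simp, ← hv (g x), Perm.mul_apply, Perm.mul_apply,
        Ne, Perm.inv_eq_iff_eq, ne_eq]
    · calc g⁻¹ * v * g * (g⁻¹ * v * g) = g⁻¹ * (v * v) * g := by group
        _ = 1 := by rw [hv2]; group
  have h2 := H.mul_mem (H.mul_mem hg h1) (H.inv_mem hg)
  convert h2 using 1
  group

omit [Fintype α] in
theorem qcov_map {g : Perm α} (hg : g ∈ H) {x : α} (hx : QCov H x) : QCov H (g x) := by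
  obtain ⟨Q, hQ, hxQ⟩ := hx
  exact ⟨Q.image g, quad_map hg hQ, Finset.mem_image_of_mem _ hxQ⟩

/-- Hypothesis: no three-cycle. -/
def NoCyc (H : Subgroup (Perm α)) : Prop :=
  ∀ a b c : α, a ≠ b → a ≠ c → b ≠ c → cyc a b c ∉ H

omit [Fintype α] in
theorem inter_ne_three (hno : NoCyc H) {a b c d e : α} (hab : a ≠ b) (hcd : c ≠ d) (hce : c ≠ e)
    (hde : d ≠ e) (h1 : swap a b * swap c d ∈ H) (h2 : swap a b * swap c e ∈ H)
    (hac : a ≠ c) (had : a ≠ d) (hbc : b ≠ c) (hbd : b ≠ d) : False := by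
  have hcomm : Commute (swap a b) (swap c d) :=
    (H63.disjoint_swaps (by simp [hab, hac, had, hbc, hbd, hcd])).commute
  have h3 := H.mul_mem h1 h2
  have h4 : swap a b * swap c d * (swap a b * swap c e) = cyc d c e := by
    rw [hcomm.eq, mul_assoc, ← mul_assoc (swap a b), swap_mul_self, one_mul]
    show swap c d * swap c e = swap d c * swap c e
    rw [swap_comm c d]
  rw [h4] at h3
  exact hno _ _ _ hcd.symm hde hce h3

theorem inter_card (hno : NoCyc H) {Q R : Finset α} (hQ : Quad H Q) (hR : Quad H R) :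
    (Q ∩ R).card ≠ 1 ∧ (Q ∩ R).card ≠ 3 := by
  constructor
  · intro h
    obtain ⟨q, hq⟩ := Finset.card_eq_one.mp h
    have hq' : q ∈ Q ∩ R := by simp [hq]
    rw [Finset.mem_inter] at hq'
    obtain ⟨o, ho, hoq⟩ := Finset.exists_mem_ne (show 1 < Q.card by rw [hQ.1]; omega) q
    obtain ⟨u, v, hou, hov, hqu, hqv, huv, heQ⟩ := exists_complete hQ.1 hoq ho hq'.1
    obtain ⟨r, hr, hrq⟩ := Finset.exists_mem_ne (show 1 < R.card by rw [hR.1]; omega) q
    obtain ⟨f, f', hqf, hqf', hrf, hrf', hff, heR⟩ := exists_complete hR.1 hrq.symm hq'.2 hr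
    have hsep : ∀ y ∈ R, y ≠ q → y ∉ Q := fun y hy hyq hyQ => hyq (by
      have : y ∈ Q ∩ R := Finset.mem_inter.mpr ⟨hyQ, hy⟩
      simpa [hq] using this)
    have hf := hsep f (by simp [heR]) hqf.symm
    have hf' := hsep f' (by simp [heR]) hqf'.symm
    have hr' := hsep r hr hrq
    simp only [heQ, Finset.mem_insert, Finset.mem_singleton, not_or] at hf hf' hr'
    obtain ⟨σ, hσ, hσ3⟩ := H63.exists_threeCycle_of_double_swaps (o := o) (q := q) (u := u)
      (v := v) (r := r) (f := f) (f' := f') (M := H)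
      (by simp [hoq, hou, hov, hqu, hqv, huv, hrq.symm, hqf, hqf', hrf, hrf', hff,
        Ne.symm hf.1, Ne.symm hf.2.2.1, Ne.symm hf.2.2.2, Ne.symm hf'.1, Ne.symm hf'.2.2.1,
        Ne.symm hf'.2.2.2, Ne.symm hr'.1, Ne.symm hr'.2.2.1, Ne.symm hr'.2.2.2])
      (quad_elem hQ hoq hou hov hqu hqv huv heQ)
      (quad_elem hR hrq.symm hqf hqf' hrf hrf' hff heR)
    obtain ⟨a, ha⟩ := hσ3.isCycle.nonempty_support
    have hnd := hσ3.nodup_iff_mem_support.mpr ha
    simp only [List.nodup_cons, List.mem_cons, List.not_mem_nil, or_false, not_or] at hnd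
    rw [hσ3.eq_swap_mul_swap_iff_mem_support.mpr ha] at hσ
    exact hno _ _ _ hnd.1.1 hnd.1.2 hnd.2.1 hσ
  · intro h
    obtain ⟨a, b, c, hab, hac, hbc, he⟩ := Finset.card_eq_three.mp h
    have hm : ∀ y ∈ ({a, b, c} : Finset α), y ∈ Q ∧ y ∈ R := fun y hy => by
      rw [← he] at hy
      exact Finset.mem_inter.mp hy
    obtain ⟨d, hd⟩ : ∃ d, Q \ R = {d} := Finset.card_eq_one.mp (by
      have := Finset.card_sdiff_add_card_inter Q R
      rw [h, hQ.1] at this
      omega)
    obtain ⟨e, he'⟩ : ∃ e, R \ Q = {e} := Finset.card_eq_one.mp (by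
      have := Finset.card_sdiff_add_card_inter R Q
      rw [Finset.inter_comm, h, hR.1] at this
      omega)
    have hd' : d ∈ Q ∧ d ∉ R := Finset.mem_sdiff.mp (by simp [hd])
    have he'' : e ∈ R ∧ e ∉ Q := Finset.mem_sdiff.mp (by simp [he'])
    have neR : ∀ y ∈ ({a, b, c} : Finset α), y ≠ d := fun y hy e0 => hd'.2 (e0 ▸ (hm y hy).2)
    have neQ : ∀ y ∈ ({a, b, c} : Finset α), y ≠ e := fun y hy e0 => he''.2 (e0 ▸ (hm y hy).1)
    have hde : d ≠ e := fun e0 => he''.2 (e0 ▸ hd'.1)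
    have hQe : Q = {a, b, c, d} := by
      rw [← Finset.sdiff_union_inter Q R, hd, he]
      ext; simp; tauto
    have hRe : R = {a, b, c, e} := by
      rw [← Finset.sdiff_union_inter R Q, he', Finset.inter_comm, he]
      ext; simp; tauto
    exact inter_ne_three hno hab (neR c (by simp)) (neQ c (by simp)) hde
      (quad_elem hQ hab hac (neR a (by simp)) hbc (neR b (by simp)) (neR c (by simp)) hQe)
      (quad_elem hR hab hac (neQ a (by simp)) hbc (neQ b (by simp)) (neQ c (by simp)) hRe)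
      hac (neR a (by simp)) hbc (neR b (by simp))

theorem inter_cases (hno : NoCyc H) {Q R : Finset α} (hQ : Quad H Q) (hR : Quad H R)
    {x : α} (hxQ : x ∈ Q) (hxR : x ∈ R) : R = Q ∨ (Q ∩ R).card = 2 := by
  have h0 : 0 < (Q ∩ R).card := Finset.card_pos.mpr ⟨x, Finset.mem_inter.mpr ⟨hxQ, hxR⟩⟩
  obtain ⟨h1, h3⟩ := inter_card hno hQ hR
  have h4 : (Q ∩ R).card ≤ 4 := (Finset.card_le_card Finset.inter_subset_left).trans hQ.1.le
  by_cases h : (Q ∩ R).card = 2
  · exact .inr h
  · refine .inl ?_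
    have hQR := Finset.eq_of_subset_of_card_le (Finset.inter_subset_left (s₁ := Q) (s₂ := R))
      (by rw [hQ.1]; omega)
    exact (Finset.eq_of_subset_of_card_le (Finset.inter_eq_left.mp hQR)
      (by rw [hQ.1, hR.1])).symm

omit [Fintype α] in
/-- The symmetric difference of two quads meeting in two points. -/
theorem quad_symm {Q R : Finset α} (hQ : Quad H Q) (hR : Quad H R) (h : (Q ∩ R).card = 2) :
    Quad H ((Q \ R) ∪ (R \ Q)) := by
  obtain ⟨a, b, hab, he⟩ := Finset.card_eq_two.mp h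
  obtain ⟨c, d, hcd, hc⟩ := Finset.card_eq_two.mp (show (Q \ R).card = 2 by
    have := Finset.card_sdiff_add_card_inter Q R
    rw [h, hQ.1] at this
    omega)
  obtain ⟨e, f, hef, hf⟩ := Finset.card_eq_two.mp (show (R \ Q).card = 2 by
    have := Finset.card_sdiff_add_card_inter R Q
    rw [Finset.inter_comm, h, hR.1] at this
    omega)
  have ha : a ∈ Q ∧ a ∈ R := Finset.mem_inter.mp (by simp [he])
  have hb : b ∈ Q ∧ b ∈ R := Finset.mem_inter.mp (by simp [he])
  have he' : e ∈ R ∧ e ∉ Q := Finset.mem_sdiff.mp (by simp [hf])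
  have hf' : f ∈ R ∧ f ∉ Q := Finset.mem_sdiff.mp (by simp [hf])
  have hc' : c ∈ Q ∧ c ∉ R := Finset.mem_sdiff.mp (by simp [hc])
  have hd' : d ∈ Q ∧ d ∉ R := Finset.mem_sdiff.mp (by simp [hc])
  have hae : a ≠ e := fun x => he'.2 (x ▸ ha.1)
  have haf : a ≠ f := fun x => hf'.2 (x ▸ ha.1)
  have hbe : b ≠ e := fun x => he'.2 (x ▸ hb.1)
  have hbf : b ≠ f := fun x => hf'.2 (x ▸ hb.1)
  have hRe : R = {a, e, b, f} := by
    rw [← Finset.sdiff_union_inter R Q, hf, Finset.inter_comm, he]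
    ext; simp; tauto
  obtain ⟨s1, -, s3, s4, s5, s6⟩ := swaps_spec hae hab haf hbe.symm hef hbf
  have hfix : ∀ x ∉ R, (swap a e * swap b f) x = x := fun x hx =>
    not_not.mp (mt (s1 x).mp (hRe ▸ hx))
  have := quad_map (quad_elem hR hae hab haf hbe.symm hef hbf hRe) hQ
  convert this using 1
  rw [hc, hf, ← Finset.sdiff_union_inter Q R, he, hc]
  simp only [Finset.image_union, Finset.image_insert, Finset.image_singleton, s3, s5,
    hfix c hc'.2, hfix d hd'.2]

/-- A commutative action of `F*(H)` on the covered points is impossible. -/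
theorem false_of_abelian_action (hF : IsQuasisimple ↥(generalizedFittingSubgroup ↥H))
    (V : Finset α) (hV : V.card ≤ 3) (hcov : ∀ x ∉ V, QCov H x)
    (h : ∀ l ∈ generalizedFittingSubgroup ↥H, ∀ m ∈ generalizedFittingSubgroup ↥H,
      ∀ x, QCov H x → (l : Perm α) ((m : Perm α) x) = (m : Perm α) ((l : Perm α) x)) :
    False := by
  classical
  set L := generalizedFittingSubgroup ↥H with hL
  let K : Subgroup L :=
    { carrier := {l | ∀ x, QCov H x → ((l : H) : Perm α) x = x}
      one_mem' := fun x _ => by simp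
      mul_mem' := fun {a b} ha hb x hx => by simp [hb x hx, ha x hx]
      inv_mem' := fun {a} ha x hx => by
        conv_lhs => rw [← ha x hx]
        simp }
  open scoped commutatorElement in
  have hK : commutator L ≤ K := by
    rw [commutator_def, Subgroup.commutator_le]
    intro l _ m _ x hx
    show ((⁅l, m⁆ : L) : H).1 x = x
    have h1 := qcov_map (((m : H) * l)⁻¹).2 hx
    set z := (((((m : H) * l)⁻¹ : H)) : Perm α) x with hz
    have h2 := h l l.2 m m.2 z h1
    have h3 : ((m : H) : Perm α) (((l : H) : Perm α) z) = x := by rw [hz]; simp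
    rw [h3] at h2
    simpa [commutatorElement_def, hz] using h2
  rw [Cfsg.Comp.perfect_of_quasisimple hF, top_le_iff] at hK
  have hfix : ∀ l : L, ∀ x ∉ V, ((l : H) : Perm α) x = x := fun l x hx =>
    (show l ∈ K from hK ▸ Subgroup.mem_top l) x (hcov x hx)
  have hsign : ∀ l : L, sign ((l : H) : Perm α) = 1 := by
    have h1 : commutator L ≤ ((sign.comp H.subtype).comp L.subtype).ker :=
      Abelianization.commutator_subset_ker _
    rw [Cfsg.Comp.perfect_of_quasisimple hF] at h1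
    exact fun l => h1 (Subgroup.mem_top l)
  -- even permutations of at most three points commute
  have key : ∀ k ≤ 3, ∀ s t : Perm (Fin k), sign s = 1 → sign t = 1 → s * t = t * s := by
    intro k hk
    interval_cases k <;> decide +kernel
  refine Cfsg.Comp.not_isMulCommutative_of_quasisimple hF ⟨⟨fun l m => Subtype.ext (Subtype.ext ?_)⟩⟩
  show ((l : H) : Perm α) * ((m : H) : Perm α) = ((m : H) : Perm α) * ((l : H) : Perm α)
  have hp : ∀ g : L, ∀ x, ((g : H) : Perm α) x ∈ V ↔ x ∈ V := by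
    intro g x
    by_cases hx : ((g : H) : Perm α) x = x
    · rw [hx]
    · exact iff_of_true (by_contra fun h' => hx (((g : H) : Perm α).injective (hfix g _ h')))
        (by_contra fun h' => hx (hfix g x h'))
  have hmk : ∀ g : L, ∃ g' : Perm (Fin V.card), sign g' = 1 ∧
      ofSubtype (V.equivFin.symm.permCongrHom g') = ((g : H) : Perm α) := by
    intro g
    refine ⟨V.equivFin.permCongrHom (((g : H) : Perm α).subtypePerm (hp g)), ?_, ?_⟩
    · simp only [Equiv.permCongrHom, MulEquiv.coe_mk, sign_permCongr]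
      rw [← sign_ofSubtype, ofSubtype_subtypePerm (hp g) fun x hx =>
        by_contra fun h' => hx (hfix g x h'), hsign]
    · rw [show V.equivFin.symm.permCongrHom (V.equivFin.permCongrHom
          (((g : H) : Perm α).subtypePerm (hp g))) = ((g : H) : Perm α).subtypePerm (hp g)
          from Perm.ext fun x => by simp [Equiv.permCongrHom]]
      exact ofSubtype_subtypePerm (hp g) fun x hx => by_contra fun h' => hx (hfix g x h')
  obtain ⟨l', hl', hl⟩ := hmk l
  obtain ⟨m', hm', hm⟩ := hmk m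
  rw [← hl, ← hm]
  exact (((show Commute l' m' from key _ hV l' m' hl' hm').map _).map _).eq

/-- An elementary abelian normal subgroup is centralised by `F*(H)`. -/
theorem central_action (hF : IsQuasisimple ↥(generalizedFittingSubgroup ↥H))
    (A : Subgroup H) [A.Normal] (h2 : ∀ a ∈ A, a * a = 1) {l : H}
    (hl : l ∈ generalizedFittingSubgroup ↥H) {a : H} (ha : a ∈ A) (y : α) :
    (l : Perm α) ((a : Perm α) y) = (a : Perm α) ((l : Perm α) y) := by
  set L := generalizedFittingSubgroup ↥H with hL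
  have hcomm : ∀ a ∈ A, ∀ b ∈ A, a * b = b * a := by
    intro a ha b hb
    have h1 : a⁻¹ = a := inv_eq_of_mul_eq_one_right (h2 a ha)
    have h3 : b⁻¹ = b := inv_eq_of_mul_eq_one_right (h2 b hb)
    have h4 : (a * b)⁻¹ = a * b := inv_eq_of_mul_eq_one_right (h2 _ (A.mul_mem ha hb))
    rw [← h4, mul_inv_rev, h1, h3]
  have hAL : A ≤ L := by
    refine le_trans (Cfsg.Comp.le_fittingSubgroup inferInstance
      (Cfsg.Comp.isNilpotent_of_commutator_commutator ?_)) Cfsg.Comp.fitting_le_fStar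
    have : ⁅A, A⁆ = ⊥ := Subgroup.commutator_eq_bot_iff_le_centralizer.mpr fun a ha =>
      Subgroup.mem_centralizer_iff.mpr fun b hb => hcomm b hb a ha
    rw [this, Subgroup.commutator_bot_left]
  have hAZ : A.subgroupOf L ≤ Subgroup.center L := by
    refine (Cfsg.Comp.normal_eq_top_or_le_center hF inferInstance).resolve_left fun htop => ?_
    refine Cfsg.Comp.not_isMulCommutative_of_quasisimple hF ⟨⟨fun a b => Subtype.ext ?_⟩⟩
    have hle := Subgroup.subgroupOf_eq_top.mp htop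
    exact hcomm a (hle a.2) b (hle b.2)
  have h1 := Subgroup.mem_center_iff.mp
    (hAZ (x := ⟨a, hAL ha⟩) (Subgroup.mem_subgroupOf.mpr ha)) ⟨l, hl⟩
  simpa using congrArg (fun z : L => (((z : H) : Perm α)) y) h1

/-- If every element of every quad commutes with two permutations, these commute on the covered
points. -/
theorem abelian_on_quads {l m : Perm α}
    (hl : ∀ Q v, Quad H Q → (∀ y, v y ≠ y ↔ y ∈ Q) → v * v = 1 → l * v = v * l)
    (hm : ∀ Q v, Quad H Q → (∀ y, v y ≠ y ↔ y ∈ Q) → v * v = 1 → m * v = v * m)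
    {x : α} (hx : QCov H x) : l (m x) = m (l x) := by
  obtain ⟨Q, hQ, hxQ⟩ := hx
  have hel : ∀ y ∈ Q, y ≠ x → ∃ v : Perm α, (∀ u, v u ≠ u ↔ u ∈ Q) ∧ v * v = 1 ∧ v x = y := by
    intro y hy hyx
    obtain ⟨c, d, h1, h2, h3, h4, h5, he⟩ := exists_complete hQ.1 hyx.symm hxQ hy
    obtain ⟨s1, s2, s3, -⟩ := swaps_spec hyx.symm h1 h2 h3 h4 h5
    exact ⟨_, fun u => he ▸ s1 u, s2, s3⟩
  have hstep : ∀ k : Perm α,
      (∀ Q v, Quad H Q → (∀ y, v y ≠ y ↔ y ∈ Q) → v * v = 1 → k * v = v * k) →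
      ∃ v : Perm α, k x = v x ∧
        (v = 1 ∨ ((∀ u, v u ≠ u ↔ u ∈ Q) ∧ v * v = 1)) := by
    intro k hk
    by_cases he : k x = x
    · exact ⟨1, by simpa using he, .inl rfl⟩
    · obtain ⟨y, hy, hyx⟩ := Finset.exists_mem_ne (show 1 < Q.card by rw [hQ.1]; omega) x
      obtain ⟨v, hv, hv2, hvx⟩ := hel y hy hyx
      have hkQ : k x ∈ Q := by
        refine (hv _).mp ?_
        rw [← Perm.mul_apply, ← hk Q v hQ hv hv2, Perm.mul_apply, hvx]
        exact k.injective.ne hyx
      obtain ⟨v', hv', hv2', hvx'⟩ := hel _ hkQ he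
      exact ⟨v', hvx'.symm, .inr ⟨hv', hv2'⟩⟩
  obtain ⟨g, hg, hgc⟩ := hstep l hl
  obtain ⟨h, hh, hhc⟩ := hstep m hm
  have hlh : l * h = h * l := by
    rcases hhc with rfl | ⟨a, b⟩
    · simp
    · exact hl Q h hQ a b
  have hmg : m * g = g * m := by
    rcases hgc with rfl | ⟨a, b⟩
    · simp
    · exact hm Q g hQ a b
  have hgh : h * g = g * h := by
    rcases hgc with rfl | ⟨a, b⟩
    · simp
    rcases hhc with rfl | ⟨c, d⟩
    · simp
    exact (comm_on hQ.1 c d a b).eq
  rw [hh, hg, ← Perm.mul_apply, hlh, Perm.mul_apply, hg, ← Perm.mul_apply m, hmg, Perm.mul_apply,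
    hh, ← Perm.mul_apply, hgh, Perm.mul_apply]

/-- Points linked by quads. -/
def Link (H : Subgroup (Perm α)) (x y : α) : Prop := ∃ Q, Quad H Q ∧ x ∈ Q ∧ y ∈ Q

omit [Fintype α] in
theorem conn_map {g : Perm α} (hg : g ∈ H) {x y : α} (h : Relation.EqvGen (Link H) x y) :
    Relation.EqvGen (Link H) (g x) (g y) := by
  induction h with
  | rel a b hab =>
    obtain ⟨Q, hQ, ha, hb⟩ := hab
    exact .rel _ _ ⟨_, quad_map hg hQ, Finset.mem_image_of_mem _ ha, Finset.mem_image_of_mem _ hb⟩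
  | refl a => exact .refl _
  | symm a b _ ih => exact .symm _ _ ih
  | trans a b c _ _ ih1 ih2 => exact .trans _ _ _ ih1 ih2

/-- All quads form one linked family. -/
theorem conn_all (hF : IsQuasisimple ↥(generalizedFittingSubgroup ↥H))
    (V : Finset α) (hV : V.card ≤ 3) (hcov : ∀ x ∉ V, QCov H x) {x y : α} (hx : QCov H x)
    (hy : QCov H y) : Relation.EqvGen (Link H) x y := by
  classical
  set L := generalizedFittingSubgroup ↥H with hL
  let M : Subgroup H :=
    { carrier := {g | ∀ u, Relation.EqvGen (Link H) u ((g : Perm α) u)}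
      one_mem' := fun u => by simpa using Relation.EqvGen.refl u
      mul_mem' := fun {a b} ha hb u =>
        .trans _ _ _ (hb u) (by simpa using ha ((b : Perm α) u))
      inv_mem' := fun {a} ha u => .symm _ _ (by simpa using ha ((a : Perm α)⁻¹ u)) }
  have hMn : M.Normal := ⟨fun m hm g u => by
    simpa using conn_map g.2 (hm ((g : Perm α)⁻¹ u))⟩
  let K : α → Subgroup H := fun c =>
    { carrier := {g | g ∈ M ∧ ∀ u, ¬ Relation.EqvGen (Link H) c u → (g : Perm α) u = u}
      one_mem' := ⟨M.one_mem, fun u _ => by simp⟩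
      mul_mem' := fun {a b} ha hb =>
        ⟨M.mul_mem ha.1 hb.1, fun u hu => by simp [hb.2 u hu, ha.2 u hu]⟩
      inv_mem' := fun {a} ha => ⟨M.inv_mem ha.1, fun u hu => by
        conv_lhs => rw [← ha.2 u hu]
        simp⟩ }
  have hKs : ∀ c, (K c).IsSubnormal := by
    intro c
    refine .step _ M (fun g hg => hg.1) hMn.isSubnormal ⟨fun k hk g => ?_⟩
    rw [Subgroup.mem_subgroupOf] at hk ⊢
    refine ⟨(g * k * g⁻¹).2, fun u hu => ?_⟩
    have h1 : ¬ Relation.EqvGen (Link H) c (((g : H) : Perm α)⁻¹ u) := fun h' =>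
      hu (.trans _ _ _ h' (.symm _ _ (by simpa using (g⁻¹).2 u)))
    simp only [Subgroup.coe_mul, InvMemClass.coe_inv, Perm.mul_apply]
    rw [hk.2 _ h1]
    simp
  have hmemK : ∀ {Q : Finset α} {v : Perm α} (hv : v ∈ H) {c : α}, Quad H Q →
      (∀ u, v u ≠ u ↔ u ∈ Q) → c ∈ Q → (⟨v, hv⟩ : H) ∈ K c := by
    intro Q v hv c hQ hvQ hc
    have h1 : ∀ u, v u ≠ u → v u ∈ Q := fun u hu =>
      (hvQ _).mp fun e => hu (v.injective e)
    refine ⟨fun u => ?_, fun u hu => ?_⟩
    · by_cases h : v u = u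
      · show Relation.EqvGen (Link H) u (v u)
        rw [h]; exact .refl _
      · exact .rel _ _ ⟨Q, hQ, (hvQ u).mp h, h1 u h⟩
    · by_contra h
      exact hu (.rel _ _ ⟨Q, hQ, hc, (hvQ u).mp h⟩)
  have hLcomp : IsComponent L :=
    ⟨(inferInstance : (generalizedFittingSubgroup ↥H).Normal).isSubnormal, hF⟩
  by_cases hex : ∃ c, L ≤ K c
  · obtain ⟨c, hc⟩ := hex
    have hall : ∀ u, QCov H u → Relation.EqvGen (Link H) c u := by
      intro u hu
      by_contra hcu
      obtain ⟨Q, hQ, huQ⟩ := hu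
      obtain ⟨y', hy', hyu⟩ := Finset.exists_mem_ne (show 1 < Q.card by rw [hQ.1]; omega) u
      obtain ⟨c', d', h1, h2, h3, h4, h5, he⟩ := exists_complete hQ.1 hyu.symm huQ hy'
      obtain ⟨s1, s2, s3, -⟩ := swaps_spec hyu.symm h1 h2 h3 h4 h5
      set v := swap u y' * swap c' d' with hv
      have hvH : v ∈ H := quad_elem hQ hyu.symm h1 h2 h3 h4 h5 he
      have hσ : (⟨v, hvH⟩ : H) ∈ Subgroup.centralizer (L : Set H) := by
        refine Subgroup.mem_centralizer_iff.mpr fun l hl => Subtype.ext ?_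
        refine (Perm.Disjoint.commute fun w => ?_).eq
        by_cases hw : w ∈ Q
        · exact .inl ((hc hl).2 w fun h' => hcu (.trans _ _ _ h' (.rel _ _ ⟨Q, hQ, hw, huQ⟩)))
        · exact .inr (not_not.mp (mt (s1 w).mp (he ▸ hw)))
      have := (hc (Cfsg.Comp.centralizer_fStar_le hσ)).2 u hcu
      exact hyu ((s3.symm.trans this))
    exact .trans _ _ _ (.symm _ _ (hall x hx)) (hall y hy)
  · exfalso
    push Not at hex
    have hcomm : ∀ l ∈ L, ∀ Q v, Quad H Q → (∀ u, v u ≠ u ↔ u ∈ Q) → v * v = 1 →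
        (l : Perm α) * v = v * (l : Perm α) := by
      intro l hl Q v hQ hv hv2
      obtain ⟨c, hc⟩ := Finset.card_pos.mp (show 0 < Q.card by rw [hQ.1]; omega)
      have h1 := Cfsg.Comp.commute_of_commutator_eq_bot
        ((Cfsg.Comp.component_le_or_commute hLcomp (hKs c)).resolve_left (hex c)) hl
        (hmemK (hQ.2 v hv hv2) hQ hv hc)
      exact congrArg Subtype.val h1
    exact false_of_abelian_action hF V hV hcov fun l hl m hm x hx =>
      abelian_on_quads (hcomm l hl) (hcomm m hm) hx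

end H77.Quads
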