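import Cfsg.Agent.H77.OMinusSixTwo
import Cfsg.Agent.S0303
import Cfsg.Agent.S0822
import Cfsg.Agent.S0288
import Cfsg.Agent.H18.SquaresCounts
import Cfsg.Agent.H49.SpBlock
import Mathlib

/-!
Sylow 2-subgroups of `S₈`, `A₈`, `O⁻₆(2)` and `PSp₄(3)`.
-/

set_option autoImplicit false
open Matrix

namespace H77.SylowEight

open H31 (DWr.W)

/-- A subgroup of the right order is a Sylow subgroup. -/
theorem sylow_equiv {A G : Type*} [Group A] [Group G] [Finite G] {k : ℕ} (hA : Nat.card A = 2 ^ k)
    (f : A →* G) (hf : Function.Injective f) (hG : ¬ 2 ^ (k + 1) ∣ Nat.card G) (P : Sylow 2 G) :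
    Nonempty (A ≃* (P : Subgroup G)) := by
  haveI : Fact (Nat.Prime 2) := ⟨Nat.prime_two⟩
  have hA' : IsPGroup 2 A := IsPGroup.of_card hA
  obtain ⟨R, hR⟩ := (hA'.of_surjective f.rangeRestrict f.rangeRestrict_surjective).exists_le_sylow
  have hr : Nat.card f.range = 2 ^ k := by
    rw [← Nat.card_congr (MonoidHom.ofInjective hf).toEquiv, hA]
  obtain ⟨j, hj⟩ := IsPGroup.iff_card.mp R.2
  have hj' : j ≤ k := by
    by_contra hlt
    exact hG ((pow_dvd_pow 2 (by omega : k + 1 ≤ j)).trans (hj ▸ Subgroup.card_subgroup_dvd_card _))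
  have hRe : f.range = R := Subgroup.eq_of_le_of_card_ge hR (by
    rw [hr, hj]; exact Nat.pow_le_pow_right (by norm_num) hj')
  exact ⟨((MonoidHom.ofInjective hf).trans (MulEquiv.subgroupCongr hRe)).trans (R.equiv P)⟩

open H31.DWr in
theorem closure_gens : Subgroup.closure ({e, f, t} : Set W) = ⊤ := by
  set S := Subgroup.closure ({e, f, t} : Set W) with hS
  have he : e ∈ S := Subgroup.subset_closure (by simp)
  have hf : f ∈ S := Subgroup.subset_closure (by simp)
  have ht : t ∈ S := Subgroup.subset_closure (by simp)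
  have hD : ∀ a : D, (⟨a, 1, false⟩ : W) ∈ S := by
    have hr1 : (⟨.r 1, 1, false⟩ : W) ∈ S := by
      rw [show (⟨.r 1, 1, false⟩ : W) = e * f by decide]
      exact S.mul_mem he hf
    have hr : ∀ k : ℕ, (⟨DihedralGroup.r (k : ZMod 4), 1, false⟩ : W) ∈ S := by
      intro k
      induction k with
      | zero => simpa [H31.DWr.one_def, DihedralGroup.r_zero] using S.one_mem
      | succ k ih =>
        convert S.mul_mem ih hr1 using 1
        rw [mk_mul_false, DihedralGroup.r_mul_r, mul_one, Nat.cast_succ]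
    have hr' : ∀ i : ZMod 4, (⟨DihedralGroup.r i, 1, false⟩ : W) ∈ S := fun i => by
      rw [← ZMod.natCast_zmod_val i]
      exact hr _
    rintro (i | i)
    · exact hr' i
    · convert S.mul_mem he (hr' i) using 1
      rw [e, mk_mul_false, DihedralGroup.sr_mul_r, zero_add, mul_one]
  refine top_le_iff.mp fun w _ => ?_
  obtain ⟨a, b, s⟩ := w
  have key : (⟨a, b, false⟩ : W) ∈ S := by
    have := S.mul_mem (hD a) (S.mul_mem (S.mul_mem ht (hD b)) ht)
    convert this using 1
    simp [t, mk_mul_false, mk_mul_true]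
  cases s
  · exact key
  · convert S.mul_mem key ht using 1
    simp [t, mk_mul_false]

open H31.DWr in
theorem central_in_even : ∀ u : W, u * f = f * u → u * t = t * u →
    u * (e * f * e) = e * f * e * u → u * (e * t * (e * t)) = e * t * (e * t) * u →
    u = 1 ∨ u = z0 := by
  decide +kernel

open H31.DWr in
theorem z0_word : z0 = (e * f) ^ 2 * (t * (e * f) ^ 2 * t) := by decide +kernel

/-- A map of `ZMod 2`-matrices to a field with two elements preserves the elliptic form. -/
theorem exists_transport (K : Type) [Field K] [Fintype K] (hK : Fintype.card K = 2) (a b : K)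
    (hab : ∀ z₁ z₂ : K, z₁ ^ 2 + a * z₁ * z₂ + b * z₂ ^ 2 = 0 → z₁ = 0 ∧ z₂ = 0) :
    ∃ T : ↥OMinus.O6 →* ↥(Cfsg.isometryGroup K (Cfsg.quadFormMinus 2 K a b)),
      Function.Injective T := by
  classical
  let ι := OMinus.Idx
  let σ : ZMod 2 ≃+* K := ZMod.ringEquivOfPrime K Nat.prime_two hK
  have hcases : ∀ k : K, k = 0 ∨ k = 1 := fun k => by
    obtain ⟨c, rfl⟩ := σ.surjective k
    rcases (show ∀ c : ZMod 2, c = 0 ∨ c = 1 by decide) c with rfl | rfl <;> simp
  have h2 : (1 + 1 : K) = 0 := by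
    rw [← map_one σ, ← map_add, show (1 + 1 : ZMod 2) = 0 from by decide, map_zero]
  have hb : b = 1 := (hcases b).resolve_left fun h => by
    have := (hab 0 1 (by simp [h])).2
    exact one_ne_zero this
  have ha : a = 1 := (hcases a).resolve_left fun h => by
    have := (hab 1 1 (by simp [h, hb, h2])).1
    exact one_ne_zero this
  subst hb ha
  let f : ZMod 2 →+* K := σ.toRingHom
  let Φ : GL ι (ZMod 2) →* GL ι K := Matrix.GeneralLinearGroup.map f
  have hform : ∀ u : ι → ZMod 2,
      Cfsg.quadFormMinus 2 K 1 1 (f ∘ u) = f (Cfsg.quadFormMinus 2 (ZMod 2) 1 1 u) := by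
    intro u
    have hsq : ∀ k : K, k ^ 2 = k := fun k => by rcases hcases k with rfl | rfl <;> simp
    simp [Cfsg.quadFormMinus, map_sum, hsq]
  have hmem : ∀ g : ↥OMinus.O6, Φ g ∈ Cfsg.isometryGroup K (Cfsg.quadFormMinus 2 K 1 1) := by
    intro g v _
    obtain ⟨u, rfl⟩ : ∃ u : ι → ZMod 2, f ∘ u = v :=
      ⟨σ.symm ∘ v, funext fun i => σ.apply_symm_apply (v i)⟩
    show Cfsg.quadFormMinus 2 K 1 1
      ((((g : GL ι (ZMod 2)) : Matrix ι ι (ZMod 2)).map f) *ᵥ (f ∘ u)) = _
    rw [show (((g : GL ι (ZMod 2)) : Matrix ι ι (ZMod 2)).map f) *ᵥ (f ∘ u) =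
        f ∘ (((g : GL ι (ZMod 2)) : Matrix ι ι (ZMod 2)) *ᵥ u) from
      (funext fun i => (RingHom.map_mulVec f _ u i).symm), hform]
    show f (Cfsg.quadFormMinus 2 (ZMod 2) 1 1 _) = Cfsg.quadFormMinus 2 K 1 1 (f ∘ u)
    rw [hform]
    exact congrArg f (g.2 u 0)
  refine ⟨(Φ.comp (Subgroup.subtype _)).codRestrict _ hmem, fun g h e => OMinus.elt_ext ?_⟩
  have e' := congrArg (fun z : ↥(Cfsg.isometryGroup K (Cfsg.quadFormMinus 2 K 1 1)) =>
    ((z : GL ι K) : Matrix ι ι K)) e
  ext i j
  exact σ.injective (congrFun (congrFun e' i) j)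

theorem not_dvd_card_isometry (K : Type) [Field K] [Fintype K] (hK : Fintype.card K = 2) (a b : K)
    (hab : ∀ z₁ z₂ : K, z₁ ^ 2 + a * z₁ * z₂ + b * z₂ ^ 2 = 0 → z₁ = 0 ∧ z₂ = 0) :
    ¬ 2 ^ 8 ∣ Nat.card ↥(Cfsg.isometryGroup K (Cfsg.quadFormMinus 2 K a b)) := by
  have := Cfsg.Agent.S0288.result (F := K) hK 3 (by norm_num) a b hab
  rw [show (3 - 1 : ℕ) = 2 from rfl] at this
  rw [this]
  norm_num [Finset.prod_range_succ]

theorem not_dvd_card_psp (F : Type) [Field F] [Fintype F] (hF : Fintype.card F = 3) :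
    ¬ 2 ^ 7 ∣ Nat.card (Cfsg.PSp 2 F) := by
  classical
  intro h
  have h2 : (2 : F) ≠ 0 := by
    intro h0
    haveI : CharP F 3 := by
      haveI : Fact (Nat.Prime 3) := ⟨by norm_num⟩
      exact charP_of_card_eq_prime hF
    have := (CharP.cast_eq_zero_iff F 3 2).mp (by exact_mod_cast h0)
    omega
  have hne : H49.spNegOne (Fin 2) F ≠ 1 := by
    intro e
    have := congrArg (fun g : Matrix.symplecticGroup (Fin 2) F => (g : Matrix (Fin 2 ⊕ Fin 2) (Fin 2 ⊕ Fin 2) F) (Sum.inl 0) (Sum.inl 0)) e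
    simp [H49.spNegOne] at this
    exact h2 (by linear_combination (-1 : F) * this)
  have hz : 2 ∣ Nat.card (Subgroup.center (Matrix.symplecticGroup (Fin 2) F)) := by
    have h1 : orderOf (H49.spNegOne (Fin 2) F) = 2 :=
      orderOf_eq_prime (by rw [sq]; exact H49.spNegOne_mul_self) hne
    exact (dvd_of_eq h1.symm).trans (Subgroup.orderOf_dvd_natCard _ H49.spNegOne_mem_center)
  have h8 : 2 ^ 8 ∣ Nat.card (Matrix.symplecticGroup (Fin 2) F) := by
    rw [Subgroup.card_eq_card_quotient_mul_card_subgroup (Subgroup.center (Matrix.symplecticGroup (Fin 2) F))]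
    exact mul_dvd_mul h hz
  have hval := H18.val_card_sp (F := F) (by rw [hF]; decide) 2
  rw [hF] at hval
  have h9 := (Nat.Prime.pow_dvd_iff_le_factorization Nat.prime_two Nat.card_pos.ne').mp h8
  have e1 : (3 ^ 2 - 1 : ℕ).factorization 2 = 3 := by
    rw [show (3 ^ 2 - 1 : ℕ) = 2 ^ 3 from rfl, Nat.Prime.factorization_pow Nat.prime_two]
    simp
  have e2 : Nat.factorization (Nat.factorial 2) 2 = 1 := by
    rw [show Nat.factorial 2 = 2 from rfl, Nat.Prime.factorization_self Nat.prime_two]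
  omega

open H31.DWr in
theorem main (F : Type) [Field F] [Fintype F] (hF : Fintype.card F = 3)
    (P : Sylow 2 ↥(alternatingGroup (Fin 8))) (Q : Sylow 2 (Cfsg.PSp 2 F)) :
    Nonempty (↥(P : Subgroup ↥(alternatingGroup (Fin 8))) ≃* ↥(Q : Subgroup (Cfsg.PSp 2 F))) := by
  classical
  obtain ⟨ψ, hψ, ψe, ψf, ψt⟩ := nonempty_mulEquiv (G := Equiv.Perm (Fin 8)) (Equiv.swap 0 1)
    (Equiv.swap 0 2 * Equiv.swap 1 3)
    (Equiv.swap 0 4 * Equiv.swap 1 5 * Equiv.swap 2 6 * Equiv.swap 3 7)
    (by decide) (by decide) (by decide) (by decide) (by decide) (by decide) (by decide) (by decide)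
  obtain ⟨φ, hφ, φe, φf, φt⟩ := OMinus.exists_hom
  let χ : W →* ℤˣ := Equiv.Perm.sign.comp ψ
  have χe : χ e = -1 := by
    show Equiv.Perm.sign (ψ e) = -1
    rw [ψe]; decide
  have χf : χ f = 1 := by
    show Equiv.Perm.sign (ψ f) = 1
    rw [ψf]; decide
  have χt : χ t = 1 := by
    show Equiv.Perm.sign (ψ t) = 1
    rw [ψt]; decide
  -- the even part has order 64
  have hcard : Nat.card χ.ker = 2 ^ 6 := by
    have hsurj : Function.Surjective χ := fun u => by
      rcases Int.units_eq_one_or u with rfl | rfl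
      · exact ⟨1, map_one _⟩
      · exact ⟨e, χe⟩
    have h1 := χ.ker.card_mul_index
    rw [Subgroup.index_ker, MonoidHom.range_eq_top.mpr hsurj, Subgroup.card_top,
      Nat.card_eq_fintype_card (α := ℤˣ), Fintype.card_units_int, card_W] at h1
    omega
  -- its image lies in the commutator subgroup
  have hN : (commutator ↥OMinus.O6).Normal := inferInstance
  have key : ∀ u : W, (χ u = 1 → φ u ∈ commutator ↥OMinus.O6) ∧
      (χ u = -1 → φ (e * u) ∈ commutator ↥OMinus.O6) := by
    intro u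
    have hpp : OMinus.p * OMinus.p = 1 := by decide +kernel
    have he2 : (e : W) * e = 1 := by decide
    induction (show u ∈ Subgroup.closure ({e, f, t} : Set W) from closure_gens ▸ Subgroup.mem_top u)
      using Subgroup.closure_induction_left with
    | one => exact ⟨fun _ => by rw [map_one]; exact one_mem _, fun h => by simp at h⟩
    | mul_left g hg v _ ih =>
      rcases hg with rfl | rfl | rfl
      · refine ⟨fun h => ih.2 ?_, fun h => ?_⟩
        · rw [map_mul, χe, neg_one_mul, neg_eq_iff_eq_neg] at h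
          exact h
        · rw [← mul_assoc, he2, one_mul]
          refine ih.1 ?_
          rw [map_mul, χe, neg_one_mul, neg_inj] at h
          exact h
      · refine ⟨fun h => ?_, fun h => ?_⟩
        · rw [map_mul, φf]
          rw [map_mul, χf, one_mul] at h
          exact mul_mem OMinus.q_mem (ih.1 h)
        · rw [map_mul, χf, one_mul] at h
          rw [show e * (f * v) = e * f * e⁻¹ * (e * v) by group, map_mul, map_mul, map_mul, φe, φf,
            map_inv, φe]
          exact mul_mem (hN.conj_mem _ OMinus.q_mem _) (ih.2 h)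
      · refine ⟨fun h => ?_, fun h => ?_⟩
        · rw [map_mul, φt]
          rw [map_mul, χt, one_mul] at h
          exact mul_mem OMinus.x_mem (ih.1 h)
        · rw [map_mul, χt, one_mul] at h
          rw [show e * (t * v) = e * t * e⁻¹ * (e * v) by group, map_mul, map_mul, map_mul, φe, φt,
            map_inv, φe]
          exact mul_mem (hN.conj_mem _ OMinus.x_mem _) (ih.2 h)
    | inv_mul_cancel g hg v _ ih =>
      have hg1 : g⁻¹ = g := by
        rcases hg with rfl | rfl | rfl <;> decide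
      rw [hg1]
      rcases hg with rfl | rfl | rfl
      · refine ⟨fun h => ih.2 ?_, fun h => ?_⟩
        · rw [map_mul, χe, neg_one_mul, neg_eq_iff_eq_neg] at h
          exact h
        · rw [← mul_assoc, he2, one_mul]
          refine ih.1 ?_
          rw [map_mul, χe, neg_one_mul, neg_inj] at h
          exact h
      · refine ⟨fun h => ?_, fun h => ?_⟩
        · rw [map_mul, φf]
          rw [map_mul, χf, one_mul] at h
          exact mul_mem OMinus.q_mem (ih.1 h)
        · rw [map_mul, χf, one_mul] at h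
          rw [show e * (f * v) = e * f * e⁻¹ * (e * v) by group, map_mul, map_mul, map_mul, φe, φf,
            map_inv, φe]
          exact mul_mem (hN.conj_mem _ OMinus.q_mem _) (ih.2 h)
      · refine ⟨fun h => ?_, fun h => ?_⟩
        · rw [map_mul, φt]
          rw [map_mul, χt, one_mul] at h
          exact mul_mem OMinus.x_mem (ih.1 h)
        · rw [map_mul, χt, one_mul] at h
          rw [show e * (t * v) = e * t * e⁻¹ * (e * v) by group, map_mul, map_mul, map_mul, φe, φt,
            map_inv, φe]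
          exact mul_mem (hN.conj_mem _ OMinus.x_mem _) (ih.2 h)
  let φ0 : χ.ker →* ↥(Cfsg.Omega (ZMod 2) OMinus.form) :=
    (φ.comp χ.ker.subtype).codRestrict _ fun u => (key u).1 u.2
  let π : χ.ker →* Cfsg.POmega (ZMod 2) OMinus.form :=
    (QuotientGroup.mk' _).comp φ0
  have hπ : Function.Injective π := by
    refine (injective_iff_map_eq_one π).mpr fun u hu => ?_
    rw [MonoidHom.comp_apply, QuotientGroup.mk'_apply, QuotientGroup.eq_one_iff] at hu
    have hcomm : ∀ m : ↥OMinus.O6, m ∈ commutator ↥OMinus.O6 → φ u * m = m * φ u := fun m hm =>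
      (congrArg Subtype.val (Subgroup.mem_center_iff.mp hu ⟨m, hm⟩)).symm
    have hc : ∀ v : W, χ v = 1 → (u : W) * v = v * u := fun v hv => hφ (by
      rw [map_mul, map_mul]; exact hcomm _ ((key v).1 hv))
    rcases central_in_even u (hc f χf) (hc t χt) (hc _ (by simp [χe, χf]))
      (hc _ (by simp [χe, χt])) with h | h
    · exact Subtype.ext h
    · exfalso
      have h1 := hcomm (OMinus.w * OMinus.q * OMinus.w⁻¹) (hN.conj_mem _ OMinus.q_mem _)
      rw [h, z0_word] at h1
      simp only [map_mul, map_pow, φe, φf, φt] at h1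
      exact OMinus.w_not_comm h1.symm
  -- the identifications
  let K := GaloisField 2 2
  haveI : Fintype K := Fintype.ofFinite K
  have hK : Fintype.card K = 4 := by
    rw [← Nat.card_eq_fintype_card, GaloisField.card 2 2 (by norm_num)]; rfl
  obtain ⟨e1⟩ := Cfsg.Agent.S0303.result (F := ZMod 2) (K := K) (q := 2) (ZMod.card 2)
    (by rw [hK]; rfl) 1 1 (by decide)
  obtain ⟨e2⟩ := Cfsg.Agent.S0822.result (F := K) (K := F) hK hF
  obtain ⟨i1⟩ := sylow_equiv hcard ((e2.toMonoidHom.comp e1.toMonoidHom).comp π)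
    (e2.injective.comp (e1.injective.comp hπ)) (not_dvd_card_psp F hF) Q
  let ψ0 : χ.ker →* ↥(alternatingGroup (Fin 8)) :=
    (ψ.comp χ.ker.subtype).codRestrict _ fun u => Equiv.Perm.mem_alternatingGroup.mpr u.2
  have hψ0 : Function.Injective ψ0 := fun u v h =>
    Subtype.ext (hψ (congrArg Subtype.val h))
  have hA : ¬ 2 ^ (6 + 1) ∣ Nat.card ↥(alternatingGroup (Fin 8)) := by
    have h1 := two_mul_nat_card_alternatingGroup (α := Fin 8)
    rw [Nat.card_perm, Nat.card_fin] at h1
    have h2 : Nat.card ↥(alternatingGroup (Fin 8)) = 20160 := by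
      rw [show Nat.factorial 8 = 40320 from rfl] at h1; omega
    rw [h2]; norm_num
  obtain ⟨i2⟩ := sylow_equiv hcard ψ0 hψ0 hA P
  exact ⟨i2.symm.trans i1⟩

end H77.SylowEight
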