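import Cfsg.Agent.H63.SylowTwoMaximal
import Cfsg.Agent.CompLayer
import Mathlib

/-!
Subgroups of symmetric groups whose three-cycles move all but two points: if the generalized
Fitting subgroup is quasisimple, it is the alternating group on the points moved by three-cycles.
-/

set_option autoImplicit false
open Cfsg Equiv Equiv.Perm
open scoped commutatorElement

namespace H77.Blocks

variable {α : Type*} [DecidableEq α]

open H63 (cyc cyc_apply_first cyc_apply_second cyc_apply_third cyc_apply_of_ne cyc_conj cyc_rotate)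

theorem cyc_inv (a b c : α) : (cyc a b c)⁻¹ = cyc c b a := by
  simp [cyc, mul_inv_rev, swap_comm]

theorem cyc_join {H : Subgroup (Perm α)} {a b c x y : α} (hab : a ≠ b) (hac : a ≠ c) (hbc : b ≠ c)
    (hax : a ≠ x) (hbx : b ≠ x) (hay : a ≠ y) (hcy : c ≠ y)
    (h : cyc a b x ∈ H) (g : cyc a c y ∈ H) : cyc a b c ∈ H := by
  by_cases hxc : x = c
  · rwa [← hxc]
  by_cases hyb : y = b
  · subst hyb
    rw [← inv_inv (cyc a y c), cyc_inv, cyc_rotate hbc.symm hac.symm hab.symm,
      cyc_rotate hab.symm hbc hac]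
    exact H.inv_mem g
  have k := H.mul_mem (H.mul_mem g h) (H.inv_mem g)
  rw [cyc_conj, cyc_apply_first hac hay, cyc_apply_of_ne hab.symm hbc (Ne.symm hyb)] at k
  by_cases hxy : x = y
  · subst hxy
    rw [cyc_apply_third] at k
    rw [← inv_inv (cyc a b c), cyc_inv]
    exact H.inv_mem k
  rw [cyc_apply_of_ne hax.symm hxc hxy] at k
  have m := H.mul_mem (H.mul_mem (H.inv_mem k) h) (H.inv_mem (H.inv_mem k))
  rw [cyc_inv, cyc_conj, cyc_apply_of_ne hax hab hac, cyc_apply_second hxc hbc,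
    cyc_apply_first hbx.symm hxc] at m
  rw [← inv_inv (cyc a b c), cyc_inv, cyc_rotate hbc.symm hac.symm hab.symm,
    cyc_rotate hab.symm hbc hac]
  exact H.inv_mem m

/-- `a` and `b` are equal or lie in the support of a common three-cycle of `H`. -/
def Rel (H : Subgroup (Perm α)) (a b : α) : Prop :=
  a = b ∨ ∃ x, a ≠ b ∧ a ≠ x ∧ b ≠ x ∧ cyc a b x ∈ H

variable {H : Subgroup (Perm α)}

theorem rel_of_cyc {a b c : α} (hab : a ≠ b) (hac : a ≠ c) (hbc : b ≠ c) (h : cyc a b c ∈ H) :
    Rel H a b ∧ Rel H b c ∧ Rel H c a :=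
  ⟨.inr ⟨c, hab, hac, hbc, h⟩,
    .inr ⟨a, hbc, hab.symm, hac.symm, cyc_rotate hab hac hbc ▸ h⟩,
    .inr ⟨b, hac.symm, hbc.symm, hab,
      cyc_rotate hbc hab.symm hac.symm ▸ cyc_rotate hab hac hbc ▸ h⟩⟩

theorem rel_symm {a b : α} (h : Rel H a b) : Rel H b a := by
  obtain rfl | ⟨x, hab, hax, hbx, h⟩ := h
  · exact .inl rfl
  refine .inr ⟨x, hab.symm, hbx, hax, ?_⟩
  rw [← inv_inv (cyc b a x), cyc_inv, cyc_rotate hax.symm hbx.symm hab]
  exact H.inv_mem h

theorem cyc_mem_of_rel {a b c : α} (hab : a ≠ b) (hac : a ≠ c) (hbc : b ≠ c)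
    (h1 : Rel H a b) (h2 : Rel H a c) : cyc a b c ∈ H := by
  obtain ⟨x, -, hax, hbx, h⟩ := h1.resolve_left hab
  obtain ⟨y, -, hay, hcy, g⟩ := h2.resolve_left hac
  exact cyc_join hab hac hbc hax hbx hay hcy h g

theorem rel_trans {a b c : α} (h1 : Rel H a b) (h2 : Rel H b c) : Rel H a c := by
  rcases eq_or_ne a b with rfl | hab
  · exact h2
  rcases eq_or_ne b c with rfl | hbc
  · exact h1
  rcases eq_or_ne a c with rfl | hac
  · exact .inl rfl
  have := cyc_mem_of_rel hab.symm hbc hac (rel_symm h1) h2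
  exact (rel_of_cyc hab.symm hbc hac this).2.1

theorem rel_map {g : Perm α} (hg : g ∈ H) {a b : α} (h : Rel H a b) : Rel H (g a) (g b) := by
  obtain rfl | ⟨x, hab, hax, hbx, h⟩ := h
  · exact .inl rfl
  refine .inr ⟨g x, g.injective.ne hab, g.injective.ne hax, g.injective.ne hbx, ?_⟩
  rw [← cyc_conj]
  exact H.mul_mem (H.mul_mem hg h) (H.inv_mem hg)

variable [Fintype α]

/-- Even permutations of a block lie in every subgroup containing the three-cycles of the block. -/
theorem even_mem {K : Subgroup (Perm α)} {p : α → Prop} [DecidablePred p]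
    (hK : ∀ a b c, p a → p b → p c → a ≠ b → a ≠ c → b ≠ c → cyc a b c ∈ K) {t : Perm α}
    (ht : sign t = 1) (hfix : ∀ x, t x ≠ x → p x) : t ∈ K := by
  have h1 : alternatingGroup {x // p x} ≤ K.comap (ofSubtype : Perm {x // p x} →* Perm α) := by
    refine H63.alternating_le_of_cyc fun a b c hab hac hbc => ?_
    rw [Subgroup.mem_comap, cyc, map_mul, ofSubtype_swap_eq, ofSubtype_swap_eq]
    exact hK _ _ _ a.2 b.2 c.2 (fun h => hab (Subtype.ext h)) (fun h => hac (Subtype.ext h))
      (fun h => hbc (Subtype.ext h))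
  have hp : ∀ x, p (t x) ↔ p x := by
    intro x
    by_cases hx : t x = x
    · rw [hx]
    · exact iff_of_true (hfix _ fun h => hx (t.injective h)) (hfix _ hx)
  have h2 := @h1 (t.subtypePerm hp)
    (mem_alternatingGroup.mpr (by rw [← sign_ofSubtype, ofSubtype_subtypePerm hp hfix, ht]))
  rwa [Subgroup.mem_comap, ofSubtype_subtypePerm hp hfix] at h2

open scoped Classical in
/-- The block of `a`. -/
noncomputable def blk (H : Subgroup (Perm α)) (a : α) : Finset α :=
  Finset.univ.filter (Rel H a)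

theorem mem_blk {a b : α} : b ∈ blk H a ↔ Rel H a b := by
  classical
  simp [blk]

theorem self_mem_blk (a : α) : a ∈ blk H a := mem_blk.mpr (.inl rfl)

theorem rel_of_mem_blk {a b c : α} (hb : b ∈ blk H a) (hc : c ∈ blk H a) : Rel H b c :=
  rel_trans (rel_symm (mem_blk.mp hb)) (mem_blk.mp hc)

theorem blk_eq {a b : α} (h : b ∈ blk H a) : blk H b = blk H a :=
  Finset.ext fun _ => ⟨fun hc => mem_blk.mpr (rel_trans (mem_blk.mp h) (mem_blk.mp hc)),
    fun hc => mem_blk.mpr (rel_of_mem_blk h hc)⟩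

theorem mem_blk_map {g : Perm α} (hg : g ∈ H) {a b : α} :
    g b ∈ blk H (g a) ↔ b ∈ blk H a := by
  rw [mem_blk, mem_blk]
  refine ⟨fun h => ?_, rel_map hg⟩
  simpa using rel_map (H.inv_mem hg) h

omit [Fintype α] in
theorem small_commute {U : Finset α} (hU : U.card ≤ 2) {s t : Perm α}
    (hs : ∀ x ∉ U, s x = x) (ht : ∀ x ∉ U, t x = x) : Commute s t := by
  have key : ∀ r : Perm α, (∀ x ∉ U, r x = x) → r ≠ 1 → ∀ x ∈ U, r x ∈ U.erase x := by
    intro r hr hne x hx
    refine Finset.mem_erase.mpr ⟨fun hfx => hne (Perm.ext fun y => ?_), ?_⟩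
    · by_contra hy
      have hyU : y ∈ U := by_contra fun h => hy (hr y h)
      have hryU : r y ∈ U := by_contra fun h => hy (r.injective (hr _ h))
      have h3 : ({x, y, r y} : Finset α) ⊆ U := by
        simp [Finset.insert_subset_iff, hx, hyU, hryU]
      have h4 : ({x, y, r y} : Finset α).card = 3 := by
        rw [Finset.card_eq_three]
        refine ⟨x, y, r y, fun h => hy ?_, fun h => hy ?_, fun h => hy h.symm, rfl⟩
        · rw [← h]; exact hfx
        · have := r.injective (hfx.trans h); rw [← this]; exact hfx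
      have := Finset.card_le_card h3
      omega
    · by_contra h
      rw [r.injective (hr _ h)] at h
      exact h hx
  by_cases h1 : s = 1
  · rw [h1]; exact Commute.one_left _
  by_cases h2 : t = 1
  · rw [h2]; exact Commute.one_right _
  have : s = t := by
    ext x
    by_cases hx : x ∈ U
    · refine Finset.card_le_one.mp ?_ _ (key s hs h1 x hx) _ (key t ht h2 x hx)
      rw [Finset.card_erase_of_mem hx]
      omega
    · rw [hs x hx, ht x hx]
  rw [this]

theorem even_fpf_commute_fin : ∀ k ≤ 4, ∀ s t : Perm (Fin k), sign s = 1 → sign t = 1 →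
    (∀ i, s i ≠ i) → (∀ i, t i ≠ i) → s * t = t * s := by
  intro k hk
  interval_cases k <;> decide +kernel

theorem even_commute_of_support {s : Finset α} (hs : s.card ≤ 4) {u v : Perm α}
    (hu : sign u = 1) (hv : sign v = 1) (hu' : ∀ x, u x ≠ x ↔ x ∈ s)
    (hv' : ∀ x, v x ≠ x ↔ x ∈ s) : Commute u v := by
  have mk : ∀ w : Perm α, sign w = 1 → (∀ x, w x ≠ x ↔ x ∈ s) →
      ∃ w' : Perm (Fin s.card), ofSubtype (s.equivFin.symm.permCongrHom w') = w ∧ sign w' = 1 ∧
        ∀ i, w' i ≠ i := by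
    intro w hw hw'
    have hp : ∀ x, w x ∈ s ↔ x ∈ s := fun x => by
      rw [← hw', ← hw']
      exact ⟨fun h h' => h (by rw [h', h']), fun h h' => h (w.injective h')⟩
    have he : ofSubtype (w.subtypePerm hp) = w :=
      ofSubtype_subtypePerm hp fun x hx => (hw' x).mp hx
    refine ⟨s.equivFin.permCongrHom (w.subtypePerm hp), ?_, ?_, fun i h => ?_⟩
    · rw [show s.equivFin.symm.permCongrHom (s.equivFin.permCongrHom (w.subtypePerm hp)) =
          w.subtypePerm hp from Perm.ext fun x => by simp [Equiv.permCongrHom]]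
      exact he
    · simp only [Equiv.permCongrHom, MulEquiv.coe_mk, sign_permCongr]
      rw [← sign_ofSubtype, he, hw]
    · apply (hw' (s.equivFin.symm i)).mpr (s.equivFin.symm i).2
      have := congrArg (fun j => ((s.equivFin.symm j : {x // x ∈ s}) : α)) h
      simpa [Equiv.permCongrHom] using this
  obtain ⟨u', rfl, h1, h2⟩ := mk u hu hu'
  obtain ⟨v', rfl, h3, h4⟩ := mk v hv hv'
  exact ((show Commute u' v' from even_fpf_commute_fin _ hs u' v' h1 h3 h2 h4).map _).map _

theorem isQuasisimple_alternating {β : Type*} [Fintype β] [DecidableEq β]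
    (h : 5 ≤ Fintype.card β) : IsQuasisimple (alternatingGroup β) := by
  have h4 : 4 ≤ Nat.card β := by rw [Nat.card_eq_fintype_card]; omega
  have := alternatingGroup.isSimpleGroup (α := β) (by rw [Nat.card_eq_fintype_card]; omega)
  have hc := alternatingGroup.center_eq_bot (α := β) h4
  refine Cfsg.Comp.isQuasisimple_of_dichotomy ?_ fun N hN => ?_
  · refine (Subgroup.Normal.eq_bot_or_eq_top inferInstance).resolve_left fun h' => ?_
    have := (Subgroup.commutator_eq_bot_iff_le_centralizer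
      (H₁ := (⊤ : Subgroup (alternatingGroup β))) (H₂ := ⊤)).mp h'
    rw [Subgroup.coe_top, Subgroup.centralizer_univ, hc] at this
    exact top_ne_bot (le_bot_iff.mp this)
  · exact (hN.eq_bot_or_eq_top).symm.imp id fun h' => by simp [h']

open scoped Classical in
/-- The points outside all three-cycles of `H`. -/
noncomputable def uncov (H : Subgroup (Perm α)) : Finset α :=
  Finset.univ.filter fun x => ∀ y, Rel H x y → y = x

theorem notMem_uncov {x : α} : x ∉ uncov H ↔ ∃ y, y ≠ x ∧ Rel H x y := by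
  classical
  simp only [uncov, Finset.mem_filter, Finset.mem_univ, true_and]
  push Not
  exact exists_congr fun y => and_comm

theorem notMem_uncov_map {g : Perm α} (hg : g ∈ H) {x : α} (hx : x ∉ uncov H) :
    g x ∉ uncov H := by
  obtain ⟨y, hy, h⟩ := notMem_uncov.mp hx
  exact notMem_uncov.mpr ⟨g y, g.injective.ne hy, rel_map hg h⟩

theorem small_fix (hF : IsQuasisimple ↥(generalizedFittingSubgroup ↥H))
    (hsmall : ∀ x, (blk H x).card ≤ 4) :
    ∀ l ∈ generalizedFittingSubgroup ↥H, ∀ x ∉ uncov H, (l : Perm α) x = x := by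
  set L := generalizedFittingSubgroup ↥H with hL
  let T : Set H := {t | sign (t : Perm α) = 1 ∧
    ∃ x, ∀ y, (t : Perm α) y ≠ y ↔ y ∈ blk H x}
  have hconj : ∀ t ∈ Group.conjugatesOfSet T, t ∈ T := by
    intro t ht
    obtain ⟨u, ⟨hu1, x, hx⟩, g, hg⟩ := by
      rwa [Group.mem_conjugatesOfSet_iff] at ht
    have he : t = g * u * (g : H)⁻¹ := by rw [hg.eq, mul_inv_cancel_right]
    subst he
    refine ⟨?_, ((g : H) : Perm α) x, fun y => ?_⟩
    · simp [hu1]
    · obtain ⟨z, rfl⟩ := ((g : H) : Perm α).surjective y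
      rw [mem_blk_map (g : H).2, ← hx z]
      simp
  have hcomm : ∀ u ∈ T, ∀ v ∈ T, Commute u v := by
    rintro u ⟨hu1, x, hx⟩ v ⟨hv1, x', hx'⟩
    have : Commute (u : Perm α) v := by
      by_cases h : x' ∈ blk H x
      · rw [blk_eq h] at hx'
        exact even_commute_of_support (hsmall x) hu1 hv1 hx hx'
      · refine Perm.Disjoint.commute fun y => ?_
        by_contra hy
        push Not at hy
        exact h (mem_blk.mpr (rel_trans (mem_blk.mp ((hx y).mp hy.1))
          (rel_symm (mem_blk.mp ((hx' y).mp hy.2)))))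
    exact Subtype.ext this
  set A := Subgroup.normalClosure T with hA
  have hAcomm : ∀ a ∈ A, ∀ b ∈ A, Commute a b := by
    have h1 : A ≤ Subgroup.centralizer (Group.conjugatesOfSet T) :=
      (Subgroup.closure_le _).mpr fun u hu => Subgroup.mem_centralizer_iff.mpr fun v hv =>
        hcomm v (hconj v hv) u (hconj u hu)
    have h2 : A ≤ Subgroup.centralizer (A : Set H) :=
      (Subgroup.closure_le _).mpr fun u hu => Subgroup.mem_centralizer_iff.mpr fun a ha =>
        ((Subgroup.mem_centralizer_iff.mp (h1 ha)) u hu).symm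
    exact fun a ha b hb => Subgroup.mem_centralizer_iff.mp (h2 hb) a ha
  have : A.Normal := Subgroup.normalClosure_normal
  have hAL : A ≤ L := by
    refine le_trans (Cfsg.Comp.le_fittingSubgroup inferInstance
      (Cfsg.Comp.isNilpotent_of_commutator_commutator ?_)) Cfsg.Comp.fitting_le_fStar
    have : ⁅A, A⁆ = ⊥ := Subgroup.commutator_eq_bot_iff_le_centralizer.mpr fun a ha =>
      Subgroup.mem_centralizer_iff.mpr fun b hb => hAcomm b hb a ha
    rw [this, Subgroup.commutator_bot_left]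
  have hAZ : A.subgroupOf L ≤ Subgroup.center L := by
    refine (Cfsg.Comp.normal_eq_top_or_le_center hF inferInstance).resolve_left fun htop => ?_
    refine Cfsg.Comp.not_isMulCommutative_of_quasisimple hF ⟨⟨fun a b => Subtype.ext ?_⟩⟩
    have hle := Subgroup.subgroupOf_eq_top.mp htop
    exact hAcomm a (hle a.2) b (hle b.2)
  have hLA : ∀ l ∈ L, ∀ a ∈ A, ∀ y, (l : Perm α) ((a : Perm α) y) = (a : Perm α) ((l : Perm α) y) := by
    intro l hl a ha y
    have h1 := Subgroup.mem_center_iff.mp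
      (hAZ (x := ⟨a, hAL ha⟩) (Subgroup.mem_subgroupOf.mpr ha)) ⟨l, hl⟩
    have h2 := congrArg (fun z : L => (((z : H) : Perm α)) y) h1
    simpa using h2
  have hgen : ∀ x ∉ uncov H, ∀ y ∈ blk H x, y ≠ x → ∃ t ∈ T, (t : Perm α) x = y := by
    intro x hx y hy hyx
    obtain ⟨z, -, hxz, hyz, hz⟩ := (mem_blk.mp hy).resolve_left (Ne.symm hyx)
    have hzb : z ∈ blk H x :=
      mem_blk.mpr (rel_trans (mem_blk.mp hy) (rel_of_cyc (Ne.symm hyx) hxz hyz hz).2.1)
    have h3 : ({x, y, z} : Finset α) ⊆ blk H x := by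
      simp [Finset.insert_subset_iff, self_mem_blk, hy, hzb]
    by_cases he : blk H x = {x, y, z}
    · refine ⟨⟨_, hz⟩, ⟨?_, x, fun w => ?_⟩, cyc_apply_first (Ne.symm hyx) hxz⟩
      · exact (H63.isThreeCycle_cyc (Ne.symm hyx) hxz hyz).sign
      · show cyc x y z w ≠ w ↔ _
        rw [he]
        simp only [Finset.mem_insert, Finset.mem_singleton]
        constructor
        · intro h
          by_contra hc
          push Not at hc
          exact h (cyc_apply_of_ne hc.1 hc.2.1 hc.2.2)
        · rintro (rfl | rfl | rfl)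
          · rw [cyc_apply_first (Ne.symm hyx) hxz]; exact hyx
          · rw [cyc_apply_second hxz hyz]; exact hyz.symm
          · rw [cyc_apply_third]; exact hxz
    · obtain ⟨w, hw, hw'⟩ := Finset.not_subset.mp fun h => he (h.antisymm h3)
      simp only [Finset.mem_insert, Finset.mem_singleton, not_or] at hw'
      obtain ⟨hwx, hwy, hwz⟩ := hw'
      have h4 : blk H x = {x, y, z, w} := by
        refine (Finset.eq_of_subset_of_card_le ?_ ?_).symm
        · simp [Finset.insert_subset_iff, self_mem_blk, hy, hzb, hw]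
        · refine (hsmall x).trans_eq ?_
          simp [hyx.symm, hxz, hyz, (Ne.symm hwx), (Ne.symm hwy), (Ne.symm hwz)]
      have hm : cyc x y z * cyc y z w ∈ H := H.mul_mem hz
        (cyc_mem_of_rel hyz (Ne.symm hwy) (Ne.symm hwz) (rel_of_mem_blk hy hzb) (rel_of_mem_blk hy hw))
      refine ⟨⟨_, hm⟩, ⟨?_, x, fun v => ?_⟩, ?_⟩
      · rw [map_mul, (H63.isThreeCycle_cyc (Ne.symm hyx) hxz hyz).sign,
          (H63.isThreeCycle_cyc hyz (Ne.symm hwy) (Ne.symm hwz)).sign, one_mul]
      · show (cyc x y z * cyc y z w) v ≠ v ↔ _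
        rw [h4, Perm.mul_apply]
        simp only [Finset.mem_insert, Finset.mem_singleton]
        constructor
        · intro h
          by_contra hc
          push Not at hc
          rw [cyc_apply_of_ne hc.2.1 hc.2.2.1 hc.2.2.2, cyc_apply_of_ne hc.1 hc.2.1 hc.2.2.1] at h
          exact h rfl
        · rintro (rfl | rfl | rfl | rfl)
          · rw [cyc_apply_of_ne (Ne.symm hyx) hxz (Ne.symm hwx), cyc_apply_first (Ne.symm hyx) hxz]
            exact hyx
          · rw [cyc_apply_first hyz (Ne.symm hwy), cyc_apply_third]; exact hyx.symm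
          · rw [cyc_apply_second (Ne.symm hwy) (Ne.symm hwz), cyc_apply_of_ne hwx hwy hwz]; exact hwz
          · rw [cyc_apply_third, cyc_apply_second hxz hyz]; exact (Ne.symm hwz)
      · show (cyc x y z * cyc y z w) x = y
        rw [Perm.mul_apply, cyc_apply_of_ne (Ne.symm hyx) hxz (Ne.symm hwx),
          cyc_apply_first (Ne.symm hyx) hxz]
  have hmove : ∀ l ∈ L, ∀ x ∉ uncov H, (l : Perm α) x ∈ blk H x := by
    intro l hl x hx
    obtain ⟨y, hyx, hy⟩ := notMem_uncov.mp hx
    obtain ⟨t, ⟨ht1, x', hx'⟩, hty⟩ := hgen x hx y (mem_blk.mpr hy) hyx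
    have hxx' : x ∈ blk H x' := (hx' x).mp (by rw [hty]; exact hyx)
    rw [blk_eq hxx']
    refine (hx' _).mp fun h => ?_
    rw [← hLA l hl t (Subgroup.subset_normalClosure ⟨ht1, x', hx'⟩), hty] at h
    exact hyx ((l : Perm α).injective h)
  have hin : ∀ l ∈ L, ∀ x ∉ uncov H, ∃ a ∈ A, (l : Perm α) x = (a : Perm α) x := by
    intro l hl x hx
    by_cases h : (l : Perm α) x = x
    · exact ⟨1, A.one_mem, by simpa using h⟩
    · obtain ⟨t, ht, htx⟩ := hgen x hx _ (hmove l hl x hx) h
      exact ⟨t, Subgroup.subset_normalClosure ht, htx.symm⟩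
  have hswap : ∀ l ∈ L, ∀ m ∈ L, ∀ x ∉ uncov H,
      (l : Perm α) ((m : Perm α) x) = (m : Perm α) ((l : Perm α) x) := by
    intro l hl m hm x hx
    obtain ⟨a, ha, hax⟩ := hin l hl x hx
    obtain ⟨b, hb, hbx⟩ := hin m hm x hx
    rw [hbx, hLA l hl b hb, hax, hLA m hm a ha, hbx]
    have := congrArg (fun z : H => (z : Perm α) x) (hAcomm b hb a ha)
    simpa using this
  let K : Subgroup L :=
    { carrier := {l | ∀ x ∉ uncov H, ((l : H) : Perm α) x = x}
      one_mem' := fun x _ => by simp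
      mul_mem' := fun {a b} ha hb x hx => by simp [hb x hx, ha x hx]
      inv_mem' := fun {a} ha x hx => by
        conv_lhs => rw [← ha x hx]
        simp }
  have hK : commutator L ≤ K := by
    rw [commutator_def, Subgroup.commutator_le]
    intro l _ m _ x hx
    show ((⁅l, m⁆ : L) : H).1 x = x
    have h1 := notMem_uncov_map (((m : H) * l)⁻¹).2 hx
    set z := (((((m : H) * l)⁻¹ : H)) : Perm α) x with hz
    have h2 := hswap l l.2 m m.2 z h1
    have h3 : ((m : H) : Perm α) (((l : H) : Perm α) z) = x := by rw [hz]; simp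
    rw [h3] at h2
    simpa [commutatorElement_def, hz] using h2
  rw [Cfsg.Comp.perfect_of_quasisimple hF, top_le_iff] at hK
  exact fun l hl => (show (⟨l, hl⟩ : L) ∈ K from hK ▸ Subgroup.mem_top _)

theorem small_blocks (hF : IsQuasisimple ↥(generalizedFittingSubgroup ↥H))
    (hU : (uncov H).card ≤ 2) (hsmall : ∀ x, (blk H x).card ≤ 4) : False := by
  have hfix := small_fix hF hsmall
  exact Cfsg.Comp.not_isMulCommutative_of_quasisimple hF ⟨⟨fun l m => Subtype.ext (Subtype.ext
    (small_commute hU (hfix l l.2) (hfix m m.2)).eq)⟩⟩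

/-- A block with at least five points carries the whole of `F*(H)`. -/
theorem fStar_block (hF : IsQuasisimple ↥(generalizedFittingSubgroup ↥H)) {x₀ : α}
    (hx₀ : 4 < (blk H x₀).card) :
    (∀ x ∉ blk H x₀, x ∈ uncov H) ∧ (∀ g ∈ H, ∀ x, g x ∈ blk H x₀ ↔ x ∈ blk H x₀) ∧
      (∀ g ∈ H, (∀ x ∈ blk H x₀, g x = x) → g = 1) ∧
      Nonempty (↥(generalizedFittingSubgroup ↥H) ≃*
        ↥(alternatingGroup {x // x ∈ blk H x₀})) := by
  set s := blk H x₀ with hs
  set L := generalizedFittingSubgroup ↥H with hL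
  set D : Subgroup (Perm α) :=
    (alternatingGroup {x // x ∈ s}).map (ofSubtype : Perm {x // x ∈ s} →* Perm α) with hD
  have hfix : ∀ t ∈ D, sign t = 1 ∧ ∀ x, x ∉ s → t x = x := by
    rintro _ ⟨u, hu, rfl⟩
    exact ⟨by rw [sign_ofSubtype]; exact mem_alternatingGroup.mp hu,
      fun x hx => ofSubtype_apply_of_not_mem u hx⟩
  have hmemD : ∀ t : Perm α, sign t = 1 → (∀ x, x ∉ s → t x = x) → t ∈ D := by
    intro t ht hf
    refine even_mem (p := fun x => x ∈ s) (fun a b c ha hb hc hab hac hbc => ?_) ht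
      fun x hx => by_contra fun h => hx (hf x h)
    refine ⟨cyc ⟨a, ha⟩ ⟨b, hb⟩ ⟨c, hc⟩, H63.cyc_mem_alternating (by simpa using hab)
      (by simpa using hac) (by simpa using hbc), ?_⟩
    rw [cyc, map_mul, ofSubtype_swap_eq, ofSubtype_swap_eq]
    rfl
  have hDH : D ≤ H := fun t ht => even_mem (p := fun x => x ∈ s)
    (fun a b c ha hb hc hab hac hbc =>
      cyc_mem_of_rel hab hac hbc (rel_of_mem_blk ha hb) (rel_of_mem_blk ha hc))
    (hfix t ht).1 fun x hx => by_contra fun h => hx ((hfix t ht).2 x h)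
  set D' := D.subgroupOf H with hD'
  let M : Subgroup H :=
    { carrier := {g | ∀ x, Rel H x ((g : Perm α) x)}
      one_mem' := fun x => .inl (by simp)
      mul_mem' := fun {a b} ha hb x => rel_trans (hb x) (by simpa using ha ((b : Perm α) x))
      inv_mem' := fun {a} ha x => rel_symm (by simpa using ha ((a : Perm α)⁻¹ x)) }
  have hMn : M.Normal := ⟨fun m hm g x => by
    simpa using rel_map g.2 (hm ((g : Perm α)⁻¹ x))⟩
  have hD'M : D' ≤ M := fun t ht x => by
    by_cases hx : (t : Perm α) x = x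
    · exact .inl hx.symm
    · have hf := (hfix _ (Subgroup.mem_subgroupOf.mp ht)).2
      exact rel_of_mem_blk (by_contra fun h => hx (hf x h))
        (by_contra fun h => hx ((t : Perm α).injective (hf _ h)))
  have hD'sub : D'.IsSubnormal := by
    refine .step _ M hD'M hMn.isSubnormal ⟨fun t ht g => ?_⟩
    rw [Subgroup.mem_subgroupOf, hD', Subgroup.mem_subgroupOf] at ht ⊢
    refine hmemD _ (by simp [(hfix _ ht).1]) fun x hx => ?_
    have h1 : ((g : H) : Perm α)⁻¹ x ∉ s := fun h =>
      hx (mem_blk.mpr (rel_trans (mem_blk.mp h) (rel_symm (by simpa using (g⁻¹).2 x))))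
    simp only [Subgroup.coe_mul, InvMemClass.coe_inv, Perm.mul_apply]
    rw [(hfix _ ht).2 _ h1]
    simp
  let e : ↥D' ≃* ↥(alternatingGroup {x // x ∈ s}) :=
    (Subgroup.subgroupOfEquivOfLe hDH).trans
      (Subgroup.equivMapOfInjective _ _ ofSubtype_injective).symm
  have hq : IsQuasisimple ↥D' := Cfsg.Comp.isQuasisimple_of_equiv e.symm
    (isQuasisimple_alternating (by rw [Fintype.card_coe]; omega))
  have hcomp : IsComponent D' := ⟨hD'sub, hq⟩
  have hD'L : D' ≤ L := (Cfsg.Comp.le_layer hcomp).trans Cfsg.Comp.layer_le_fStar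
  have heq : D' = L := by
    refine le_antisymm hD'L (Subgroup.subgroupOf_eq_top.mp ?_)
    refine (Cfsg.Comp.subnormal_eq_top_or_le_center hF
      (Cfsg.Comp.isComponent_subgroupOf hcomp hD'L).1).resolve_right fun h => ?_
    refine Cfsg.Comp.not_isMulCommutative_of_quasisimple hq ⟨⟨fun a b => Subtype.ext ?_⟩⟩
    have h1 := Subgroup.mem_center_iff.mp
      (h (x := ⟨a, hD'L a.2⟩) (Subgroup.mem_subgroupOf.mpr a.2)) ⟨b, hD'L b.2⟩
    exact (congrArg Subtype.val h1).symm
  have hout : ∀ x ∉ s, x ∈ uncov H := by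
    intro x hx
    by_contra hc
    obtain ⟨y, hyx, hr⟩ := notMem_uncov.mp hc
    obtain ⟨z, hxy, hxz, hyz, hz⟩ := hr.resolve_left (Ne.symm hyx)
    obtain ⟨r1, r2, r3⟩ := rel_of_cyc hxy hxz hyz hz
    have hys : y ∉ s := fun h => hx (mem_blk.mpr (rel_trans (mem_blk.mp h) (rel_symm r1)))
    have hzs : z ∉ s := fun h => hx (mem_blk.mpr (rel_trans (mem_blk.mp h) r3))
    have hσ : (⟨_, hz⟩ : H) ∈ Subgroup.centralizer (L : Set H) := by
      refine Subgroup.mem_centralizer_iff.mpr fun l hl => Subtype.ext ?_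
      have hl' := (hfix _ (Subgroup.mem_subgroupOf.mp (heq ▸ hl : l ∈ D'))).2
      refine (Perm.Disjoint.commute fun w => ?_).eq
      by_cases hw : w ∈ s
      · exact .inr (cyc_apply_of_ne (fun h => hx (h ▸ hw)) (fun h => hys (h ▸ hw))
          (fun h => hzs (h ▸ hw)))
      · exact .inl (hl' w hw)
    have hσ' := Cfsg.Comp.centralizer_fStar_le hσ
    rw [← hL, ← heq] at hσ'
    have h1 := (hfix _ (Subgroup.mem_subgroupOf.mp hσ')).2 x hx
    rw [cyc_apply_first hxy hxz] at h1
    exact hyx h1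
  have hinv : ∀ g ∈ H, ∀ x, x ∈ s → g x ∈ s := by
    intro g hg x hx
    by_contra hgx
    obtain ⟨y, hy, hyx⟩ := Finset.exists_mem_ne (show 1 < s.card by omega) x
    exact notMem_uncov_map hg
      (notMem_uncov.mpr ⟨y, hyx, rel_of_mem_blk hx hy⟩) (hout _ hgx)
  refine ⟨hout, fun g hg x => ⟨fun h => ?_, hinv g hg x⟩, ?_,
    ⟨(MulEquiv.subgroupCongr heq.symm).trans e⟩⟩
  · simpa using hinv _ (H.inv_mem hg) _ h
  · intro g hg hgs
    have hσ : (⟨g, hg⟩ : H) ∈ Subgroup.centralizer (L : Set H) := by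
      refine Subgroup.mem_centralizer_iff.mpr fun l hl => Subtype.ext ?_
      have hl' := (hfix _ (Subgroup.mem_subgroupOf.mp (heq ▸ hl : l ∈ D'))).2
      refine (Perm.Disjoint.commute fun w => ?_).eq
      by_cases hw : w ∈ s
      · exact .inr (hgs w hw)
      · exact .inl (hl' w hw)
    have hσ' := Cfsg.Comp.centralizer_fStar_le hσ
    rw [← hL, ← heq] at hσ'
    ext x
    by_cases hx : x ∈ s
    · rw [hgs x hx]; rfl
    · exact (hfix _ (Subgroup.mem_subgroupOf.mp hσ')).2 x hx

/-- If `H` contains a three-cycle and `F*(H)` is quasisimple, some block has at least five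
points. -/
theorem exists_big_block (hF : IsQuasisimple ↥(generalizedFittingSubgroup ↥H)) {a b c : α}
    (hab : a ≠ b) (hac : a ≠ c) (hbc : b ≠ c) (h : cyc a b c ∈ H) :
    ∃ x, 4 < (blk H x).card := by
  by_contra hcon
  push Not at hcon
  have hfix := small_fix hF hcon
  obtain ⟨r1, r2, r3⟩ := rel_of_cyc hab hac hbc h
  have ha : a ∉ uncov H := notMem_uncov.mpr ⟨b, hab.symm, r1⟩
  have hb : b ∉ uncov H := notMem_uncov.mpr ⟨c, hbc.symm, r2⟩
  have hc : c ∉ uncov H := notMem_uncov.mpr ⟨a, hac, r3⟩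
  have hσ : (⟨_, h⟩ : H) ∈
      Subgroup.centralizer (generalizedFittingSubgroup ↥H : Set H) := by
    refine Subgroup.mem_centralizer_iff.mpr fun l hl => Subtype.ext ?_
    show (l : Perm α) * cyc a b c = cyc a b c * (l : Perm α)
    rw [← mul_inv_eq_iff_eq_mul, cyc_conj, hfix l hl a ha, hfix l hl b hb, hfix l hl c hc]
  have h1 := hfix _ (Cfsg.Comp.centralizer_fStar_le hσ) a ha
  exact hab ((cyc_apply_first hab hac).symm.trans h1).symm

/-- If `F*(H)` is quasisimple and the three-cycles of `H` move all but at most two points, then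
`F*(H)` is the alternating group on a block containing all but at most two points. -/
theorem fStar_eq_alternating (hF : IsQuasisimple ↥(generalizedFittingSubgroup ↥H))
    (hU : (uncov H).card ≤ 2) :
    ∃ s : Finset α, Fintype.card α ≤ s.card + 2 ∧
      Nonempty (↥(generalizedFittingSubgroup ↥H) ≃* ↥(alternatingGroup {x // x ∈ s})) := by
  by_cases hbig : ∀ x, (blk H x).card ≤ 4
  · exact (small_blocks hF hU hbig).elim
  push Not at hbig
  obtain ⟨x₀, hx₀⟩ := hbig
  obtain ⟨hout, -, -, he⟩ := fStar_block hF hx₀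
  refine ⟨blk H x₀, ?_, he⟩
  have h1 : ((blk H x₀)ᶜ).card ≤ 2 :=
    (Finset.card_le_card fun x hx => hout x (Finset.mem_compl.mp hx)).trans hU
  rw [Finset.card_compl] at h1
  omega

end H77.Blocks

namespace H77.Blocks

open H63 (cyc cyc_apply_first cyc_apply_second cyc_apply_third cyc_apply_of_ne cyc_conj)

/-- A subgroup containing a Sylow 3-subgroup of `S_n` has three-cycles moving all but two
points. -/
theorem card_uncov_le_of_sylow {n : ℕ} {H : Subgroup (Perm (Fin n))}
    {P : Sylow 3 (Perm (Fin n))} (hP : (P : Subgroup (Perm (Fin n))) ≤ H) :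
    (uncov H).card ≤ 2 := by
  classical
  let pt : Fin (n / 3) → Fin 3 → Fin n := fun i j => ⟨3 * i.1 + j.1, by omega⟩
  have hne : ∀ i i' j j', (i ≠ i' ∨ j ≠ j') → pt i j ≠ pt i' j' := by
    intro i i' j j' h he
    have := congrArg Fin.val he
    simp only [pt] at this
    rcases h with h | h <;> apply h <;> ext <;> omega
  let t : Fin (n / 3) → Perm (Fin n) := fun i => cyc (pt i 0) (pt i 1) (pt i 2)
  have d01 : ∀ i, pt i 0 ≠ pt i 1 := fun i => hne _ _ _ _ (.inr (by decide))
  have d02 : ∀ i, pt i 0 ≠ pt i 2 := fun i => hne _ _ _ _ (.inr (by decide))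
  have d12 : ∀ i, pt i 1 ≠ pt i 2 := fun i => hne _ _ _ _ (.inr (by decide))
  have hcomm : ∀ u ∈ Set.range t, ∀ v ∈ Set.range t, u * v = v * u := by
    rintro _ ⟨i, rfl⟩ _ ⟨i', rfl⟩
    rcases eq_or_ne i i' with rfl | hii
    · rfl
    refine (Perm.Disjoint.commute fun x => ?_).eq
    by_cases hx : ∃ j, x = pt i j
    · obtain ⟨j, rfl⟩ := hx
      exact .inr (cyc_apply_of_ne (hne _ _ _ _ (.inl hii)) (hne _ _ _ _ (.inl hii))
        (hne _ _ _ _ (.inl hii)))
    · push Not at hx
      exact .inl (cyc_apply_of_ne (hx 0) (hx 1) (hx 2))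
  set Q := Subgroup.closure (Set.range t) with hQ
  have hQ3 : IsPGroup 3 Q := by
    have hQc : ∀ a ∈ Q, ∀ b ∈ Q, Commute a b := by
      have h1 : Q ≤ Subgroup.centralizer (Set.range t) :=
        (Subgroup.closure_le _).mpr fun u hu => Subgroup.mem_centralizer_iff.mpr fun v hv =>
          hcomm v hv u hu
      have h2 : Q ≤ Subgroup.centralizer (Q : Set (Perm (Fin n))) :=
        (Subgroup.closure_le _).mpr fun u hu => Subgroup.mem_centralizer_iff.mpr fun a ha =>
          ((Subgroup.mem_centralizer_iff.mp (h1 ha)) u hu).symm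
      exact fun a ha b hb => Subgroup.mem_centralizer_iff.mp (h2 hb) a ha
    rintro ⟨a, ha⟩
    refine ⟨1, Subtype.ext ?_⟩
    show a ^ 3 ^ 1 = 1
    rw [pow_one]
    refine Subgroup.closure_induction (p := fun x _ => x ^ 3 = 1) ?_ (one_pow 3) ?_ ?_ ha
    · rintro _ ⟨i, rfl⟩
      rw [← (H63.isThreeCycle_cyc (d01 i) (d02 i) (d12 i)).orderOf]
      exact pow_orderOf_eq_one _
    · intro x y hx hy hx3 hy3
      rw [(hQc x hx y hy).mul_pow, hx3, hy3, one_mul]
    · intro x _ hx3
      rw [inv_pow, hx3, inv_one]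
  obtain ⟨S, hS⟩ := hQ3.exists_le_sylow
  obtain ⟨g, hg⟩ := MulAction.exists_smul_eq (Perm (Fin n)) S P
  have hin : ∀ i, cyc (g (pt i 0)) (g (pt i 1)) (g (pt i 2)) ∈ H := by
    intro i
    rw [← cyc_conj]
    refine hP ?_
    rw [← hg]
    exact ⟨_, hS (Subgroup.subset_closure ⟨i, rfl⟩), by simp [MulAut.conj, t]⟩
  have hcov : ∀ i j, g (pt i j) ∉ uncov H := by
    intro i j
    obtain ⟨r1, r2, r3⟩ := rel_of_cyc (g.injective.ne (d01 i)) (g.injective.ne (d02 i))
      (g.injective.ne (d12 i)) (hin i)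
    refine notMem_uncov.mpr ?_
    fin_cases j
    exacts [⟨_, g.injective.ne (d01 i).symm, r1⟩, ⟨_, g.injective.ne (d12 i).symm, r2⟩,
      ⟨_, g.injective.ne (d02 i), r3⟩]
  have h1 : (Finset.univ.image fun q : Fin (n / 3) × Fin 3 => g (pt q.1 q.2)) ⊆ (uncov H)ᶜ := by
    intro x hx
    obtain ⟨q, -, rfl⟩ := Finset.mem_image.mp hx
    exact Finset.mem_compl.mpr (hcov _ _)
  have h2 := Finset.card_le_card h1
  rw [Finset.card_image_of_injective _ fun q q' h => ?_, Finset.card_compl] at h2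
  · simp only [Finset.card_univ, Fintype.card_prod, Fintype.card_fin] at h2
    have := Finset.card_le_univ (uncov H)
    simp only [Fintype.card_fin] at this
    omega
  · by_contra hne'
    refine hne q.1 q'.1 q.2 q'.2 ?_ (g.injective h)
    by_contra hc
    push Not at hc
    exact hne' (Prod.ext hc.1 hc.2)

end H77.Blocks
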