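import Cfsg.Agent.H77.ThreeCycleBlocks
import Cfsg.Agent.H32.AltAut
import Cfsg.Agent.H6.Basic
import Cfsg.Prelude
import Mathlib

/-!
Groups with generalized Fitting subgroup `A_n` having a unique maximal subgroup over a Sylow
3-subgroup.
-/

set_option autoImplicit false
open Cfsg Equiv Equiv.Perm MulAction

namespace H77.ThreeMin

open H63 (cyc cyc_apply_first cyc_apply_second cyc_apply_third cyc_apply_of_ne cyc_conj)
open H77.Blocks (Rel rel_of_cyc rel_trans rel_symm rel_map cyc_mem_of_rel)

/-- An almost simple group over `A_n` which is 3-minimal is simple. -/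
theorem fStar_eq_top {X : Type*} [Group X] [Finite X] (hX : Cfsg.IsPMinimal 3 X) {n : ℕ}
    (hn : 5 ≤ n) (e : ↥(generalizedFittingSubgroup X) ≃* ↥(alternatingGroup (Fin n))) :
    generalizedFittingSubgroup X = ⊤ := by
  have hcA : Subgroup.center ↥(alternatingGroup (Fin n)) = ⊥ :=
    alternatingGroup.center_eq_bot (by rw [Nat.card_fin]; omega)
  set L := generalizedFittingSubgroup X with hL
  haveI : Fact (Nat.Prime 3) := ⟨by norm_num⟩
  obtain ⟨S, hS⟩ : ∃ S : Sylow 3 X, S = S := ⟨default, rfl⟩
  have hC : ∀ x : X, (∀ l ∈ L, x * l = l * x) → x = 1 := by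
    intro x hx
    have hxL : x ∈ L := Cfsg.Comp.centralizer_fStar_le
      (Subgroup.mem_centralizer_iff.mpr fun l hl => (hx l hl).symm)
    have : e ⟨x, hxL⟩ ∈ Subgroup.center ↥(alternatingGroup (Fin n)) :=
      Subgroup.mem_center_iff.mpr fun a => by
        obtain ⟨l, rfl⟩ := e.surjective a
        rw [← map_mul, ← map_mul]
        exact congrArg e (Subtype.ext (hx l l.2).symm)
    rw [hcA, Subgroup.mem_bot, e.map_eq_one_iff] at this
    exact congrArg Subtype.val this
  have hSL : (S : Subgroup X) ≤ L := by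
    intro s hs
    let ψ : MulAut ↥(alternatingGroup (Fin n)) := MulAut.congr e (MulAut.conjNormal s)
    have hodd : Odd (orderOf ψ) := by
      obtain ⟨k, hk⟩ := (IsPGroup.iff_orderOf.mp S.isPGroup') ⟨s, hs⟩
      rw [← Subgroup.orderOf_coe] at hk
      have h1 : orderOf ψ ∣ 3 ^ k := by
        rw [← hk]
        exact orderOf_map_dvd
          (((MulAut.congr e).toMonoidHom).comp (MulAut.conjNormal : X →* MulAut L)) s
      exact Odd.of_dvd_nat (Odd.pow (by decide)) h1
    obtain ⟨a, ha⟩ := H32.AltAut.inner_of_odd_order (by rw [Fintype.card_fin]; omega) ψ hodd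
    set b := e.symm a with hb
    have h1 : ∀ l : L, s * l * s⁻¹ = (b : X) * l * (b : X)⁻¹ := by
      intro l
      have h2 := congrArg (fun f : MulAut ↥(alternatingGroup (Fin n)) => e.symm (f (e l))) ha
      simp only [ψ, MulAut.congr, MulEquiv.coe_mk, Equiv.coe_fn_mk, MulEquiv.trans_apply,
        MulEquiv.symm_apply_apply, MulAut.conj_apply, map_mul, map_inv] at h2
      have h3 := congrArg Subtype.val h2
      simpa [hb] using h3.symm
    have h4 : (b : X)⁻¹ * s = 1 := hC _ fun l hl => by
      have := h1 ⟨l, hl⟩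
      calc (b : X)⁻¹ * s * l = (b : X)⁻¹ * (s * l * s⁻¹) * s := by group
        _ = (b : X)⁻¹ * ((b : X) * l * (b : X)⁻¹) * s := by rw [this]
        _ = l * ((b : X)⁻¹ * s) := by group
    rw [inv_mul_eq_one] at h4
    exact h4 ▸ b.2
  obtain ⟨hnS, M, ⟨hM, hSM⟩, huniq⟩ := hX S
  have hover : ∀ K : Subgroup X, (S : Subgroup X) ≤ K → K ≠ ⊤ → K ≤ M := by
    intro K hSK hK
    obtain ⟨M', hM', hKM'⟩ := (eq_top_or_exists_le_coatom K).resolve_left hK
    rw [← huniq M' ⟨hM', hSK.trans hKM'⟩]
    exact hKM'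
  by_contra hne
  refine hM.1 (top_le_iff.mp ?_)
  rw [← Sylow.normalizer_sup_eq_top' S hSL]
  exact sup_le (hover _ Subgroup.le_normalizer fun h => hnS (Subgroup.normalizer_eq_top_iff.mp h))
    (hover L hSL hne)

section degree

variable {n : ℕ}

/-- An element of order dividing `3` centralising a Sylow 3-subgroup lies in it. -/
theorem mem_sylow_of_commute {G : Type*} [Group G] [Finite G] (S : Sylow 3 G) {w : G}
    (hw : w ^ 3 = 1) (hc : ∀ s ∈ (S : Subgroup G), s * w = w * s) : w ∈ (S : Subgroup G) := by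
  have h1 : IsPGroup 3 (Subgroup.zpowers w) := by
    rintro ⟨a, k, rfl⟩
    refine ⟨1, Subtype.ext ?_⟩
    show (w ^ k) ^ (3 ^ 1) = 1
    rw [pow_one, ← zpow_natCast, ← zpow_mul, mul_comm, zpow_mul, zpow_natCast, hw, one_zpow]
  have h2 : Subgroup.zpowers w ≤ Subgroup.normalizer ((S : Subgroup G) : Set G) := by
    refine (Subgroup.zpowers_le.mpr ?_).trans (Subgroup.centralizer_le_normalizer _)
    exact Subgroup.mem_centralizer_iff.mpr hc
  have := S.is_maximal' (h1.to_sup_of_normal_right' S.isPGroup' h2) le_sup_right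
  exact this ▸ Subgroup.mem_sup_left (Subgroup.mem_zpowers w)

theorem sylow_le_alternating (S : Sylow 3 (Perm (Fin n))) :
    (S : Subgroup (Perm (Fin n))) ≤ alternatingGroup (Fin n) := by
  intro s hs
  obtain ⟨k, hk⟩ := S.isPGroup' ⟨s, hs⟩
  have h : sign s ^ (3 ^ k) = 1 := by
    have h1 : s ^ 3 ^ k = 1 := by simpa using congrArg Subtype.val hk
    rw [← map_pow, h1, map_one]
  rw [mem_alternatingGroup]
  rcases Int.units_eq_one_or (sign s) with h' | h'
  · exact h'
  · rw [h', Odd.neg_one_pow (Odd.pow (by decide))] at h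
    exact absurd h (by decide)

open scoped Classical in
/-- The number of fixed points of a Sylow 3-subgroup of `S_n`. -/
theorem card_fixed (S : Sylow 3 (Perm (Fin n))) :
    (Finset.univ.filter fun x : Fin n => ∀ s ∈ (S : Subgroup (Perm (Fin n))), s x = x).card
      = n % 3 := by
  classical
  haveI : Fact (Nat.Prime 3) := ⟨by norm_num⟩
  set F := Finset.univ.filter fun x : Fin n => ∀ s ∈ (S : Subgroup (Perm (Fin n))), s x = x
  have h1 := S.isPGroup'.card_modEq_card_fixedPoints (Fin n)
  have h2 : Nat.card (fixedPoints (S : Subgroup (Perm (Fin n))) (Fin n)) = F.card := by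
    rw [Nat.card_coe_set_eq, ← Set.ncard_coe_finset]
    congr 1
    ext x
    simp [F, mem_fixedPoints, Subgroup.smul_def]
  rw [h2, Nat.card_fin, Nat.ModEq] at h1
  have h3 : F.card < 3 := by
    by_contra h
    obtain ⟨t, ht, htc⟩ := Finset.exists_subset_card_eq (s := F) (n := 3) (by omega)
    obtain ⟨a, b, c, hab, hac, hbc, rfl⟩ := Finset.card_eq_three.mp htc
    have hfix : ∀ v ∈ ({a, b, c} : Finset (Fin n)), ∀ s ∈ (S : Subgroup (Perm (Fin n))), s v = v :=
      fun v hv => (Finset.mem_filter.mp (ht hv)).2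
    have hw := mem_sylow_of_commute S (w := cyc a b c)
      (by rw [← (H63.isThreeCycle_cyc hab hac hbc).orderOf]; exact pow_orderOf_eq_one _)
      fun s hs => by
        rw [← mul_inv_eq_iff_eq_mul, cyc_conj, hfix a (by simp) s hs, hfix b (by simp) s hs,
          hfix c (by simp) s hs]
    have := hfix a (by simp) _ hw
    rw [cyc_apply_first hab hac] at this
    exact hab this.symm
  omega

/-- A Sylow 3-subgroup without fixed points centralises a fixed-point-free element of order 3. -/
theorem exists_central_fpf (S : Sylow 3 (Perm (Fin n)))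
    (hS : ∀ x, ∃ s ∈ (S : Subgroup (Perm (Fin n))), s x ≠ x) :
    ∃ z : Perm (Fin n), z ^ 3 = 1 ∧ (∀ s ∈ (S : Subgroup (Perm (Fin n))), s * z = z * s) ∧
      ∀ x, z x ≠ x := by
  classical
  haveI : Fact (Nat.Prime 3) := ⟨by norm_num⟩
  obtain ⟨z, hz, hmax⟩ := (Finset.univ.filter fun z : Perm (Fin n) =>
    z ^ 3 = 1 ∧ ∀ s ∈ (S : Subgroup (Perm (Fin n))), s * z = z * s).exists_max_image
      (fun z => z.support.card) ⟨1, by simp⟩
  simp only [Finset.mem_filter, Finset.mem_univ, true_and] at hz hmax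
  refine ⟨z, hz.1, hz.2, fun x hx => ?_⟩
  let p : Fin n → Prop := fun y => ∃ s ∈ (S : Subgroup (Perm (Fin n))), s x = y
  have hp : ∀ s ∈ (S : Subgroup (Perm (Fin n))), ∀ y, p (s y) ↔ p y := by
    intro s hs y
    constructor
    · rintro ⟨t, ht, htx⟩
      exact ⟨s⁻¹ * t, mul_mem (inv_mem hs) ht, by simp [htx]⟩
    · rintro ⟨t, ht, rfl⟩
      exact ⟨s * t, mul_mem hs ht, rfl⟩
  let res : ↥(S : Subgroup (Perm (Fin n))) →* Perm {y // p y} :=
    { toFun := fun s => (s : Perm (Fin n)).subtypePerm (hp s s.2)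
      map_one' := by ext; simp
      map_mul' := fun s t => by ext; rfl }
  have hP : IsPGroup 3 res.range :=
    S.isPGroup'.of_surjective res.rangeRestrict res.rangeRestrict_surjective
  obtain ⟨s₀, hs₀, hs₀x⟩ := hS x
  haveI : Nontrivial res.range := by
    refine (Subgroup.nontrivial_iff_ne_bot _).mpr fun h => hs₀x ?_
    have h1 : res ⟨s₀, hs₀⟩ ∈ res.range := ⟨_, rfl⟩
    rw [h, Subgroup.mem_bot] at h1
    have := congrArg (fun f : Perm {y // p y} => ((f ⟨x, 1, one_mem _, rfl⟩ : {y // p y}) : Fin n)) h1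
    simpa [res] using this
  haveI := hP.center_nontrivial
  obtain ⟨c, hc⟩ := exists_prime_orderOf_dvd_card' 3 (G := Subgroup.center res.range) (by
    obtain ⟨k, hk⟩ := IsPGroup.iff_card.mp (hP.to_subgroup (Subgroup.center res.range))
    rw [hk]
    refine dvd_pow_self 3 fun hk0 => ?_
    rw [hk0, pow_zero, Nat.card_eq_one_iff_unique] at hk
    exact not_subsingleton _ hk.1)
  set w : Perm (Fin n) := ofSubtype ((c : res.range) : Perm {y // p y}) with hw
  have hc3 : c ^ 3 = 1 := orderOf_dvd_iff_pow_eq_one.mp (dvd_of_eq hc)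
  have hw3 : w ^ 3 = 1 := by
    rw [hw, ← map_pow, ← SubmonoidClass.coe_pow, ← SubmonoidClass.coe_pow, hc3]
    simp
  have hwc : ∀ s ∈ (S : Subgroup (Perm (Fin n))), s * w = w * s := by
    intro s hs
    ext y
    congr 1
    by_cases hy : p y
    · have h1 := congrArg (fun f : res.range => (f : Perm {y // p y}) ⟨y, hy⟩)
        (Subgroup.mem_center_iff.mp c.2 ⟨res ⟨s, hs⟩, _, rfl⟩)
      have h2 := congrArg Subtype.val h1
      rw [Perm.mul_apply, Perm.mul_apply, hw, ofSubtype_apply_of_mem _ hy,
        ofSubtype_apply_of_mem _ ((hp s hs y).mpr hy)]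
      simpa [res] using h2
    · rw [Perm.mul_apply, Perm.mul_apply, hw, ofSubtype_apply_of_not_mem _ hy,
        ofSubtype_apply_of_not_mem _ (mt (hp s hs y).mp hy)]
  have hzp : ∀ y, p y → z y = y := by
    rintro y ⟨t, ht, rfl⟩
    rw [← Perm.mul_apply, ← hz.2 t ht, Perm.mul_apply, hx]
  have hdisj : Perm.Disjoint z w := fun y => by
    by_cases hy : p y
    · exact .inl (hzp y hy)
    · exact .inr (ofSubtype_apply_of_not_mem _ hy)
  have h1 := hmax (z * w) ⟨by rw [hdisj.commute.mul_pow, hz.1, hw3, one_mul],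
    fun s hs => by rw [← mul_assoc, hz.2 s hs, mul_assoc, hwc s hs, mul_assoc]⟩
  rw [hdisj.card_support_mul] at h1
  have h2 : w.support.card = 0 := by omega
  rw [Finset.card_eq_zero, support_eq_empty_iff, hw, ← map_one (ofSubtype (p := p))] at h2
  have h3 : c = 1 := Subtype.ext (Subtype.ext (ofSubtype_injective h2))
  rw [h3, orderOf_one] at hc
  omega

/-- A function with at most three values on the points whose fibres are permuted by a Sylow
3-subgroup. -/
theorem exists_blocks (S : Sylow 3 (Perm (Fin n))) (hn : 2 ≤ n)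
    (hS : ∀ x, ∃ s ∈ (S : Subgroup (Perm (Fin n))), s x ≠ x) :
    ∃ f : Fin n → Fin 3, (∃ p q, f p ≠ f q) ∧
      ∀ s ∈ (S : Subgroup (Perm (Fin n))), ∀ p q, f (s p) = f (s q) ↔ f p = f q := by
  classical
  haveI : Fact (Nat.Prime 3) := ⟨by norm_num⟩
  let x₀ : Fin n := ⟨0, by omega⟩
  by_cases htr : ∀ y, ∃ s ∈ (S : Subgroup (Perm (Fin n))), s x₀ = y
  · choose σ hσ hσx using htr
    set St : Subgroup ↥(S : Subgroup (Perm (Fin n))) :=
      stabilizer ↥(S : Subgroup (Perm (Fin n))) x₀ with hSt
    have hne : St ≠ ⊤ := by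
      intro h
      obtain ⟨s, hs, hsx⟩ := hS x₀
      exact hsx (mem_stabilizer_iff.mp (show (⟨s, hs⟩ : ↥(S : Subgroup (Perm (Fin n)))) ∈ St
        from h ▸ Subgroup.mem_top _))
    obtain ⟨M, hM, hle⟩ := (eq_top_or_exists_le_coatom St).resolve_left hne
    have hidx := H6.index_eq_prime_of_isCoatom S.isPGroup' hM
    let ι : ↥(S : Subgroup (Perm (Fin n))) ⧸ M ≃ Fin 3 :=
      (Finite.equivFin _).trans (finCongr hidx)
    refine ⟨fun p => ι (QuotientGroup.mk ⟨σ p, hσ p⟩), ?_, fun s hs p q => ?_⟩
    · by_contra hcon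
      push Not at hcon
      refine hM.1 (top_le_iff.mp fun t _ => ?_)
      have h1 := ι.injective (hcon x₀ (t.1 x₀))
      rw [QuotientGroup.eq] at h1
      have h2 : (⟨σ (t.1 x₀), hσ _⟩ : ↥(S : Subgroup (Perm (Fin n))))⁻¹ * t ∈ M := hle (by
        rw [hSt, mem_stabilizer_iff, mul_smul, inv_smul_eq_iff]
        exact (hσx _).symm)
      have h3 : (⟨σ x₀, hσ _⟩ : ↥(S : Subgroup (Perm (Fin n)))) ∈ M := hle (by
        rw [hSt, mem_stabilizer_iff]
        exact hσx x₀)
      have := M.mul_mem (M.mul_mem h3 h1) h2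
      simpa [mul_assoc] using this
    · have key : ∀ p, (QuotientGroup.mk (⟨σ (s p), hσ _⟩ : ↥(S : Subgroup (Perm (Fin n)))) :
          _ ⧸ M) = QuotientGroup.mk ((⟨s, hs⟩ : ↥(S : Subgroup (Perm (Fin n)))) * ⟨σ p, hσ p⟩) := by
        intro p
        rw [QuotientGroup.eq]
        refine hle ?_
        rw [hSt, mem_stabilizer_iff, mul_smul, inv_smul_eq_iff]
        show (s * σ p) x₀ = σ (s p) x₀
        rw [Perm.mul_apply, hσx, hσx]
      simp only [EmbeddingLike.apply_eq_iff_eq, key]
      rw [QuotientGroup.eq, QuotientGroup.eq, mul_inv_rev, mul_assoc, inv_mul_cancel_left]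
  · push Not at htr
    obtain ⟨y, hy⟩ := htr
    refine ⟨fun p => if ∃ s ∈ (S : Subgroup (Perm (Fin n))), s x₀ = p then 0 else 1,
      ⟨x₀, y, ?_⟩, fun s hs p q => ?_⟩
    · dsimp only
      rw [if_pos (show ∃ s ∈ (S : Subgroup (Perm (Fin n))), s x₀ = x₀ from ⟨1, one_mem _, rfl⟩),
        if_neg (by push Not; exact hy)]
      decide
    · have hinv : ∀ v, (∃ t ∈ (S : Subgroup (Perm (Fin n))), t x₀ = s v) ↔
          ∃ t ∈ (S : Subgroup (Perm (Fin n))), t x₀ = v := fun v =>
        ⟨fun ⟨t, ht, h⟩ => ⟨s⁻¹ * t, mul_mem (inv_mem hs) ht, by simp [h]⟩,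
          fun ⟨t, ht, h⟩ => ⟨s * t, mul_mem hs ht, by simp [h]⟩⟩
      simp only [hinv]

/-- A subgroup whose three-cycle relation is total contains the alternating group. -/
theorem alt_le_of_rel {M : Subgroup (Perm (Fin n))} (h : ∀ p q, Rel M p q) :
    alternatingGroup (Fin n) ≤ M :=
  H63.alternating_le_of_cyc fun a b c hab hac hbc => cyc_mem_of_rel hab hac hbc (h a b) (h a c)

/-- An element centralising `z` which rotates three `z`-orbits and fixes all other points. -/
theorem exists_rotate {z : Perm (Fin n)} (hz2 : ∀ a, z (z (z a)) = a) (hzf : ∀ a, z a ≠ a)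
    {x y w v : Fin n} (hxy : x ≠ y) (hxw : x ≠ w) (hyw : y ≠ w)
    (hU : ∀ a b, a ∈ [x, y, w] → b ∈ [x, y, w, v] → z a ≠ b ∧ z (z a) ≠ b)
    (hv : v ∉ [x, y, w]) :
    ∃ g : Perm (Fin n), z * g = g * z ∧ g ∈ alternatingGroup (Fin n) ∧ g x = y ∧ g v = v := by
  simp only [List.mem_cons, List.not_mem_nil, or_false, not_or] at hv
  have hx : x ∈ [x, y, w] := by simp
  have hy : y ∈ [x, y, w] := by simp
  have hw : w ∈ [x, y, w] := by simp
  have hsub : ∀ a, a ∈ [x, y, w] → a ∈ [x, y, w, v] := fun a ha => by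
    simp only [List.mem_cons, List.not_mem_nil, or_false] at ha ⊢
    tauto
  have zi := z.injective
  set d := cyc x y w with hd
  set d1 := cyc (z x) (z y) (z w) with hd1
  set d2 := cyc (z (z x)) (z (z y)) (z (z w)) with hd2
  have fix1 : ∀ a, a ∈ [x, y, w, v] → d1 a = a := fun a ha =>
    cyc_apply_of_ne (hU x a hx ha).1.symm (hU y a hy ha).1.symm (hU w a hw ha).1.symm
  have fix2 : ∀ a, a ∈ [x, y, w, v] → d2 a = a := fun a ha =>
    cyc_apply_of_ne (hU x a hx ha).2.symm (hU y a hy ha).2.symm (hU w a hw ha).2.symm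
  have disj : ∀ {p q r : Fin n} {g : Perm (Fin n)}, g p = p → g q = q → g r = r →
      Commute (cyc p q r) g := by
    intro p q r g h1 h2 h3
    have := cyc_conj g p q r
    rw [h1, h2, h3, mul_inv_eq_iff_eq_mul] at this
    exact this.symm
  have c01 : Commute d d1 := disj (fix1 x (hsub x hx)) (fix1 y (hsub y hy)) (fix1 w (hsub w hw))
  have c02 : Commute d d2 := disj (fix2 x (hsub x hx)) (fix2 y (hsub y hy)) (fix2 w (hsub w hw))
  refine ⟨d * d1 * d2, ?_, ?_, ?_, ?_⟩
  · rw [← mul_inv_eq_iff_eq_mul, ← conj_mul, ← conj_mul, hd, hd1, hd2, cyc_conj, cyc_conj,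
      cyc_conj, hz2, hz2, hz2, ← hd, ← hd1, ← hd2]
    rw [show d1 * d2 * d = d * (d1 * d2) from ((c01.mul_right c02).eq).symm, mul_assoc]
  · exact mul_mem (mul_mem (H63.cyc_mem_alternating hxy hxw hyw)
      (H63.cyc_mem_alternating (zi.ne hxy) (zi.ne hxw) (zi.ne hyw)))
      (H63.cyc_mem_alternating (zi.ne (zi.ne hxy)) (zi.ne (zi.ne hxw)) (zi.ne (zi.ne hyw)))
  · rw [Perm.mul_apply, Perm.mul_apply, fix2 x (hsub x hx), fix1 x (hsub x hx), hd,
      cyc_apply_first hxy hxw]
  · rw [Perm.mul_apply, Perm.mul_apply, fix2 v (by simp), fix1 v (by simp), hd,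
      cyc_apply_of_ne hv.1 hv.2.1 hv.2.2]

/-- The combinatorial step: in which degrees `A_n` has a single maximal subgroup over a Sylow
3-subgroup. -/
theorem degree_of_over (hn : 5 ≤ n) (S : Sylow 3 (Perm (Fin n)))
    (Mm : Subgroup (Perm (Fin n))) (hMA : ¬ alternatingGroup (Fin n) ≤ Mm)
    (hover : ∀ K : Subgroup (Perm (Fin n)), (S : Subgroup (Perm (Fin n))) ≤ K →
      ¬ alternatingGroup (Fin n) ≤ K → K ⊓ alternatingGroup (Fin n) ≤ Mm) :
    n = 6 ∨ n = 9 ∨ ∃ a : ℕ, 2 ≤ a ∧ n = 3 ^ a + 1 := by
  classical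
  haveI : Fact (Nat.Prime 3) := ⟨by norm_num⟩
  have cycmem : ∀ {K : Subgroup (Perm (Fin n))}, (S : Subgroup (Perm (Fin n))) ≤ K →
      ¬ alternatingGroup (Fin n) ≤ K → ∀ {a b c : Fin n}, a ≠ b → a ≠ c → b ≠ c →
      cyc a b c ∈ K → Rel Mm a b ∧ Rel Mm b c ∧ Rel Mm c a :=
    fun {K} hK hK' {a b c} hab hac hbc h => rel_of_cyc hab hac hbc
      (hover _ hK hK' ⟨h, H63.cyc_mem_alternating hab hac hbc⟩)
  set F := Finset.univ.filter fun x : Fin n => ∀ s ∈ (S : Subgroup (Perm (Fin n))), s x = x
    with hF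
  have hcard : F.card = n % 3 := card_fixed S
  -- overgroups fixing a point
  have hpoint : ∀ a ∈ F, ∀ x y, x ≠ a → y ≠ a → Rel Mm x y := by
    intro a ha x y hx hy
    rcases eq_or_ne x y with rfl | hxy
    · exact .inl rfl
    have hle : (S : Subgroup (Perm (Fin n))) ≤ stabilizer (Perm (Fin n)) a :=
      fun s hs => mem_stabilizer_iff.mpr ((Finset.mem_filter.mp ha).2 s hs)
    have hnot : ¬ alternatingGroup (Fin n) ≤ stabilizer (Perm (Fin n)) a := by
      intro h
      have h1 : cyc a x y a = a := h (H63.cyc_mem_alternating hx.symm hy.symm hxy)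
      rw [cyc_apply_first hx.symm hy.symm] at h1
      exact hx h1
    obtain ⟨w, hw⟩ : ∃ w, w ∉ ({a, x, y} : Finset (Fin n)) := by
      by_contra h
      push Not at h
      have := (Finset.card_le_card (fun v _ => h v : Finset.univ ⊆ ({a, x, y} : Finset (Fin n)))).trans
        Finset.card_le_three
      simp at this
      omega
    simp only [Finset.mem_insert, Finset.mem_singleton, not_or] at hw
    exact (cycmem hle hnot hxy (Ne.symm hw.2.1) (Ne.symm hw.2.2)
      (mem_stabilizer_iff.mpr (cyc_apply_of_ne hx.symm hy.symm (Ne.symm hw.1)))).1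
  obtain h | h | h : n % 3 = 0 ∨ n % 3 = 1 ∨ n % 3 = 2 := by omega
  · -- no fixed point
    by_contra hcon
    push Not at hcon
    obtain ⟨h6, h9, -⟩ := hcon
    have hS : ∀ x, ∃ s ∈ (S : Subgroup (Perm (Fin n))), s x ≠ x := by
      intro x
      by_contra hx
      push Not at hx
      have : x ∈ F := Finset.mem_filter.mpr ⟨Finset.mem_univ x, hx⟩
      rw [h, Finset.card_eq_zero] at hcard
      simp [hcard] at this
    obtain ⟨f, ⟨p₀, q₀, hpq₀⟩, hf⟩ := exists_blocks S (by omega) hS
    obtain ⟨z, hz3, hzc, hzf⟩ := exists_central_fpf S hS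
    obtain ⟨c, hc⟩ := Fintype.exists_lt_card_fiber_of_mul_lt_card (f := f) (n := 3)
      (by simp only [Fintype.card_fin]; omega)
    -- the stabiliser of the blocks
    let K1 : Subgroup (Perm (Fin n)) :=
      { carrier := {g | ∀ p q, f (g p) = f (g q) ↔ f p = f q}
        one_mem' := fun p q => Iff.rfl
        mul_mem' := fun {g g'} hg hg' p q => (hg (g' p) (g' q)).trans (hg' p q)
        inv_mem' := fun {g} hg p q => by
          rw [← hg (g⁻¹ p) (g⁻¹ q)]
          simp }
    have hblock : ∀ {p q}, f p = f q → ∀ {r}, r ≠ p → r ≠ q → f r = f p → p ≠ q → Rel Mm p q := by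
      intro p q hpq r hrp hrq hr hne
      have hK1 : ¬ alternatingGroup (Fin n) ≤ K1 := by
        intro hle
        obtain ⟨v, hv⟩ : ∃ v, f v ≠ f p := by
          by_contra h'
          push Not at h'
          exact hpq₀ ((h' _).trans (h' _).symm)
        have hvp : v ≠ p := fun e => hv (by rw [e])
        have hvq : v ≠ q := fun e => hv (by rw [e, hpq])
        have h1 := (hle (H63.cyc_mem_alternating hne hvp.symm hvq.symm) p q).mpr hpq
        rw [cyc_apply_first hne hvp.symm, cyc_apply_second hvp.symm hvq.symm, ← hpq] at h1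
        exact hv h1.symm
      have hmem : cyc p q r ∈ K1 := by
        intro a b
        have : ∀ a, f (cyc p q r a) = f a := by
          intro a
          by_cases ha : a = p
          · rw [ha, cyc_apply_first hne hrp.symm, hpq]
          by_cases hb : a = q
          · rw [hb, cyc_apply_second hrp.symm hrq.symm, hr, hpq]
          by_cases hc : a = r
          · rw [hc, cyc_apply_third, hr]
          rw [cyc_apply_of_ne ha hb hc]
        rw [this, this]
      exact (cycmem (K := K1) (fun s hs => hf s hs) hK1 hne hrp.symm hrq.symm hmem).1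
    -- a pair in different z-orbits
    obtain ⟨t, ht, htc⟩ := Finset.exists_subset_card_eq
      (s := Finset.univ.filter fun x => f x = c) (n := 4) (by omega)
    have hmemc : ∀ v ∈ t, f v = c := fun v hv => (Finset.mem_filter.mp (ht hv)).2
    have hz2 : ∀ x, z (z (z x)) = x := by
      intro x
      have := congrArg (fun g : Perm (Fin n) => g x) hz3
      simpa [pow_succ] using this
    let orb : Fin n → Finset (Fin n) := fun x => {x, z x, z (z x)}
    have horb3 : ∀ x, (orb x).card ≤ 3 := fun x => Finset.card_le_three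
    have horb : ∀ {x y}, y ∈ orb x → orb y = orb x := by
      intro x y hy
      simp only [orb, Finset.mem_insert, Finset.mem_singleton] at hy
      ext v
      rcases hy with rfl | rfl | rfl <;>
        simp only [orb, hz2, Finset.mem_insert, Finset.mem_singleton] <;> tauto
    have hnotmem : ∀ {x y}, y ∉ orb x → x ∉ orb y := fun hxy hx =>
      hxy (horb hx ▸ by simp [orb])
    obtain ⟨x, hxt⟩ := Finset.card_pos.mp (show 0 < t.card by omega)
    obtain ⟨v, hvt, hvx⟩ := Finset.exists_mem_notMem_of_card_lt_card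
      (show (orb x).card < t.card by have := horb3 x; omega)
    obtain ⟨r, hrt, hr⟩ := Finset.exists_mem_notMem_of_card_lt_card
      (show ({x, v} : Finset (Fin n)).card < t.card by
        have := Finset.card_le_two (a := x) (b := v); omega)
    simp only [Finset.mem_insert, Finset.mem_singleton, not_or] at hr
    have hxv : x ≠ v := fun e => hvx (by simp [orb, e])
    have hrel : Rel Mm x v := hblock ((hmemc x hxt).trans (hmemc v hvt).symm) hr.1 hr.2
      ((hmemc r hrt).trans (hmemc x hxt).symm) hxv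
    -- moving one orbit
    set C := Subgroup.centralizer ({z} : Set (Perm (Fin n))) with hC
    have hSC : (S : Subgroup (Perm (Fin n))) ≤ C := fun s hs =>
      Subgroup.mem_centralizer_singleton_iff.mpr (hzc s hs)
    have hmove : ∀ {x v y}, v ∉ orb x → Rel Mm x v → y ∉ orb v → y ∉ orb x → Rel Mm y v := by
      intro x v y hvx hr hyv hyx
      obtain ⟨w, hw⟩ : ∃ w, w ∉ orb x ∪ orb v ∪ orb y := by
        by_contra h'
        push Not at h'
        have h1 := Finset.card_le_card (fun a _ => h' a : Finset.univ ⊆ orb x ∪ orb v ∪ orb y)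
        have h2 := Finset.card_union_le (orb x ∪ orb v) (orb y)
        have h3 := Finset.card_union_le (orb x) (orb v)
        have := horb3 x; have := horb3 v; have := horb3 y
        simp only [Finset.card_univ, Fintype.card_fin] at h1
        omega
      simp only [Finset.mem_union, not_or] at hw
      obtain ⟨⟨hwx, hwv⟩, hwy⟩ := hw
      have hne : ∀ {a b}, a ∉ orb b → a ≠ b ∧ z a ≠ b ∧ z (z a) ≠ b := by
        intro a b hab
        simp only [orb, Finset.mem_insert, Finset.mem_singleton, not_or] at hab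
        refine ⟨hab.1, ?_, ?_⟩
        · rintro rfl; exact hab.2.2 (hz2 a).symm
        · rintro rfl; exact hab.2.1 (hz2 a).symm
      have hxy : x ≠ y := (hne (hnotmem hyx)).1
      have hxw : x ≠ w := (hne (hnotmem hwx)).1
      have hyw : y ≠ w := (hne (hnotmem hwy)).1
      have hU : ∀ a b, a ∈ [x, y, w] → b ∈ [x, y, w, v] → z a ≠ b ∧ z (z a) ≠ b := by
        intro a b ha hb
        by_cases hab : a = b
        · subst hab
          exact ⟨hzf a, fun e => hzf a (by conv_lhs => rw [← e, hz2])⟩
        have : a ∉ orb b := by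
          simp only [List.mem_cons, List.not_mem_nil, or_false] at ha hb
          rcases ha with rfl | rfl | rfl <;> rcases hb with rfl | rfl | rfl | rfl <;>
            first
              | exact absurd rfl hab
              | assumption
              | exact hnotmem ‹_›
        exact (hne this).2
      obtain ⟨g, hgz, hga, e1, e2⟩ := exists_rotate hz2 hzf hxy hxw hyw hU (by
        simp only [List.mem_cons, List.not_mem_nil, or_false, not_or]
        exact ⟨(hne hvx).1, (hne (hnotmem hyv)).1, (hne (hnotmem hwv)).1⟩)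
      have hC' : ¬ alternatingGroup (Fin n) ≤ C := by
        intro hle
        have h1 := Subgroup.mem_centralizer_singleton_iff.mp
          (hle (H63.cyc_mem_alternating hxy hxw hyw))
        have h2 := congrArg (fun g : Perm (Fin n) => g x) h1
        simp only [Perm.mul_apply, cyc_apply_first hxy hxw] at h2
        rw [cyc_apply_of_ne (hzf x) (hU x y (by simp) (by simp)).1
          (hU x w (by simp) (by simp)).1] at h2
        exact hxy (z.injective h2)
      have hM := hover C hSC hC' ⟨Subgroup.mem_centralizer_singleton_iff.mpr hgz.symm, hga⟩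
      have := rel_map hM hr
      rwa [e1, e2] at this
    refine hMA (alt_le_of_rel fun p q => ?_)
    -- everything is related to v
    have hall : ∀ y, Rel Mm y v := by
      intro y
      obtain ⟨u, hu⟩ : ∃ u, u ∉ orb x ∪ orb v := by
        by_contra h'
        push Not at h'
        have h1 := Finset.card_le_card (fun a _ => h' a : Finset.univ ⊆ orb x ∪ orb v)
        have h3 := Finset.card_union_le (orb x) (orb v)
        have := horb3 x; have := horb3 v
        simp only [Finset.card_univ, Fintype.card_fin] at h1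
        omega
      simp only [Finset.mem_union, not_or] at hu
      have hru : Rel Mm u v := hmove hvx hrel hu.2 hu.1
      by_cases hyv : y ∈ orb v
      · have hyx : y ∉ orb x := fun h' => hvx ((horb h').symm.trans (horb hyv) ▸ by simp [orb])
        have hyu : y ∉ orb u := fun h' => hu.2 ((horb hyv).symm.trans (horb h') ▸ by simp [orb])
        exact rel_trans (hmove (hnotmem hu.1) (rel_trans hru (rel_symm hrel)) hyx hyu) hrel
      by_cases hyx : y ∈ orb x
      · exact hmove (hnotmem hu.2) hru hyv fun h' =>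
          hu.1 ((horb hyx).symm.trans (horb h') ▸ by simp [orb])
      exact hmove hvx hrel hyv hyx
    exact rel_trans (hall p) (rel_symm (hall q))
  · -- one fixed point
    rw [h, Finset.card_eq_one] at hcard
    obtain ⟨a, ha⟩ := hcard
    have haF : a ∈ F := by simp [ha]
    obtain ⟨x, hx⟩ : ∃ x : Fin n, x ≠ a := by
      by_contra h'
      push Not at h'
      have h2 := h' ⟨0, by omega⟩
      rw [← h' ⟨1, by omega⟩] at h2
      simp [Fin.ext_iff] at h2
    set O : Finset (Fin n) :=
      Finset.univ.filter fun y => ∃ s ∈ (S : Subgroup (Perm (Fin n))), s x = y with hO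
    have horbit : ∃ k, O.card = 3 ^ k := by
      obtain ⟨k, hk⟩ := S.isPGroup'.card_orbit x
      refine ⟨k, hk ▸ ?_⟩
      rw [Nat.card_coe_set_eq, ← Set.ncard_coe_finset]
      congr 1
      ext y
      simp [hO, MulAction.mem_orbit_iff, Subgroup.smul_def]
    obtain ⟨k, hk⟩ := horbit
    have haO : a ∉ O := by
      intro h'
      obtain ⟨s, hs, hsx⟩ := (Finset.mem_filter.mp h').2
      refine hx (s.injective ?_)
      rw [hsx, (Finset.mem_filter.mp haF).2 s hs]
    have hxO : x ∈ O := Finset.mem_filter.mpr ⟨Finset.mem_univ x, 1, one_mem _, rfl⟩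
    by_cases hfull : ∀ y, y ≠ a → y ∈ O
    · have h1 : O = Finset.univ.erase a := by
        ext y
        simp only [Finset.mem_erase, Finset.mem_univ, and_true]
        exact ⟨fun hy e => haO (e ▸ hy), hfull y⟩
      rw [h1, Finset.card_erase_of_mem (Finset.mem_univ a), Finset.card_univ, Fintype.card_fin] at hk
      refine .inr (.inr ⟨k, ?_, by omega⟩)
      by_contra hk2
      interval_cases k <;> omega
    · exfalso
      push Not at hfull
      obtain ⟨y, hya, hyO⟩ := hfull
      obtain ⟨y', hy', hy'y⟩ : ∃ y', y' ∉ O ∧ y' ≠ y ∧ y' ≠ a := by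
        have : y ∉ F := by simp [ha, hya]
        simp only [hF, Finset.mem_filter, Finset.mem_univ, true_and, not_forall] at this
        obtain ⟨s, hs, hsy⟩ := this
        refine ⟨s y, fun h' => hyO ?_, hsy, fun h' => ?_⟩
        · obtain ⟨t, ht, htx⟩ := (Finset.mem_filter.mp h').2
          exact Finset.mem_filter.mpr ⟨Finset.mem_univ y, s⁻¹ * t, mul_mem (inv_mem hs) ht,
            by simp [htx]⟩
        · refine hya (s.injective ?_)
          rw [h', (Finset.mem_filter.mp haF).2 s hs]
      let K : Subgroup (Perm (Fin n)) :=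
        { carrier := {g | ∀ v, g v ∈ O ↔ v ∈ O}
          one_mem' := fun v => Iff.rfl
          mul_mem' := fun {g g'} hg hg' v => (hg (g' v)).trans (hg' v)
          inv_mem' := fun {g} hg v => by rw [← hg]; simp }
      have hK : (S : Subgroup (Perm (Fin n))) ≤ K := by
        intro s hs v
        simp only [hO, Finset.mem_filter, Finset.mem_univ, true_and]
        exact ⟨fun ⟨t, ht, e⟩ => ⟨s⁻¹ * t, mul_mem (inv_mem hs) ht, by simp [e]⟩,
          fun ⟨t, ht, e⟩ => ⟨s * t, mul_mem hs ht, by simp [e]⟩⟩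
      have hxy : x ≠ y := fun e => hyO (e ▸ hxO)
      have hK' : ¬ alternatingGroup (Fin n) ≤ K := by
        intro hle
        have h1 := (hle (H63.cyc_mem_alternating hxy hx hya) x).mpr hxO
        rw [cyc_apply_first hxy hx] at h1
        exact hyO h1
      have hmem : cyc a y y' ∈ K := by
        intro v
        by_cases h1 : v = a
        · rw [h1, cyc_apply_first hya.symm hy'y.2.symm]; exact iff_of_false hyO haO
        by_cases h2 : v = y
        · rw [h2, cyc_apply_second hy'y.2.symm hy'y.1.symm]; exact iff_of_false hy' hyO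
        by_cases h3 : v = y'
        · rw [h3, cyc_apply_third]; exact iff_of_false haO hy'
        rw [cyc_apply_of_ne h1 h2 h3]
      have hay := (cycmem hK hK' hya.symm hy'y.2.symm hy'y.1.symm hmem).1
      refine hMA (alt_le_of_rel fun p q => ?_)
      have hall : ∀ v, Rel Mm v y := fun v => by
        by_cases hv : v = a
        · exact hv ▸ hay
        · exact hpoint a haF v y hv hya
      exact rel_trans (hall p) (rel_symm (hall q))
  · -- two fixed points
    exfalso
    rw [h, Finset.card_eq_two] at hcard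
    obtain ⟨a, b, hab, hab'⟩ := hcard
    obtain ⟨x, hx⟩ : ∃ x, x ∉ ({a, b} : Finset (Fin n)) := by
      by_contra h'
      push Not at h'
      have := (Finset.card_le_card (fun v _ => h' v : Finset.univ ⊆ ({a, b} : Finset (Fin n)))).trans
        Finset.card_le_two
      simp at this
      omega
    simp only [Finset.mem_insert, Finset.mem_singleton, not_or] at hx
    refine hMA (alt_le_of_rel fun p q => ?_)
    have hall : ∀ v, Rel Mm v x := fun v => by
      by_cases hv : v = a
      · exact hv ▸ hpoint b (by simp [hab']) a x hab hx.2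
      · exact hpoint a (by simp [hab']) v x hv hx.1
    exact rel_trans (hall p) (rel_symm (hall q))

/-- The degrees in which an alternating group is 3-minimal. -/
theorem degree_of_isPMinimal {X : Type*} [Group X] [Finite X] (hX : Cfsg.IsPMinimal 3 X)
    (hn : 5 ≤ n) (φ : ↥(alternatingGroup (Fin n)) ≃* X) :
    n = 6 ∨ n = 9 ∨ ∃ a : ℕ, 2 ≤ a ∧ n = 3 ^ a + 1 := by
  haveI : Fact (Nat.Prime 3) := ⟨by norm_num⟩
  let S : Sylow 3 (Perm (Fin n)) := default
  have hSA := sylow_le_alternating S
  let T : Sylow 3 X := (S.subtype hSA).mapSurjective (f := φ.toMonoidHom) φ.surjective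
  obtain ⟨-, M, ⟨hM, hTM⟩, huniq⟩ := hX T
  refine degree_of_over hn S ((M.comap φ.toMonoidHom).map (alternatingGroup (Fin n)).subtype)
    (fun hle => hM.1 (top_le_iff.mp fun x _ => ?_)) fun K hSK hK => ?_
  · obtain ⟨a, rfl⟩ := φ.surjective x
    obtain ⟨b, hb, hba⟩ := hle a.2
    rw [Subtype.ext hba] at hb
    exact hb
  · set KX := (K.subgroupOf (alternatingGroup (Fin n))).map φ.toMonoidHom with hKX
    have hne : KX ≠ ⊤ := by
      intro htop
      refine hK fun a ha => ?_
      have h1 : φ ⟨a, ha⟩ ∈ KX := htop ▸ Subgroup.mem_top _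
      obtain ⟨b, hb, hba⟩ := h1
      rw [φ.injective hba] at hb
      exact hb
    obtain ⟨M', hM', hle⟩ := (eq_top_or_exists_le_coatom KX).resolve_left hne
    have hTK : (T : Subgroup X) ≤ KX := by
      show ((S.subtype hSA : Subgroup ↥(alternatingGroup (Fin n)))).map φ.toMonoidHom ≤ KX
      exact Subgroup.map_mono fun a ha => hSK ha
    rw [huniq M' ⟨hM', hTK.trans hle⟩] at hle
    intro a ha
    exact ⟨⟨a, ha.2⟩, hle ⟨⟨a, ha.2⟩, ha.1, rfl⟩, rfl⟩

end degree

end H77.ThreeMin
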