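import Cfsg.Agent.H77.Tiny
import Mathlib.GroupTheory.Nilpotent

/-! Tiny elements of a 3-group commute; transvections against tiny elements. -/

set_option autoImplicit false

namespace H77

variable {X V : Type*} [Group X] [CommGroup V] [MulDistribMulAction X V]

omit [CommGroup V] [MulDistribMulAction X V] in
theorem zpowers_eq_of_mem {x y : X} (hx : orderOf x = 3) (hy : orderOf y = 3) (h : y ∈ Subgroup.zpowers x) :
    Subgroup.zpowers y = Subgroup.zpowers x := by
  haveI : Finite ↥(Subgroup.zpowers x) := Nat.finite_of_card_ne_zero (by rw [Nat.card_zpowers, hx]; norm_num)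
  exact Subgroup.eq_of_le_of_card_ge (Subgroup.zpowers_le.2 h) (by rw [Nat.card_zpowers, Nat.card_zpowers, hx, hy])

omit [CommGroup V] [MulDistribMulAction X V] in
theorem eq_or_eq_inv_of_mem_zpowers {x y : X} (hx : orderOf x = 3) (hy : y ∈ Subgroup.zpowers x) (hy1 : y ≠ 1) :
    y = x ∨ y = x⁻¹ := by
  obtain ⟨i, rfl⟩ := Subgroup.mem_zpowers_iff.1 hy
  have h := zpow_mod_orderOf x i
  rw [hx] at h
  rw [← h] at hy1 ⊢
  have h1 : i % (3 : ℕ) = 0 ∨ i % (3 : ℕ) = 1 ∨ i % (3 : ℕ) = 2 := by omega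
  rcases h1 with h1 | h1 | h1 <;> rw [h1] at hy1 ⊢
  · simp at hy1
  · left; simp
  · right
    have h3 : x ^ 3 = 1 := hx ▸ pow_orderOf_eq_one x
    rw [show (2 : ℤ) = ((2 : ℕ) : ℤ) by rfl, zpow_natCast]
    exact eq_inv_of_mul_eq_one_left (by rw [← pow_succ, h3])

theorem IsTiny.odd {x : X} (h : IsTiny V x) : Odd (orderOf x) := by rw [h.1]; decide

theorem disp_conj_range_card [Finite V] (g x : X) :
    Nat.card ↥(disp (g * x * g⁻¹) : V →* V).range = Nat.card ↥(disp x : V →* V).range :=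
  (Nat.card_congr
    { toFun := fun v : ↥(disp x : V →* V).range => (⟨g • (v : V), smul_disp_range g x v.2⟩ : ↥(disp (g * x * g⁻¹) : V →* V).range)
      invFun := fun v => ⟨g⁻¹ • (v : V), by
        have := smul_disp_range g⁻¹ (g * x * g⁻¹) v.2
        rwa [inv_inv, show g⁻¹ * (g * x * g⁻¹) * g = x by group] at this⟩
      left_inv := fun v => Subtype.ext (inv_smul_smul g (v : V))
      right_inv := fun v => Subtype.ext (smul_inv_smul g (v : V)) }).symm

theorem IsTiny.conj [Finite V] {x : X} (h : IsTiny V x) (g : X) : IsTiny V (g * x * g⁻¹) :=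
  ⟨by rw [← h.1]; exact orderOf_injective (MulAut.conj g).toMonoidHom (MulAut.conj g).injective x,
    by rw [disp_conj_range_card, h.2]⟩

theorem IsTransv.conj [Finite V] {a : X} (h : IsTransv V a) (g : X) : IsTransv V (g * a * g⁻¹) :=
  ⟨by rw [show g * a * g⁻¹ * (g * a * g⁻¹) = g * (a * a) * g⁻¹ by group, h.1, mul_one, mul_inv_cancel],
    by rw [disp_conj_range_card, h.2]⟩

variable (hV : ∀ v : V, v * v = 1)
include hV

theorem fix_ker_of_commute {x y : X} (hx : Odd (orderOf x)) (hc : Commute x y)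
    (hfix : ∀ v ∈ (disp x : V →* V).range, y • v = v → v = 1) {v : V} (hv : v ∈ (disp y : V →* V).ker) :
    x • v = v := by
  have hy : y • v = v := mem_ker_disp.1 hv
  have hd : disp x v ∈ (disp x : V →* V).range := ⟨v, rfl⟩
  have h1 : y • disp x v = disp x v := by
    rw [smul_disp, ← hc.eq, mul_inv_cancel_right, hy]
  exact mem_ker_disp.1 (hfix _ hd h1)

/-- Commuting tiny elements generating distinct subgroups centralise each other's commutator four-groups. -/
theorem tiny_disjoint [Finite X] [Finite V] [FaithfulSMul X V] {x y : X} (hx : IsTiny V x) (hy : IsTiny V y)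
    (hc : Commute x y) (hne : Subgroup.zpowers x ≠ Subgroup.zpowers y) :
    (∀ v ∈ (disp y : V →* V).range, x • v = v) ∧ (disp x : V →* V).range ⊓ (disp y).range = ⊥ := by
  classical
  set Wx := (disp x : V →* V).range with hWx
  set Wy := (disp y : V →* V).range with hWy
  have hyx : ∀ v ∈ Wx, y • v ∈ Wx := fun v hv => smul_disp_range_of_commute hc.symm hv
  have hxy : ∀ v ∈ Wy, x • v ∈ Wy := fun v hv => smul_disp_range_of_commute hc hv
  have hdisj : Wx ⊓ Wy = ⊥ := by
    rw [eq_bot_iff]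
    intro w hw
    by_contra hw1
    rw [Subgroup.mem_bot] at hw1
    have e1 : Wx ⊓ Wy = Wx := range_irreducible hV hx.odd hx.2 inf_le_left
      (fun u hu => Subgroup.mem_inf.2 ⟨smul_disp_range_of_commute (Commute.refl x) (Subgroup.mem_inf.1 hu).1,
        hxy u (Subgroup.mem_inf.1 hu).2⟩) hw hw1
    have e2 : Wx ⊓ Wy = Wy := range_irreducible hV hy.odd hy.2 inf_le_right
      (fun u hu => Subgroup.mem_inf.2 ⟨hyx u (Subgroup.mem_inf.1 hu).1,
        smul_disp_range_of_commute (Commute.refl y) (Subgroup.mem_inf.1 hu).2⟩) hw hw1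
    have hWeq : Wx = Wy := e1.symm.trans e2
    obtain ⟨hwx, hwy⟩ := Subgroup.mem_inf.1 hw
    -- on the common four-group `y` is a power of `x`
    obtain ⟨z, hz, hzw⟩ : ∃ z ∈ Subgroup.zpowers x, (z * y) • w = w := by
      obtain ⟨d1, d2, d3⟩ := orbit_distinct hV hx.odd hwx hw1
      have hxw : x • w ≠ 1 := fun h => hw1 (smul_left_cancel x (h.trans (smul_one x).symm))
      have hxxw : x • x • w ≠ 1 := fun h => hxw (smul_left_cancel x (h.trans (smul_one x).symm))
      have hmem : ∀ u ∈ Wx, x • u ∈ Wx := fun u hu => smul_disp_range_of_commute (Commute.refl x) hu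
      have hset : ({1, w, x • w, x • x • w} : Set V) = (Wx : Set V) := by
        refine Set.eq_of_subset_of_ncard_le ?_ ?_ (Set.toFinite _)
        · rintro v (rfl | rfl | rfl | rfl)
          · exact Subgroup.one_mem _
          · exact hwx
          · exact hmem w hwx
          · exact hmem _ (hmem w hwx)
        · rw [← Nat.card_coe_set_eq, SetLike.coe_sort_coe, hx.2]
          exact le_of_eq (Set.ncard_eq_four.2 ⟨1, w, x • w, x • x • w, Ne.symm hw1, Ne.symm hxw, Ne.symm hxxw,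
            Ne.symm d1, Ne.symm d2, Ne.symm d3, rfl⟩).symm
      have hyw : y • w ∈ ({1, w, x • w, x • x • w} : Set V) := hset ▸ hyx w hwx
      have hcube : x ^ 3 = 1 := hx.1 ▸ pow_orderOf_eq_one x
      rcases hyw with h | h | h | h
      · exact absurd (smul_left_cancel y (h.trans (smul_one y).symm)) hw1
      · exact ⟨1, one_mem _, by rw [one_mul]; exact h⟩
      · refine ⟨x⁻¹, inv_mem (Subgroup.mem_zpowers x), ?_⟩
        rw [← smul_smul, h, inv_smul_smul]
      · refine ⟨x, Subgroup.mem_zpowers x, ?_⟩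
        rw [← smul_smul, h, smul_smul, smul_smul, show x * x * x = x ^ 3 by rw [pow_succ, sq], hcube, one_smul]
    set g := z * y with hg
    have hzc : Commute z x := by
      obtain ⟨i, rfl⟩ := Subgroup.mem_zpowers_iff.1 hz; exact Commute.zpow_self x i
    have hgx : Commute g x := hzc.mul_left hc.symm
    have hgfix : ∀ v ∈ Wx, g • v = v := by
      intro v hv
      have he : Wx ⊓ (disp g : V →* V).ker = Wx := range_irreducible hV hx.odd hx.2 inf_le_left (fun u hu =>
        Subgroup.mem_inf.2 ⟨smul_disp_range_of_commute (Commute.refl x) (Subgroup.mem_inf.1 hu).1,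
          mem_ker_disp.2 (by rw [smul_smul, hgx.eq, ← smul_smul, mem_ker_disp.1 (Subgroup.mem_inf.1 hu).2])⟩)
        (Subgroup.mem_inf.2 ⟨hwx, mem_ker_disp.2 hzw⟩) hw1
      rw [← he] at hv
      exact mem_ker_disp.1 (Subgroup.mem_inf.1 hv).2
    have hkx : ∀ v ∈ (disp x : V →* V).ker, y • v = v := fun v hv =>
      fix_ker_of_commute hV hy.odd hc.symm (fun u hu hfix => range_disp_fix_eq_one hV hx.odd (x := x) (by
        show u ∈ Wx
        rw [hWeq]; exact hu) hfix) hv
    have hg1 : g = 1 := eq_one_of_fix_range_ker hV hx.odd hgfix fun v hv => by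
      obtain ⟨i, rfl⟩ := Subgroup.mem_zpowers_iff.1 hz
      rw [hg, ← smul_smul, hkx v hv]
      have hst : x ∈ MulAction.stabilizer X v := mem_ker_disp.1 hv
      exact MulAction.mem_stabilizer_iff.1 (zpow_mem hst i)
    have hmem' : y ∈ Subgroup.zpowers x := by
      rw [eq_inv_of_mul_eq_one_right hg1]; exact inv_mem hz
    exact hne (zpowers_eq_of_mem hx.1 hy.1 hmem').symm
  refine ⟨fun v hv => ?_, hdisj⟩
  have hmem : disp x v ∈ Wx ⊓ Wy :=
    Subgroup.mem_inf.2 ⟨⟨v, rfl⟩, Wy.mul_mem (hxy v hv) (Wy.inv_mem hv)⟩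
  rw [hdisj, Subgroup.mem_bot] at hmem
  exact mem_ker_disp.1 hmem

theorem card_sup_of_disjoint [Finite V] {A B : Subgroup V} (h : A ⊓ B = ⊥) :
    Nat.card ↥A * Nat.card ↥B ≤ Nat.card ↥(A ⊔ B) := by
  rw [← Nat.card_prod]
  refine Nat.card_le_card_of_injective (fun z : ↥A × ↥B => (⟨(z.1 : V) * (z.2 : V),
    mul_mem (Subgroup.mem_sup_left z.1.2) (Subgroup.mem_sup_right z.2.2)⟩ : ↥(A ⊔ B))) ?_
  intro u w he
  have he : (u.1 : V) * (u.2 : V) = (w.1 : V) * (w.2 : V) := congrArg Subtype.val he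
  have h1 : (w.1 : V)⁻¹ * (u.1 : V) = (w.2 : V) * (u.2 : V)⁻¹ := by
    rw [eq_mul_inv_iff_mul_eq, mul_assoc, inv_mul_eq_iff_eq_mul]; exact he
  have h2 : (w.1 : V)⁻¹ * (u.1 : V) ∈ A ⊓ B :=
    Subgroup.mem_inf.2 ⟨mul_mem (inv_mem w.1.2) u.1.2, h1 ▸ mul_mem w.2.2 (inv_mem u.2.2)⟩
  rw [h, Subgroup.mem_bot] at h2
  refine Prod.ext (Subtype.ext (inv_mul_eq_one.1 h2).symm) (Subtype.ext ?_)
  rw [h2] at h1
  exact (mul_inv_eq_one.1 h1.symm).symm

/-- Tiny elements of a 3-group commute. -/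
theorem tiny_commute [Finite X] [Finite V] [FaithfulSMul X V] : ∀ (Q : Subgroup X), IsPGroup 3 ↥Q →
    ∀ x y : X, x ∈ Q → y ∈ Q → IsTiny V x → IsTiny V y → Commute x y := by
  haveI : Fact (Nat.Prime 3) := ⟨Nat.prime_three⟩
  intro Q
  induction Q using (Finite.to_wellFoundedLT (α := Subgroup X)).induction with
  | _ Q IH => ?_
  intro hQ x y hxQ hyQ hx hy
  by_cases hnorm : y * x * y⁻¹ ∈ Subgroup.zpowers x
  · -- an element of order 3 normalising a subgroup of order 3 centralises it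
    rcases eq_or_eq_inv_of_mem_zpowers hx.1 hnorm (fun h => by
      rw [mul_inv_eq_one, mul_eq_left] at h
      exact absurd hx.1 (by rw [h, orderOf_one]; norm_num)) with h | h
    · exact (mul_inv_eq_iff_eq_mul.1 h).symm
    · exfalso
      have h2 : y * x⁻¹ * y⁻¹ = x := by rw [← conj_inv, h, inv_inv]
      have h3 : (y * y * y) * x * (y * y * y)⁻¹ = x⁻¹ := by
        calc (y * y * y) * x * (y * y * y)⁻¹ = y * (y * (y * x * y⁻¹) * y⁻¹) * y⁻¹ := by group
          _ = x⁻¹ := by rw [h, h2, h]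
      rw [show y * y * y = 1 by rw [← sq, ← pow_succ]; exact orderOf_dvd_iff_pow_eq_one.1 (dvd_of_eq hy.1), one_mul, inv_one, mul_one] at h3
      have h4 : orderOf x ∣ 2 := orderOf_dvd_of_pow_eq_one (by rw [sq]; nth_rw 2 [h3]; exact mul_inv_cancel x)
      rw [hx.1] at h4; norm_num at h4
  exfalso
  set Q' := Subgroup.zpowers x ⊔ Subgroup.zpowers y with hQ'
  have hQ'Q : Q' ≤ Q := sup_le (Subgroup.zpowers_le.2 hxQ) (Subgroup.zpowers_le.2 hyQ)
  have hxQ' : x ∈ Q' := Subgroup.mem_sup_left (Subgroup.mem_zpowers x)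
  have hyQ' : y ∈ Q' := Subgroup.mem_sup_right (Subgroup.mem_zpowers y)
  have hlt : (Subgroup.zpowers x).subgroupOf Q' ≠ ⊤ := by
    intro h
    apply hnorm
    have hy' := Subgroup.subgroupOf_eq_top.1 h hyQ'
    exact mul_mem (mul_mem hy' (Subgroup.mem_zpowers x)) (inv_mem hy')
  obtain ⟨M, hM, hxM⟩ := (IsCoatomic.eq_top_or_exists_le_coatom _).resolve_left hlt
  haveI := (hQ.to_le hQ'Q).isNilpotent
  haveI : M.Normal := Subgroup.NormalizerCondition.normal_of_coatom M Group.normalizerCondition_of_isNilpotent hM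
  have hlt' : M.map Q'.subtype < Q := by
    refine lt_of_lt_of_le (lt_of_le_of_ne (Subgroup.map_subtype_le _) fun h => hM.1 ?_) hQ'Q
    apply Subgroup.map_injective Q'.subtype_injective
    rw [h, ← MonoidHom.range_eq_map, Subgroup.range_subtype]
  have hxM' : (⟨x, hxQ'⟩ : ↥Q') ∈ M := hxM (Subgroup.mem_subgroupOf.2 (Subgroup.mem_zpowers x))
  have hconjM : ∀ g ∈ Q', g * x * g⁻¹ ∈ M.map Q'.subtype := fun g hg =>
    ⟨⟨g, hg⟩ * ⟨x, hxQ'⟩ * ⟨g, hg⟩⁻¹, ‹M.Normal›.conj_mem _ hxM' _, rfl⟩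
  have hcomm : ∀ g ∈ Q', ∀ g' ∈ Q', Commute (g * x * g⁻¹) (g' * x * g'⁻¹) := fun g hg g' hg' =>
    IH _ hlt' (hQ.to_le hlt'.le) _ _ (hconjM g hg) (hconjM g' hg') (hx.conj g) (hx.conj g')
  set x1 := y * x * y⁻¹ with hx1
  set x2 := y * x1 * y⁻¹ with hx2
  have t1 : IsTiny V x1 := hx.conj y
  have t2 : IsTiny V x2 := t1.conj y
  have c01 : Commute x x1 := by
    have := hcomm 1 (one_mem _) y hyQ'; simpa using this
  have c02 : Commute x x2 := by
    have := hcomm 1 (one_mem _) (y * y) (mul_mem hyQ' hyQ'); simpa [hx2, hx1, mul_assoc] using this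
  have c12 : Commute x1 x2 := by
    have := hcomm y hyQ' (y * y) (mul_mem hyQ' hyQ'); simpa [hx2, hx1, mul_assoc] using this
  have hy3 : y * y * y = 1 := by rw [← sq, ← pow_succ]; exact orderOf_dvd_iff_pow_eq_one.1 (dvd_of_eq hy.1)
  have n01 : Subgroup.zpowers x ≠ Subgroup.zpowers x1 := fun h => hnorm (h ▸ Subgroup.mem_zpowers x1)
  have n02 : Subgroup.zpowers x ≠ Subgroup.zpowers x2 := by
    intro h
    have h1 : x2 ∈ Subgroup.zpowers x := h ▸ Subgroup.mem_zpowers x2
    obtain ⟨i, hi⟩ := Subgroup.mem_zpowers_iff.1 h1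
    apply hnorm
    have h2 : x1 ^ i = x := by
      rw [hx1, conj_zpow, hi, hx2, hx1]
      calc y * (y * (y * x * y⁻¹) * y⁻¹) * y⁻¹ = (y * y * y) * x * (y * y * y)⁻¹ := by group
        _ = x := by rw [hy3]; group
    have h5 : x ∈ Subgroup.zpowers x1 := h2 ▸ Subgroup.zpow_mem _ (Subgroup.mem_zpowers x1) i
    rw [zpowers_eq_of_mem t1.1 hx.1 h5]
    exact Subgroup.mem_zpowers x1
  have n12 : Subgroup.zpowers x1 ≠ Subgroup.zpowers x2 := by
    intro h
    obtain ⟨i, hi⟩ := Subgroup.mem_zpowers_iff.1 (h ▸ Subgroup.mem_zpowers x2 : x2 ∈ Subgroup.zpowers x1)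
    apply hnorm
    have h2 : y * x ^ i * y⁻¹ = y * x1 * y⁻¹ := by rw [← conj_zpow]; exact hi
    rw [mul_left_inj, mul_right_inj] at h2
    exact h2 ▸ Subgroup.zpow_mem _ (Subgroup.mem_zpowers x) i
  set W0 := (disp x : V →* V).range with hW0
  set W1 := (disp x1 : V →* V).range with hW1
  set W2 := (disp x2 : V →* V).range with hW2
  set Wy := (disp y : V →* V).range with hWy
  have hd01 := tiny_disjoint hV hx t1 c01 n01
  have h012 : (W0 ⊔ W1) ⊓ W2 = ⊥ := by
    rw [eq_bot_iff]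
    intro v hv
    obtain ⟨hv1, hv2⟩ := Subgroup.mem_inf.1 hv
    have hle : W0 ⊔ W1 ≤ (disp x2 : V →* V).ker := sup_le
      (fun u hu => mem_ker_disp.2 ((tiny_disjoint hV t2 hx c02.symm (Ne.symm n02)).1 u hu))
      (fun u hu => mem_ker_disp.2 ((tiny_disjoint hV t2 t1 c12.symm (Ne.symm n12)).1 u hu))
    exact Subgroup.mem_bot.2 (range_disp_fix_eq_one hV t2.odd hv2 (mem_ker_disp.1 (hle hv1)))
  have hy1 : ∀ u ∈ W0 ⊔ Wy, y • u ∈ W0 ⊔ Wy := by
    intro u hu
    rw [smul_eq_disp_mul]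
    exact mul_mem (Subgroup.mem_sup_right ⟨u, rfl⟩) hu
  have hW1le : W1 ≤ W0 ⊔ Wy := by
    intro v hv
    have h1 : y⁻¹ • v ∈ W0 := by
      have := smul_disp_range y⁻¹ x1 hv
      rwa [inv_inv, show y⁻¹ * x1 * y = x by rw [hx1]; group] at this
    have := hy1 _ (Subgroup.mem_sup_left h1)
    rwa [smul_inv_smul] at this
  have hW2le : W2 ≤ W0 ⊔ Wy := by
    intro v hv
    have h1 : y⁻¹ • v ∈ W1 := by
      have := smul_disp_range y⁻¹ x2 hv
      rwa [inv_inv, show y⁻¹ * x2 * y = x1 by rw [hx2]; group] at this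
    have := hy1 _ (hW1le h1)
    rwa [smul_inv_smul] at this
  have hbig : 64 ≤ Nat.card ↥(W0 ⊔ W1 ⊔ W2) := by
    refine le_trans ?_ (card_sup_of_disjoint hV h012)
    rw [show Nat.card ↥W2 = 4 from t2.2]
    have h5 : 16 ≤ Nat.card ↥(W0 ⊔ W1) := by
      refine le_trans ?_ (card_sup_of_disjoint hV hd01.2)
      rw [hx.2, t1.2]
    exact le_trans (by norm_num) (Nat.mul_le_mul_right 4 h5)
  have hsmall : Nat.card ↥(W0 ⊔ Wy) ≤ 16 := by
    have h : Nat.card ↥(W0 ⊔ Wy) ≤ Nat.card (↥W0 × ↥Wy) := by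
      refine Nat.card_le_card_of_surjective (fun z => ⟨(z.1 : V) * (z.2 : V),
        mul_mem (Subgroup.mem_sup_left z.1.2) (Subgroup.mem_sup_right z.2.2)⟩) ?_
      rintro ⟨v, hv⟩
      obtain ⟨a, ha, b, hb, rfl⟩ := Subgroup.mem_sup.1 hv
      exact ⟨⟨⟨a, ha⟩, ⟨b, hb⟩⟩, rfl⟩
    rwa [Nat.card_prod, hx.2, hy.2] at h
  have hle := Nat.le_of_dvd Nat.card_pos (Subgroup.card_dvd_of_le
    (sup_le (sup_le le_sup_left hW1le) hW2le : W0 ⊔ W1 ⊔ W2 ≤ W0 ⊔ Wy))
  omega

/-- A transvection sends a tiny element to itself or its inverse, if the image commutes with it. -/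
theorem transv_conj_tiny [Finite X] [Finite V] [FaithfulSMul X V] {a x : X} (ha : IsTransv V a) (hx : IsTiny V x)
    (hc : Commute x (a * x * a⁻¹)) : a * x * a⁻¹ = x ∨ a * x * a⁻¹ = x⁻¹ := by
  by_cases hne : Subgroup.zpowers x = Subgroup.zpowers (a * x * a⁻¹)
  · refine eq_or_eq_inv_of_mem_zpowers hx.1 (hne ▸ Subgroup.mem_zpowers _) fun h => ?_
    rw [mul_inv_eq_one, mul_eq_left] at h
    exact absurd hx.1 (by rw [h, orderOf_one]; norm_num)
  exfalso
  have hd := (tiny_disjoint hV hx (hx.conj a) hc hne).2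
  set W := (disp x : V →* V).range
  have hinj : ∀ w ∈ W, disp a w = 1 → w = 1 := by
    intro w hw h
    have h1 : w ∈ W ⊓ (disp (a * x * a⁻¹) : V →* V).range :=
      Subgroup.mem_inf.2 ⟨hw, mem_ker_disp.1 h ▸ smul_disp_range a x hw⟩
    rwa [hd, Subgroup.mem_bot] at h1
  have hle := Nat.card_le_card_of_injective (fun w : ↥W => (⟨disp a (w : V), ⟨_, rfl⟩⟩ : ↥(disp a : V →* V).range))
    (fun u w h => by
      have h1 : disp a ((u : V) * (w : V)⁻¹) = 1 := by
        rw [map_mul, map_inv, show disp a (u : V) = disp a (w : V) from congrArg Subtype.val h, mul_inv_cancel]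
      exact Subtype.ext (mul_inv_eq_one.1 (hinj _ (W.mul_mem u.2 (W.inv_mem w.2)) h1)))
  rw [ha.2, hx.2] at hle
  omega

/-- A transvection inverting a tiny element has its commutator inside that four-group and fixes the centraliser. -/
theorem transv_inverts [Finite V] {a x : X} (ha : IsTransv V a) (hx : IsTiny V x) (hinv : a * x * a⁻¹ = x⁻¹) :
    (disp a : V →* V).range ≤ (disp x : V →* V).range ∧
      ∀ v ∈ (disp x : V →* V).ker, a • v = v := by
  set W := (disp x : V →* V).range with hW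
  have hne : ¬ ∀ w ∈ W, a • w = w := by
    intro h
    obtain ⟨w, hw, hw1⟩ : ∃ w ∈ W, w ≠ 1 := by
      refine (Subgroup.bot_or_exists_ne_one W).resolve_left fun h0 => ?_
      have h2 := hx.2
      rw [← hW, h0, Subgroup.card_bot] at h2
      omega
    have h1 : a • (x • w) = x⁻¹ • w := by
      rw [← hinv, smul_smul]
      conv_rhs => rw [← h w hw]
      rw [smul_smul]; congr 1; group
    rw [h _ (smul_disp_range_of_commute (Commute.refl x) hw)] at h1
    exact (orbit_distinct hV hx.odd hw hw1).2.1 (by rw [h1, smul_inv_smul])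
  push Not at hne
  obtain ⟨w, hw, hwa⟩ := hne
  have hsub : (disp a : V →* V).range ≤ W := by
    have hmem : disp a w ∈ W := W.mul_mem (smul_disp_range_of_inv hinv hw) (W.inv_mem hw)
    have h1 : (disp a : V →* V).range ⊓ W = (disp a : V →* V).range := by
      refine Subgroup.eq_of_le_of_card_ge inf_le_left ?_
      rw [ha.2]
      by_contra h
      have h2 : Nat.card ↥((disp a : V →* V).range ⊓ W) = 1 := by
        have := Nat.card_pos (α := ↥((disp a : V →* V).range ⊓ W)); omega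
      rw [Subgroup.card_eq_one] at h2
      have h3 : disp a w ∈ (disp a : V →* V).range ⊓ W := Subgroup.mem_inf.2 ⟨⟨w, rfl⟩, hmem⟩
      rw [h2, Subgroup.mem_bot] at h3
      exact hwa (mem_ker_disp.1 h3)
    exact h1 ▸ inf_le_right
  refine ⟨hsub, fun v hv => mem_ker_disp.1 (MonoidHom.mem_ker.2 ?_)⟩
  have hker : a • v ∈ (disp x : V →* V).ker := by
    refine mem_ker_disp.2 ?_
    have h1 : x⁻¹ • v = v := by rw [inv_smul_eq_iff]; exact (mem_ker_disp.1 hv).symm
    have h3 : a * x⁻¹ = x * a := mul_inv_eq_iff_eq_mul.1 (by rw [← conj_inv, hinv, inv_inv])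
    calc x • a • v = (a * x⁻¹) • v := by rw [smul_smul, h3]
      _ = a • v := by rw [← smul_smul, h1]
  have h2 : disp a v ∈ W ⊓ (disp x : V →* V).ker :=
    Subgroup.mem_inf.2 ⟨hsub ⟨v, rfl⟩, mul_mem hker (inv_mem hv)⟩
  rwa [range_inf_ker_eq_bot hV hx.odd, Subgroup.mem_bot] at h2

/-- Transvections inverting distinct commuting tiny elements commute. -/
theorem transv_commute [Finite X] [Finite V] [FaithfulSMul X V] {a b x y : X} (ha : IsTransv V a)
    (hb : IsTransv V b) (hx : IsTiny V x) (hy : IsTiny V y) (hax : a * x * a⁻¹ = x⁻¹)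
    (hby : b * y * b⁻¹ = y⁻¹) (hc : Commute x y) (hne : Subgroup.zpowers x ≠ Subgroup.zpowers y) : Commute a b := by
  have h1 := transv_inverts hV ha hx hax
  have h2 := transv_inverts hV hb hy hby
  have e1 : ∀ v : V, a • disp b v = disp b v := fun v => h1.2 _
    (mem_ker_disp.2 ((tiny_disjoint hV hx hy hc hne).1 _ (h2.1 ⟨v, rfl⟩)))
  have e2 : ∀ v : V, b • disp a v = disp a v := fun v => h2.2 _
    (mem_ker_disp.2 ((tiny_disjoint hV hy hx hc.symm (Ne.symm hne)).1 _ (h1.1 ⟨v, rfl⟩)))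
  apply FaithfulSMul.eq_of_smul_eq_smul (α := V)
  intro v
  rw [← smul_smul, ← smul_smul, smul_eq_disp_mul b v, smul_mul', e1, smul_eq_disp_mul a v, smul_mul', e2,
    smul_eq_disp_mul b v, mul_left_comm]

/-- Two transvections inverting the same tiny element differ by a power of it. -/
theorem transv_mul_mem [Finite X] [Finite V] [FaithfulSMul X V] {a b x : X} (ha : IsTransv V a)
    (hb : IsTransv V b) (hx : IsTiny V x) (hax : a * x * a⁻¹ = x⁻¹) (hbx : b * x * b⁻¹ = x⁻¹) :
    a * b ∈ Subgroup.zpowers x := by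
  classical
  set g := a * b with hg
  have hgx : g * x * g⁻¹ = x := by
    calc g * x * g⁻¹ = a * (b * x * b⁻¹) * a⁻¹ := by rw [hg]; group
      _ = x := by rw [hbx, ← conj_inv, hax, inv_inv]
  have hgc : Commute g x := mul_inv_eq_iff_eq_mul.1 hgx
  have hgker : ∀ v ∈ (disp x : V →* V).ker, g • v = v := fun v hv => by
    rw [hg, ← smul_smul, (transv_inverts hV hb hx hbx).2 v hv, (transv_inverts hV ha hx hax).2 v hv]
  obtain ⟨w, hw, hw1⟩ : ∃ w ∈ (disp x : V →* V).range, w ≠ 1 := by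
    refine (Subgroup.bot_or_exists_ne_one (disp x : V →* V).range).resolve_left fun h0 => ?_
    have h2 := hx.2
    rw [h0, Subgroup.card_bot] at h2
    omega
  obtain ⟨d1, d2, d3⟩ := orbit_distinct hV hx.odd hw hw1
  set W := (disp x : V →* V).range with hW
  have hmem : ∀ u ∈ W, x • u ∈ W := fun u hu => smul_disp_range_of_commute (Commute.refl x) hu
  have hxw : x • w ≠ 1 := fun h => hw1 (smul_left_cancel x (h.trans (smul_one x).symm))
  have hxxw : x • x • w ≠ 1 := fun h => hxw (smul_left_cancel x (h.trans (smul_one x).symm))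
  have hset : ({1, w, x • w, x • x • w} : Set V) = (W : Set V) := by
    refine Set.eq_of_subset_of_ncard_le ?_ ?_ (Set.toFinite _)
    · rintro v (rfl | rfl | rfl | rfl)
      · exact Subgroup.one_mem _
      · exact hw
      · exact hmem w hw
      · exact hmem _ (hmem w hw)
    · rw [← Nat.card_coe_set_eq, SetLike.coe_sort_coe, hx.2]
      exact le_of_eq (Set.ncard_eq_four.2 ⟨1, w, x • w, x • x • w, Ne.symm hw1, Ne.symm hxw, Ne.symm hxxw,
        Ne.symm d1, Ne.symm d2, Ne.symm d3, rfl⟩).symm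
  have key : ∀ z ∈ Subgroup.zpowers x, g • w = z • w → g ∈ Subgroup.zpowers x := by
    intro z hz h
    have hzc : Commute z x := by
      obtain ⟨i, rfl⟩ := Subgroup.mem_zpowers_iff.1 hz; exact Commute.zpow_self x i
    have hg' : Commute (z⁻¹ * g) x := hzc.inv_left.mul_left hgc
    have h1 : z⁻¹ * g = 1 := by
      refine eq_one_of_fix_range_ker hV hx.odd (fun v hv => ?_) (fun v hv => ?_)
      · have he : W ⊓ (disp (z⁻¹ * g) : V →* V).ker = W := range_irreducible hV hx.odd hx.2 inf_le_left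
          (fun u hu => Subgroup.mem_inf.2 ⟨hmem u (Subgroup.mem_inf.1 hu).1, mem_ker_disp.2 (by
            rw [smul_smul, hg'.eq, ← smul_smul, mem_ker_disp.1 (Subgroup.mem_inf.1 hu).2])⟩)
          (Subgroup.mem_inf.2 ⟨hw, mem_ker_disp.2 (by rw [← smul_smul, h, inv_smul_smul])⟩) hw1
        have hv' : v ∈ W ⊓ (disp (z⁻¹ * g) : V →* V).ker := by rw [he]; exact hv
        exact mem_ker_disp.1 (Subgroup.mem_inf.1 hv').2
      · rw [← smul_smul, hgker v hv]
        obtain ⟨i, rfl⟩ := Subgroup.mem_zpowers_iff.1 hz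
        have hst : x ∈ MulAction.stabilizer X v := mem_ker_disp.1 hv
        exact MulAction.mem_stabilizer_iff.1 (inv_mem (zpow_mem hst i))
    rw [← inv_mul_eq_one.1 h1]; exact hz
  have hgw : g • w ∈ ({1, w, x • w, x • x • w} : Set V) := hset ▸ smul_disp_range_of_commute hgc hw
  rcases hgw with h | h | h | h
  · exact absurd (smul_left_cancel g (h.trans (smul_one g).symm)) hw1
  · exact key 1 (one_mem _) (by rw [one_smul]; exact h)
  · exact key x (Subgroup.mem_zpowers x) h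
  · exact key (x * x) (mul_mem (Subgroup.mem_zpowers x) (Subgroup.mem_zpowers x))
      ((Set.mem_singleton_iff.1 h).trans (smul_smul x x w))

end H77
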