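import Cfsg.Agent.H77.FunctorChain

/-! Moving chains of Sylow subgroups of `G` to the subgroup `⊤`. -/

set_option autoImplicit false

namespace H77

variable {G : Type*} [Group G] [Finite G] {p : ℕ} [Fact p.Prime]

theorem chain_to_top {𝓕 : Set (Subgroup G)} (a b : Sylow p ↥(⊤ : Subgroup G)) (A B : Sylow p G)
    (hA : (A : Subgroup G) = (a : Subgroup ↥(⊤ : Subgroup G)).map (⊤ : Subgroup G).subtype)
    (hB : (B : Subgroup G) = (b : Subgroup ↥(⊤ : Subgroup G)).map (⊤ : Subgroup G).subtype)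
    (h : Relation.ReflTransGen (ChainStep p 𝓕 ((A : Subgroup G) ⊓ (B : Subgroup G))) A B) :
    Relation.ReflTransGen (ChainStep p ((fun X : Subgroup G => X.subgroupOf ⊤) '' 𝓕)
      ((a : Subgroup ↥(⊤ : Subgroup G)) ⊓ (b : Subgroup ↥(⊤ : Subgroup G)))) a b := by
  have hinj := (⊤ : Subgroup G).subtype_injective
  have ha : a = A.subtype le_top := Sylow.ext (by
    rw [Sylow.coe_subtype, hA, Subgroup.subgroupOf, Subgroup.comap_map_eq_self_of_injective hinj])
  have hb : b = B.subtype le_top := Sylow.ext (by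
    rw [Sylow.coe_subtype, hB, Subgroup.subgroupOf, Subgroup.comap_map_eq_self_of_injective hinj])
  rw [ha, hb]
  refine Relation.ReflTransGen.lift (fun C : Sylow p G => C.subtype (le_top : (C : Subgroup G) ≤ ⊤)) ?_ _ _ h
  rintro c d ⟨X, x, h1, h2, h3, h4, h5⟩
  have hm : ∀ C : Sylow p G, X ∈ Cfsg.sylowMembers p 𝓕 (C : Subgroup G) →
      X.subgroupOf (⊤ : Subgroup G) ∈ Cfsg.sylowMembers p ((fun X : Subgroup G => X.subgroupOf ⊤) '' 𝓕)
        ((C.subtype (le_top : (C : Subgroup G) ≤ ⊤)) : Subgroup ↥(⊤ : Subgroup G)) := by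
    intro C hC
    rw [mem_sylowMembers_iff C.2] at hC
    refine (mem_sylowMembers_iff (C.subtype le_top).2).2 ⟨⟨X, hC.1, rfl⟩, ?_⟩
    rw [Sylow.coe_subtype, ← Subgroup.relIndex_map_map_of_injective _ _ hinj,
      Subgroup.map_inf _ _ _ hinj, Subgroup.map_subgroupOf_eq_of_le le_top,
      Subgroup.map_subgroupOf_eq_of_le le_top]
    exact hC.2
  refine ⟨X.subgroupOf ⊤, ⟨x, Subgroup.mem_top x⟩, hm c h1, hm d h2, h3, ?_, ?_⟩
  · apply Subgroup.map_injective hinj
    rw [Sylow.coe_subtype, Sylow.coe_subtype, Subgroup.map_subgroupOf_eq_of_le le_top, ← h4]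
    conv_rhs => rw [Cfsg.subgroupConjRight, ← Subgroup.map_subgroupOf_eq_of_le (le_top : (d : Subgroup G) ≤ ⊤)]
    rw [Cfsg.subgroupConjRight, Subgroup.map_map, Subgroup.map_map]
    congr 1
  · intro z hz
    rw [Sylow.coe_subtype, Sylow.coe_subtype, Subgroup.mem_inf, Subgroup.mem_subgroupOf,
      Subgroup.mem_subgroupOf] at hz
    have := h5 (Subgroup.mem_inf.2 hz)
    rw [Sylow.coe_subtype]
    exact Subgroup.mem_inf.2 ⟨Subgroup.mem_subgroupOf.2 (Subgroup.mem_inf.1 this).1,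
      Subgroup.mem_subgroupOf.2 (Subgroup.mem_inf.1 this).2⟩

end H77
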