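import Cfsg.Agent.H77.ZFunctor
import Cfsg.Agent.H77.CharP
import Cfsg.Agent.H6.Transfer
import Cfsg.Agent.H30.CyclicNormal
import Cfsg.Agent.H31.Taussky

/-!
Groups `G = O²(G)` with solvable involution centralisers whose Sylow 2-subgroup has a centre of 2-rank
one, the central involution `z` having a 2-closed centraliser: if `z` is not weakly closed then all
cores of involution centralisers lie in `O(C(z))`.
-/

set_option autoImplicit false

namespace H77.ZC

open Cfsg

variable {G : Type*} [Group G] [Finite G]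

/-- The hypotheses on a central involution with 2-closed centraliser. -/
structure BCore (S : Sylow 2 G) (z : G) : Prop where
  sol : ∀ t : G, orderOf t = 2 → Group.IsSolvable ↥(cx t)
  zS : z ∈ (S : Subgroup G)
  z2 : orderOf z = 2
  zc : ∀ s ∈ (S : Subgroup G), s * z = z * s
  cz : cx z ≤ Subgroup.normalizer ((S : Subgroup G) : Set G)

/-- The standing hypotheses. -/
structure BCtx (S : Sylow 2 G) (z : G) : Prop extends BCore S z where
  res : Cfsg.pResidual 2 G = ⊤
  zu : ∀ y ∈ (S : Subgroup G), orderOf y = 2 → (∀ s ∈ (S : Subgroup G), s * y = y * s) → y = z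

namespace BCore

variable {S : Sylow 2 G} {z : G} (h : BCore S z)
include h

omit [Finite G] in
theorem S_le_cx : (S : Subgroup G) ≤ cx z := fun s hs => mem_cx.2 (h.zc s hs)

theorem sylS {L : Subgroup G} (hL : (S : Subgroup G) ≤ L) : Cfsg.IsSylowTwoIn (S : Subgroup G) L := by
  haveI : Fact (Nat.Prime 2) := ⟨Nat.prime_two⟩
  refine ⟨hL, S.2, ?_⟩
  rw [← Nat.not_even_iff_odd, even_iff_two_dvd]
  exact fun h' => S.not_dvd_index (h'.trans (Subgroup.relIndex_dvd_index_of_le hL))

theorem mem_S_of_two_elem {y : G} (hy : y ∈ cx z) (hy2 : ∃ k : ℕ, y ^ 2 ^ k = 1) :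
    y ∈ (S : Subgroup G) :=
  mem_sylTwo_of_normalizes (h.sylS Subgroup.le_normalizer) (h.cz hy) (h.cz hy) hy2

/-- `O(C(z))` centralises `S`. -/
theorem K_centralizes {k s : G} (hk : k ∈ oc z) (hs : s ∈ (S : Subgroup G)) : k * s = s * k := by
  have hkz : k ∈ cx z := oc_le z hk
  have h1 : k * s * k⁻¹ ∈ (S : Subgroup G) := (Subgroup.mem_normalizer_iff.1 (h.cz hkz) s).1 hs
  have h2 : k * s * k⁻¹ * s⁻¹ ∈ (S : Subgroup G) := mul_mem h1 (inv_mem hs)
  have h3 : k * s * k⁻¹ * s⁻¹ ∈ oc z := by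
    have h4 : s * k⁻¹ * s⁻¹ ∈ oc z :=
      (Subgroup.mem_normalizer_iff.1 (cx_le_normalizer_oc z (h.S_le_cx hs)) k⁻¹).1 (inv_mem hk)
    rw [show k * s * k⁻¹ * s⁻¹ = k * (s * k⁻¹ * s⁻¹) by group]
    exact mul_mem hk h4
  have h5 : k * s * k⁻¹ * s⁻¹ = 1 := by
    obtain ⟨i, hi⟩ := pow_two_pow_of_mem S.2 h2
    exact eq_one_of_two_pow_of_odd hi ((oc_odd z).of_dvd_nat (Subgroup.orderOf_dvd_natCard _ h3))
  calc k * s = (k * s * k⁻¹ * s⁻¹) * (s * k) := by group
    _ = s * k := by rw [h5, one_mul]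

/-- Elements carrying `z` into `S` fix `O(C(z))`. -/
theorem cmap_oc {g : G} (hg : g * z * g⁻¹ ∈ (S : Subgroup G)) : cmap g (oc z) = oc z := by
  haveI : Fact (Nat.Prime 2) := ⟨Nat.prime_two⟩
  set z' := g * z * g⁻¹ with hz'
  have hS'C : cmap g (S : Subgroup G) ≤ cx z' := by
    rw [hz', ← cmap_cx]; exact cmap_mono g h.S_le_cx
  have hC' : cx z' ≤ Subgroup.normalizer ((cmap g (S : Subgroup G) : Subgroup G) : Set G) := by
    rw [hz', ← cmap_cx, ← cmap_normalizer]; exact cmap_mono g h.cz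
  have hT : Cfsg.IsSylowTwoIn (cmap g (S : Subgroup G)) (cx z') := by
    have h1 := sylTwo_cmap (h.sylS h.S_le_cx) g
    rwa [cmap_cx] at h1
  have hzz' : z ∈ cx z' := mem_cx.2 (h.zc z' hg).symm
  have hAn : Subgroup.zpowers z ≤
      Subgroup.normalizer ((cmap g (S : Subgroup G) : Subgroup G) : Set G) :=
    Subgroup.zpowers_le.2 (hC' hzz')
  have hle : oc z ≤ oc z' := by
    intro k hk
    have hkz : k * z = z * k := mem_cx.1 (oc_le z hk)
    have hkz' : k ∈ cx z' := mem_cx.2 (h.K_centralizes hk hg)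
    have hodd : Odd (orderOf k) := (oc_odd z).of_dvd_nat (Subgroup.orderOf_dvd_natCard _ hk)
    refine mem_oc_of_centralizes (h.sol z' (orderOf_conj_two g h.z2)) hT hkz' ?_ hodd
    refine thompson_AxB (p := 2) (A := Subgroup.zpowers z) (S.2.map _)
      (IsPGroup.of_card (n := 1) (by rw [Nat.card_zpowers, h.z2, pow_one])) hAn
      (fun hd => Nat.not_even_iff_odd.2 hodd (even_iff_two_dvd.2 hd))
      (fun x hx => (Subgroup.mem_normalizer_iff.1 (hC' hkz') x).1 hx) ?_ ?_
    · intro a ha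
      obtain ⟨i, rfl⟩ := Subgroup.mem_zpowers_iff.1 ha
      exact ((show Commute k z from hkz).zpow_right i).eq
    · intro x hx hxA
      refine h.K_centralizes hk (h.mem_S_of_two_elem (mem_cx.2 ?_) (pow_two_pow_of_mem (S.2.map _) hx))
      exact (hxA z (Subgroup.mem_zpowers z)).symm
  refine (Subgroup.eq_of_le_of_card_ge ?_ (card_cmap g (oc z)).le).symm
  rw [oc_conj]; exact hle

theorem oc_eq_of_conj {g x : G} (hg : g * z * g⁻¹ = x) (hx : x ∈ (S : Subgroup G)) : oc x = oc z := by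
  subst hg
  rw [← oc_conj]
  exact h.cmap_oc hx

end BCore

namespace BCtx

variable {S : Sylow 2 G} {z : G} (h : BCtx S z)
include h

theorem oc_le_of_conj {x x' k : G} (hx : x ∈ (S : Subgroup G)) (hx' : x' ∈ (S : Subgroup G))
    (hk : k * x * k⁻¹ = x') (hle : oc x' ≤ oc z) : oc x ≤ oc z := by
  obtain ⟨g, hg, he⟩ := exists_mem_conj S (U := Subgroup.zpowers z)
    (M := Subgroup.normalizer ((oc z : Subgroup G) : Set G)) (Subgroup.zpowers_le.2 h.zS)
    (fun u hu s hs => by
      obtain ⟨i, rfl⟩ := Subgroup.mem_zpowers_iff.1 hu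
      exact ((show Commute z s from (h.zc s hs).symm).zpow_left i).eq)
    (fun g hg => mem_normalizer_of_cmap_eq
      (h.cmap_oc (hg (conj_mem_cmap (Subgroup.mem_zpowers z))))) hx hx' hk
  rw [← he, ← oc_conj, cmap_le_iff,
    cmap_eq_of_mem_normalizer (inv_mem hg)] at hle
  exact hle

/-- Transfer: it is enough to know the involutions of a subgroup of index 2. -/
theorem oc_le_of_index_two {Q : Subgroup G} (hQS : Q ≤ (S : Subgroup G))
    (hQ : Q.relIndex (S : Subgroup G) = 2) (hQg : ∀ y ∈ Q, orderOf y = 2 → oc y ≤ oc z) {x : G}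
    (hx : x ∈ (S : Subgroup G)) (hx2 : orderOf x = 2) : oc x ≤ oc z := by
  haveI : Fact (Nat.Prime 2) := ⟨Nat.prime_two⟩
  rcases H6.thompson_transfer S Q hQS hQ x hx2 with ⟨M, hMn, hM, -⟩ | ⟨g, hg⟩
  · exact absurd hM (@H6.not_normal_index_of_pResidual_eq_top G _ _ 2 _ h.res M hMn)
  · exact h.oc_le_of_conj hx (hQS hg) rfl (hQg _ hg (orderOf_conj_two g hx2))

/-- A nontrivial normalised subgroup of `S` contains `z`. -/
theorem z_mem_of_normal {D : Subgroup G} (hDS : D ≤ (S : Subgroup G))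
    (hDn : (S : Subgroup G) ≤ Subgroup.normalizer (D : Set G)) (hD : D ≠ ⊥) : z ∈ D := by
  haveI : Fact (Nat.Prime 2) := ⟨Nat.prime_two⟩
  have hn : (D.subgroupOf (S : Subgroup G)).Normal := Subgroup.normal_subgroupOf_of_le_normalizer hDn
  have hne : D.subgroupOf (S : Subgroup G) ≠ ⊥ := by
    rw [Ne, Subgroup.subgroupOf_eq_bot, disjoint_iff, inf_eq_left.2 hDS]
    exact hD
  have hint := H30.inf_center_ne_bot S.2 hn hne
  have hp := S.2.to_subgroup (D.subgroupOf (S : Subgroup G) ⊓ Subgroup.center ↥(S : Subgroup G))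
  haveI := (Subgroup.nontrivial_iff_ne_bot _).2 hint
  obtain ⟨n, hn0, hn1⟩ := hp.nontrivial_iff_card.1 inferInstance
  obtain ⟨⟨y, hyD, hyc⟩, hy2⟩ := exists_prime_orderOf_dvd_card'
    (G := ↥(D.subgroupOf (S : Subgroup G) ⊓ Subgroup.center ↥(S : Subgroup G))) 2
    (hn1 ▸ dvd_pow_self 2 hn0.ne')
  have hy : orderOf (y : G) = 2 := by
    rw [Subgroup.orderOf_coe]; exact (Subgroup.orderOf_mk y (Subgroup.mem_inf.2 ⟨hyD, hyc⟩)).symm.trans hy2
  have := h.zu y y.2 hy
    (fun s hs => congrArg Subtype.val (Subgroup.mem_center_iff.1 hyc ⟨s, hs⟩))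
  rw [← this]
  exact Subgroup.mem_subgroupOf.1 hyD

/-- The case of a cyclic subgroup of index 2. -/
theorem oc_le_of_cyclic {Q : Subgroup G} (hQS : Q ≤ (S : Subgroup G))
    (hQ : Q.relIndex (S : Subgroup G) = 2) {q : G} (hq : Q = Subgroup.zpowers q) {x : G}
    (hx : x ∈ (S : Subgroup G)) (hx2 : orderOf x = 2) : oc x ≤ oc z := by
  refine h.oc_le_of_index_two hQS hQ (fun y hy hy2 => ?_) hx hx2
  have hQn : (S : Subgroup G) ≤ Subgroup.normalizer (Q : Set G) := by
    have hn : (Q.subgroupOf (S : Subgroup G)).Normal := Subgroup.normal_of_index_eq_two hQ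
    exact (Subgroup.normal_subgroupOf_iff_le_normalizer hQS).1 hn
  have hQb : Q ≠ ⊥ := fun hb => by
    rw [hb, Subgroup.mem_bot] at hy
    rw [hy, orderOf_one] at hy2
    omega
  have hzQ := h.z_mem_of_normal hQS hQn hQb
  -- a cyclic group has one involution
  have hcyc : IsCyclic ↥Q := by rw [hq]; infer_instance
  have e : (⟨y, hy⟩ : ↥Q) = ⟨z, hzQ⟩ := by
    classical
    haveI : Fintype ↥Q := Fintype.ofFinite _
    have h4 := IsCyclic.card_pow_eq_one_le (α := ↥Q) (n := 2) two_pos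
    obtain ⟨hy1, hy0⟩ := orderOf_two_iff.1 hy2
    obtain ⟨hz1, hz0⟩ := orderOf_two_iff.1 h.z2
    by_contra hne
    have h5 : ({1, ⟨y, hy⟩, ⟨z, hzQ⟩} : Finset ↥Q) ⊆
        Finset.univ.filter (fun a : ↥Q => a ^ 2 = 1) := by
      intro a ha
      simp only [Finset.mem_insert, Finset.mem_singleton] at ha
      rw [Finset.mem_filter]
      refine ⟨Finset.mem_univ _, ?_⟩
      rcases ha with rfl | rfl | rfl
      · exact one_pow 2
      · exact Subtype.ext (by simp [sq, hy1])
      · exact Subtype.ext (by simp [sq, hz1])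
    have h6 : ({1, ⟨y, hy⟩, ⟨z, hzQ⟩} : Finset ↥Q).card = 3 := by
      rw [Finset.card_eq_three]
      exact ⟨_, _, _, fun e => hy0 (congrArg Subtype.val e).symm,
        fun e => hz0 (congrArg Subtype.val e).symm, hne, rfl⟩
    have h7 := Finset.card_le_card h5
    omega
  rw [show y = z from congrArg Subtype.val e]

/-- A self-centralising four-group forces a cyclic subgroup of index 2. -/
theorem exists_cyclic_of_small {v : G} (hv : v ∈ (S : Subgroup G))
    (hvc : ∃ s ∈ (S : Subgroup G), s * v ≠ v * s)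
    (hP : Nat.card ↥((S : Subgroup G) ⊓ cx v) ≤ 4) :
    ∃ q : G, Subgroup.zpowers q ≤ (S : Subgroup G) ∧
      (Subgroup.zpowers q).relIndex (S : Subgroup G) = 2 := by
  haveI : Fact (Nat.Prime 2) := ⟨Nat.prime_two⟩
  obtain ⟨m, hm⟩ := IsPGroup.iff_card.1 S.2
  set v' : ↥(S : Subgroup G) := ⟨v, hv⟩ with hv'
  set C := Subgroup.centralizer ({v'} : Set ↥(S : Subgroup G)) with hC
  have hCc : Nat.card ↥C ≤ 4 := by
    refine le_trans ?_ hP
    refine Nat.card_le_card_of_injective
      (fun c : ↥C => (⟨((c : ↥(S : Subgroup G)) : G), (c : ↥(S : Subgroup G)).2, mem_cx.2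
        (congrArg Subtype.val (Subgroup.mem_centralizer_singleton_iff.1 c.2))⟩ :
          ↥((S : Subgroup G) ⊓ cx v))) ?_
    intro a b hab
    have h1 := congrArg (fun w : ↥((S : Subgroup G) ⊓ cx v) => (w : G)) hab
    exact Subtype.ext (Subtype.ext h1)
  have hle : C.index ≤ Nat.card ↥(commutator ↥(S : Subgroup G)) := by
    rw [Subgroup.index_eq_card]
    refine Nat.card_le_card_of_injective (fun c : ↥(S : Subgroup G) ⧸ C =>
      (⟨Quotient.out c * v' * (Quotient.out c)⁻¹ * v'⁻¹, by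
        rw [← commutatorElement_def, commutator_def]
        exact Subgroup.commutator_mem_commutator (Subgroup.mem_top _) (Subgroup.mem_top _)⟩ :
        ↥(commutator ↥(S : Subgroup G)))) ?_
    intro a b hab
    have h1 : Quotient.out a * v' * (Quotient.out a)⁻¹ = Quotient.out b * v' * (Quotient.out b)⁻¹ := by
      have h2 := congrArg (fun w : ↥(commutator ↥(S : Subgroup G)) => (w : ↥(S : Subgroup G)) * v') hab
      simpa using h2
    rw [← QuotientGroup.out_eq' a, ← QuotientGroup.out_eq' b, QuotientGroup.eq]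
    refine Subgroup.mem_centralizer_singleton_iff.2 ?_
    set A := Quotient.out a
    set B := Quotient.out b
    calc A⁻¹ * B * v' = A⁻¹ * (B * v' * B⁻¹) * B := by group
      _ = A⁻¹ * (A * v' * A⁻¹) * B := by rw [h1]
      _ = v' * (A⁻¹ * B) := by group
  have hmul := Subgroup.card_mul_index C
  have hmul2 := Subgroup.card_mul_index (commutator ↥(S : Subgroup G))
  have hle4 : (commutator ↥(S : Subgroup G)).index ≤ 4 := by
    have h1 : Nat.card ↥(commutator ↥(S : Subgroup G)) * (commutator ↥(S : Subgroup G)).index ≤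
        Nat.card ↥(commutator ↥(S : Subgroup G)) * 4 := by
      rw [hmul2, ← hmul, mul_comm _ 4]
      exact Nat.mul_le_mul hCc hle
    exact Nat.le_of_mul_le_mul_left h1 Nat.card_pos
  have hgt : ¬ (commutator ↥(S : Subgroup G)).index ≤ 2 := by
    intro hle2
    obtain ⟨s, hs, hsv⟩ := hvc
    exact hsv (congrArg Subtype.val
      (H31.commutative_of_commutator_index_le_two S.2 hle2 ⟨s, hs⟩ v'))
  obtain ⟨i, hi⟩ := S.2.index (commutator ↥(S : Subgroup G))
  have hi2 : i = 2 := by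
    rcases Nat.lt_or_ge i 2 with h1 | h1
    · have : 2 ^ i ≤ 2 ^ 1 := Nat.pow_le_pow_right two_pos (by omega)
      omega
    · by_contra h2
      have : 2 ^ 3 ≤ 2 ^ i := Nat.pow_le_pow_right two_pos (by omega)
      omega
  rw [hi2, show (2 : ℕ) ^ 2 = 4 by norm_num] at hi
  obtain ⟨n, rfl⟩ : ∃ n, m = n + 2 := by
    refine ⟨m - 2, ?_⟩
    have h1 : 4 ∣ 2 ^ m := by
      rw [← hm, ← hi]; exact Subgroup.index_dvd_card _
    have h2 : 2 ≤ m := by
      rw [show (4 : ℕ) = 2 ^ 2 by norm_num] at h1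
      exact (Nat.pow_dvd_pow_iff_le_right (by norm_num)).1 h1
    omega
  obtain ⟨q, hq⟩ := H31.exists_cyclic_index_two n hm hi
  refine ⟨(q : G), Subgroup.zpowers_le.2 q.2, ?_⟩
  have he : (Subgroup.zpowers (q : G)).subgroupOf (S : Subgroup G) = Subgroup.zpowers q := by
    rw [Subgroup.subgroupOf, show Subgroup.zpowers (q : G) =
      (Subgroup.zpowers q).map (S : Subgroup G).subtype by rw [MonoidHom.map_zpowers]; rfl,
      Subgroup.comap_map_eq_self_of_injective (Subgroup.subtype_injective _)]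
  rw [Subgroup.relIndex, he, hq]

end BCtx

end H77.ZC
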