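import Cfsg.Agent.H77.ZCaseB

/-!
The normal four-group argument: if `z` is not weakly closed, all cores of involution centralisers of
elements of `S` lie in `O(C(z))`.
-/

set_option autoImplicit false

namespace H77.ZC

open Cfsg

variable {G : Type*} [Group G] [Finite G]

/-- The two generated four-groups used below. -/
theorem elem_pair {x y : G} (hx : orderOf x = 2) (hy : orderOf y = 2) (hxy : x * y = y * x) (hne : x ≠ y) :
    Cfsg.IsElementaryAbelian 2 (Subgroup.zpowers x ⊔ Subgroup.zpowers y) ∧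
      4 ≤ Nat.card ↥(Subgroup.zpowers x ⊔ Subgroup.zpowers y) ∧
      ∀ a ∈ Subgroup.zpowers x ⊔ Subgroup.zpowers y, a = 1 ∨ a = x ∨ a = y ∨ a = x * y := by
  obtain ⟨hxx, hx1⟩ := orderOf_two_iff.1 hx
  obtain ⟨hyy, hy1⟩ := orderOf_two_iff.1 hy
  have hX : Cfsg.IsElementaryAbelian 2 (Subgroup.zpowers x) := by
    refine ⟨⟨⟨fun a b => Subtype.ext ?_⟩⟩, fun a ha => ?_⟩
    · obtain ⟨i, hi⟩ := Subgroup.mem_zpowers_iff.1 a.2
      obtain ⟨j, hj⟩ := Subgroup.mem_zpowers_iff.1 b.2
      show (a : G) * (b : G) = (b : G) * (a : G)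
      rw [← hi, ← hj, ← zpow_add, ← zpow_add, add_comm]
    obtain ⟨i, rfl⟩ := Subgroup.mem_zpowers_iff.1 ha
    rw [sq, ← zpow_add, ← two_mul, zpow_mul, zpow_two, hxx, one_zpow]
  have hc : ∀ u ∈ Subgroup.zpowers x, y * u = u * y := by
    intro u hu
    obtain ⟨i, rfl⟩ := Subgroup.mem_zpowers_iff.1 hu
    exact ((show Commute x y from hxy).zpow_left i).symm.eq
  have hpow : ∀ w : G, w * w = 1 → ∀ u ∈ Subgroup.zpowers w, u = 1 ∨ u = w := by
    intro w hw u hu
    obtain ⟨i, rfl⟩ := Subgroup.mem_zpowers_iff.1 hu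
    rcases Int.even_or_odd i with ⟨j, rfl⟩ | ⟨j, rfl⟩
    · left; rw [← two_mul, zpow_mul, zpow_two, hw, one_zpow]
    · right; rw [zpow_add, zpow_mul, zpow_two, hw, one_zpow, one_mul, zpow_one]
  have hyX : y ∉ Subgroup.zpowers x := by
    intro hyX
    rcases hpow x hxx y hyX with e | e
    · exact hy1 e
    · exact hne e.symm
  obtain ⟨hA, hcard⟩ := exists_elem_sup hX hyy hc
  refine ⟨hA, le_trans ?_ (hcard hyX), ?_⟩
  · rw [Nat.card_zpowers, hx]
  · intro a ha
    have hn : Subgroup.zpowers x ≤ Subgroup.normalizer (Subgroup.zpowers y : Set G) := by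
      rw [Subgroup.zpowers_le]
      refine mem_normalizer_of_forall fun u hu => ?_
      rcases hpow y hyy u hu with rfl | rfl
      · rw [mul_one, mul_inv_cancel]; exact one_mem _
      · rw [hxy, mul_inv_cancel_right]; exact hu
    rw [← SetLike.mem_coe, Subgroup.coe_mul_of_left_le_normalizer_right _ _ hn] at ha
    obtain ⟨p, hp, q, hq, rfl⟩ := ha
    rcases hpow x hxx p hp with rfl | rfl <;> rcases hpow y hyy q hq with rfl | rfl <;> simp

namespace BCtx

variable {S : Sylow 2 G} {z : G} (h : BCtx S z)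
include h

/-- A four-subgroup normalised by `S`: the reduction to `O(C(a))`. -/
theorem oc_le_of_oc_a {U : Subgroup G} (hUS : U ≤ (S : Subgroup G))
    (hUn : ∀ s ∈ (S : Subgroup G), ∀ u ∈ U, s * u * s⁻¹ ∈ U)
    (hU : Cfsg.IsElementaryAbelian 2 U) (hU4 : Nat.card ↥U = 4) {a : G} (ha : a ∈ U) (ha1 : a ≠ 1)
    (haz : a ≠ z) (hmem : ∀ u ∈ U, u = 1 ∨ u = z ∨ u = a ∨ u = a * z)
    {s₀ : G} (hs₀ : s₀ ∈ (S : Subgroup G)) (hs₀a : s₀ * a * s₀⁻¹ = a * z)
    (hoa : oc a ≤ oc z) {x : G} (hx : x ∈ (S : Subgroup G)) (hx2 : orderOf x = 2) : oc x ≤ oc z := by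
  obtain ⟨hzz, hz1⟩ := orderOf_two_iff.1 h.z2
  have haS := hUS ha
  have hQ : ((S : Subgroup G) ⊓ cx a).relIndex (S : Subgroup G) = 2 := by
    rw [Subgroup.relIndex_eq_two_iff]
    refine ⟨s₀, hs₀, fun b hb => ?_⟩
    have hcomm : ∀ w ∈ (S : Subgroup G), (w ∈ (S : Subgroup G) ⊓ cx a ↔ w * a * w⁻¹ = a) := by
      intro w hw
      rw [Subgroup.mem_inf, mem_cx, mul_inv_eq_iff_eq_mul]
      exact ⟨fun e => e.2, fun e => ⟨hw, e⟩⟩
    have hb1 : b * s₀ * a * (b * s₀)⁻¹ = b * a * b⁻¹ * z := by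
      calc b * s₀ * a * (b * s₀)⁻¹ = b * (s₀ * a * s₀⁻¹) * b⁻¹ := by group
        _ = b * a * b⁻¹ * (b * z * b⁻¹) := by rw [hs₀a]; group
        _ = b * a * b⁻¹ * z := by rw [h.zc b hb, mul_inv_cancel_right]
    rw [hcomm b hb, hcomm (b * s₀) (mul_mem hb hs₀), hb1]
    rcases hmem _ (hUn b hb a ha) with e | e | e | e
    · exact absurd (by simpa using e) ha1
    · have h2 : a = b⁻¹ * z * b := by rw [← e]; group
      exact absurd (by rw [h2, mul_assoc, ← h.zc b hb, inv_mul_cancel_left]) haz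
    · rw [e]; exact Or.inr ⟨rfl, fun e2 => hz1 (mul_eq_left.1 e2)⟩
    · rw [e]
      exact Or.inl ⟨by rw [mul_assoc, hzz, mul_one], fun e2 => hz1 (mul_eq_left.1 e2)⟩
  have hoaz : oc (a * z) ≤ oc z := by
    rw [← hs₀a, ← oc_conj]
    refine (cmap_mono s₀ hoa).trans (le_of_eq (h.cmap_oc ?_))
    rw [h.zc s₀ hs₀, mul_inv_cancel_right]; exact h.zS
  refine h.oc_le_of_index_two inf_le_left hQ ?_ hx hx2
  intro y hy hy2
  obtain ⟨hyS, hya⟩ := hy
  have hya' : y * a = a * y := mem_cx.1 hya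
  refine oc_le_of_four h.sol hU hU4.ge hy2 ?_ ?_
  · intro u hu
    rcases hmem u hu with rfl | rfl | rfl | rfl
    · rw [mul_one, one_mul]
    · exact h.zc y hyS
    · exact hya'
    · exact ((show Commute y a from hya').mul_right (h.zc y hyS)).eq
  · intro u hu hu1
    rcases hmem u hu with rfl | rfl | rfl | rfl
    · exact absurd rfl hu1
    · exact le_rfl
    · exact hoa
    · exact hoaz

/-- If a conjugate of `z` commutes with `a`, then `O(C(a)) ≤ O(C(z))`. -/
theorem oc_a_of_commute {U : Subgroup G} (hUS : U ≤ (S : Subgroup G))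
    (hUn : ∀ s ∈ (S : Subgroup G), ∀ u ∈ U, s * u * s⁻¹ ∈ U)
    (hU : Cfsg.IsElementaryAbelian 2 U) (hU4 : Nat.card ↥U = 4) {a : G} (ha : a ∈ U) (ha1 : a ≠ 1)
    (hzU : z ∈ U) (hmem : ∀ u ∈ U, u = 1 ∨ u = z ∨ u = a ∨ u = a * z)
    {s₀ : G} (hs₀ : s₀ ∈ (S : Subgroup G)) (hs₀a : s₀ * a * s₀⁻¹ = a * z)
    {g v : G} (hg : g * z * g⁻¹ = v) (hv : v ∈ (S : Subgroup G)) (hvz : v ≠ z) (hva : v * a = a * v) :
    oc a ≤ oc z := by
  have hv2 : orderOf v = 2 := hg ▸ orderOf_conj_two g h.z2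
  obtain ⟨hvv, hv1⟩ := orderOf_two_iff.1 hv2
  obtain ⟨hzz, hz1⟩ := orderOf_two_iff.1 h.z2
  have hov : oc v = oc z := h.oc_eq_of_conj hg hv
  by_cases hvU : v ∈ U
  · rcases hmem v hvU with e | e | e | e
    · exact absurd e hv1
    · exact absurd e hvz
    · rw [← e, hov]
    · -- `v = az`
      have h1 : oc a = cmap s₀⁻¹ (oc (a * z)) := by
        rw [oc_conj, ← hs₀a]; congr 1; group
      have hfix : cmap s₀⁻¹ (oc z) = oc z := h.cmap_oc (by
        rw [h.zc _ (inv_mem hs₀), mul_inv_cancel_right]; exact h.zS)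
      rw [h1, ← e, hov, hfix]
  have hvc : ∀ u ∈ U, v * u = u * v := by
    intro u hu
    rcases hmem u hu with rfl | rfl | rfl | rfl
    · rw [mul_one, one_mul]
    · exact h.zc v hv
    · exact hva
    · exact ((show Commute v a from hva).mul_right (h.zc v hv)).eq
  obtain ⟨hA, hcard⟩ := exists_elem_sup hU hvv hvc
  obtain ⟨hWodd, hWfix⟩ := wOf_complete h.sol hA (by have := hcard hvU; omega) le_sup_left hU4.ge
  set W := wOf U with hW
  have hWz : W ⊓ cx z = oc z := hWfix z (Subgroup.mem_sup_left hzU) hz1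
  have hWv : W ⊓ cx v = oc z := (hWfix v (Subgroup.mem_sup_right (Subgroup.mem_zpowers v)) hv1).trans hov
  -- `S` normalises `W`
  have hSW : (S : Subgroup G) ≤ Subgroup.normalizer (W : Set G) := by
    intro s hs
    refine mem_normalizer_of_cmap_eq (Subgroup.eq_of_le_of_card_ge ?_ (card_cmap _ _).ge)
    refine cmap_wOf_le h.sol fun u hu hu1 => oc_le_wOf h.sol (hUn s hs u hu) ?_
    exact fun e => hu1 (by simpa using e)
  -- `zv` centralises `W`
  obtain ⟨hA', hA'4, hA'mem⟩ := elem_pair h.z2 hv2 (h.zc v hv).symm (Ne.symm hvz)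
  have hzvS : z * v ∈ (S : Subgroup G) := mul_mem h.zS hv
  have hKzv : oc z ≤ cx (z * v) := fun k hk => mem_cx.2 (h.K_centralizes hk hzvS)
  have hWzv : W ≤ cx (z * v) := by
    haveI : Fact (Nat.Prime 2) := ⟨Nat.prime_two⟩
    refine H8.generation_elements hA' (by norm_num; exact hA'4) ?_
      (fun hd => Nat.not_even_iff_odd.2 hWodd (even_iff_two_dvd.2 hd)) ?_
    · exact (sup_le (Subgroup.zpowers_le.2 h.zS) (Subgroup.zpowers_le.2 hv)).trans hSW
    · intro b hb hb1
      rcases hA'mem b hb with rfl | rfl | rfl | rfl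
      · exact absurd rfl hb1
      · exact hWz.le.trans hKzv
      · exact hWv.le.trans hKzv
      · exact inf_le_right
  -- hence `z` centralises `W`
  set D := (S : Subgroup G) ⊓ Subgroup.centralizer (W : Set G) with hD
  have hzD : z ∈ D := by
    refine h.z_mem_of_normal inf_le_left
      (Cfsg.Comp.inf_le_normalizer Subgroup.le_normalizer (Cfsg.Comp.le_normalizer_centralizer hSW)) ?_
    intro hb
    have h1 : z * v ∈ D := ⟨hzvS, Subgroup.mem_centralizer_iff.2 fun w hw => mem_cx.1 (hWzv hw)⟩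
    rw [hb, Subgroup.mem_bot] at h1
    exact hvz (mul_left_cancel (h1.trans hzz.symm))
  have hWle : W ≤ cx z := fun w hw => mem_cx.2 (Subgroup.mem_centralizer_iff.1 hzD.2 w hw)
  calc oc a ≤ W := oc_le_wOf h.sol ha ha1
    _ = oc z := by rw [← hWz, inf_eq_left.2 hWle]

/-- If a conjugate `v` of `z` does not commute with `a`, then `O(C(a)) ≤ O(C(z))`. -/
theorem oc_a_of_not_commute {a : G} (haS : a ∈ (S : Subgroup G)) (ha2 : orderOf a = 2)
    (hwa : ∀ s ∈ (S : Subgroup G), s * a * s⁻¹ = a ∨ s * a * s⁻¹ = a * z)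
    {g v : G} (hg : g * z * g⁻¹ = v) (hv : v ∈ (S : Subgroup G)) (hvz : v ≠ z) (hva : v * a ≠ a * v) :
    oc a ≤ oc z := by
  haveI : Fact (Nat.Prime 2) := ⟨Nat.prime_two⟩
  have hv2 : orderOf v = 2 := hg ▸ orderOf_conj_two g h.z2
  obtain ⟨hvv, hv1⟩ := orderOf_two_iff.1 hv2
  obtain ⟨haa, ha1⟩ := orderOf_two_iff.1 ha2
  obtain ⟨hzz, hz1⟩ := orderOf_two_iff.1 h.z2
  have hzv : z * v = v * z := (h.zc v hv).symm
  have hza : z * a = a * z := (h.zc a haS).symm
  have hvav : v * a * v⁻¹ = a * z := by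
    rcases hwa v hv with e | e
    · exact absurd (mul_inv_eq_iff_eq_mul.1 e) hva
    · exact e
  have hai : a⁻¹ = a := inv_eq_of_mul_eq_one_right haa
  have hvi : v⁻¹ = v := inv_eq_of_mul_eq_one_right hvv
  have hava : a * v * a⁻¹ = v * z := by
    rw [hai]
    rw [hvi] at hvav
    calc a * v * a = a * (v * a * v) * v := by rw [mul_assoc a (v * a * v) v, mul_assoc (v * a) v v, hvv, mul_one, mul_assoc]
      _ = z * v := by rw [hvav, ← mul_assoc a a z, haa, one_mul]
      _ = v * z := hzv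
  have hovz : oc (v * z) = oc z := h.oc_eq_of_conj (g := a * g)
    (by rw [← hava, ← hg]; group) (mul_mem hv h.zS)
  have hov : oc v = oc z := h.oc_eq_of_conj hg hv
  obtain ⟨hV, hV4, hVmem⟩ := elem_pair h.z2 hv2 hzv (Ne.symm hvz)
  -- centralisers of `v` in `S`
  have hVd : ∀ d, orderOf d = 2 → d ∈ (S : Subgroup G) → d * v = v * d → oc d ≤ oc z := by
    intro d hd2 hdS hdv
    refine oc_le_of_four h.sol hV hV4 hd2 ?_ ?_
    · intro b hb
      rcases hVmem b hb with rfl | rfl | rfl | rfl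
      · rw [mul_one, one_mul]
      · exact h.zc d hdS
      · exact hdv
      · exact ((show Commute d z from h.zc d hdS).mul_right hdv).eq
    · intro b hb hb1
      rcases hVmem b hb with rfl | rfl | rfl | rfl
      · exact absurd rfl hb1
      · exact le_rfl
      · exact hov.le
      · rw [hzv]; exact hovz.le
  by_cases hd : ∃ d ∈ (S : Subgroup G), orderOf d = 2 ∧ d ≠ z ∧ d * v = v * d ∧ d * a = a * d
  · obtain ⟨d, hdS, hd2, hdz, hdv, hda⟩ := hd
    obtain ⟨hdd, hd1⟩ := orderOf_two_iff.1 hd2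
    have hzd : z * d = d * z := (h.zc d hdS).symm
    obtain ⟨hF, hF4, hFmem⟩ := elem_pair h.z2 hd2 hzd (Ne.symm hdz)
    have hzd2 : orderOf (z * d) = 2 := orderOf_two_iff.2
      ⟨by rw [(show Commute d z from hzd.symm).mul_mul_mul_comm, hzz, hdd, one_mul],
        fun e => hdz (mul_left_cancel (e.trans hzz.symm))⟩
    refine oc_le_of_four h.sol hF hF4 ha2 ?_ ?_
    · intro b hb
      rcases hFmem b hb with rfl | rfl | rfl | rfl
      · rw [mul_one, one_mul]
      · exact hza.symm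
      · exact hda.symm
      · exact ((show Commute a z from hza.symm).mul_right hda.symm).eq
    · intro b hb hb1
      rcases hFmem b hb with rfl | rfl | rfl | rfl
      · exact absurd rfl hb1
      · exact le_rfl
      · exact hVd _ hd2 hdS hdv
      · exact hVd _ hzd2 (mul_mem h.zS hdS) ((show Commute z v from hzv).mul_left hdv).eq
  push Not at hd
  -- the involutions of `C_S(v) ∩ C(a)` are trivial
  have hPu : ∀ y ∈ (S : Subgroup G), y * v = v * y → y * a = a * y → y * y = 1 → y = 1 ∨ y = z := by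
    intro y hy hyv hya hyy
    by_cases hy1 : y = 1
    · exact Or.inl hy1
    by_contra hne
    push Not at hne
    exact hd y hy (orderOf_two_iff.2 ⟨hyy, hy1⟩) hne.2 hyv hya
  have hmove : ∀ y ∈ (S : Subgroup G), y * a = a * y ∨ y * v * a = a * (y * v) := by
    intro y hy
    rcases hwa y hy with e | e
    · exact Or.inl (mul_inv_eq_iff_eq_mul.1 e)
    · right
      apply mul_inv_eq_iff_eq_mul.1
      calc y * v * a * (y * v)⁻¹ = y * (v * a * v⁻¹) * y⁻¹ := by group
        _ = y * a * y⁻¹ * (y * z * y⁻¹) := by rw [hvav]; group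
        _ = a * z * z := by rw [e, h.zc y hy, mul_inv_cancel_right]
        _ = a := by rw [mul_assoc, hzz, mul_one]
  by_cases hw : ∃ w ∈ (S : Subgroup G), w * v = v * w ∧ w * a = a * w ∧ w * w ≠ 1
  · -- an element squaring to `z`
    exfalso
    obtain ⟨w, hwS, hwv, hwa', hww⟩ := hw
    obtain ⟨k, hk⟩ := IsPGroup.iff_orderOf.1 S.2 ⟨w, hwS⟩
    rw [Subgroup.orderOf_mk] at hk
    have hk2 : 2 ≤ k := by
      by_contra hk'
      apply hww
      rw [← sq, ← orderOf_dvd_iff_pow_eq_one, hk]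
      exact dvd_trans (pow_dvd_pow 2 (show k ≤ 1 by omega)) (by norm_num)
    set w₂ := w ^ 2 ^ (k - 2) with hw₂
    have hw₂4 : w₂ ^ 4 = 1 := by
      rw [hw₂, ← pow_mul, ← orderOf_dvd_iff_pow_eq_one, hk,
        show (4 : ℕ) = 2 ^ 2 by norm_num, ← pow_add, show k - 2 + 2 = k by omega]
    have hw₂2 : w₂ * w₂ ≠ 1 := by
      rw [hw₂, ← pow_add, ← two_mul, ← pow_succ', Ne, ← orderOf_dvd_iff_pow_eq_one, hk,
        Nat.pow_dvd_pow_iff_le_right (by norm_num)]
      omega
    have hw₂S : w₂ ∈ (S : Subgroup G) := pow_mem hwS _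
    have hw₂v : Commute w₂ v := (show Commute w v from hwv).pow_left _
    have hw₂a : Commute w₂ a := (show Commute w a from hwa').pow_left _
    have hw₂z : w₂ * w₂ = z := by
      rcases hPu (w₂ * w₂) (mul_mem hw₂S hw₂S) (hw₂v.mul_left hw₂v).eq (hw₂a.mul_left hw₂a).eq
        (by rw [← hw₂4, pow_succ, pow_succ, pow_succ, pow_one, mul_assoc, mul_assoc, mul_assoc]) with e | e
      · exact absurd e hw₂2
      · exact e
    set S' := cmap g (S : Subgroup G) with hS'
    have hS'v : ∀ y ∈ S', y * v = v * y := by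
      intro y hy
      rw [← hg]
      have h1 := h.zc _ (mem_cmap.1 hy)
      calc y * (g * z * g⁻¹) = g * (g⁻¹ * y * g * z) * g⁻¹ := by group
        _ = g * (z * (g⁻¹ * y * g)) * g⁻¹ := by rw [h1]
        _ = g * z * g⁻¹ * y := by group
    set P := (S : Subgroup G) ⊓ cx v with hP
    have hPS' : P ≤ S' := by
      intro y hy
      rw [hS', mem_cmap]
      refine h.mem_S_of_two_elem (mem_cx.2 ?_) ?_
      · have h1 : y * v = v * y := mem_cx.1 hy.2
        rw [← hg] at h1
        calc g⁻¹ * y * g * z = g⁻¹ * (y * (g * z * g⁻¹)) * g := by group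
          _ = g⁻¹ * (g * z * g⁻¹ * y) * g := by rw [h1]
          _ = z * (g⁻¹ * y * g) := by group
      · obtain ⟨i, hi⟩ := pow_two_pow_of_mem S.2 hy.1
        refine ⟨i, ?_⟩
        have h2 := congrArg (MulAut.conj g⁻¹) hi
        rwa [map_pow, map_one, MulAut.conj_apply, inv_inv] at h2
    have hPlt : P < S' := by
      refine lt_of_le_of_ne hPS' fun e => ?_
      apply hvz
      refine h.zu v hv hv2 fun s hs => ?_
      have h1 : P = (S : Subgroup G) :=
        Subgroup.eq_of_le_of_card_ge inf_le_left (by rw [e, hS', card_cmap])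
      have hsP : s ∈ P := h1.symm ▸ hs
      exact mem_cx.1 hsP.2
    obtain ⟨b, hb, hbP⟩ := SetLike.exists_of_lt (normalizer_inf_gt (S.2.map _) hPlt)
    obtain ⟨hbS', hbn⟩ := hb
    have hbz : b * z ≠ z * b := fun e => hbP ⟨h.mem_S_of_two_elem (mem_cx.2 e)
      (pow_two_pow_of_mem (S.2.map _) hbS'), mem_cx.2 (hS'v b hbS')⟩
    have hw₂P : w₂ ∈ P := ⟨hw₂S, mem_cx.2 hw₂v.eq⟩
    obtain ⟨hpS, hpv⟩ : b * w₂ * b⁻¹ ∈ P := (Subgroup.mem_normalizer_iff.1 hbn w₂).1 hw₂P
    set p := b * w₂ * b⁻¹ with hp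
    have hpv' : Commute p v := mem_cx.1 hpv
    set q := p * p with hq
    have hqbz : q = b * z * b⁻¹ := by rw [hq, hp, ← hw₂z]; group
    have hqq : q * q = 1 := by
      rw [hqbz, show b * z * b⁻¹ * (b * z * b⁻¹) = b * (z * z) * b⁻¹ by group, hzz, mul_one,
        mul_inv_cancel]
    have hq1 : q ≠ 1 := by rw [hqbz]; exact fun e => hz1 (by simpa using e)
    have hqz : q ≠ z := by rw [hqbz]; exact fun e => hbz (mul_inv_eq_iff_eq_mul.1 e)
    have hqv : q ≠ v := by
      rw [hqbz]; intro e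
      apply hvz
      have h1 : z = b⁻¹ * v * b := by rw [← e]; group
      rw [h1, mul_assoc, ← hS'v b hbS', inv_mul_cancel_left]
    -- `p²` commutes with `a`
    have hqa : Commute q a := by
      rcases hmove p hpS with e | e
      · exact (show Commute p a from e).mul_left e
      · have h1 : q = p * v * (p * v) := by
          rw [hq, hpv'.symm.mul_mul_mul_comm, hvv, mul_one]
        rw [h1]
        exact (show Commute (p * v) a from e).mul_left e
    rcases hPu q (mul_mem hpS hpS) (hpv'.mul_left hpv').eq hqa.eq hqq with e | e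
    · exact hq1 e
    · exact hqz e
  push Not at hw
  -- `C_S(v) = ⟨z, v⟩`
  obtain ⟨q, hq, hqi⟩ := h.exists_cyclic_of_small hv
    (by
      by_contra hc
      push Not at hc
      exact hvz (h.zu v hv hv2 hc))
    (by
      classical
      have hsub : (((S : Subgroup G) ⊓ cx v : Subgroup G) : Set G) ⊆
          (({1, z, v, z * v} : Finset G) : Set G) := by
        intro y hy
        obtain ⟨hyS, hyv⟩ := hy
        have hyv' : Commute y v := mem_cx.1 hyv
        simp only [Finset.coe_insert, Finset.coe_singleton, Set.mem_insert_iff, Set.mem_singleton_iff]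
        rcases hmove y hyS with e | e
        · rcases hPu y hyS hyv'.eq e (hw y hyS hyv'.eq e) with e' | e'
          · exact Or.inl e'
          · exact Or.inr (Or.inl e')
        · have h1 : (y * v) * v = v * (y * v) := (hyv'.mul_left (Commute.refl v)).eq
          rcases hPu (y * v) (mul_mem hyS hv) h1 e (hw _ (mul_mem hyS hv) h1 e) with e' | e'
          · refine Or.inr (Or.inr (Or.inl ?_))
            exact mul_right_cancel (e'.trans hvv.symm)
          · refine Or.inr (Or.inr (Or.inr ?_))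
            rw [← e', mul_assoc, hvv, mul_one]
      have h1 := Nat.card_mono (Finset.finite_toSet ({1, z, v, z * v} : Finset G)) hsub
      refine le_trans h1 ?_
      rw [Nat.card_coe_set_eq, Set.ncard_coe_finset]
      exact Finset.card_le_four)
  exact h.oc_le_of_cyclic hq hqi rfl haS ha2

/-- All cores of centralisers of involutions of `S` lie in `O(C(z))`. -/
theorem oc_le_main (hnw : ∃ g : G, g * z * g⁻¹ ∈ (S : Subgroup G) ∧ g * z * g⁻¹ ≠ z) {x : G}
    (hx : x ∈ (S : Subgroup G)) (hx2 : orderOf x = 2) : oc x ≤ oc z := by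
  haveI : Fact (Nat.Prime 2) := ⟨Nat.prime_two⟩
  obtain ⟨hzz, hz1⟩ := orderOf_two_iff.1 h.z2
  rcases H30.cyclic_or_normal_square_or_invCyclic S.2 with hcy | ⟨E, hEn, hEc, hE2, hE4⟩ | ⟨-, hic⟩
  · -- cyclic
    rw [h.zu x hx hx2 fun s hs =>
      congrArg Subtype.val ((IsCyclic.commGroup (α := ↥(S : Subgroup G))).mul_comm ⟨s, hs⟩ ⟨x, hx⟩)]
  swap
  · -- dihedral, semidihedral or quaternion
    obtain ⟨u, y, r, m, -, -, hidx, -⟩ := hic
    refine h.oc_le_of_cyclic (Subgroup.zpowers_le.2 u.2) ?_ (q := (u : G)) rfl hx hx2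
    have he : (Subgroup.zpowers (u : G)).subgroupOf (S : Subgroup G) = Subgroup.zpowers u := by
      rw [Subgroup.subgroupOf, show Subgroup.zpowers (u : G) =
        (Subgroup.zpowers u).map (S : Subgroup G).subtype by rw [MonoidHom.map_zpowers]; rfl,
        Subgroup.comap_map_eq_self_of_injective (Subgroup.subtype_injective _)]
    rw [Subgroup.relIndex, he, hidx]
  -- a normal four-group
  set U : Subgroup G := E.map (S : Subgroup G).subtype with hUdef
  have hUS : U ≤ (S : Subgroup G) := Subgroup.map_subtype_le _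
  have hUn : ∀ s ∈ (S : Subgroup G), ∀ u ∈ U, s * u * s⁻¹ ∈ U := by
    rintro s hs _ ⟨e, he, rfl⟩
    exact ⟨_, hEn.conj_mem e he ⟨s, hs⟩, rfl⟩
  have hU : Cfsg.IsElementaryAbelian 2 U := by
    refine ⟨⟨⟨fun a b => Subtype.ext ?_⟩⟩, ?_⟩
    · obtain ⟨a', ha', hae⟩ := a.2
      obtain ⟨b', hb', hbe⟩ := b.2
      show (a : G) * (b : G) = (b : G) * (a : G)
      rw [← hae, ← hbe, ← map_mul, ← map_mul]
      exact congrArg _ (congrArg Subtype.val (hEc.is_comm.comm ⟨a', ha'⟩ ⟨b', hb'⟩))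
    · rintro _ ⟨e, he, rfl⟩
      rw [← map_pow, hE2 e he, map_one]
  have hU4 : Nat.card ↥U = 4 := by
    rw [hUdef, Subgroup.card_map_of_injective (Subgroup.subtype_injective _), hE4]; norm_num
  have hzU : z ∈ U := h.z_mem_of_normal hUS (fun s hs => mem_normalizer_of_forall (hUn s hs))
    (fun e => by rw [e, Subgroup.card_bot] at hU4; omega)
  obtain ⟨a, ha, ha1, haz⟩ : ∃ a ∈ U, a ≠ 1 ∧ a ≠ z := by
    by_contra hc
    push Not at hc
    classical
    have hsub : (U : Set G) ⊆ (({1, z} : Finset G) : Set G) := by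
      intro u hu
      simp only [Finset.coe_insert, Finset.coe_singleton, Set.mem_insert_iff, Set.mem_singleton_iff]
      by_cases hu1 : u = 1
      · exact Or.inl hu1
      · exact Or.inr (hc u hu hu1)
    have h1 := Nat.card_mono (Finset.finite_toSet ({1, z} : Finset G)) hsub
    rw [Nat.card_coe_set_eq, Nat.card_coe_set_eq, Set.ncard_coe_finset] at h1
    have h2 : Nat.card ↥U ≤ 2 := h1.trans Finset.card_le_two
    omega
  have haa : a * a = 1 := by rw [← sq]; exact hU.2 a ha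
  have ha2 : orderOf a = 2 := orderOf_two_iff.2 ⟨haa, ha1⟩
  have hmem : ∀ u ∈ U, u = 1 ∨ u = z ∨ u = a ∨ u = a * z := by
    classical
    intro u hu
    by_contra hc
    push Not at hc
    have hazU : a * z ∈ U := mul_mem ha hzU
    have hsub : (({1, z, a, a * z, u} : Finset G) : Set G) ⊆ (U : Set G) := by
      intro w hw
      simp only [Finset.coe_insert, Finset.coe_singleton, Set.mem_insert_iff,
        Set.mem_singleton_iff] at hw
      rcases hw with rfl | rfl | rfl | rfl | rfl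
      · exact one_mem _
      · exact hzU
      · exact ha
      · exact hazU
      · exact hu
    have h5 : ({1, z, a, a * z, u} : Finset G).card = 5 := by
      have haz1 : a * z ≠ 1 := fun e => haz (mul_right_cancel (e.trans hzz.symm))
      have hazz : a * z ≠ z := fun e => ha1 (mul_eq_right.1 e)
      have haza : a * z ≠ a := fun e => hz1 (mul_eq_left.1 e)
      rw [Finset.card_insert_of_notMem, Finset.card_insert_of_notMem, Finset.card_insert_of_notMem,
        Finset.card_insert_of_notMem, Finset.card_singleton] <;>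
        simp only [Finset.mem_insert, Finset.mem_singleton, not_or]
      · exact hc.2.2.2.symm
      · exact ⟨haza.symm, hc.2.2.1.symm⟩
      · exact ⟨Ne.symm haz, hazz.symm, hc.2.1.symm⟩
      · exact ⟨Ne.symm hz1, Ne.symm ha1, haz1.symm, hc.1.symm⟩
    have h1 := Nat.card_mono (Set.toFinite (U : Set G)) hsub
    rw [Nat.card_coe_set_eq, Nat.card_coe_set_eq, Set.ncard_coe_finset, h5] at h1
    have h2 : 5 ≤ Nat.card ↥U := h1
    omega
  have hwa : ∀ s ∈ (S : Subgroup G), s * a * s⁻¹ = a ∨ s * a * s⁻¹ = a * z := by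
    intro s hs
    rcases hmem _ (hUn s hs a ha) with e | e | e | e
    · exact absurd (by simpa using e) ha1
    · have h2 : a = s⁻¹ * z * s := by rw [← e]; group
      exact absurd (by rw [h2, mul_assoc, ← h.zc s hs, inv_mul_cancel_left]) haz
    · exact Or.inl e
    · exact Or.inr e
  obtain ⟨s₀, hs₀, hs₀a⟩ : ∃ s ∈ (S : Subgroup G), s * a * s⁻¹ = a * z := by
    by_contra hc
    push Not at hc
    apply haz
    refine h.zu a (hUS ha) ha2 fun s hs => mul_inv_eq_iff_eq_mul.1 ?_
    exact (hwa s hs).resolve_right (hc s hs)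
  refine h.oc_le_of_oc_a hUS hUn hU hU4 ha ha1 haz hmem hs₀ hs₀a ?_ hx hx2
  obtain ⟨g, hg, hgz⟩ := hnw
  by_cases hva : g * z * g⁻¹ * a = a * (g * z * g⁻¹)
  · exact h.oc_a_of_commute hUS hUn hU hU4 ha ha1 hzU hmem hs₀ hs₀a rfl hg hgz hva
  · exact h.oc_a_of_not_commute (hUS ha) ha2 hwa rfl hg hgz hva

end BCtx

end H77.ZC
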