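import Cfsg.Agent.H77.SylTwo
import Cfsg.Agent.H77.StrongEmb
import Cfsg.Agent.H77.OddTools
import Cfsg.Agent.H77.ThompsonTwo
import Cfsg.Agent.H10.PSolvable
import Cfsg.Agent.H1.Cores
import Cfsg.Prelude.Def_Local

/-!
Cores of involution centralisers in groups with solvable involution centralisers: the 2-nilpotent
normal subgroup over the core, extremal conjugates, and a criterion for strong embedding.
-/

set_option autoImplicit false

namespace H77.ZC

open Cfsg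

variable {G : Type*} [Group G] [Finite G]

/-- `O(C(x))`. -/
abbrev oc (x : G) : Subgroup G := Cfsg.centralizerPPrimeCore 2 x

/-- `C(x)`. -/
abbrev cx (x : G) : Subgroup G := Subgroup.centralizer ({x} : Set G)

omit [Finite G] in
theorem mem_cx {x g : G} : g ∈ cx x ↔ g * x = x * g := Subgroup.mem_centralizer_singleton_iff

omit [Finite G] in
theorem cmap_cx (g x : G) : cmap g (cx x) = cx (g * x * g⁻¹) := by
  ext y
  rw [mem_cmap, mem_cx, mem_cx]
  constructor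
  · intro h
    calc y * (g * x * g⁻¹) = g * (g⁻¹ * y * g * x) * g⁻¹ := by group
      _ = g * (x * (g⁻¹ * y * g)) * g⁻¹ := by rw [h]
      _ = g * x * g⁻¹ * y := by group
  · intro h
    calc g⁻¹ * y * g * x = g⁻¹ * (y * (g * x * g⁻¹)) * g := by group
      _ = g⁻¹ * (g * x * g⁻¹ * y) * g := by rw [h]
      _ = x * (g⁻¹ * y * g) := by group

omit [Finite G] in
theorem oc_le (x : G) : oc x ≤ cx x := Subgroup.map_subtype_le _

theorem oc_odd (x : G) : Odd (Nat.card ↥(oc x)) := by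
  haveI : Fact (Nat.Prime 2) := ⟨Nat.prime_two⟩
  have h := H1.card_pPrimeCore_coprime 2 ↥(cx x)
  rw [oc, Cfsg.centralizerPPrimeCore, Subgroup.card_map_of_injective (Subgroup.subtype_injective _)]
  exact Nat.coprime_two_right.1 h

omit [Finite G] in
theorem cx_le_normalizer_oc (x : G) : cx x ≤ Subgroup.normalizer (oc x : Set G) := by
  haveI : (Cfsg.pPrimeCore 2 ↥(cx x)).Normal := H1.pPrimeCore_normal' 2 _
  have h : (⊤ : Subgroup ↥(cx x)) ≤
      Subgroup.normalizer ((Cfsg.pPrimeCore 2 ↥(cx x)) : Set ↥(cx x)) := by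
    rw [Subgroup.normalizer_eq_top]
  intro c hc
  exact Subgroup.le_normalizer_map (cx x).subtype ⟨⟨c, hc⟩, h trivial, rfl⟩

theorem oc_conj (g x : G) : cmap g (oc x) = oc (g * x * g⁻¹) := by
  have hC := cmap_cx g x
  let e : ↥(cx x) ≃* ↥(cx (g * x * g⁻¹)) :=
    ((cx x).equivMapOfInjective (MulAut.conj g).toMonoidHom (MulAut.conj g).injective).trans
      (MulEquiv.subgroupCongr hC)
  have h := H1.map_pPrimeCore_equiv 2 e
  rw [oc, oc, Cfsg.centralizerPPrimeCore, Cfsg.centralizerPPrimeCore, cmap, ← h, Subgroup.map_map,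
    Subgroup.map_map]
  congr 1

/-- The inverse image in `C(x)` of `O₂(C(x)/O(C(x)))`. -/
theorem exists_cap {x : G} {T : Subgroup G} (hsol : Group.IsSolvable ↥(cx x))
    (hT : Cfsg.IsSylowTwoIn T (cx x)) :
    ∃ B : Subgroup G, B ≤ cx x ∧ cx x ≤ Subgroup.normalizer (B : Set G) ∧
      (∀ c ∈ cx x, (∀ t ∈ T, c * t = t * c) → c ∈ B) ∧
      B ≤ oc x ⊔ (T ⊓ B) ∧
      ∀ b ∈ B, Odd (orderOf b) → b ∈ oc x := by
  haveI : Fact (Nat.Prime 2) := ⟨Nat.prime_two⟩
  set C := cx x with hC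
  haveI := hsol
  set O := Cfsg.pPrimeCore 2 ↥C with hO
  haveI : O.Normal := H1.pPrimeCore_normal' 2 _
  set f := QuotientGroup.mk' O with hf
  set Qb := Cfsg.pCore 2 (↥C ⧸ O) with hQb
  have hHH : Subgroup.centralizer (Qb : Set (↥C ⧸ O)) ≤ Qb :=
    H10.centralizer_pCore_le H10.isPSolvable_of_isSolvable (H1.pPrimeCore_quotient_pPrimeCore 2)
  have hidx : ¬ 2 ∣ (T.subgroupOf C).index := fun h =>
    Nat.not_even_iff_odd.2 hT.2.2 (even_iff_two_dvd.2 h)
  let P : Sylow 2 ↥C := (hT.2.1.comap_subtype (K := C)).toSylow hidx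
  have hP : (P : Subgroup ↥C) = T.subgroupOf C := rfl
  have hQle : Qb ≤ (T.subgroupOf C).map f := by
    have h := H1.pCore_le_sylow (P.mapSurjective (QuotientGroup.mk'_surjective O))
    rwa [Sylow.coe_mapSurjective, hP] at h
  set N := Qb.comap f with hN
  haveI : Qb.Normal := H1.pCore_normal' 2 _
  haveI : N.Normal := Subgroup.Normal.comap inferInstance f
  refine ⟨N.map C.subtype, Subgroup.map_subtype_le _, ?_, ?_, ?_, ?_⟩
  · intro c hc
    refine Subgroup.le_normalizer_map C.subtype ⟨⟨c, hc⟩, ?_, rfl⟩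
    rw [Subgroup.normalizer_eq_top]; trivial
  · intro c hc hcT
    refine ⟨⟨c, hc⟩, ?_, rfl⟩
    show f ⟨c, hc⟩ ∈ Qb
    refine hHH (Subgroup.mem_centralizer_iff.2 fun q hq => ?_)
    obtain ⟨t, ht, rfl⟩ := hQle hq
    rw [← map_mul, ← map_mul]
    exact congrArg f (Subtype.ext (hcT t (Subgroup.mem_subgroupOf.1 ht)).symm)
  · rintro _ ⟨b, hb, rfl⟩
    obtain ⟨t, ht, htb⟩ := hQle (show f b ∈ Qb from hb)
    have h1 : b * t⁻¹ ∈ O := by
      rw [← QuotientGroup.eq_one_iff (N := O)]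
      show f (b * t⁻¹) = 1
      rw [map_mul, map_inv, htb, mul_inv_cancel]
    have htN : t ∈ N := show f t ∈ Qb by rw [htb]; exact hb
    have h2 : (b : G) = ((b * t⁻¹ : ↥C) : G) * (t : G) := by simp
    show (b : G) ∈ oc x ⊔ (T ⊓ N.map C.subtype)
    rw [h2]
    exact Subgroup.mul_mem_sup ⟨_, h1, rfl⟩ ⟨Subgroup.mem_subgroupOf.1 ht, t, htN, rfl⟩
  · rintro _ ⟨b, hb, rfl⟩ hodd
    refine ⟨b, ?_, rfl⟩
    rw [SetLike.mem_coe, ← QuotientGroup.eq_one_iff (N := O)]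
    have hodd' : Odd (orderOf (f b)) := by
      refine Odd.of_dvd_nat ?_ (orderOf_map_dvd f b)
      rwa [← Subgroup.orderOf_coe]
    obtain ⟨k, hk⟩ := pow_two_pow_of_mem (H1.isPGroup_pCore 2 _) (show f b ∈ Qb from hb)
    exact eq_one_of_two_pow_of_odd hk hodd'

/-- An element of odd order of `C(x)` centralising a Sylow 2-subgroup of `C(x)` lies in `O(C(x))`. -/
theorem mem_oc_of_centralizes {x k : G} {T : Subgroup G} (hsol : Group.IsSolvable ↥(cx x))
    (hT : Cfsg.IsSylowTwoIn T (cx x)) (hk : k ∈ cx x) (hkT : ∀ t ∈ T, k * t = t * k)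
    (hodd : Odd (orderOf k)) : k ∈ oc x := by
  obtain ⟨B, -, -, hc, -, ho⟩ := exists_cap hsol hT
  exact ho k (hc k hk hkT) hodd

/-- An element of a 2-group is moved, with its centraliser, to an extremal element. -/
theorem exists_extremal_conj (S : Sylow 2 G) {x : G} (hx : x ∈ (S : Subgroup G)) :
    ∃ g : G, g * x * g⁻¹ ∈ (S : Subgroup G) ∧
      cmap g ((S : Subgroup G) ⊓ cx x) ≤ (S : Subgroup G) ∧
      Cfsg.IsSylowTwoIn ((S : Subgroup G) ⊓ cx (g * x * g⁻¹)) (cx (g * x * g⁻¹)) := by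
  haveI : Fact (Nat.Prime 2) := ⟨Nat.prime_two⟩
  obtain ⟨T, hT, hle⟩ := exists_sylTwo_ge (S.2.to_le inf_le_left)
    (inf_le_right : (S : Subgroup G) ⊓ cx x ≤ cx x)
  obtain ⟨S', hS'⟩ := hT.2.1.exists_le_sylow
  obtain ⟨g, hg⟩ := MulAction.exists_smul_eq G S' S
  have hgT : cmap g T ≤ (S : Subgroup G) := by
    rw [← hg, sylow_smul_coe]; exact cmap_mono g hS'
  have hxx : x ∈ (S : Subgroup G) ⊓ cx x := ⟨hx, mem_cx.2 rfl⟩
  refine ⟨g, hgT (conj_mem_cmap (hle hxx)), (cmap_mono g hle).trans hgT, ?_⟩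
  have h1 := sylTwo_cmap hT g
  rw [cmap_cx] at h1
  have h2 := sylTwo_inf_sylow h1 (S := S) hgT
  rw [h2]; exact h1

/-- Fusion of elements of `S` is controlled by `M`, if `M` contains every element carrying a
central subgroup `U` of `S` into `S`. -/
theorem exists_mem_conj (S : Sylow 2 G) {U M : Subgroup G} (hUS : U ≤ (S : Subgroup G))
    (hUc : ∀ u ∈ U, ∀ s ∈ (S : Subgroup G), u * s = s * u)
    (hF : ∀ g : G, cmap g U ≤ (S : Subgroup G) → g ∈ M) {x x' : G} (hx : x ∈ (S : Subgroup G))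
    (hx' : x' ∈ (S : Subgroup G)) {k : G} (hk : k * x * k⁻¹ = x') :
    ∃ h ∈ M, h * x * h⁻¹ = x' := by
  have hUle : ∀ y ∈ (S : Subgroup G), U ≤ (S : Subgroup G) ⊓ cx y :=
    fun y hy u hu => ⟨hUS hu, mem_cx.2 (hUc u hu y hy)⟩
  obtain ⟨g, hgy, hgS, hgT⟩ := exists_extremal_conj S hx
  obtain ⟨g', hgy', hgS', hgT'⟩ := exists_extremal_conj S hx'
  set y := g * x * g⁻¹ with hy
  set y' := g' * x' * g'⁻¹ with hy'
  have hcy : (g' * k * g⁻¹) * y * (g' * k * g⁻¹)⁻¹ = y' := by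
    rw [hy, hy', ← hk]; group
  set a := g' * k * g⁻¹ with ha
  have h1 := sylTwo_cmap hgT a
  rw [cmap_cx, hcy] at h1
  obtain ⟨c, hc, he⟩ := sylTwo_conj h1 hgT'
  rw [cmap_cmap] at he
  have hca : c * a ∈ M := hF _ (by
    refine le_trans (cmap_mono _ (hUle y hgy)) ?_
    rw [← he]; exact inf_le_left)
  have hgM : g ∈ M := hF g ((cmap_mono g (hUle x hx)).trans hgS)
  have hgM' : g' ∈ M := hF g' ((cmap_mono g' (hUle x' hx')).trans hgS')
  have hcy' : c * y' * c⁻¹ = y' := by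
    rw [mem_cx.1 hc, mul_inv_cancel_right]
  refine ⟨g'⁻¹ * (c * a) * g, M.mul_mem (M.mul_mem (M.inv_mem hgM') hca) hgM, ?_⟩
  calc g'⁻¹ * (c * a) * g * x * (g'⁻¹ * (c * a) * g)⁻¹
      = g'⁻¹ * (c * (a * y * a⁻¹) * c⁻¹) * g' := by rw [hy]; group
    _ = x' := by rw [hcy, hcy', hy']; group

/-- Centralisers of the involutions of `M` lie in `M`. -/
theorem cx_le (S : Sylow 2 G) {U M : Subgroup G} (hUS : U ≤ (S : Subgroup G))
    (hUc : ∀ u ∈ U, ∀ s ∈ (S : Subgroup G), u * s = s * u)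
    (hsol : ∀ t : G, orderOf t = 2 → Group.IsSolvable ↥(cx t))
    (hF : ∀ g : G, cmap g U ≤ (S : Subgroup G) → g ∈ M) (hSM : (S : Subgroup G) ≤ M)
    (hO : ∀ x ∈ (S : Subgroup G), orderOf x = 2 → oc x ≤ M)
    {x : G} (hxM : x ∈ M) (hx : orderOf x = 2) : cx x ≤ M := by
  haveI : Fact (Nat.Prime 2) := ⟨Nat.prime_two⟩
  -- centralisers of extremal involutions
  have hext : ∀ y ∈ (S : Subgroup G), orderOf y = 2 →
      Cfsg.IsSylowTwoIn ((S : Subgroup G) ⊓ cx y) (cx y) → cx y ≤ M := by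
    intro y hy hy2 hT c hc
    obtain ⟨B, hB, hBn, hcap, hBle, -⟩ := exists_cap (hsol y hy2) hT
    have hTB := sylTwo_inf_normal hT hB hBn
    obtain ⟨b, hb, hbn⟩ := frattini_two hTB hBn hc
    have hbM : b ∈ M := (sup_le (hO y hy hy2) ((inf_le_left.trans inf_le_left).trans hSM)) (hBle hb)
    have hUQ : U ≤ ((S : Subgroup G) ⊓ cx y) ⊓ B := fun u hu =>
      ⟨⟨hUS hu, mem_cx.2 (hUc u hu y hy)⟩,
        hcap u (mem_cx.2 (hUc u hu y hy)) fun t ht => hUc u hu t ht.1⟩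
    have hnM : b⁻¹ * c ∈ M := hF _ (by
      refine (cmap_mono _ hUQ).trans ?_
      rw [cmap_eq_of_mem_normalizer hbn]
      exact inf_le_left.trans inf_le_left)
    have h := M.mul_mem hbM hnM
    rwa [mul_inv_cancel_left] at h
  have hSylM : Cfsg.IsSylowTwoIn (S : Subgroup G) M := by
    refine ⟨hSM, S.2, ?_⟩
    rw [← Nat.not_even_iff_odd, even_iff_two_dvd]
    exact fun h => S.not_dvd_index (h.trans (Subgroup.relIndex_dvd_index_of_le hSM))
  have hzp : IsPGroup 2 ↥(Subgroup.zpowers x) :=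
    IsPGroup.of_card (n := 1) (by rw [Nat.card_zpowers, hx, pow_one])
  obtain ⟨m, hm, hmS⟩ := exists_cmap_le_sylTwo hSylM hzp (Subgroup.zpowers_le.2 hxM)
  have hx1 : m * x * m⁻¹ ∈ (S : Subgroup G) := hmS (conj_mem_cmap (Subgroup.mem_zpowers x))
  set x₁ := m * x * m⁻¹ with hx₁
  obtain ⟨g, hgy, hgS, hgT⟩ := exists_extremal_conj S hx1
  have hgM : g ∈ M := hF g ((cmap_mono g (fun u hu => (⟨hUS hu, mem_cx.2 (hUc u hu x₁ hx1)⟩ :
    u ∈ (S : Subgroup G) ⊓ cx x₁))).trans hgS)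
  have hy2 : orderOf (g * x₁ * g⁻¹) = 2 := by
    rw [hx₁]
    have h1 := orderOf_injective (MulAut.conj g).toMonoidHom (MulAut.conj g).injective (m * x * m⁻¹)
    have h2 := orderOf_injective (MulAut.conj m).toMonoidHom (MulAut.conj m).injective x
    simp only [MulEquiv.coe_toMonoidHom, MulAut.conj_apply] at h1 h2
    rw [h1, h2, hx]
  have hgm : g * m ∈ M := M.mul_mem hgM hm
  have h := hext _ hgy hy2 hgT
  intro c hc
  have h1 : (g * m) * c * (g * m)⁻¹ ∈ cx (g * x₁ * g⁻¹) := by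
    have h2 := conj_mem_cmap (g := g * m) hc
    rw [cmap_cx] at h2
    have h3 : g * m * x * (g * m)⁻¹ = g * x₁ * g⁻¹ := by rw [hx₁]; group
    rwa [h3] at h2
  have h4 := M.mul_mem (M.mul_mem (M.inv_mem hgm) (h h1)) hgm
  have h5 : (g * m)⁻¹ * ((g * m) * c * (g * m)⁻¹) * (g * m) = c := by group
  rwa [h5] at h4

/-- A proper subgroup containing a Sylow 2-normaliser and the centralisers of its involutions is
strongly embedded. -/
theorem stronglyEmbedded_of_cx_le (S : Sylow 2 G) {M : Subgroup G} (hne : M ≠ ⊤)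
    (heven : Even (Nat.card G)) (hSM : Subgroup.normalizer ((S : Subgroup G) : Set G) ≤ M)
    (hC : ∀ x ∈ M, orderOf x = 2 → cx x ≤ M) : Cfsg.IsStronglyEmbedded M := by
  haveI : Fact (Nat.Prime 2) := ⟨Nat.prime_two⟩
  have hS : (S : Subgroup G) ≤ M := Subgroup.le_normalizer.trans hSM
  have hSne : (S : Subgroup G) ≠ ⊥ := S.ne_bot_of_dvd_card (even_iff_two_dvd.1 heven)
  have hevM : Even (Nat.card ↥M) := by
    obtain ⟨k, hk⟩ := IsPGroup.iff_card.1 S.2
    have hk0 : k ≠ 0 := fun h => hSne (Subgroup.card_eq_one.1 (by rw [hk, h, pow_zero]))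
    exact even_iff_two_dvd.2 (((dvd_pow_self 2 hk0).trans (dvd_of_eq hk.symm)).trans
      (Subgroup.card_dvd_of_le hS))
  refine ⟨hne, hevM, fun g hg => ?_⟩
  rw [← Nat.not_even_iff_odd]
  intro hev
  obtain ⟨t', ht'⟩ := exists_prime_orderOf_dvd_card' (G := ↥(M ⊓ cmap g M)) 2 (even_iff_two_dvd.1 hev)
  set t : G := (t' : G) with htdef
  have ht2 : orderOf t = 2 := by rw [htdef, Subgroup.orderOf_coe, ht']
  obtain ⟨htM, htg⟩ : t ∈ M ∧ t ∈ cmap g M := t'.2
  have hCg : ∀ u ∈ cmap g M, orderOf u = 2 → cx u ≤ cmap g M := by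
    intro u hu hu2
    have h1 : g⁻¹ * u * g ∈ M := mem_cmap.1 hu
    have h2 : orderOf (g⁻¹ * u * g) = 2 := by
      have h := orderOf_injective (MulAut.conj g⁻¹).toMonoidHom (MulAut.conj g⁻¹).injective u
      simp only [MulEquiv.coe_toMonoidHom, MulAut.conj_apply, inv_inv] at h
      rw [h, hu2]
    have h3 := cmap_mono g (hC _ h1 h2)
    rwa [cmap_cx, show g * (g⁻¹ * u * g) * g⁻¹ = u by group] at h3
  have hzp : IsPGroup 2 ↥(Subgroup.zpowers t) :=
    IsPGroup.of_card (n := 1) (by rw [Nat.card_zpowers, ht2, pow_one])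
  have hSylM : Cfsg.IsSylowTwoIn (S : Subgroup G) M := by
    refine ⟨hS, S.2, ?_⟩
    rw [← Nat.not_even_iff_odd, even_iff_two_dvd]
    exact fun h => S.not_dvd_index (h.trans (Subgroup.relIndex_dvd_index_of_le hS))
  obtain ⟨m, hm, hmS⟩ := exists_cmap_le_sylTwo hSylM hzp (Subgroup.zpowers_le.2 htM)
  have htS : m * t * m⁻¹ ∈ (S : Subgroup G) := hmS (conj_mem_cmap (Subgroup.mem_zpowers t))
  haveI : Nontrivial ↥(S : Subgroup G) := by rwa [Subgroup.nontrivial_iff_ne_bot]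
  haveI := S.2.center_nontrivial
  obtain ⟨n, hn0, hn⟩ := (S.2.to_subgroup (Subgroup.center ↥(S : Subgroup G))).nontrivial_iff_card.1
    inferInstance
  obtain ⟨⟨⟨z, hzS⟩, hzc⟩, hz2⟩ := exists_prime_orderOf_dvd_card'
    (G := ↥(Subgroup.center ↥(S : Subgroup G))) 2 (hn ▸ dvd_pow_self 2 hn0.ne')
  have hz : orderOf z = 2 := by
    rw [← Subgroup.orderOf_mk (H := (S : Subgroup G)) z hzS, ← Subgroup.orderOf_mk _ hzc]
    exact hz2
  have hzcomm : ∀ s ∈ (S : Subgroup G), s * z = z * s := fun s hs =>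
    congrArg Subtype.val (Subgroup.mem_center_iff.1 hzc ⟨s, hs⟩)
  -- the conjugated data
  set u := m⁻¹ * z * m with hu
  have huM : u ∈ M := M.mul_mem (M.mul_mem (M.inv_mem hm) (hS hzS)) hm
  have hut : u ∈ cx t := by
    rw [mem_cx, hu]
    have h := hzcomm _ htS
    calc m⁻¹ * z * m * t = m⁻¹ * (z * (m * t * m⁻¹)) * m := by group
      _ = m⁻¹ * (m * t * m⁻¹ * z) * m := by rw [h]
      _ = t * (m⁻¹ * z * m) := by group
  have hu2 : orderOf u = 2 := by
    have h := orderOf_injective (MulAut.conj m⁻¹).toMonoidHom (MulAut.conj m⁻¹).injective z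
    simp only [MulEquiv.coe_toMonoidHom, MulAut.conj_apply, inv_inv] at h
    rw [hu, h, hz]
  have hS'M : cmap m⁻¹ (S : Subgroup G) ≤ cmap g M := by
    refine le_trans ?_ (hCg u (hCg t htg ht2 hut) hu2)
    intro s hs
    rw [mem_cmap, inv_inv] at hs
    rw [mem_cx, hu]
    have h := hzcomm _ hs
    calc s * (m⁻¹ * z * m) = m⁻¹ * ((m * s * m⁻¹) * z) * m := by group
      _ = m⁻¹ * (z * (m * s * m⁻¹)) * m := by rw [h]
      _ = m⁻¹ * z * m * s := by group
  -- `(m g)⁻¹` carries `S` into `M`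
  have hS'' : cmap (m * g)⁻¹ (S : Subgroup G) ≤ M := by
    rw [mul_inv_rev, ← cmap_cmap, cmap_le_iff, inv_inv]
    exact hS'M
  obtain ⟨k, hk, hkS⟩ := exists_cmap_le_sylTwo hSylM (S.2.map _) hS''
  have hkn : k * (m * g)⁻¹ ∈ Subgroup.normalizer ((S : Subgroup G) : Set G) := by
    refine mem_normalizer_of_cmap_eq (Subgroup.eq_of_le_of_card_ge ?_ (card_cmap _ _).ge)
    rw [← cmap_cmap]; exact hkS
  have h1 : m * g = (k * (m * g)⁻¹)⁻¹ * k := by group
  have h2 : m * g ∈ M := h1 ▸ M.mul_mem (M.inv_mem (hSM hkn)) hk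
  exact hg (by simpa using M.mul_mem (M.inv_mem hm) h2)

end H77.ZC
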