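import Cfsg.Agent.H77.ZSide
import Cfsg.Agent.H77.CharP
import Cfsg.Agent.H6.Transfer
import Cfsg.Agent.H70.DihedralIso
import Cfsg.Agent.H30.CyclicNormal

/-!
Two maximal 2-locals `Σ₄ × ℤ₂` with a common Sylow 2-subgroup `T`: either `T` is a Sylow 2-subgroup of
the group and `T ∩ O²` is dihedral of order 8, or the group has a subgroup of index 2.
-/

set_option autoImplicit false

namespace H77.ZC

open Cfsg

variable {X : Type*} [Group X] [Finite X]

/-- `⟨V, c⟩`. -/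
abbrev eOf (V : Subgroup X) (c : X) : Subgroup X := V ⊔ Subgroup.zpowers c

/-- Two distinct maximal 2-locals of type `Σ₄ × ℤ₂` over `T`. -/
structure Pair (P₁ V₁ : Subgroup X) (c₁ : X) (P₂ V₂ : Subgroup X) (c₂ : X) (T : Subgroup X) : Prop where
  ne : P₁ ≠ P₂
  m₁ : Cfsg.IsMaximalTwoLocal P₁
  m₂ : Cfsg.IsMaximalTwoLocal P₂
  s₁ : Side P₁ V₁ c₁
  s₂ : Side P₂ V₂ c₂
  t₁ : Cfsg.IsSylowTwoIn T P₁
  t₂ : Cfsg.IsSylowTwoIn T P₂

namespace Side

variable {P V : Subgroup X} {c : X} (s : Side P V c)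
include s

theorem V_pgroup : IsPGroup 2 ↥V := IsPGroup.of_card (n := 2) (by rw [s.card]; norm_num)

omit [Finite X] in
theorem cc_mul : c * c = 1 := mul_self_of_orderOf s.c2

theorem commute_V {v : X} (hv : v ∈ V) : c * v = v * c := (s.cc v (s.le hv)).symm

theorem elemV : Cfsg.IsElementaryAbelian 2 V := by
  refine ⟨⟨⟨fun a b => Subtype.ext ?_⟩⟩, fun v hv => by rw [sq]; exact s.sq v hv⟩
  show (a : X) * b = b * a
  have h1 := s.sq _ (mul_mem a.2 b.2)
  have ha := inv_eq_of_mul_eq_one_right (s.sq _ a.2)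
  have hb := inv_eq_of_mul_eq_one_right (s.sq _ b.2)
  calc (a : X) * b = ((a : X) * b)⁻¹ := (inv_eq_of_mul_eq_one_right h1).symm
    _ = b * a := by rw [mul_inv_rev, ha, hb]

theorem elemE : Cfsg.IsElementaryAbelian 2 (eOf V c) :=
  (exists_elem_sup s.elemV s.cc_mul fun v hv => s.commute_V hv).1

theorem eight_le : 8 ≤ Nat.card ↥(eOf V c) := by
  have := (exists_elem_sup s.elemV s.cc_mul fun v hv => s.commute_V hv).2 s.cV
  rw [s.card] at this; exact this

theorem memE {y : X} : y ∈ eOf V c ↔ y ∈ V ∨ c * y ∈ V := by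
  constructor
  · intro hy
    have hn : Subgroup.zpowers c ≤ Subgroup.normalizer (V : Set X) :=
      (Subgroup.zpowers_le.2 s.cP).trans s.norm
    rw [eOf, sup_comm, ← SetLike.mem_coe, Subgroup.coe_mul_of_left_le_normalizer_right _ _ hn] at hy
    obtain ⟨p, hp, u, hu, rfl⟩ := hy
    obtain ⟨i, rfl⟩ := Subgroup.mem_zpowers_iff.1 hp
    rcases Int.even_or_odd i with ⟨j, rfl⟩ | ⟨j, rfl⟩
    · left
      rw [← two_mul, zpow_mul, zpow_two, s.cc_mul, one_zpow]
      simpa using hu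
    · right
      rw [zpow_add, zpow_mul, zpow_two, s.cc_mul, one_zpow, one_mul, zpow_one, ← mul_assoc, s.cc_mul,
        one_mul]
      exact hu
  · rintro (h | h)
    · exact Subgroup.mem_sup_left h
    · have h1 : y = c * (c * y) := by rw [← mul_assoc, s.cc_mul, one_mul]
      rw [h1]
      exact mul_mem (Subgroup.mem_sup_right (Subgroup.mem_zpowers c)) (Subgroup.mem_sup_left h)

theorem c_mem_E : c ∈ eOf V c := Subgroup.mem_sup_right (Subgroup.mem_zpowers c)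

theorem card_E : Nat.card ↥(eOf V c) = 8 := by
  refine le_antisymm ?_ s.eight_le
  classical
  let f : ↥(eOf V c) → ↥V × Bool := fun y =>
    if h : (y : X) ∈ V then (⟨y, h⟩, true) else (⟨c * y, ((s.memE.1 y.2).resolve_left h)⟩, false)
  have hf : Function.Injective f := by
    intro a b hab
    by_cases ha : (a : X) ∈ V <;> by_cases hb : (b : X) ∈ V <;>
      simp only [f, dif_pos, dif_neg, ha, hb, not_false_iff, Prod.mk.injEq, Subtype.mk.injEq,
        Bool.true_eq_false, Bool.false_eq_true, and_false, and_true] at hab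
    · exact Subtype.ext hab
    · exact Subtype.ext (mul_left_cancel hab)
  have := Nat.card_le_card_of_injective f hf
  rw [Nat.card_prod, s.card, Nat.card_eq_fintype_card (α := Bool), Fintype.card_bool] at this
  exact this

theorem norm_zpowers : P ≤ Subgroup.normalizer (Subgroup.zpowers c : Set X) := by
  intro p hp
  refine mem_normalizer_of_forall fun u hu => ?_
  obtain ⟨i, rfl⟩ := Subgroup.mem_zpowers_iff.1 hu
  rw [← conj_zpow, s.cc p hp, mul_inv_cancel_right]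
  exact hu

theorem cx_eq (hP : Cfsg.IsMaximalTwoLocal P) : cx c = P := by
  refine le_antisymm ?_ fun p hp => mem_cx.2 (s.cc p hp)
  rw [← normalizer_eq_of_max hP (Q := Subgroup.zpowers c)
    (IsPGroup.of_card (n := 1) (by rw [Nat.card_zpowers, s.c2, pow_one]))
    (by rw [Ne, Subgroup.zpowers_eq_bot]; exact (orderOf_two_iff.1 s.c2).2) s.norm_zpowers]
  intro g hg
  refine mem_normalizer_of_forall fun u hu => ?_
  obtain ⟨i, rfl⟩ := Subgroup.mem_zpowers_iff.1 hu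
  rw [← conj_zpow, mem_cx.1 hg, mul_inv_cancel_right]
  exact hu

theorem normE : P ≤ Subgroup.normalizer (eOf V c : Set X) := by
  intro p hp
  refine mem_normalizer_of_forall fun y hy => ?_
  rw [s.memE] at hy ⊢
  rcases hy with h | h
  · exact Or.inl ((Subgroup.mem_normalizer_iff.1 (s.norm hp) y).1 h)
  · right
    have h1 := (Subgroup.mem_normalizer_iff.1 (s.norm hp) _).1 h
    rwa [show p * (c * y) * p⁻¹ = c * (p * y * p⁻¹) by rw [← mul_assoc p c, s.cc p hp]; group] at h1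

theorem E_pgroup : IsPGroup 2 ↥(eOf V c) := IsPGroup.of_card (n := 3) (by rw [s.card_E]; norm_num)

theorem normalizer_E (hP : Cfsg.IsMaximalTwoLocal P) :
    Subgroup.normalizer (eOf V c : Set X) = P :=
  normalizer_eq_of_max hP s.E_pgroup
    (fun h => by have := s.card_E; rw [h, Subgroup.card_bot] at this; omega) s.normE

theorem E_le_T {T : Subgroup X} (hT : Cfsg.IsSylowTwoIn T P) : eOf V c ≤ T :=
  (le_pCoreOf (sup_le s.le (Subgroup.zpowers_le.2 s.cP)) s.E_pgroup s.normE).trans (pCoreOf_le_sylTwo hT)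

theorem card_T {T : Subgroup X} (hT : Cfsg.IsSylowTwoIn T P) : Nat.card ↥T = 16 := by
  obtain ⟨k, hk⟩ := IsPGroup.iff_card.1 hT.2.1
  have h := relIndex_mul_card hT.1
  have hodd := hT.2.2
  rw [s.card48, hk] at h
  have hle : k ≤ 5 := by
    by_contra hk5
    have h1 : 2 ^ 6 ∣ 48 := (pow_dvd_pow 2 (show 6 ≤ k by omega)).trans (Dvd.intro_left _ h)
    norm_num at h1
  rw [Nat.odd_iff] at hodd
  rw [hk]
  interval_cases k <;> omega

theorem conj_c {d : X} (hd : d ∈ V) (hd1 : d ≠ 1) {z : X} (hz : z ∈ V) (hz1 : z ≠ 1) :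
    ∃ g : X, g * (c * z) * g⁻¹ = c * d := by
  obtain ⟨g, hg, he⟩ := s.trans z hz d hd hz1 hd1
  refine ⟨g, ?_⟩
  rw [← he, ← mul_assoc g c, s.cc g hg]
  group

end Side

/-- The named elements. -/
structure Frame (P₁ V₁ : Subgroup X) (c₁ : X) (P₂ V₂ : Subgroup X) (c₂ : X) (T : Subgroup X)
    (z v w : X) : Prop where
  pair : Pair P₁ V₁ c₁ P₂ V₂ c₂ T
  z1 : z ∈ V₁
  z2 : z ∈ V₂
  zne : z ≠ 1
  zc : ∀ t ∈ T, t * z = z * t
  v1 : v ∈ V₁
  w2 : w ∈ V₂
  vne : v ≠ 1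
  vz : v ≠ z
  wne : w ≠ 1
  wz : w ≠ z
  vE : v ∉ eOf V₂ c₂
  wE : w ∉ eOf V₁ c₁
  wvw : w * v * w = v * z
  memV₁ : ∀ u ∈ V₁, u = 1 ∨ u = z ∨ u = v ∨ u = v * z
  memV₂ : ∀ u ∈ V₂, u = 1 ∨ u = z ∨ u = w ∨ u = w * z

theorem four_cases {V : Subgroup X} (hV : Nat.card ↥V = 4) {z v : X} (hzz : z * z = 1) (hz : z ∈ V)
    (hv : v ∈ V) (hz1 : z ≠ 1) (hv1 : v ≠ 1) (hvz : v ≠ z) :
    ∀ u ∈ V, u = 1 ∨ u = z ∨ u = v ∨ u = v * z := by
  classical
  intro u hu
  by_contra hc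
  push Not at hc
  have hvzU : v * z ∈ V := mul_mem hv hz
  have hsub : (({1, z, v, v * z, u} : Finset X) : Set X) ⊆ (V : Set X) := by
    intro y hy
    simp only [Finset.coe_insert, Finset.coe_singleton, Set.mem_insert_iff, Set.mem_singleton_iff] at hy
    rcases hy with rfl | rfl | rfl | rfl | rfl
    · exact one_mem _
    · exact hz
    · exact hv
    · exact hvzU
    · exact hu
  have h5 : ({1, z, v, v * z, u} : Finset X).card = 5 := by
    have h1 : v * z ≠ 1 := fun e => hvz (mul_right_cancel (e.trans hzz.symm))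
    have h2 : v * z ≠ z := fun e => hv1 (mul_eq_right.1 e)
    have h3 : v * z ≠ v := fun e => hz1 (mul_eq_left.1 e)
    rw [Finset.card_insert_of_notMem, Finset.card_insert_of_notMem, Finset.card_insert_of_notMem,
      Finset.card_insert_of_notMem, Finset.card_singleton] <;>
      simp only [Finset.mem_insert, Finset.mem_singleton, not_or]
    · exact hc.2.2.2.symm
    · exact ⟨h3.symm, hc.2.2.1.symm⟩
    · exact ⟨Ne.symm hvz, h2.symm, hc.2.1.symm⟩
    · exact ⟨Ne.symm hz1, Ne.symm hv1, h1.symm, hc.1.symm⟩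
  have h1 := Nat.card_mono (Set.toFinite (V : Set X)) hsub
  rw [Nat.card_coe_set_eq, Nat.card_coe_set_eq, Set.ncard_coe_finset, h5, ← Nat.card_coe_set_eq] at h1
  have h2 : 5 ≤ Nat.card ↥V := h1
  omega

namespace Pair

variable {P₁ V₁ : Subgroup X} {c₁ : X} {P₂ V₂ : Subgroup X} {c₂ : X} {T : Subgroup X}
  (h : Pair P₁ V₁ c₁ P₂ V₂ c₂ T)
include h

theorem symm : Pair P₂ V₂ c₂ P₁ V₁ c₁ T := ⟨h.ne.symm, h.m₂, h.m₁, h.s₂, h.s₁, h.t₂, h.t₁⟩

theorem exists_w : ∃ w ∈ V₂, w ∉ eOf V₁ c₁ := by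
  by_contra hc
  push Not at hc
  apply h.ne
  have hle : eOf V₁ c₁ ≤ eOf V₂ c₂ := by
    intro y hy
    refine h.s₂.memE.2 (h.s₂.cen y (h.t₂.1 (h.s₁.E_le_T h.t₁ hy)) fun u hu => ?_)
    exact congrArg Subtype.val (h.s₁.elemE.1.is_comm.comm ⟨y, hy⟩ ⟨u, hc u hu⟩)
  have he : eOf V₁ c₁ = eOf V₂ c₂ :=
    Subgroup.eq_of_le_of_card_ge hle (by rw [h.s₁.card_E, h.s₂.card_E])
  rw [← h.s₁.normalizer_E h.m₁, he, h.s₂.normalizer_E h.m₂]

theorem exists_frame : ∃ z v w, Frame P₁ V₁ c₁ P₂ V₂ c₂ T z v w := by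
  have hVT : V₁ ≤ T := le_sup_left.trans (h.s₁.E_le_T h.t₁)
  have hV₂T : V₂ ≤ T := le_sup_left.trans (h.s₂.E_le_T h.t₂)
  have hTn : T ≤ Subgroup.normalizer (V₁ : Set X) := h.t₁.1.trans h.s₁.norm
  have hTn₂ : T ≤ Subgroup.normalizer (V₂ : Set X) := h.t₂.1.trans h.s₂.norm
  have hne : ∀ {V : Subgroup X}, Nat.card ↥V = 4 → V ≠ ⊥ := fun hV e => by
    rw [e, Subgroup.card_bot] at hV; omega
  have central : ∀ (V : Subgroup X), V ≤ T → T ≤ Subgroup.normalizer (V : Set X) → Nat.card ↥V = 4 →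
      ∃ z ∈ V, z ≠ 1 ∧ ∀ t ∈ T, t * z = z * t := by
    intro V hV hn h4
    have hn' : (V.subgroupOf T).Normal := Subgroup.normal_subgroupOf_of_le_normalizer hn
    have hne' : V.subgroupOf T ≠ ⊥ := by
      rw [Ne, Subgroup.subgroupOf_eq_bot, disjoint_iff, inf_eq_left.2 hV]; exact hne h4
    haveI : Fact (Nat.Prime 2) := ⟨Nat.prime_two⟩
    have hint := H30.inf_center_ne_bot h.t₁.2.1 hn' hne'
    obtain ⟨y, hy, hy1⟩ : ∃ y ∈ V.subgroupOf T ⊓ Subgroup.center ↥T, y ≠ 1 := by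
      by_contra hc
      push Not at hc
      exact hint ((Subgroup.eq_bot_iff_forall _).2 hc)
    exact ⟨y, Subgroup.mem_subgroupOf.1 hy.1, fun e => hy1 (Subtype.ext e),
      fun t ht => congrArg Subtype.val (Subgroup.mem_center_iff.1 hy.2 ⟨t, ht⟩)⟩
  obtain ⟨z, hz, hz1, hzc⟩ := central V₁ hVT hTn h.s₁.card
  obtain ⟨z₂, hz₂, hz₂1, hz₂c⟩ := central V₂ hV₂T hTn₂ h.s₂.card
  obtain ⟨w, hw, hwE⟩ := h.exists_w
  obtain ⟨v, hv, hvE⟩ := h.symm.exists_w
  have hzz := h.s₁.sq z hz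
  have hzz₂ := h.s₂.sq z₂ hz₂
  have hvv := h.s₁.sq v hv
  have hww := h.s₂.sq w hw
  have hv1 : v ≠ 1 := fun e => hvE (e ▸ one_mem _)
  have hw1 : w ≠ 1 := fun e => hwE (e ▸ one_mem _)
  have hwv : w * v ≠ v * w := by
    -- `v` does not centralise `V₂`
    intro e
    rcases eq_or_ne w z₂ with e2 | e2
    · -- then `w` centralises `V₁`
      apply hwE
      refine h.s₁.memE.2 (h.s₁.cen w (h.t₁.1 (hV₂T hw)) fun u hu => ?_)
      rw [e2]; exact (hz₂c u (hVT hu)).symm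
    · apply hvE
      refine h.s₂.memE.2 (h.s₂.cen v (h.t₂.1 (hVT hv)) fun u hu => ?_)
      rcases four_cases h.s₂.card hzz₂ hz₂ hw hz₂1 hw1 e2 u hu with rfl | rfl | rfl | rfl
      · rw [mul_one, one_mul]
      · exact hz₂c v (hVT hv)
      · exact e.symm
      · exact ((show Commute v w from e.symm).mul_right (hz₂c v (hVT hv))).eq
  have hvz : v ≠ z := fun e => hwv (by rw [e]; exact hzc w (hV₂T hw))
  have hwz₂ : w ≠ z₂ := fun e => hwv (by rw [e]; exact (hz₂c v (hVT hv)).symm)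
  have hm₁ := four_cases h.s₁.card hzz hz hv hz1 hv1 hvz
  have hm₂ := four_cases h.s₂.card hzz₂ hz₂ hw hz₂1 hw1 hwz₂
  have hvinv : v⁻¹ = v := inv_eq_of_mul_eq_one_right hvv
  have hwinv : w⁻¹ = w := inv_eq_of_mul_eq_one_right hww
  have h1 : w * v * w = v * z := by
    have h2 := (Subgroup.mem_normalizer_iff.1 (hTn (hV₂T hw)) v).1 hv
    rw [hwinv] at h2
    have hconj : w * (w * v * w) * w = v := by
      rw [show w * (w * v * w) * w = (w * w) * v * (w * w) by group, hww, one_mul, mul_one]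
    rcases hm₁ _ h2 with e | e | e | e
    · exact absurd (by rw [← hconj, e, mul_one, hww]) hv1
    · exact absurd (by rw [← hconj, e, hzc w (hV₂T hw), mul_assoc, hww, mul_one]) hvz
    · exfalso
      apply hwv
      calc w * v = w * v * (w * w) := by rw [hww, mul_one]
        _ = w * v * w * w := by group
        _ = v * w := by rw [e]
    · exact e
  have h2 : v * w * v = w * z₂ := by
    have h3 := (Subgroup.mem_normalizer_iff.1 (hTn₂ (hVT hv)) w).1 hw
    rw [hvinv] at h3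
    have hconj : v * (v * w * v) * v = w := by
      rw [show v * (v * w * v) * v = (v * v) * w * (v * v) by group, hvv, one_mul, mul_one]
    rcases hm₂ _ h3 with e | e | e | e
    · exact absurd (by rw [← hconj, e, mul_one, hvv]) hw1
    · exact absurd (by rw [← hconj, e, hz₂c v (hVT hv), mul_assoc, hvv, mul_one]) hwz₂
    · exfalso
      apply hwv
      calc w * v = v * w * v * v := by rw [e]
        _ = v * w * (v * v) := by group
        _ = v * w := by rw [hvv, mul_one]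
    · exact e
  -- the two central involutions coincide
  have hzeq : z₂ = z := by
    have e1 : z = v * (w * v * w) := by rw [h1, ← mul_assoc, hvv, one_mul]
    have e2 : z₂ = w * (v * w * v) := by rw [h2, ← mul_assoc, hww, one_mul]
    have e3 : z * z₂ = 1 := by
      rw [e1, e2, show v * (w * v * w) * (w * (v * w * v)) = v * w * v * (w * w) * v * w * v by group,
        hww, mul_one, show v * w * v * v * w * v = v * w * (v * v) * w * v by group, hvv, mul_one,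
        show v * w * w * v = v * (w * w) * v by group, hww, mul_one, hvv]
    exact mul_left_cancel (e3.trans hzz.symm)
  subst hzeq
  exact ⟨z₂, v, w, h, hz, hz₂, hz1, hzc, hv, hw, hv1, hvz, hw1, hwz₂, hvE, hwE, h1, hm₁, hm₂⟩

end Pair

namespace Frame

variable {P₁ V₁ : Subgroup X} {c₁ : X} {P₂ V₂ : Subgroup X} {c₂ : X} {T : Subgroup X} {z v w : X}
  (f : Frame P₁ V₁ c₁ P₂ V₂ c₂ T z v w)
include f

theorem zz : z * z = 1 := f.pair.s₁.sq z f.z1
theorem vv : v * v = 1 := f.pair.s₁.sq v f.v1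
theorem ww : w * w = 1 := f.pair.s₂.sq w f.w2
theorem V₁T : V₁ ≤ T := le_sup_left.trans (f.pair.s₁.E_le_T f.pair.t₁)
theorem V₂T : V₂ ≤ T := le_sup_left.trans (f.pair.s₂.E_le_T f.pair.t₂)
theorem cT : c₁ ∈ T := f.pair.s₁.E_le_T f.pair.t₁ f.pair.s₁.c_mem_E
theorem cc : c₁ * c₁ = 1 := f.pair.s₁.cc_mul

theorem c_comm {t : X} (ht : t ∈ T) : t * c₁ = c₁ * t := f.pair.s₁.cc t (f.pair.t₁.1 ht)

/-- The group `V₁V₂`. -/
theorem memD {y : X} : y ∈ V₁ ⊔ V₂ ↔ y ∈ V₁ ∨ w * y ∈ V₁ := by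
  have hwn : Subgroup.zpowers w ≤ Subgroup.normalizer (V₁ : Set X) :=
    Subgroup.zpowers_le.2 (f.pair.s₁.norm (f.pair.t₁.1 (f.V₂T f.w2)))
  have he : V₁ ⊔ V₂ = Subgroup.zpowers w ⊔ V₁ := by
    refine le_antisymm (sup_le le_sup_right fun u hu => ?_) (sup_le ?_ le_sup_left)
    · rcases f.memV₂ u hu with rfl | rfl | rfl | rfl
      · exact one_mem _
      · exact Subgroup.mem_sup_right f.z1
      · exact Subgroup.mem_sup_left (Subgroup.mem_zpowers _)
      · exact mul_mem (Subgroup.mem_sup_left (Subgroup.mem_zpowers _)) (Subgroup.mem_sup_right f.z1)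
    · exact (Subgroup.zpowers_le.2 f.w2).trans le_sup_right
  constructor
  · intro hy
    rw [he, ← SetLike.mem_coe, Subgroup.coe_mul_of_left_le_normalizer_right _ _ hwn] at hy
    obtain ⟨p, hp, u, hu, rfl⟩ := hy
    obtain ⟨i, rfl⟩ := Subgroup.mem_zpowers_iff.1 hp
    rcases Int.even_or_odd i with ⟨j, rfl⟩ | ⟨j, rfl⟩
    · left
      rw [← two_mul, zpow_mul, zpow_two, f.ww, one_zpow]
      simpa using hu
    · right
      rw [zpow_add, zpow_mul, zpow_two, f.ww, one_zpow, one_mul, zpow_one, ← mul_assoc, f.ww, one_mul]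
      exact hu
  · rintro (h | h)
    · exact Subgroup.mem_sup_left h
    · have h1 : y = w * (w * y) := by rw [← mul_assoc, f.ww, one_mul]
      rw [h1]
      exact mul_mem (Subgroup.mem_sup_right f.w2) (Subgroup.mem_sup_left h)

/-- The elements of `V₁V₂`. -/
theorem casesD {y : X} (hy : y ∈ V₁ ⊔ V₂) :
    y ∈ V₁ ∨ y = w ∨ y = w * z ∨ y = w * v ∨ y = w * v * z := by
  rcases f.memD.1 hy with h | h
  · exact Or.inl h
  · have h1 : y = w * (w * y) := by rw [← mul_assoc, f.ww, one_mul]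
    rcases f.memV₁ _ h with e | e | e | e <;> rw [e] at h1
    · exact Or.inr (Or.inl (by rw [h1, mul_one]))
    · exact Or.inr (Or.inr (Or.inl h1))
    · exact Or.inr (Or.inr (Or.inr (Or.inl h1)))
    · exact Or.inr (Or.inr (Or.inr (Or.inr (by rw [h1, mul_assoc]))))

theorem wv_sq : w * v * (w * v) = z := by
  rw [show w * v * (w * v) = w * v * w * v by group, f.wvw, mul_assoc, ← f.zc v (f.V₁T f.v1),
    ← mul_assoc, f.vv, one_mul]

theorem wvz_sq : w * v * z * (w * v * z) = z := by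
  have hc : Commute (w * v) z := f.zc _ (mul_mem (f.V₂T f.w2) (f.V₁T f.v1))
  rw [hc.symm.mul_mul_mul_comm, f.wv_sq, f.zz, mul_one]

theorem D_sq {y : X} (hy : y ∈ V₁ ⊔ V₂) : y * y = 1 ∨ y * y = z := by
  rcases f.casesD hy with h | rfl | rfl | rfl | rfl
  · exact Or.inl (f.pair.s₁.sq y h)
  · exact Or.inl f.ww
  · exact Or.inl (f.pair.s₂.sq _ (mul_mem f.w2 f.z2))
  · exact Or.inr f.wv_sq
  · exact Or.inr f.wvz_sq

theorem inv_cases {y : X} (hy : y ∈ V₁ ⊔ V₂) (hyy : y * y = 1) : y ∈ V₁ ∨ y = w ∨ y = w * z := by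
  rcases f.casesD hy with h | h | h | rfl | rfl
  · exact Or.inl h
  · exact Or.inr (Or.inl h)
  · exact Or.inr (Or.inr h)
  · exact absurd (f.wv_sq.symm.trans hyy) f.zne
  · exact absurd (f.wvz_sq.symm.trans hyy) f.zne

theorem inv_D_conj {y : X} (hy : y ∈ V₁ ⊔ V₂) (hy2 : orderOf y = 2) : ∃ g : X, g * z * g⁻¹ = y := by
  obtain ⟨hyy, hy1⟩ := orderOf_two_iff.1 hy2
  have h2 : ∀ u ∈ V₂, u ≠ 1 → ∃ g : X, g * z * g⁻¹ = u := fun u hu hu1 =>
    (f.pair.s₂.trans z f.z2 u hu f.zne hu1).imp fun g hg => hg.2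
  rcases f.inv_cases hy hyy with h | rfl | rfl
  · exact (f.pair.s₁.trans z f.z1 y h f.zne hy1).imp fun g hg => hg.2
  · exact h2 _ f.w2 hy1
  · exact h2 _ (mul_mem f.w2 f.z2) hy1

theorem D_le_T : V₁ ⊔ V₂ ≤ T := sup_le f.V₁T f.V₂T

theorem c_notD : c₁ ∉ V₁ ⊔ V₂ := by
  intro hc
  rcases f.memD.1 hc with h | h
  · exact f.pair.s₁.cV h
  · apply f.wE
    refine f.pair.s₁.memE.2 (Or.inr ?_)
    rwa [← f.c_comm (f.V₂T f.w2)]

theorem card_D : Nat.card ↥(V₁ ⊔ V₂) = 8 := by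
  refine le_antisymm ?_ ?_
  · classical
    let g : ↥(V₁ ⊔ V₂) → ↥V₁ × Bool := fun y =>
      if h : (y : X) ∈ V₁ then (⟨y, h⟩, true) else (⟨w * y, ((f.memD.1 y.2).resolve_left h)⟩, false)
    have hg : Function.Injective g := by
      intro a b hab
      by_cases ha : (a : X) ∈ V₁ <;> by_cases hb : (b : X) ∈ V₁ <;>
        simp only [g, dif_pos, dif_neg, ha, hb, not_false_iff, Prod.mk.injEq, Subtype.mk.injEq,
          Bool.true_eq_false, Bool.false_eq_true, and_false, and_true] at hab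
      · exact Subtype.ext hab
      · exact Subtype.ext (mul_left_cancel hab)
    have := Nat.card_le_card_of_injective g hg
    rw [Nat.card_prod, f.pair.s₁.card, Nat.card_eq_fintype_card (α := Bool), Fintype.card_bool] at this
    exact this
  · have h1 := relIndex_mul_card (le_sup_left : V₁ ≤ V₁ ⊔ V₂)
    have h2 : V₁.relIndex (V₁ ⊔ V₂) ≠ 1 := by
      rw [Ne, Subgroup.relIndex_eq_one]
      exact fun h => f.wE (Subgroup.mem_sup_left (h (Subgroup.mem_sup_right f.w2)))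
    have h3 : V₁.relIndex (V₁ ⊔ V₂) ≠ 0 := fun h => by
      rw [h, zero_mul] at h1
      exact Nat.card_pos.ne h1
    rw [← h1, f.pair.s₁.card]
    omega

theorem relIndex_D : (V₁ ⊔ V₂).relIndex T = 2 := by
  have h1 := relIndex_mul_card f.D_le_T
  rw [f.card_D, f.pair.s₁.card_T f.pair.t₁] at h1
  omega

theorem memT {y : X} (hy : y ∈ T) : y ∈ V₁ ⊔ V₂ ∨ c₁ * y ∈ V₁ ⊔ V₂ := by
  by_cases h : y ∈ V₁ ⊔ V₂
  · exact Or.inl h
  right
  have h1 := Subgroup.mul_mem_iff_of_index_two (H := (V₁ ⊔ V₂).subgroupOf T) f.relIndex_D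
    (a := ⟨c₁, f.cT⟩) (b := ⟨y, hy⟩)
  simp only [Subgroup.mem_subgroupOf, Subgroup.coe_mul] at h1
  exact h1.2 ⟨fun e => absurd e f.c_notD, fun e => absurd e h⟩

theorem T_sq {y : X} (hy : y ∈ T) : y * y = 1 ∨ y * y = z := by
  rcases f.memT hy with h | h
  · exact f.D_sq h
  · have h1 := f.D_sq h
    rwa [(show Commute y c₁ from f.c_comm hy).mul_mul_mul_comm, f.cc, one_mul] at h1

/-- `z` is the only nontrivial square of `T`. -/
theorem fix_z {g : X} (hg : g ∈ Subgroup.normalizer (T : Set X)) : g * z * g⁻¹ = z := by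
  have hr : g * (w * v) * g⁻¹ ∈ T :=
    (Subgroup.mem_normalizer_iff.1 hg _).1 (mul_mem (f.V₂T f.w2) (f.V₁T f.v1))
  have h1 : g * (w * v) * g⁻¹ * (g * (w * v) * g⁻¹) = g * z * g⁻¹ := by
    calc g * (w * v) * g⁻¹ * (g * (w * v) * g⁻¹) = g * (w * v * (w * v)) * g⁻¹ := by group
      _ = g * z * g⁻¹ := by rw [f.wv_sq]
  rcases f.T_sq hr with e | e
  · exact absurd (conj_eq_one_iff.1 (h1.symm.trans e)) f.zne
  · exact h1.symm.trans e

theorem c_mem_E₂ : c₁ ∈ eOf V₂ c₂ :=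
  f.pair.s₂.memE.2 (f.pair.s₂.cen c₁ (f.pair.t₂.1 f.cT) fun _ hu => (f.c_comm (f.V₂T hu)).symm)

theorem inv_E {y : X} (hy : y ∈ T) (hyy : y * y = 1) : y ∈ eOf V₁ c₁ ∨ y ∈ eOf V₂ c₂ := by
  rcases f.memT hy with h | h
  · rcases f.inv_cases h hyy with h' | rfl | rfl
    · exact Or.inl (Subgroup.mem_sup_left h')
    · exact Or.inr (Subgroup.mem_sup_left f.w2)
    · exact Or.inr (Subgroup.mem_sup_left (mul_mem f.w2 f.z2))
  · have h1 : c₁ * y * (c₁ * y) = 1 := by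
      rw [(show Commute y c₁ from f.c_comm hy).mul_mul_mul_comm, f.cc, hyy, one_mul]
    have e : y = c₁ * (c₁ * y) := by rw [← mul_assoc, f.cc, one_mul]
    rw [e]
    rcases f.inv_cases h h1 with h' | h' | h'
    · exact Or.inl (mul_mem f.pair.s₁.c_mem_E (Subgroup.mem_sup_left h'))
    · exact Or.inr (mul_mem f.c_mem_E₂ (Subgroup.mem_sup_left (h'.symm ▸ f.w2)))
    · exact Or.inr (mul_mem f.c_mem_E₂ (Subgroup.mem_sup_left (h'.symm ▸ mul_mem f.w2 f.z2)))

/-- An element of `⟨V₁, c₁⟩` centralising an element outside lies in the centre of `T`. -/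
theorem inter_E {x : X} (hx : x ∈ eOf V₁ c₁) (hc : x * w = w * x) :
    x = 1 ∨ x = z ∨ x = c₁ ∨ x = c₁ * z := by
  have key : ∀ u ∈ V₁, u * w = w * u → u = 1 ∨ u = z := by
    intro u hu hcu
    rcases f.memV₁ u hu with e | e | e | e
    · exact Or.inl e
    · exact Or.inr e
    · exfalso
      rw [e] at hcu
      apply f.zne
      have h1 := f.wvw
      rw [mul_assoc, hcu, ← mul_assoc, f.ww, one_mul] at h1
      exact mul_eq_left.1 h1.symm
    · exfalso
      rw [e] at hcu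
      have hcv : v * w = w * v := by
        rw [mul_assoc, ← f.zc w (f.V₂T f.w2), ← mul_assoc, ← mul_assoc] at hcu
        exact mul_right_cancel hcu
      apply f.zne
      have h1 := f.wvw
      rw [mul_assoc, hcv, ← mul_assoc, f.ww, one_mul] at h1
      exact mul_eq_left.1 h1.symm
  rcases f.pair.s₁.memE.1 hx with h | h
  · rcases key x h hc with e | e
    · exact Or.inl e
    · exact Or.inr (Or.inl e)
  · have hcw : Commute c₁ w := (f.c_comm (f.V₂T f.w2)).symm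
    have e : x = c₁ * (c₁ * x) := by rw [← mul_assoc, f.cc, one_mul]
    rcases key _ h (hcw.mul_left hc).eq with e' | e' <;> rw [e'] at e
    · exact Or.inr (Or.inr (Or.inl (by rw [e, mul_one])))
    · exact Or.inr (Or.inr (Or.inr e))

/-- The elementary subgroups of order 8 of `T`. -/
theorem elem_eight {A : Subgroup X} (hA : A ≤ T) (hAe : Cfsg.IsElementaryAbelian 2 A)
    (h8 : Nat.card ↥A = 8) : A = eOf V₁ c₁ ∨ A = eOf V₂ c₂ := by
  by_cases hle : A ≤ eOf V₁ c₁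
  · exact Or.inl (Subgroup.eq_of_le_of_card_ge hle (by rw [f.pair.s₁.card_E, h8]))
  obtain ⟨y, hy, hyE⟩ := SetLike.not_le_iff_exists.1 hle
  right
  have hsq : ∀ x ∈ A, x * x = 1 := fun x hx => by rw [← sq]; exact hAe.2 x hx
  have hyE₂ : y ∈ eOf V₂ c₂ := (f.inv_E (hA hy) (hsq y hy)).resolve_left hyE
  refine Subgroup.eq_of_le_of_card_ge (fun x hx => ?_) (by rw [f.pair.s₂.card_E, h8])
  rcases f.inv_E (hA hx) (hsq x hx) with hxE | hxE
  swap
  · exact hxE
  -- `y` has the form `w·(central)`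
  obtain ⟨e, he, hey⟩ : ∃ e ∈ eOf V₁ c₁, y = w * e := by
    rcases f.memT (hA hy) with h | h
    · rcases f.memD.1 h with h' | h'
      · exact absurd (Subgroup.mem_sup_left h') hyE
      · exact ⟨w * y, Subgroup.mem_sup_left h', by rw [← mul_assoc, f.ww, one_mul]⟩
    · rcases f.memD.1 h with h' | h'
      · exact absurd (f.pair.s₁.memE.2 (Or.inr h')) hyE
      · refine ⟨w * y, f.pair.s₁.memE.2 (Or.inr ?_), by rw [← mul_assoc, f.ww, one_mul]⟩
        rwa [← mul_assoc, f.c_comm (f.V₂T f.w2), mul_assoc] at h'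
  have hxy : x * y = y * x := congrArg Subtype.val (hAe.1.is_comm.comm ⟨x, hx⟩ ⟨y, hy⟩)
  have hxe : x * e = e * x := congrArg Subtype.val (f.pair.s₁.elemE.1.is_comm.comm ⟨x, hxE⟩ ⟨e, he⟩)
  have hxw : x * w = w * x := by
    rw [hey, ← mul_assoc, mul_assoc w e x, ← hxe, ← mul_assoc] at hxy
    exact mul_right_cancel hxy
  rcases f.inter_E hxE hxw with rfl | rfl | rfl | rfl
  · exact one_mem _
  · exact Subgroup.mem_sup_left f.z2
  · exact f.c_mem_E₂
  · exact mul_mem f.c_mem_E₂ (Subgroup.mem_sup_left f.z2)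

/-- `z` and `c₁` are not conjugate. -/
theorem not_conj (S : Sylow 2 X) (hTS : T ≤ (S : Subgroup X)) : ¬ ∃ g : X, g * z * g⁻¹ = c₁ := by
  rintro ⟨g, hg⟩
  have hzT : T ≤ cx z := fun t ht => mem_cx.2 (f.zc t ht)
  by_cases hS : T = (S : Subgroup X)
  · have h1 : cmap g T ≤ P₁ := by
      rw [← f.pair.s₁.cx_eq f.pair.m₁, ← hg, ← cmap_cx]; exact cmap_mono g hzT
    obtain ⟨k, hk, hkT⟩ := exists_cmap_le_sylTwo f.pair.t₁ (f.pair.t₁.2.1.map _) h1
    have hn : k * g ∈ Subgroup.normalizer (T : Set X) := by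
      refine mem_normalizer_of_cmap_eq (Subgroup.eq_of_le_of_card_ge ?_ (card_cmap _ _).ge)
      rw [← cmap_cmap]; exact hkT
    have h2 := f.fix_z hn
    rw [show k * g * z * (k * g)⁻¹ = k * (g * z * g⁻¹) * k⁻¹ by group, hg, f.pair.s₁.cc k hk,
      mul_inv_cancel_right] at h2
    exact f.pair.s₁.cV (h2 ▸ f.z1)
  · have hlt := normalizer_inf_gt S.2 (lt_of_le_of_ne hTS hS)
    set S₁ := (S : Subgroup X) ⊓ Subgroup.normalizer (T : Set X)
    have h1 : cmap g S₁ ≤ P₁ := by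
      rw [← f.pair.s₁.cx_eq f.pair.m₁, ← hg, ← cmap_cx]
      exact cmap_mono g fun s hs => mem_cx.2 (mul_inv_eq_iff_eq_mul.1 (f.fix_z hs.2))
    obtain ⟨k, -, hkT⟩ := exists_cmap_le_sylTwo f.pair.t₁ ((S.2.to_le inf_le_left).map _) h1
    have h2 := Subgroup.card_dvd_of_le hkT
    rw [cmap_cmap, card_cmap] at h2
    exact hlt.ne (Subgroup.eq_of_le_of_card_ge hlt.le (Nat.le_of_dvd Nat.card_pos h2))

theorem cz_notD : c₁ * z ∉ V₁ ⊔ V₂ := fun h => f.c_notD (by
  have := mul_mem h (Subgroup.mem_sup_left f.z1 : z ∈ V₁ ⊔ V₂)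
  rwa [mul_assoc, f.zz, mul_one] at this)

theorem central_cases {y : X} (hy : y ∈ T) (hc : ∀ t ∈ T, t * y = y * t) :
    y = 1 ∨ y = z ∨ y = c₁ ∨ y = c₁ * z :=
  f.inter_E
    (f.pair.s₁.memE.2 (f.pair.s₁.cen y (f.pair.t₁.1 hy) fun u hu => (hc u (f.V₁T hu)).symm))
    (hc w (f.V₂T f.w2)).symm

/-- The dihedral group `V₁V₂`. -/
theorem dihedral : Nonempty (↥(V₁ ⊔ V₂) ≃* DihedralGroup 4) := by
  have hwD : w ∈ V₁ ⊔ V₂ := Subgroup.mem_sup_right f.w2
  have hvD : v ∈ V₁ ⊔ V₂ := Subgroup.mem_sup_left f.v1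
  set r : ↥(V₁ ⊔ V₂) := ⟨w * v, mul_mem hwD hvD⟩
  set t : ↥(V₁ ⊔ V₂) := ⟨v, hvD⟩
  haveI : Fact (Nat.Prime 2) := ⟨Nat.prime_two⟩
  have hr4 : orderOf r = 4 := by
    rw [← Subgroup.orderOf_coe]
    have h := orderOf_eq_prime_pow (x := w * v) (p := 2) (n := 1)
      (by rw [pow_one, sq, f.wv_sq]; exact f.zne)
      (by rw [show 2 ^ (1 + 1) = 2 * 2 by norm_num, pow_mul, sq (w * v), f.wv_sq, sq, f.zz])
    have h' : orderOf (w * v) = 4 := by simpa using h
    exact h'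
  have h := H70.nonempty_mulEquiv_dihedral (c := r) (x := t) (by rw [f.card_D, hr4])
    (Subtype.ext f.vv) ?_ ?_
  · rwa [hr4] at h
  · intro ht
    obtain ⟨i, hi⟩ := Subgroup.mem_zpowers_iff.1 ht
    have hc : Commute r t := hi ▸ (Commute.refl r).zpow_right i
    have h1 : w * v * v = v * (w * v) := congrArg Subtype.val hc.eq
    apply f.zne
    have h2 := f.wv_sq
    rw [show w * v * (w * v) = w * (v * (w * v)) by group, ← h1, mul_assoc w v v, f.vv, mul_one,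
      f.ww] at h2
    exact h2.symm
  · apply Subtype.ext
    show v * (w * v) * v⁻¹ = (w * v)⁻¹
    rw [mul_inv_rev, inv_eq_of_mul_eq_one_right f.vv, inv_eq_of_mul_eq_one_right f.ww, mul_assoc,
      mul_assoc w v v, f.vv, mul_one]

/-- `V₁V₂` lies in `O²`. -/
theorem D_le_res : V₁ ⊔ V₂ ≤ Cfsg.pResidual 2 X := sup_le f.pair.s₁.res f.pair.s₂.res

/-- An index-2 subgroup of `S` without conjugates of `c₁`. -/
theorem transfer_false (S : Sylow 2 X) (hTS : T ≤ (S : Subgroup X)) (hres : Cfsg.pResidual 2 X = ⊤)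
    {Q : Subgroup X} (hQS : Q ≤ (S : Subgroup X)) (hQ : Q.relIndex (S : Subgroup X) = 2)
    (hQinv : ∀ y ∈ Q, orderOf y = 2 → y ∈ V₁ ⊔ V₂) : False := by
  haveI : Fact (Nat.Prime 2) := ⟨Nat.prime_two⟩
  rcases H6.thompson_transfer S Q hQS hQ c₁ f.pair.s₁.c2 with ⟨M, hMn, hM, -⟩ | ⟨g, hg⟩
  · exact @H6.not_normal_index_of_pResidual_eq_top X _ _ 2 _ hres M hMn hM
  · have hy := orderOf_conj_two g f.pair.s₁.c2
    obtain ⟨k, hk⟩ := f.inv_D_conj (hQinv _ hg hy) hy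
    refine f.not_conj S hTS ⟨g⁻¹ * k, ?_⟩
    calc g⁻¹ * k * z * (g⁻¹ * k)⁻¹ = g⁻¹ * (k * z * k⁻¹) * g := by group
      _ = c₁ := by rw [hk]; group

/-- The case of a Sylow 2-subgroup `T`. -/
theorem inf_res_eq (S : Sylow 2 X) (hS : (S : Subgroup X) = T) :
    T ⊓ Cfsg.pResidual 2 X = V₁ ⊔ V₂ := by
  haveI : Fact (Nat.Prime 2) := ⟨Nat.prime_two⟩
  have hle : V₁ ⊔ V₂ ≤ T ⊓ Cfsg.pResidual 2 X := le_inf f.D_le_T f.D_le_res
  by_contra hne
  have hall : T ≤ Cfsg.pResidual 2 X := by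
    obtain ⟨y, hy, hyD⟩ := SetLike.exists_of_lt (lt_of_le_of_ne hle (Ne.symm hne))
    intro t ht
    by_cases htD : t ∈ V₁ ⊔ V₂
    · exact f.D_le_res htD
    · have h1 := Subgroup.mul_mem_iff_of_index_two (H := (V₁ ⊔ V₂).subgroupOf T) f.relIndex_D
        (a := ⟨y, hy.1⟩) (b := ⟨t, ht⟩)
      simp only [Subgroup.mem_subgroupOf, Subgroup.coe_mul] at h1
      have h2 : y * t ∈ V₁ ⊔ V₂ := h1.2 ⟨fun e => absurd e hyD, fun e => absurd e htD⟩
      have h3 := mul_mem (inv_mem (Subgroup.mem_inf.1 hy).2) (f.D_le_res h2)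
      rwa [inv_mul_cancel_left] at h3
  have hres : Cfsg.pResidual 2 X = ⊤ := by
    have h1 := H5.pResidual_sup_sylow S
    rwa [hS, sup_eq_left.2 hall] at h1
  exact f.transfer_false S hS.ge hres (Q := V₁ ⊔ V₂) (by rw [hS]; exact f.D_le_T)
    (by rw [hS]; exact f.relIndex_D) fun y hy _ => hy

end Frame

end H77.ZC
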