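import Cfsg.Agent.H77.ZEndgame

/-!
The case in which the common Sylow 2-subgroup `T` of two maximal 2-locals `Σ₄ × ℤ₂` is not a Sylow
2-subgroup of the group: then `Ω₁` of the centre has order 2 and there is a subgroup of index 2.
-/

set_option autoImplicit false

namespace H77.ZC

open Cfsg

variable {X : Type*} [Group X] [Finite X]

namespace Frame

variable {P₁ V₁ : Subgroup X} {c₁ : X} {P₂ V₂ : Subgroup X} {c₂ : X} {T : Subgroup X} {z v w : X}
  (f : Frame P₁ V₁ c₁ P₂ V₂ c₂ T z v w) {S : Sylow 2 X}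
include f

theorem not_mem_P {y : X} (hy : y ∈ (S : Subgroup X)) (hyn : y ∈ Subgroup.normalizer (T : Set X))
    (hyT : y ∉ T) : y ∉ P₁ := fun h =>
  hyT (mem_sylTwo_of_normalizes f.pair.t₁ h hyn (pow_two_pow_of_mem S.2 hy))

theorem map_E {y : X} (hy : y ∈ (S : Subgroup X)) (hyn : y ∈ Subgroup.normalizer (T : Set X))
    (hyT : y ∉ T) : cmap y (eOf V₁ c₁) = eOf V₂ c₂ := by
  have h1 : cmap y (eOf V₁ c₁) ≤ T :=
    (cmap_mono y (f.pair.s₁.E_le_T f.pair.t₁)).trans (cmap_eq_of_mem_normalizer hyn).le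
  have h2 : Cfsg.IsElementaryAbelian 2 (cmap y (eOf V₁ c₁)) := by
    have hE := f.pair.s₁.elemE
    refine ⟨⟨⟨fun a b => Subtype.ext ?_⟩⟩, ?_⟩
    · obtain ⟨a', ha', hae⟩ := a.2
      obtain ⟨b', hb', hbe⟩ := b.2
      show (a : X) * b = b * a
      rw [← hae, ← hbe, ← map_mul, ← map_mul]
      exact congrArg _ (congrArg Subtype.val (hE.1.is_comm.comm ⟨a', ha'⟩ ⟨b', hb'⟩))
    · rintro _ ⟨a', ha', rfl⟩
      rw [← map_pow, hE.2 a' ha', map_one]
  refine (f.elem_eight h1 h2 (by rw [card_cmap, f.pair.s₁.card_E])).resolve_left fun e => ?_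
  have := mem_normalizer_of_cmap_eq e
  rw [f.pair.s₁.normalizer_E f.pair.m₁] at this
  exact f.not_mem_P hy hyn hyT this

theorem map_c (hTS : T ≤ (S : Subgroup X)) {y : X} (hy : y ∈ (S : Subgroup X))
    (hyn : y ∈ Subgroup.normalizer (T : Set X)) (hyT : y ∉ T) : y * c₁ * y⁻¹ = c₁ * z := by
  have hyc : y * c₁ * y⁻¹ ∈ T := (Subgroup.mem_normalizer_iff.1 hyn _).1 f.cT
  have hcent : ∀ t ∈ T, t * (y * c₁ * y⁻¹) = y * c₁ * y⁻¹ * t := by
    intro t ht
    have h1 : y⁻¹ * t * y ∈ T := by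
      have := (Subgroup.mem_normalizer_iff.1 (inv_mem hyn) t).1 ht
      rwa [inv_inv] at this
    have h2 := f.c_comm h1
    calc t * (y * c₁ * y⁻¹) = y * (y⁻¹ * t * y * c₁) * y⁻¹ := by group
      _ = y * (c₁ * (y⁻¹ * t * y)) * y⁻¹ := by rw [h2]
      _ = y * c₁ * y⁻¹ * t := by group
  rcases f.central_cases hyc hcent with e | e | e | e
  · exact absurd (conj_eq_one_iff.1 e) (orderOf_two_iff.1 f.pair.s₁.c2).2
  · exfalso
    refine f.not_conj S hTS ⟨y⁻¹, ?_⟩
    rw [← e]; group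
  · exfalso
    apply f.not_mem_P hy hyn hyT
    rw [← f.pair.s₁.cx_eq f.pair.m₁]
    exact mem_cx.2 (mul_inv_eq_iff_eq_mul.1 e)
  · exact e

theorem map_E₂ {y : X} (hy : y ∈ (S : Subgroup X)) (hyn : y ∈ Subgroup.normalizer (T : Set X))
    (hyT : y ∉ T) : cmap y (eOf V₂ c₂) = eOf V₁ c₁ := by
  have h := f.map_E (inv_mem hy) (inv_mem hyn) (fun h => hyT (by simpa using inv_mem h))
  rw [← h, cmap_cmap_inv]

/-- Two elements outside `T` multiply into `T`. -/
theorem mul_mem_T {a b : X} (ha : a ∈ (S : Subgroup X)) (han : a ∈ Subgroup.normalizer (T : Set X))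
    (haT : a ∉ T) (hb : b ∈ (S : Subgroup X)) (hbn : b ∈ Subgroup.normalizer (T : Set X))
    (hbT : b ∉ T) : a * b ∈ T := by
  by_contra h
  have h1 := f.map_E (mul_mem ha hb) (mul_mem han hbn) h
  rw [← cmap_cmap, f.map_E hb hbn hbT, f.map_E₂ ha han haT] at h1
  apply f.pair.ne
  rw [← f.pair.s₁.normalizer_E f.pair.m₁, h1, f.pair.s₂.normalizer_E f.pair.m₂]

theorem exists_outside (hTS : T ≤ (S : Subgroup X)) (hne : T ≠ (S : Subgroup X)) :
    ∃ n ∈ (S : Subgroup X), n ∈ Subgroup.normalizer (T : Set X) ∧ n ∉ T := by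
  obtain ⟨n, ⟨hnS, hnn⟩, hnT⟩ := SetLike.exists_of_lt (normalizer_inf_gt S.2 (lt_of_le_of_ne hTS hne))
  exact ⟨n, hnS, hnn, hnT⟩

/-- The involutions of `T` outside `V₁V₂` are conjugate to `c₁`. -/
theorem class_c (hTS : T ≤ (S : Subgroup X)) (hne : T ≠ (S : Subgroup X)) {u : X} (hu : u ∈ T)
    (huu : u * u = 1) (huD : u ∉ V₁ ⊔ V₂) : ∃ g : X, g * u * g⁻¹ = c₁ := by
  obtain ⟨n, hnS, hnn, hnT⟩ := f.exists_outside hTS hne
  have hn : n * c₁ * n⁻¹ = c₁ * z := f.map_c hTS hnS hnn hnT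
  have hcd : c₁ * u ∈ V₁ ⊔ V₂ := (f.memT hu).resolve_left huD
  have hdd : c₁ * u * (c₁ * u) = 1 := by
    rw [(show Commute u c₁ from f.c_comm hu).mul_mul_mul_comm, f.cc, huu, one_mul]
  set d := c₁ * u with hd
  have hu' : u = c₁ * d := by rw [hd, ← mul_assoc, f.cc, one_mul]
  have hcz : ∃ g : X, g * (c₁ * z) * g⁻¹ = c₁ := ⟨n⁻¹, by rw [← hn]; group⟩
  -- it is enough to reach `c₁ z`
  suffices hs : (∃ g : X, g * c₁ * g⁻¹ = u) ∨ ∃ g : X, g * (c₁ * z) * g⁻¹ = u by
    rcases hs with ⟨g, hg⟩ | ⟨g, hg⟩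
    · exact ⟨g⁻¹, by rw [← hg]; group⟩
    · obtain ⟨k, hk⟩ := hcz
      refine ⟨k * g⁻¹, ?_⟩
      rw [← hg]
      calc k * g⁻¹ * (g * (c₁ * z) * g⁻¹) * (k * g⁻¹)⁻¹ = k * (c₁ * z) * k⁻¹ := by group
        _ = c₁ := hk
  have hc2 : c₁ = c₂ ∨ c₁ = c₂ * z := by
    rcases f.pair.s₂.memE.1 f.c_mem_E₂ with h | h
    · exact absurd (Subgroup.mem_sup_right h) f.c_notD
    · have hcu : ∀ t ∈ T, t * (c₂ * c₁) = c₂ * c₁ * t := fun t ht =>
        (((show Commute t c₂ from f.pair.s₂.cc t (f.pair.t₂.1 ht)).mul_right (f.c_comm ht))).eq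
      have e : c₁ = c₂ * (c₂ * c₁) := by rw [← mul_assoc, f.pair.s₂.cc_mul, one_mul]
      rcases f.memV₂ _ h with e' | e' | e' | e' <;> rw [e'] at e hcu
      · exact Or.inl (by rw [e, mul_one])
      · exact Or.inr e
      · exfalso
        apply f.zne
        have h1 := f.wvw
        rw [mul_assoc, hcu v (f.V₁T f.v1), ← mul_assoc, f.ww, one_mul] at h1
        exact mul_eq_left.1 h1.symm
      · exfalso
        have h2 := hcu v (f.V₁T f.v1)
        have hvw : v * w = w * v := by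
          rw [mul_assoc w z v, ← f.zc v (f.V₁T f.v1), ← mul_assoc, ← mul_assoc] at h2
          exact mul_right_cancel h2
        apply f.zne
        have h1 := f.wvw
        rw [mul_assoc, hvw, ← mul_assoc, f.ww, one_mul] at h1
        exact mul_eq_left.1 h1.symm
  have side2 : ∀ y ∈ V₂, y ≠ 1 → y ≠ z →
      (∃ g : X, g * c₁ * g⁻¹ = c₁ * y) ∨ ∃ g : X, g * (c₁ * z) * g⁻¹ = c₁ * y := by
    intro y hy hy1 hyz
    rcases hc2 with e | e
    · right
      rw [e]
      exact f.pair.s₂.conj_c hy hy1 f.z2 f.zne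
    · left
      rw [e, mul_assoc c₂ z y]
      refine f.pair.s₂.conj_c (mul_mem f.z2 hy) (fun h => hyz ?_) f.z2 f.zne
      exact mul_left_cancel (h.trans f.zz.symm)
  rw [hu']
  by_cases hd1 : d = 1
  · left; exact ⟨1, by rw [hd1]; simp⟩
  rcases f.inv_cases hcd hdd with h | h | h
  · exact Or.inr (f.pair.s₁.conj_c h hd1 f.z1 f.zne)
  · rw [h]; exact side2 w f.w2 f.wne f.wz
  · rw [h]
    refine side2 _ (mul_mem f.w2 f.z2) (fun e => f.wz (mul_right_cancel (e.trans f.zz.symm))) ?_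
    exact fun e => f.wne (mul_eq_right.1 e)

theorem conj_inv_D (hTS : T ≤ (S : Subgroup X)) (hne : T ≠ (S : Subgroup X)) {y u : X}
    (hyn : y ∈ Subgroup.normalizer (T : Set X)) (hu : u ∈ V₁ ⊔ V₂) (huu : u * u = 1) :
    y * u * y⁻¹ ∈ V₁ ⊔ V₂ := by
  by_cases hu1 : u = 1
  · rw [hu1, mul_one, mul_inv_cancel]; exact one_mem _
  by_contra hnot
  obtain ⟨g, hg⟩ := f.class_c hTS hne ((Subgroup.mem_normalizer_iff.1 hyn u).1 (f.D_le_T hu))
    (by rw [show y * u * y⁻¹ * (y * u * y⁻¹) = y * (u * u) * y⁻¹ by group, huu, mul_one,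
      mul_inv_cancel]) hnot
  obtain ⟨k, hk⟩ := f.inv_D_conj hu (orderOf_two_iff.2 ⟨huu, hu1⟩)
  refine f.not_conj S hTS ⟨g * y * k, ?_⟩
  rw [← hg, ← hk]; group

theorem normD (hTS : T ≤ (S : Subgroup X)) (hne : T ≠ (S : Subgroup X)) {y : X}
    (hyn : y ∈ Subgroup.normalizer (T : Set X)) :
    y ∈ Subgroup.normalizer (((V₁ ⊔ V₂ : Subgroup X)) : Set X) := by
  refine mem_normalizer_of_cmap_eq (Subgroup.eq_of_le_of_card_ge ?_ (card_cmap _ _).ge)
  rw [cmap, Subgroup.map_sup, sup_le_iff]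
  constructor
  · rintro _ ⟨u, hu, rfl⟩
    exact f.conj_inv_D hTS hne hyn (Subgroup.mem_sup_left hu) (f.pair.s₁.sq u hu)
  · rintro _ ⟨u, hu, rfl⟩
    exact f.conj_inv_D hTS hne hyn (Subgroup.mem_sup_right hu) (f.pair.s₂.sq u hu)

theorem le_normalizer_T (hTS : T ≤ (S : Subgroup X)) (hne : T ≠ (S : Subgroup X)) :
    (S : Subgroup X) ≤ Subgroup.normalizer (T : Set X) := by
  by_contra hnot
  set S₁ := (S : Subgroup X) ⊓ Subgroup.normalizer (T : Set X) with hS₁
  have hlt : S₁ < (S : Subgroup X) :=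
    lt_of_le_of_ne inf_le_left fun e => hnot (e ▸ inf_le_right)
  obtain ⟨m, ⟨hmS, hmn⟩, hm⟩ := SetLike.exists_of_lt (normalizer_inf_gt S.2 hlt)
  apply hm
  refine ⟨hmS, ?_⟩
  have hTS₁ : T ≤ S₁ := le_inf hTS Subgroup.le_normalizer
  have hmap : ∀ {A : Subgroup X}, A ≤ T → cmap m A ≤ S₁ := fun hA =>
    (cmap_mono m (hA.trans hTS₁)).trans (cmap_eq_of_mem_normalizer hmn).le
  -- an elementary subgroup of order 8 of `S₁` lies in `T`
  have key : ∀ A : Subgroup X, A ≤ S₁ → Cfsg.IsElementaryAbelian 2 A → Nat.card ↥A = 8 → A ≤ T := by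
    intro A hA hAe h8
    by_contra hAT
    obtain ⟨y, hy, hyT⟩ := SetLike.not_le_iff_exists.1 hAT
    obtain ⟨hyS, hyn⟩ := hA hy
    have hsq : ∀ x ∈ A, x * x = 1 := fun x hx => by rw [← sq]; exact hAe.2 x hx
    have hcomm : ∀ x ∈ A, y * x = x * y := fun x hx =>
      congrArg Subtype.val (hAe.1.is_comm.comm ⟨y, hy⟩ ⟨x, hx⟩)
    have hyinv : y⁻¹ = y := inv_eq_of_mul_eq_one_right (hsq y hy)
    have hfix : ∀ x ∈ A, x ∈ T → x = 1 ∨ x = z := by
      intro x hx hxT
      have hyx : y * x * y⁻¹ = x := by rw [hcomm x hx, mul_inv_cancel_right]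
      -- `x` lies in both elementary groups
      have hboth : x ∈ eOf V₁ c₁ ∧ x ∈ eOf V₂ c₂ := by
        rcases f.inv_E hxT (hsq x hx) with h | h
        · refine ⟨h, ?_⟩
          rw [← f.map_E hyS hyn hyT, ← hyx]
          exact conj_mem_cmap h
        · refine ⟨?_, h⟩
          rw [← f.map_E₂ hyS hyn hyT, ← hyx]
          exact conj_mem_cmap h
      have hxw : x * w = w * x := congrArg Subtype.val
        (f.pair.s₂.elemE.1.is_comm.comm ⟨x, hboth.2⟩ ⟨w, Subgroup.mem_sup_left f.w2⟩)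
      have hc := f.map_c hTS hyS hyn hyT
      rcases f.inter_E hboth.1 hxw with e | e | e | e
      · exact Or.inl e
      · exact Or.inr e
      · exfalso
        rw [e] at hyx
        exact f.zne (mul_eq_left.1 (hc.symm.trans hyx))
      · exfalso
        rw [e] at hyx
        have h1 : y * c₁ * y⁻¹ = c₁ := by
          have h2 : y * c₁ * y⁻¹ * (y * z * y⁻¹) = c₁ * z := by rw [← hyx]; group
          rw [f.fix_z hyn] at h2
          exact mul_right_cancel h2
        exact f.zne (mul_eq_left.1 (hc.symm.trans h1))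
    classical
    have hsub : (A : Set X) ⊆ (({1, z, y, y * z} : Finset X) : Set X) := by
      intro x hx
      simp only [Finset.coe_insert, Finset.coe_singleton, Set.mem_insert_iff, Set.mem_singleton_iff]
      by_cases hxT : x ∈ T
      · rcases hfix x hx hxT with e | e
        · exact Or.inl e
        · exact Or.inr (Or.inl e)
      · have h1 := f.mul_mem_T hyS hyn hyT (hA hx).1 (hA hx).2 hxT
        have e : x = y * (y * x) := by rw [← mul_assoc, hsq y hy, one_mul]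
        rcases hfix _ (mul_mem hy hx) h1 with e' | e' <;> rw [e'] at e
        · exact Or.inr (Or.inr (Or.inl (by rw [e, mul_one])))
        · exact Or.inr (Or.inr (Or.inr e))
    have h1 := Nat.card_mono (Finset.finite_toSet ({1, z, y, y * z} : Finset X)) hsub
    rw [Nat.card_coe_set_eq, Nat.card_coe_set_eq, Set.ncard_coe_finset, ← Nat.card_coe_set_eq] at h1
    have h4 : ({1, z, y, y * z} : Finset X).card ≤ 4 := Finset.card_le_four
    have h2 : Nat.card ↥A ≤ 4 := h1.trans h4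
    omega
  have helem : ∀ {V : Subgroup X} {c : X} {P : Subgroup X}, Side P V c → Cfsg.IsSylowTwoIn T P →
      cmap m (eOf V c) ≤ T := by
    intro V c P s ht
    refine key _ (hmap (s.E_le_T ht)) ?_ (by rw [card_cmap, s.card_E])
    refine ⟨⟨⟨fun a b => Subtype.ext ?_⟩⟩, ?_⟩
    · obtain ⟨a', ha', hae⟩ := a.2
      obtain ⟨b', hb', hbe⟩ := b.2
      show (a : X) * b = b * a
      rw [← hae, ← hbe, ← map_mul, ← map_mul]
      exact congrArg _ (congrArg Subtype.val (s.elemE.1.is_comm.comm ⟨a', ha'⟩ ⟨b', hb'⟩))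
    · rintro _ ⟨a', ha', rfl⟩
      rw [← map_pow, s.elemE.2 a' ha', map_one]
  refine mem_normalizer_of_cmap_eq (Subgroup.eq_of_le_of_card_ge ?_ (card_cmap _ _).ge)
  have hT : T = eOf V₁ c₁ ⊔ eOf V₂ c₂ := by
    refine le_antisymm (fun t ht => ?_) (sup_le (f.pair.s₁.E_le_T f.pair.t₁) (f.pair.s₂.E_le_T f.pair.t₂))
    have hD : V₁ ⊔ V₂ ≤ eOf V₁ c₁ ⊔ eOf V₂ c₂ := sup_le_sup le_sup_left le_sup_left
    rcases f.memT ht with h | h
    · exact hD h
    · have e : t = c₁ * (c₁ * t) := by rw [← mul_assoc, f.cc, one_mul]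
      rw [e]
      exact mul_mem (Subgroup.mem_sup_left f.pair.s₁.c_mem_E) (hD h)
  nth_rewrite 1 [hT]
  rw [cmap, Subgroup.map_sup]
  exact sup_le (helem f.pair.s₁ f.pair.t₁) (helem f.pair.s₂ f.pair.t₂)

theorem image_v (hTS : T ≤ (S : Subgroup X)) (hne : T ≠ (S : Subgroup X)) {x : X}
    (hx : x ∈ (S : Subgroup X)) (hxn : x ∈ Subgroup.normalizer (T : Set X)) (hxT : x ∉ T) :
    (x * v * x⁻¹ = w ∨ x * v * x⁻¹ = w * z) ∧ (x * w * x⁻¹ = v ∨ x * w * x⁻¹ = v * z) := by
  have hfz := f.fix_z hxn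
  have inj : ∀ a : X, x * a * x⁻¹ = z → a = z := fun a e => by
    calc a = x⁻¹ * (x * a * x⁻¹) * x := by group
      _ = x⁻¹ * (x * z * x⁻¹) * x := by rw [e, hfz]
      _ = z := by group
  constructor
  · have h1 := f.conj_inv_D hTS hne hxn (Subgroup.mem_sup_left f.v1) f.vv
    have h2 : x * v * x⁻¹ ∈ eOf V₂ c₂ := by
      rw [← f.map_E hx hxn hxT]; exact conj_mem_cmap (Subgroup.mem_sup_left f.v1)
    rcases f.inv_cases h1 (by rw [show x * v * x⁻¹ * (x * v * x⁻¹) = x * (v * v) * x⁻¹ by group,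
      f.vv, mul_one, mul_inv_cancel]) with h | h | h
    · exfalso
      rcases f.memV₁ _ h with e | e | e | e
      · exact f.vne (conj_eq_one_iff.1 e)
      · exact f.vz (inj v e)
      · exact f.vE (e ▸ h2)
      · rw [e] at h2
        apply f.vE
        have := mul_mem h2 (Subgroup.mem_sup_left f.z2 : z ∈ eOf V₂ c₂)
        rwa [mul_assoc, f.zz, mul_one] at this
    · exact Or.inl h
    · exact Or.inr h
  · have h1 := f.conj_inv_D hTS hne hxn (Subgroup.mem_sup_right f.w2) f.ww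
    have h2 : x * w * x⁻¹ ∈ eOf V₁ c₁ := by
      rw [← f.map_E₂ hx hxn hxT]; exact conj_mem_cmap (Subgroup.mem_sup_left f.w2)
    rcases f.inv_cases h1 (by rw [show x * w * x⁻¹ * (x * w * x⁻¹) = x * (w * w) * x⁻¹ by group,
      f.ww, mul_one, mul_inv_cancel]) with h | h | h
    · rcases f.memV₁ _ h with e | e | e | e
      · exact absurd (conj_eq_one_iff.1 e) f.wne
      · exact absurd (inj w e) f.wz
      · exact Or.inl e
      · exact Or.inr e
    · exact absurd (h ▸ h2) f.wE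
    · exfalso
      rw [h] at h2
      apply f.wE
      have := mul_mem h2 (Subgroup.mem_sup_left f.z1 : z ∈ eOf V₁ c₁)
      rwa [mul_assoc, f.zz, mul_one] at this

theorem z_comm_D {t : X} (ht : t ∈ V₁ ⊔ V₂) : t * z = z * t := f.zc t (f.D_le_T ht)

theorem vw_eq : v * w = w * v * z := by
  have h : v = w * (w * v * w) * w := by
    rw [show w * (w * v * w) * w = (w * w) * v * (w * w) by group, f.ww, one_mul, mul_one]
  calc v * w = w * (w * v * w) * w * w := by rw [← h]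
    _ = w * (w * v * w) * (w * w) := by group
    _ = w * v * z := by rw [f.ww, mul_one, f.wvw, mul_assoc]

/-- Squares of the elements outside `T` lie in `V₁V₂`. -/
theorem sq_mem_D (hTS : T ≤ (S : Subgroup X)) (hne : T ≠ (S : Subgroup X)) {x : X}
    (hx : x ∈ (S : Subgroup X)) (hxn : x ∈ Subgroup.normalizer (T : Set X)) (hxT : x ∉ T) :
    x * x ∈ V₁ ⊔ V₂ := by
  have hxxT : x * x ∈ T := f.mul_mem_T hx hxn hxT hx hxn hxT
  refine (f.memT hxxT).resolve_right fun hd => ?_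
  set d := c₁ * (x * x) with hdd
  have hxx : x * x = c₁ * d := by rw [hdd, ← mul_assoc, f.cc, one_mul]
  obtain ⟨hv, hw⟩ := f.image_v hTS hne hx hxn hxT
  have hc := f.map_c hTS hx hxn hxT
  have hzd : x * d * x⁻¹ = z * d := by
    have e1 : x * c₁ * x⁻¹ * (x * d * x⁻¹) = c₁ * d := by
      rw [show x * c₁ * x⁻¹ * (x * d * x⁻¹) = x * (c₁ * d) * x⁻¹ by group, ← hxx]
      group
    rw [hc, mul_assoc] at e1
    have e2 := mul_left_cancel e1
    calc x * d * x⁻¹ = z * (z * (x * d * x⁻¹)) := by rw [← mul_assoc z z, f.zz, one_mul]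
      _ = z * d := by rw [e2]
  have hfz := f.fix_z hxn
  have hzdne : z * d ≠ d := fun e => f.zne (mul_eq_right.1 e)
  have hd' : d ∈ T := f.D_le_T hd
  rcases f.casesD hd with h | h | h | h | h
  · rcases f.memV₁ d h with e | e | e | e
    · exact hzdne (by rw [← hzd, e, mul_one, mul_inv_cancel])
    · exact hzdne (by rw [← hzd, e, hfz])
    all_goals
      apply f.wE
      have hmem : x * d * x⁻¹ ∈ eOf V₁ c₁ := by
        rw [hzd]; exact Subgroup.mem_sup_left (mul_mem f.z1 h)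
      rw [e] at hmem
      have hz1' : z ∈ eOf V₁ c₁ := Subgroup.mem_sup_left f.z1
    · rcases hv with e' | e' <;> rw [e'] at hmem
      · exact hmem
      · have := mul_mem hmem hz1'; rwa [mul_assoc, f.zz, mul_one] at this
    · rw [show x * (v * z) * x⁻¹ = x * v * x⁻¹ * (x * z * x⁻¹) by group, hfz] at hmem
      rcases hv with e' | e' <;> rw [e'] at hmem
      · have := mul_mem hmem hz1'; rwa [mul_assoc, f.zz, mul_one] at this
      · rwa [mul_assoc w z z, f.zz, mul_one] at hmem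
  · apply f.wE
    rw [h] at hzd
    have hz1' : z ∈ eOf V₁ c₁ := Subgroup.mem_sup_left f.z1
    have hmem : z * w ∈ eOf V₁ c₁ := by
      rw [← hzd]
      rcases hw with e' | e' <;> rw [e']
      · exact Subgroup.mem_sup_left f.v1
      · exact Subgroup.mem_sup_left (mul_mem f.v1 f.z1)
    have := mul_mem hz1' hmem
    rwa [← mul_assoc, f.zz, one_mul] at this
  · apply f.wE
    rw [h] at hzd
    have hmem : z * (w * z) ∈ eOf V₁ c₁ := by
      rw [← hzd, show x * (w * z) * x⁻¹ = x * w * x⁻¹ * (x * z * x⁻¹) by group, hfz]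
      rcases hw with e' | e' <;> rw [e']
      · exact Subgroup.mem_sup_left (mul_mem f.v1 f.z1)
      · exact Subgroup.mem_sup_left (mul_mem (mul_mem f.v1 f.z1) f.z1)
    rwa [← mul_assoc, ← f.zc w (f.V₂T f.w2), mul_assoc, f.zz, mul_one] at hmem
  all_goals
    have hcd : ∀ a ∈ T, c₁ * d * a * (c₁ * d)⁻¹ = d * a * d⁻¹ := by
      intro a ha
      have h1 : d * a * d⁻¹ ∈ T := mul_mem (mul_mem hd' ha) (inv_mem hd')
      calc c₁ * d * a * (c₁ * d)⁻¹ = c₁ * (d * a * d⁻¹) * c₁⁻¹ := by group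
        _ = d * a * d⁻¹ := by rw [← f.c_comm h1, mul_inv_cancel_right]
    have hwi : w⁻¹ = w := inv_eq_of_mul_eq_one_right f.ww
    have hwvv : w * v * v * (w * v)⁻¹ = v * z := by
      rw [show w * v * v * (w * v)⁻¹ = w * v * w⁻¹ by group, hwi, f.wvw]
    have hwwv : x * (x * v * x⁻¹) * x⁻¹ = v * z := by
      rw [show x * (x * v * x⁻¹) * x⁻¹ = x * x * v * (x * x)⁻¹ by group, hxx, hcd v (f.V₁T f.v1)]
      rcases (show d = w * v ∨ d = w * v * z by first | exact Or.inl h | exact Or.inr h) with e | e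
      · rw [e, hwvv]
      · rw [e, show w * v * z * v * (w * v * z)⁻¹ = w * v * (z * v * z⁻¹) * (w * v)⁻¹ by group,
          ← f.zc v (f.V₁T f.v1), mul_inv_cancel_right, hwvv]
    have hr : x * (w * v) * x⁻¹ = w * v := by
      rw [show x * (w * v) * x⁻¹ = x * w * x⁻¹ * (x * v * x⁻¹) by group]
      rcases hv with e | e <;> rw [e] at hwwv ⊢
      · rw [hwwv, mul_assoc, ← f.z_comm_D (Subgroup.mem_sup_right f.w2), ← mul_assoc, f.vw_eq,
          mul_assoc, f.zz, mul_one]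
      · rw [show x * (w * z) * x⁻¹ = x * w * x⁻¹ * (x * z * x⁻¹) by group, hfz] at hwwv
        rw [mul_right_cancel hwwv, ← mul_assoc, f.vw_eq, mul_assoc, f.zz, mul_one]
    apply hzdne
    rw [← hzd, h]
    first
      | exact hr
      | (rw [show x * (w * v * z) * x⁻¹ = x * (w * v) * x⁻¹ * (x * z * x⁻¹) by group, hr, hfz])

/-- At most one coset of `V₁V₂` outside `T` contains involutions. -/
theorem not_two_invol (hTS : T ≤ (S : Subgroup X)) (hne : T ≠ (S : Subgroup X)) {x t : X}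
    (hx : x ∈ (S : Subgroup X)) (hxn : x ∈ Subgroup.normalizer (T : Set X)) (hxT : x ∉ T)
    (hxx : x * x = 1) (ht : t ∈ V₁ ⊔ V₂) (hxt : x * c₁ * t * (x * c₁ * t) = 1) : False := by
  obtain ⟨hv, hw⟩ := f.image_v hTS hne hx hxn hxT
  have hc := f.map_c hTS hx hxn hxT
  have hfz := f.fix_z hxn
  have hxi : x⁻¹ = x := inv_eq_of_mul_eq_one_right hxx
  have hxtT : x * t * x⁻¹ ∈ T := (Subgroup.mem_normalizer_iff.1 hxn t).1 (f.D_le_T ht)
  -- `t^x t = z`
  have key : x * t * x⁻¹ * t = z := by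
    have e : x * c₁ * t * (x * c₁ * t) = z * (x * t * x⁻¹ * t) := by
      calc x * c₁ * t * (x * c₁ * t) = x * c₁ * x⁻¹ * (x * t * x⁻¹) * (x * x) * c₁ * t := by group
        _ = c₁ * z * (x * t * x⁻¹) * c₁ * t := by rw [hc, hxx, mul_one]
        _ = c₁ * (z * (x * t * x⁻¹) * c₁) * t := by group
        _ = c₁ * (c₁ * (z * (x * t * x⁻¹))) * t := by
            rw [f.c_comm (mul_mem (f.V₁T f.z1) hxtT)]
        _ = z * (x * t * x⁻¹ * t) := by rw [← mul_assoc c₁, f.cc]; group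
    rw [e] at hxt
    exact mul_left_cancel (hxt.trans f.zz.symm)
  have hz1' : z ∈ eOf V₁ c₁ := Subgroup.mem_sup_left f.z1
  have hbad1 : ∀ u, u ∈ eOf V₁ c₁ → x * v * x⁻¹ = u → False := by
    intro u hu e
    apply f.wE
    rcases hv with e' | e' <;> rw [e'] at e <;> rw [← e] at hu
    · exact hu
    · have := mul_mem hu hz1'; rwa [mul_assoc, f.zz, mul_one] at this
  have hbad2 : ∀ u, u ∈ eOf V₂ c₂ → x * w * x⁻¹ = u → False := by
    intro u hu e
    apply f.vE
    rcases hw with e' | e' <;> rw [e'] at e <;> rw [← e] at hu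
    · exact hu
    · have := mul_mem hu (Subgroup.mem_sup_left f.z2 : z ∈ eOf V₂ c₂)
      rwa [mul_assoc, f.zz, mul_one] at this
  -- the image of a rotation
  have hr : x * (w * v) * x⁻¹ = v * w := by
    rw [show x * (w * v) * x⁻¹ = x * w * x⁻¹ * (x * v * x⁻¹) by group]
    rcases hv with e | e
    · have e2 : x * w * x⁻¹ = v := by
        rw [← e, show x * (x * v * x⁻¹) * x⁻¹ = x * x * v * (x * x)⁻¹ by group, hxx]; group
      rw [e2, e]
    · have e2 : x * (w * z) * x⁻¹ = v := by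
        rw [← e, show x * (x * v * x⁻¹) * x⁻¹ = x * x * v * (x * x)⁻¹ by group, hxx]; group
      rw [show x * (w * z) * x⁻¹ = x * w * x⁻¹ * (x * z * x⁻¹) by group, hfz] at e2
      have e3 : x * w * x⁻¹ = v * z := by rw [← e2, mul_assoc (x * w * x⁻¹) z z, f.zz, mul_one]
      rw [e3, e, mul_assoc v z, ← mul_assoc z w z, ← f.zc w (f.V₂T f.w2), mul_assoc w z z, f.zz,
        mul_one]
  rcases f.casesD ht with h | h | h | h | h
  · rcases f.memV₁ t h with e | e | e | e <;> rw [e] at key h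
    · exact f.zne (by rw [← key]; group)
    · rw [hfz, f.zz] at key; exact f.zne key.symm
    · refine hbad1 (z * v) (mul_mem hz1' (Subgroup.mem_sup_left f.v1)) ?_
      rw [← key, mul_assoc (x * v * x⁻¹) v v, f.vv, mul_one]
    · refine hbad1 (z * v) (mul_mem hz1' (Subgroup.mem_sup_left f.v1)) ?_
      rw [show x * (v * z) * x⁻¹ = x * v * x⁻¹ * (x * z * x⁻¹) by group, hfz,
        mul_assoc (x * v * x⁻¹) z (v * z), ← mul_assoc z v z, ← f.zc v (f.V₁T f.v1),
        mul_assoc v z z, f.zz, mul_one] at key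
      rw [← key, mul_assoc (x * v * x⁻¹) v v, f.vv, mul_one]
  · refine hbad2 (z * w) (mul_mem (Subgroup.mem_sup_left f.z2) (Subgroup.mem_sup_left f.w2)) ?_
    rw [← key, h, mul_assoc (x * w * x⁻¹) w w, f.ww, mul_one]
  · refine hbad2 (z * w) (mul_mem (Subgroup.mem_sup_left f.z2) (Subgroup.mem_sup_left f.w2)) ?_
    rw [h, show x * (w * z) * x⁻¹ = x * w * x⁻¹ * (x * z * x⁻¹) by group, hfz,
      mul_assoc (x * w * x⁻¹) z (w * z), ← mul_assoc z w z, ← f.zc w (f.V₂T f.w2),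
      mul_assoc w z z, f.zz, mul_one] at key
    rw [← key, mul_assoc (x * w * x⁻¹) w w, f.ww, mul_one]
  · rw [h, hr, show v * w * (w * v) = v * (w * w) * v by group, f.ww, mul_one, f.vv] at key
    exact f.zne key.symm
  · rw [h, show x * (w * v * z) * x⁻¹ = x * (w * v) * x⁻¹ * (x * z * x⁻¹) by group, hr, hfz,
      (show Commute z (w * v) from
        (f.z_comm_D (mul_mem (Subgroup.mem_sup_right f.w2) (Subgroup.mem_sup_left f.v1))).symm).mul_mul_mul_comm,
      f.zz, mul_one, show v * w * (w * v) = v * (w * w) * v by group, f.ww, mul_one, f.vv] at key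
    exact f.zne key.symm

/-- The group has a subgroup of index 2. -/
theorem false_of_lt (hTS : T ≤ (S : Subgroup X)) (hne : T ≠ (S : Subgroup X))
    (hres : Cfsg.pResidual 2 X = ⊤) : False := by
  have hSn := f.le_normalizer_T hTS hne
  obtain ⟨n, hnS, hnn, hnT⟩ := f.exists_outside hTS hne
  obtain ⟨y, hyS, hyT, hyinv⟩ : ∃ y ∈ (S : Subgroup X), y ∉ T ∧
      ∀ d ∈ V₁ ⊔ V₂, y * d * (y * d) ≠ 1 := by
    by_cases hex : ∃ x ∈ (S : Subgroup X), x ∉ T ∧ x * x = 1
    · obtain ⟨x, hxS, hxT, hxx⟩ := hex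
      refine ⟨x * c₁, mul_mem hxS (hTS f.cT), fun h => hxT ?_,
        fun d hd h => f.not_two_invol hTS hne hxS (hSn hxS) hxT hxx hd h⟩
      have := mul_mem h f.cT
      rwa [mul_assoc, f.cc, mul_one] at this
    · push Not at hex
      refine ⟨n, hnS, hnT, fun d hd => hex _ (mul_mem hnS (hTS (f.D_le_T hd))) fun h => hnT ?_⟩
      have := mul_mem h (inv_mem (f.D_le_T hd))
      rwa [mul_inv_cancel_right] at this
  have hyy : y * y ∈ V₁ ⊔ V₂ := f.sq_mem_D hTS hne hyS (hSn hyS) hyT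
  have hyD : y ∈ Subgroup.normalizer ((V₁ ⊔ V₂ : Subgroup X) : Set X) := f.normD hTS hne (hSn hyS)
  let Q : Subgroup X :=
    { carrier := {q | q ∈ V₁ ⊔ V₂ ∨ y⁻¹ * q ∈ V₁ ⊔ V₂}
      one_mem' := Or.inl (one_mem _)
      mul_mem' := by
        intro a b ha hb
        have hconj : ∀ d ∈ V₁ ⊔ V₂, y⁻¹ * d * y ∈ V₁ ⊔ V₂ := fun d hd => by
          have := (Subgroup.mem_normalizer_iff.1 (inv_mem hyD) d).1 hd
          rwa [inv_inv] at this
        rcases ha with ha | ha <;> rcases hb with hb | hb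
        · exact Or.inl (mul_mem ha hb)
        · right
          rw [show y⁻¹ * (a * b) = y⁻¹ * a * y * (y⁻¹ * b) by group]
          exact mul_mem (hconj a ha) hb
        · right
          rw [show y⁻¹ * (a * b) = y⁻¹ * a * b by group]
          exact mul_mem ha hb
        · left
          rw [show a * b = y * y * (y⁻¹ * (y⁻¹ * a) * y) * (y⁻¹ * b) by group]
          exact mul_mem (mul_mem hyy (hconj _ ha)) hb
      inv_mem' := by
        intro a ha
        rcases ha with ha | ha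
        · exact Or.inl (inv_mem ha)
        · right
          rw [show y⁻¹ * a⁻¹ = y⁻¹ * (y⁻¹ * a)⁻¹ * y * (y * y)⁻¹ by group]
          refine mul_mem ?_ (inv_mem hyy)
          have := (Subgroup.mem_normalizer_iff.1 (inv_mem hyD) _).1 (inv_mem ha)
          rwa [inv_inv] at this }
  have hQmem : ∀ q, q ∈ Q ↔ q ∈ V₁ ⊔ V₂ ∨ y⁻¹ * q ∈ V₁ ⊔ V₂ := fun q => Iff.rfl
  have hQS : Q ≤ (S : Subgroup X) := by
    intro q hq
    rcases (hQmem q).1 hq with h | h
    · exact hTS (f.D_le_T h)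
    · have := mul_mem hyS (hTS (f.D_le_T h))
      rwa [mul_inv_cancel_left] at this
  have hcQ : c₁ ∉ Q := by
    intro h
    rcases (hQmem _).1 h with h | h
    · exact f.c_notD h
    · apply hyT
      have := mul_mem f.cT (inv_mem (f.D_le_T h))
      rwa [show c₁ * (y⁻¹ * c₁)⁻¹ = y by group] at this
  have hidx : Q.relIndex (S : Subgroup X) = 2 := by
    rw [Subgroup.relIndex_eq_two_iff]
    refine ⟨c₁, hTS f.cT, fun b hb => ?_⟩
    have hnot : ¬ (b * c₁ ∈ Q ∧ b ∈ Q) := fun ⟨h1, h2⟩ => hcQ (by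
      have := mul_mem (inv_mem h2) h1
      rwa [inv_mul_cancel_left] at this)
    by_cases hbQ : b ∈ Q
    · exact Or.inr ⟨hbQ, fun h => hnot ⟨h, hbQ⟩⟩
    refine Or.inl ⟨?_, hbQ⟩
    rw [hQmem]
    by_cases hbT : b ∈ T
    · left
      rw [f.c_comm hbT]
      exact (f.memT hbT).resolve_left fun h => hbQ ((hQmem b).2 (Or.inl h))
    · right
      have hyb : y⁻¹ * b ∈ T := f.mul_mem_T (inv_mem hyS) (inv_mem (hSn hyS))
        (fun h => hyT (by simpa using inv_mem h)) hb (hSn hb) hbT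
      rw [← mul_assoc, f.c_comm hyb]
      exact (f.memT hyb).resolve_left fun h => hbQ ((hQmem b).2 (Or.inr h))
  refine f.transfer_false S hTS hres hQS hidx fun q hq hq2 => ?_
  rcases (hQmem q).1 hq with h | h
  · exact h
  · exfalso
    have := hyinv _ h
    rw [mul_inv_cancel_left] at this
    exact this (mul_self_of_orderOf hq2)

/-- `Ω₁(Z(S)) = ⟨z⟩` when `T < S`. -/
theorem center_cases (hTS : T ≤ (S : Subgroup X)) (hne : T ≠ (S : Subgroup X)) {u : X}
    (hu : u ∈ Cfsg.omegaCenterOf (S : Subgroup X)) : u = 1 ∨ u = z := by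
  obtain ⟨huS, huc, -⟩ := mem_omegaCenterOf.1 hu
  obtain ⟨n, hnS, hnn, hnT⟩ := f.exists_outside hTS hne
  have huT : u ∈ T := by
    by_contra h
    have hun : u ∈ Subgroup.normalizer (T : Set X) :=
      mem_normalizer_of_forall fun t ht => by
        rw [← huc t (hTS ht), mul_inv_cancel_right]; exact ht
    have h1 := f.map_c hTS huS hun h
    rw [← huc c₁ (hTS f.cT), mul_inv_cancel_right] at h1
    exact f.zne (mul_eq_left.1 h1.symm)
  rcases f.central_cases huT (fun t ht => huc t (hTS ht)) with e | e | e | e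
  · exact Or.inl e
  · exact Or.inr e
  · exfalso
    have h1 := f.map_c hTS hnS hnn hnT
    rw [← e, huc n hnS, mul_inv_cancel_right] at h1
    exact f.zne (mul_eq_left.1 h1.symm)
  · exfalso
    have h1 := f.map_c hTS hnS hnn hnT
    have h2 : n * (c₁ * z) * n⁻¹ = c₁ * z := by rw [← e, huc n hnS, mul_inv_cancel_right]
    rw [show n * (c₁ * z) * n⁻¹ = n * c₁ * n⁻¹ * (n * z * n⁻¹) by group, h1, f.fix_z hnn,
      mul_assoc] at h2
    exact f.zne (mul_eq_left.1 (mul_left_cancel h2))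

end Frame

end H77.ZC
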