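import Cfsg.Agent.H77.ZMain
import Cfsg.Agent.H77.ZTransfer
import Cfsg.Agent.H31.Taussky
import Cfsg.Agent.S2947
import Cfsg.Agent.S2954

/-!
The structure theorem for ZN-groups.
-/

set_option autoImplicit false

namespace H77.ZC

open Cfsg

variable {G : Type*} [Group G] [Finite G]

/-- A maximal straddling 2-subgroup. -/
theorem exists_maxStraddling {M : Subgroup G} (h : Cfsg.straddlingTwoSubgroups M ≠ ∅) :
    ∃ T, T ∈ Cfsg.maxStraddlingTwoSubgroups M := by
  classical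
  obtain ⟨T₁, hT₁, h1⟩ := (Cfsg.straddlingTwoSubgroups M).toFinite.exists_maximalFor
    (fun T : Subgroup G => Cfsg.maxElemAbelianOrder T) _ (Set.nonempty_iff_ne_empty.2 h)
  set A := {T ∈ Cfsg.straddlingTwoSubgroups M |
    Cfsg.maxElemAbelianOrder T = Cfsg.maxElemAbelianOrder T₁}
  obtain ⟨T₂, hT₂, h2⟩ := A.toFinite.exists_maximalFor
    (fun T : Subgroup G => Nat.card ↥(Cfsg.thompsonSubgroupOf 2 T)) _ ⟨T₁, hT₁, rfl⟩
  set B := {T ∈ A | Nat.card ↥(Cfsg.thompsonSubgroupOf 2 T) = Nat.card ↥(Cfsg.thompsonSubgroupOf 2 T₂)}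
  obtain ⟨T₃, hT₃, h3⟩ := B.toFinite.exists_maximalFor (fun T : Subgroup G => Nat.card ↥T) _ ⟨T₂, hT₂, rfl⟩
  refine ⟨T₃, hT₃.1.1, fun T hT => ?_⟩
  have e1 : Cfsg.maxElemAbelianOrder T₃ = Cfsg.maxElemAbelianOrder T₁ := hT₃.1.2
  have g1 : Cfsg.maxElemAbelianOrder T ≤ Cfsg.maxElemAbelianOrder T₁ := by
    by_contra hc
    exact hc (h1 hT (le_of_lt (not_le.1 hc)))
  refine ⟨e1 ▸ g1, fun he => ?_⟩
  have hTA : T ∈ A := ⟨hT, he.trans e1⟩
  have g2 : Nat.card ↥(Cfsg.thompsonSubgroupOf 2 T) ≤ Nat.card ↥(Cfsg.thompsonSubgroupOf 2 T₂) := by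
    by_contra hc
    exact hc (h2 hTA (le_of_lt (not_le.1 hc)))
  refine ⟨hT₃.2 ▸ g2, fun he2 => ?_⟩
  have hTB : T ∈ B := ⟨hTA, he2.trans hT₃.2⟩
  by_contra hc
  exact hc (h3 hTB (le_of_lt (not_le.1 hc)))

/-- Strongly embedded subgroups under isomorphisms. -/
theorem stronglyEmbedded_equiv {A B : Type*} [Group A] [Group B] (e : A ≃* B) {M : Subgroup A}
    (h : Cfsg.IsStronglyEmbedded M) : Cfsg.IsStronglyEmbedded (M.map e.toMonoidHom) := by
  obtain ⟨h1, h2, h3⟩ := h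
  refine ⟨fun ht => h1 ?_, ?_, fun b hb => ?_⟩
  · apply Subgroup.map_injective (f := e.toMonoidHom) e.injective
    rw [ht]
    exact (Subgroup.map_top_of_surjective _ e.surjective).symm
  · rwa [Subgroup.card_map_of_injective (f := e.toMonoidHom) e.injective]
  · obtain ⟨a, rfl⟩ := e.surjective b
    have ha : a ∉ M := fun ha => hb ⟨a, ha, rfl⟩
    have hmap : (M.map e.toMonoidHom).map (MulAut.conj (e a)).toMonoidHom =
        (M.map (MulAut.conj a).toMonoidHom).map e.toMonoidHom := by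
      rw [Subgroup.map_map, Subgroup.map_map]
      congr 1
      ext x
      simp
    rw [hmap, ← Subgroup.map_inf _ _ _ e.injective,
      Subgroup.card_map_of_injective (f := e.toMonoidHom) e.injective]
    exact h3 a ha

/-- A 2-group with an element of centraliser order at most 4. -/
theorem commutator_index_four {S : Type*} [Group S] [Finite S] (hS : IsPGroup 2 S) {v : S}
    (hv : ∃ s, s * v ≠ v * s) (hC : Nat.card ↥(Subgroup.centralizer ({v} : Set S)) ≤ 4) :
    (commutator S).index = 4 := by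
  haveI : Fact (Nat.Prime 2) := ⟨Nat.prime_two⟩
  set C := Subgroup.centralizer ({v} : Set S) with hCdef
  have hle : C.index ≤ Nat.card ↥(commutator S) := by
    rw [Subgroup.index_eq_card]
    refine Nat.card_le_card_of_injective (fun c : S ⧸ C =>
      (⟨Quotient.out c * v * (Quotient.out c)⁻¹ * v⁻¹, by
        rw [← commutatorElement_def, commutator_def]
        exact Subgroup.commutator_mem_commutator (Subgroup.mem_top _) (Subgroup.mem_top _)⟩ :
        ↥(commutator S))) ?_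
    intro a b hab
    have h1 : Quotient.out a * v * (Quotient.out a)⁻¹ = Quotient.out b * v * (Quotient.out b)⁻¹ :=
      mul_right_cancel (congrArg Subtype.val hab)
    rw [← QuotientGroup.out_eq' a, ← QuotientGroup.out_eq' b, QuotientGroup.eq]
    refine Subgroup.mem_centralizer_singleton_iff.2 ?_
    set A := Quotient.out a
    set B := Quotient.out b
    calc A⁻¹ * B * v = A⁻¹ * (B * v * B⁻¹) * B := by group
      _ = A⁻¹ * (A * v * A⁻¹) * B := by rw [h1]
      _ = v * (A⁻¹ * B) := by group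
  have hle4 : (commutator S).index ≤ 4 := by
    have h1 : Nat.card ↥(commutator S) * (commutator S).index ≤ Nat.card ↥(commutator S) * 4 := by
      rw [Subgroup.card_mul_index, ← Subgroup.card_mul_index C, mul_comm _ 4]
      exact Nat.mul_le_mul hC hle
    exact Nat.le_of_mul_le_mul_left h1 Nat.card_pos
  have hgt : ¬ (commutator S).index ≤ 2 := by
    intro h2
    obtain ⟨s, hs⟩ := hv
    exact hs (H31.commutative_of_commutator_index_le_two hS h2 s v)
  obtain ⟨i, hi⟩ := hS.index (commutator S)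
  rcases Nat.lt_trichotomy i 2 with h | h | h
  · have : 2 ^ i ≤ 2 ^ 1 := Nat.pow_le_pow_right two_pos (by omega)
    omega
  · rw [hi, h]; norm_num
  · have : 2 ^ 3 ≤ 2 ^ i := Nat.pow_le_pow_right two_pos (by omega)
    omega

theorem quaternion_invol_central {n : ℕ} {g : QuaternionGroup n} (hn : 1 ≤ n) (hg : g * g = 1) :
    ∀ h : QuaternionGroup n, h * g = g * h := by
  haveI : NeZero n := ⟨by omega⟩
  cases g with
  | xa i =>
    exfalso
    have h4 : orderOf (QuaternionGroup.xa i : QuaternionGroup n) = 4 := QuaternionGroup.orderOf_xa i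
    have h2 : orderOf (QuaternionGroup.xa i : QuaternionGroup n) ∣ 2 :=
      orderOf_dvd_of_pow_eq_one (by rw [sq]; exact hg)
    rw [h4] at h2
    norm_num at h2
  | a i =>
    have hi : i + i = 0 := by
      rw [QuaternionGroup.a_mul_a, QuaternionGroup.one_def] at hg
      exact QuaternionGroup.a.inj hg
    have hneg : -i = i := neg_eq_of_add_eq_zero_left hi
    intro h
    cases h with
    | a j => simp [add_comm]
    | xa j => rw [QuaternionGroup.xa_mul_a, QuaternionGroup.a_mul_xa, sub_eq_add_neg, hneg]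

/-- A Sylow 2-subgroup containing a self-centralising four-group. -/
theorem dihedral_or_semidihedral {X : Type*} [Group X] [Finite X] {V : Subgroup X} (S : Sylow 2 X)
    (hVS : V ≤ (S : Subgroup X)) (hV4 : Nat.card ↥V = 4) (hVsq : ∀ v ∈ V, v * v = 1)
    (hC : Subgroup.centralizer (V : Set X) ≤ V) (hne : ¬ (S : Subgroup X) ≤ V) :
    ((∃ n : ℕ, 2 ≤ n ∧ Nonempty (↥(S : Subgroup X) ≃* DihedralGroup n)) ∨
      Cfsg.IsQuasiDihedral ↥(S : Subgroup X)) ∧
      ∃ y, ∀ u ∈ Cfsg.omegaCenterOf (S : Subgroup X), u = 1 ∨ u = y := by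
  haveI : Fact (Nat.Prime 2) := ⟨Nat.prime_two⟩
  have hSb : (S : Subgroup X) ≠ ⊥ := fun e => hne (e ▸ bot_le)
  obtain ⟨y, hy, hy2, hyc⟩ := exists_central_inv S.2 le_rfl Subgroup.le_normalizer hSb
  have hyV : y ∈ V := hC (mem_cent.2 fun u hu => (hyc u (hVS hu)).symm)
  obtain ⟨hyy, hy1⟩ := orderOf_two_iff.1 hy2
  obtain ⟨v, hv, hv1, hvy⟩ : ∃ v ∈ V, v ≠ 1 ∧ v ≠ y := by
    by_contra hc
    push Not at hc
    classical
    have hsub : (V : Set X) ⊆ (({1, y} : Finset X) : Set X) := by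
      intro u hu
      simp only [Finset.coe_insert, Finset.coe_singleton, Set.mem_insert_iff, Set.mem_singleton_iff]
      by_cases h : u = 1
      · exact Or.inl h
      · exact Or.inr (hc u hu h)
    have h1 := Nat.card_mono (Finset.finite_toSet ({1, y} : Finset X)) hsub
    rw [Nat.card_coe_set_eq, Nat.card_coe_set_eq, Set.ncard_coe_finset, ← Nat.card_coe_set_eq] at h1
    have h2 : Nat.card ↥V ≤ 2 := h1.trans Finset.card_le_two
    omega
  have hcases := four_cases hV4 hyy hyV hv hy1 hv1 hvy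
  have hCv : ∀ s ∈ (S : Subgroup X), s * v = v * s → s ∈ V := by
    intro s hs hsv
    refine hC (mem_cent.2 fun u hu => ?_)
    rcases hcases u hu with rfl | rfl | rfl | rfl
    · rw [mul_one, one_mul]
    · exact hyc s hs
    · exact hsv
    · exact ((show Commute s v from hsv).mul_right (hyc s hs)).eq
  have hnc : ∃ s ∈ (S : Subgroup X), s * v ≠ v * s := by
    by_contra hc
    push Not at hc
    exact hne fun s hs => hCv s hs (hc s hs)
  refine ⟨?_, y, fun u hu => ?_⟩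
  swap
  · obtain ⟨huS, huc, -⟩ := mem_omegaCenterOf.1 hu
    rcases hcases u (hC (mem_cent.2 fun w hw => (huc w (hVS hw)).symm)) with e | e | e | e
    · exact Or.inl e
    · exact Or.inr e
    all_goals
      exfalso
      obtain ⟨s, hs, hsv⟩ := hnc
    · exact hsv (e ▸ huc s hs)
    · apply hsv
      have h1 := huc s hs
      rw [e, ← mul_assoc, mul_assoc v y s, ← hyc s hs, ← mul_assoc] at h1
      exact mul_right_cancel h1
  set v' : ↥(S : Subgroup X) := ⟨v, hVS hv⟩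
  have hC4 : Nat.card ↥(Subgroup.centralizer ({v'} : Set ↥(S : Subgroup X))) ≤ 4 := by
    rw [← hV4]
    exact Nat.card_le_card_of_injective
      (fun c : ↥(Subgroup.centralizer ({v'} : Set ↥(S : Subgroup X))) =>
        (⟨((c : ↥(S : Subgroup X)) : X), hCv _ (c : ↥(S : Subgroup X)).2
          (congrArg Subtype.val (Subgroup.mem_centralizer_singleton_iff.1 c.2))⟩ : ↥V))
      (fun a b hab => Subtype.ext (Subtype.ext (congrArg (fun w : ↥V => (w : X)) hab)))
  have hvnc : ∃ s : ↥(S : Subgroup X), s * v' ≠ v' * s := by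
    obtain ⟨s, hs, hsv⟩ := hnc
    exact ⟨⟨s, hs⟩, fun e => hsv (congrArg Subtype.val e)⟩
  have hidx := commutator_index_four S.2 hvnc hC4
  rcases H31.classify_of_abelianization S.2 hidx with h4 | ⟨k, ⟨e⟩⟩ | ⟨k, hk, a, b, ha, hb, hab⟩ | ⟨k, ⟨e⟩⟩
  · exfalso
    apply hne
    exact (Subgroup.eq_of_le_of_card_ge hVS (by rw [h4, hV4])).ge
  · left
    refine ⟨2 ^ (k + 2), ?_, ⟨e⟩⟩
    exact le_trans (by norm_num) (Nat.pow_le_pow_right two_pos (show 1 ≤ k + 2 by omega))
  · exact Or.inr ⟨k + 3, by omega, hk, a, b, ha, hb, hab⟩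
  · exfalso
    obtain ⟨s, hs⟩ := hvnc
    have hv'2 : v' * v' = 1 := Subtype.ext (hVsq v hv)
    have h := quaternion_invol_central Nat.one_le_two_pow
      (g := e v') (by rw [← map_mul, hv'2, map_one]) (e s)
    exact hs (e.injective (by rw [map_mul, map_mul, h]))

/-- The structure theorem. -/
theorem zn_main (S : Sylow 2 G) (heven : Even (Nat.card G))
    (hN : ∀ L : Subgroup G, Cfsg.IsTwoLocal L → Group.IsSolvable ↥L)
    (hZ : Subgroup.centralizer (Cfsg.omegaCenterOf (S : Subgroup G) : Set G) ≤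
      Subgroup.normalizer ((S : Subgroup G) : Set G))
    (hO' : Cfsg.pPrimeCore 2 G = ⊥) (hO : Cfsg.pCore 2 G = ⊥) :
    (∃ M : Subgroup ↥(Cfsg.pResidual 2 G), Cfsg.IsStronglyEmbedded M) ∨
      ((∃ n : ℕ, 2 ≤ n ∧ Nonempty (↥((S : Subgroup G) ⊓ Cfsg.pResidual 2 G) ≃* DihedralGroup n)) ∨
        Cfsg.IsQuasiDihedral ↥((S : Subgroup G) ⊓ Cfsg.pResidual 2 G)) ∨
      (Nat.card ↥(Cfsg.omegaCenterOf (S : Subgroup G) ⊓ Cfsg.pResidual 2 G) = 2 ∧
        ∀ h ∈ Cfsg.pResidual 2 G, ∀ z ∈ Cfsg.omegaCenterOf (S : Subgroup G) ⊓ Cfsg.pResidual 2 G,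
          h * z * h⁻¹ ∈ (S : Subgroup G) → h * z * h⁻¹ ∈ Cfsg.omegaCenterOf (S : Subgroup G)) ∨
      (Nat.card ↥(Cfsg.omegaCenterOf (S : Subgroup G)) = 4 ∧
        Cfsg.omegaOne 2 ((S : Subgroup G) ⊓ Cfsg.pResidual 2 G) = Cfsg.omegaCenterOf (S : Subgroup G)) := by
  haveI : Fact (Nat.Prime 2) := ⟨Nat.prime_two⟩
  have hsol : ∀ t : G, orderOf t = 2 → Group.IsSolvable ↥(cx t) := by
    intro t ht
    have h1 : IsPGroup 2 ↥(Subgroup.zpowers t) :=
      IsPGroup.of_card (n := 1) (by rw [Nat.card_zpowers, ht, pow_one])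
    have h2 : Subgroup.zpowers t ≠ ⊥ := by
      rw [Ne, Subgroup.zpowers_eq_bot]; exact (orderOf_two_iff.1 ht).2
    haveI := hN _ ⟨_, h1, h2, rfl⟩
    refine Group.isSolvable_of_isSolvable_injective (Subgroup.inclusion_injective
      (show cx t ≤ Subgroup.normalizer (Subgroup.zpowers t : Set G) from fun g hg => ?_))
    refine mem_normalizer_of_forall fun u hu => ?_
    obtain ⟨i, rfl⟩ := Subgroup.mem_zpowers_iff.1 hu
    rw [← conj_zpow, mem_cx.1 hg, mul_inv_cancel_right]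
    exact hu
  rcases main S heven hsol hZ hO' hO with h | h | h | hchar
  · exact Or.inl h
  · exact Or.inr (Or.inr (Or.inl h))
  · exact Or.inr (Or.inr (Or.inr h))
  set H := Cfsg.pResidual 2 G with hH
  set Z := Cfsg.omegaCenterOf (S : Subgroup G) with hZdef
  haveI hHn : H.Normal := by rw [hH]; infer_instance
  set N := H ⊔ Z with hNdef
  haveI hNn : N.Normal := by
    rw [← Subgroup.normalizer_eq_top_iff, eq_top_iff, ← H5.pResidual_sup_sylow S]
    refine sup_le (le_sup_left.trans Subgroup.le_normalizer) fun s hs => ?_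
    refine Cfsg.Comp.sup_le_normalizer (T := (S : Subgroup G)) Cfsg.Comp.le_normalizer_of_normal ?_ hs
    intro t ht
    refine mem_normalizer_of_forall fun u hu => ?_
    rw [(mem_omegaCenterOf.1 hu).2.1 t ht, mul_inv_cancel_right]
    exact hu
  have hZS : Z ≤ (S : Subgroup G) := omegaCenterOf_le _
  -- Sylow subgroup of `N`
  have hSylTop : Cfsg.IsSylowTwoIn (S : Subgroup G) ⊤ := by
    refine ⟨le_top, S.2, ?_⟩
    rw [Subgroup.relIndex_top_right, ← Nat.not_even_iff_odd, even_iff_two_dvd]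
    exact S.not_dvd_index
  have hsylN : Cfsg.IsSylowTwoIn ((S : Subgroup G) ⊓ N) N :=
    sylTwo_inf_normal hSylTop le_top (by rw [Subgroup.normalizer_eq_top])
  have hsylH : Cfsg.IsSylowTwoIn ((S : Subgroup G) ⊓ H) H :=
    sylTwo_inf_normal hSylTop le_top (by rw [Subgroup.normalizer_eq_top])
  have hidx : ¬ 2 ∣ (((S : Subgroup G) ⊓ N).subgroupOf N).index := fun hd =>
    Nat.not_even_iff_odd.2 hsylN.2.2 (even_iff_two_dvd.2 hd)
  let S₀ : Sylow 2 ↥N := (hsylN.2.1.comap_subtype (K := N)).toSylow hidx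
  have hS₀ : ∀ x : ↥N, x ∈ (S₀ : Subgroup ↥N) ↔ (x : G) ∈ (S : Subgroup G) := fun x =>
    ⟨fun hx => (Subgroup.mem_subgroupOf.1 hx).1, fun hx => Subgroup.mem_subgroupOf.2 ⟨hx, x.2⟩⟩
  have hsolX : ∀ L : Subgroup ↥N, Cfsg.IsTwoLocal L → Group.IsSolvable ↥L := by
    rintro L ⟨T, hT, hT1, rfl⟩
    have hb : T.map N.subtype ≠ ⊥ := by
      rwa [Ne, Subgroup.map_eq_bot_iff_of_injective _ (Subgroup.subtype_injective N)]
    haveI := hN _ ⟨T.map N.subtype, hT.map _, hb, rfl⟩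
    let f : ↥(Subgroup.normalizer (T : Set ↥N)) →*
        ↥(Subgroup.normalizer ((T.map N.subtype : Subgroup G) : Set G)) :=
      (N.subtype.comp (Subgroup.normalizer (T : Set ↥N)).subtype).codRestrict _
        (fun c => Subgroup.le_normalizer_map N.subtype ⟨(c : ↥N), c.2, rfl⟩)
    exact Group.isSolvable_of_isSolvable_injective (f := f) (fun a b hab => Subtype.ext (Subtype.ext
      (congrArg (fun w : ↥(Subgroup.normalizer ((T.map N.subtype : Subgroup G) : Set G)) => (w : G)) hab)))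
  have hcen₀ : Subgroup.centralizer (Cfsg.omegaCenterOf (S₀ : Subgroup ↥N) : Set ↥N) ≤
      Subgroup.normalizer ((S₀ : Subgroup ↥N) : Set ↥N) := by
    intro c hc
    have hcn : (c : G) ∈ Subgroup.normalizer ((S : Subgroup G) : Set G) := by
      refine hZ (Subgroup.mem_centralizer_iff.2 fun u hu => ?_)
      have hu' : (⟨u, Subgroup.mem_sup_right hu⟩ : ↥N) ∈ Cfsg.omegaCenterOf (S₀ : Subgroup ↥N) :=
        mem_omegaCenterOf.2 ⟨(hS₀ _).2 (hZS hu),
          fun s hs => Subtype.ext ((mem_omegaCenterOf.1 hu).2.1 _ ((hS₀ s).1 hs)),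
          Subtype.ext (mem_omegaCenterOf.1 hu).2.2⟩
      exact congrArg Subtype.val (Subgroup.mem_centralizer_iff.1 hc _ hu')
    exact mem_normalizer_of_forall fun s hs =>
      (hS₀ _).2 ((Subgroup.mem_normalizer_iff.1 hcn (s : G)).1 ((hS₀ s).1 hs))
  have hcenX : ∀ S' : Sylow 2 ↥N,
      Subgroup.centralizer (Cfsg.omegaCenterOf (S' : Subgroup ↥N) : Set ↥N) ≤
        Subgroup.normalizer ((S' : Subgroup ↥N) : Set ↥N) := by
    intro S'
    obtain ⟨g, hg⟩ := MulAction.exists_smul_eq (↥N) S₀ S'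
    intro c hc
    have h1 : g⁻¹ * c * g ∈ Subgroup.centralizer
        (Cfsg.omegaCenterOf (S₀ : Subgroup ↥N) : Set ↥N) := by
      refine Subgroup.mem_centralizer_iff.2 fun u hu => ?_
      obtain ⟨huS, huc, hu2⟩ := mem_omegaCenterOf.1 hu
      have hu' : g * u * g⁻¹ ∈ Cfsg.omegaCenterOf (S' : Subgroup ↥N) := by
        rw [← hg, sylow_smul_coe]
        refine mem_omegaCenterOf.2 ⟨conj_mem_cmap huS, fun y hy => ?_,
          by rw [show g * u * g⁻¹ * (g * u * g⁻¹) = g * (u * u) * g⁻¹ by group, hu2, mul_one,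
            mul_inv_cancel]⟩
        have h2 := huc _ (mem_cmap.1 hy)
        calc y * (g * u * g⁻¹) = g * (g⁻¹ * y * g * u) * g⁻¹ := by group
          _ = g * (u * (g⁻¹ * y * g)) * g⁻¹ := by rw [h2]
          _ = g * u * g⁻¹ * y := by group
      have h3 := Subgroup.mem_centralizer_iff.1 hc _ hu'
      calc u * (g⁻¹ * c * g) = g⁻¹ * (g * u * g⁻¹ * c) * g := by group
        _ = g⁻¹ * (c * (g * u * g⁻¹)) * g := by rw [h3]
        _ = g⁻¹ * c * g * u := by group
    have h4 := conj_mem_cmap (g := g) (hcen₀ h1)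
    rw [cmap_normalizer, ← sylow_smul_coe, hg, show g * (g⁻¹ * c * g) * g⁻¹ = c by group] at h4
    exact h4
  have hOX : Cfsg.pCore 2 ↥N = ⊥ := by
    have h1 := H1.pCore_subgroup_map_eq 2 N
    rw [hO, bot_inf_eq, Subgroup.map_eq_bot_iff_of_injective _ (Subgroup.subtype_injective N)] at h1
    exact h1
  -- `O²(N) = H`
  set RX := Cfsg.pResidual 2 ↥N with hRX
  have hRXmap : RX.map N.subtype = H := by
    refine le_antisymm (H5.pResidual_subtype_map_le N) ?_
    rw [hH, Cfsg.pResidual, Subgroup.closure_le]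
    intro g hg
    refine ⟨⟨g, Subgroup.mem_sup_left (H5.mem_pResidual_of_coprime hg)⟩,
      H5.mem_pResidual_of_coprime ?_, rfl⟩
    rw [Subgroup.orderOf_mk]; exact hg
  let eH : ↥RX ≃* ↥H :=
    (RX.equivMapOfInjective N.subtype (Subgroup.subtype_injective N)).trans (MulEquiv.subgroupCongr hRXmap)
  have hRb : (S : Subgroup G) ⊓ H ≠ ⊥ := by
    intro hb
    have h1 := hsylH.2.2
    rw [hb, Subgroup.relIndex_bot_left] at h1
    have hHb : H = ⊥ := le_bot_iff.1 (hO' ▸ H1.le_pPrimeCore (Nat.coprime_two_right.2 h1))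
    have h2 := H5.pResidual_sup_sylow S
    rw [← hH, hHb, bot_sup_eq] at h2
    have hG : IsPGroup 2 G := (h2 ▸ S.2 : IsPGroup 2 ↥(⊤ : Subgroup G)).of_equiv Subgroup.topEquiv
    rw [H1.pCore_of_isPGroup hG] at hO
    have h3 : Nat.card G = 1 := by
      rw [← Subgroup.card_top (G := G), hO, Subgroup.card_bot]
    rw [h3] at heven
    exact Nat.not_even_one heven
  obtain ⟨z₀, hz₀, hz₀2, hz₀c⟩ := exists_central_inv S.2 inf_le_left
    (Cfsg.Comp.inf_le_normalizer Subgroup.le_normalizer Cfsg.Comp.le_normalizer_of_normal) hRb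
  have hevRX : Even (Nat.card ↥RX) := by
    rw [Nat.card_congr eH.toEquiv, even_iff_two_dvd, ← hz₀2, ← Subgroup.orderOf_mk z₀ hz₀.2]
    exact orderOf_dvd_natCard _
  have hS₀b : (S₀ : Subgroup ↥N) ≠ ⊥ := S₀.ne_bot_of_dvd_card (even_iff_two_dvd.1 hchar.1)
  set M := Subgroup.normalizer (Cfsg.thompsonSubgroupOf 2 (S₀ : Subgroup ↥N) : Set ↥N) with hMdef
  have hM : Cfsg.IsTwoLocal M := by
    refine ⟨_, S₀.2.to_le ?_, thompson_ne_bot S₀.2 hS₀b, rfl⟩
    exact Subgroup.map_subtype_le _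
  by_cases hstr : Cfsg.straddlingTwoSubgroups M = ∅
  · left
    have hse := (Cfsg.Agent.S2947.result hchar hsolX hcenX hOX S₀ M hM le_rfl).2 hstr
    haveI : RX.Normal := by rw [hRX]; infer_instance
    obtain ⟨M', hM'⟩ := stronglyEmbedded_residual S₀ RX le_rfl hevRX hse
    exact ⟨_, stronglyEmbedded_equiv eH hM'⟩
  obtain ⟨T, hT⟩ := exists_maxStraddling hstr
  obtain ⟨P₁, P₂, hne, hm₁, hm₂, ht₁, ht₂, hiso⟩ :=
    Cfsg.Agent.S2954.result hchar hsolX hcenX hOX S₀ M hM le_rfl T hT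
  obtain ⟨S', hTS'⟩ := ht₁.2.1.exists_le_sylow
  -- if the centre of `S'` has one involution then `N = H`
  have honeN : (∃ y, ∀ u ∈ Cfsg.omegaCenterOf (S' : Subgroup ↥N), u = 1 ∨ u = y) → N = H := by
    rintro ⟨y, hy⟩
    obtain ⟨g, hg⟩ := MulAction.exists_smul_eq (↥N) S₀ S'
    have hto : ∀ u ∈ Z, ∀ (hu : u ∈ N),
        g * ⟨u, hu⟩ * g⁻¹ ∈ Cfsg.omegaCenterOf (S' : Subgroup ↥N) := by
      intro u hu huN
      obtain ⟨huS, huc, hu2⟩ := mem_omegaCenterOf.1 hu
      rw [← hg, sylow_smul_coe]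
      refine mem_omegaCenterOf.2 ⟨conj_mem_cmap ((hS₀ _).2 huS), fun s hs => ?_, ?_⟩
      · have h2 : g⁻¹ * s * g * ⟨u, huN⟩ = ⟨u, huN⟩ * (g⁻¹ * s * g) :=
          Subtype.ext (huc _ ((hS₀ _).1 (mem_cmap.1 hs)))
        calc s * (g * ⟨u, huN⟩ * g⁻¹) = g * (g⁻¹ * s * g * ⟨u, huN⟩) * g⁻¹ := by group
          _ = g * (⟨u, huN⟩ * (g⁻¹ * s * g)) * g⁻¹ := by rw [h2]
          _ = g * ⟨u, huN⟩ * g⁻¹ * s := by group
      · rw [show g * (⟨u, huN⟩ : ↥N) * g⁻¹ * (g * ⟨u, huN⟩ * g⁻¹) = g * (⟨u, huN⟩ * ⟨u, huN⟩) * g⁻¹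
          by group, show (⟨u, huN⟩ : ↥N) * ⟨u, huN⟩ = 1 from Subtype.ext hu2, mul_one, mul_inv_cancel]
    have hz₀Z : z₀ ∈ Z := mem_omega_of_central hz₀.1 hz₀2 hz₀c
    have hz₀N : z₀ ∈ N := Subgroup.mem_sup_left hz₀.2
    have hy₀ : g * (⟨z₀, hz₀N⟩ : ↥N) * g⁻¹ = y :=
      (hy _ (hto z₀ hz₀Z hz₀N)).resolve_left fun e =>
        (orderOf_two_iff.1 hz₀2).2 (congrArg Subtype.val (conj_eq_one_iff.1 e))
    refine sup_eq_left.2 fun u hu => ?_
    rcases hy _ (hto u hu (Subgroup.mem_sup_right hu)) with e | e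
    · rw [show u = 1 from congrArg Subtype.val (conj_eq_one_iff.1 e)]; exact one_mem _
    · have e2 := mul_left_cancel (mul_right_cancel (e.trans hy₀.symm))
      rw [show u = z₀ from congrArg Subtype.val e2]; exact hz₀.2
  right; left
  rcases hiso with ⟨⟨e₁⟩, -⟩ | ⟨⟨e₁⟩, ⟨e₂⟩⟩
  · -- `Σ₄`
    obtain ⟨V, hV, hVc⟩ := four_of_iso e₁
    have hVp : IsPGroup 2 ↥V := IsPGroup.of_card (n := 2) (by rw [hV.card]; norm_num)
    have hVT : V ≤ T := (le_pCoreOf hV.le hVp hV.norm).trans (pCoreOf_le_sylTwo ht₁)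
    have hVb : V ≠ ⊥ := fun e => by have := hV.card; rw [e, Subgroup.card_bot] at this; omega
    have hCV : Subgroup.centralizer (V : Set ↥N) ≤ V := by
      intro c hc
      have hcn : c ∈ Subgroup.normalizer (V : Set ↥N) := mem_normalizer_of_forall fun u hu => by
        rw [mem_cent.1 hc u hu, mul_inv_cancel_right]; exact hu
      rw [normalizer_eq_of_max hm₁ hVp hVb hV.norm] at hcn
      exact hVc c hcn (mem_cent.1 hc)
    have hSV : ¬ (S' : Subgroup ↥N) ≤ V := by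
      intro hle
      have hTV : T = V := le_antisymm (hTS'.trans hle) hVT
      have h1 := relIndex_mul_card ht₁.1
      rw [hTV, hV.card, Nat.card_congr e₁.toEquiv, Nat.card_perm, Nat.card_eq_fintype_card,
        Fintype.card_fin] at h1
      have h2 : Nat.factorial 4 = 24 := rfl
      rw [h2] at h1
      have hodd := ht₁.2.2
      rw [hTV, Nat.odd_iff] at hodd
      omega
    obtain ⟨hshape, hone⟩ :=
      dihedral_or_semidihedral S' (hVT.trans hTS') hV.card hV.sq hCV hSV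
    have hNH := honeN hone
    let eR : ↥((S : Subgroup G) ⊓ H) ≃* ↥(S' : Subgroup ↥N) :=
      ((MulEquiv.subgroupCongr (congrArg ((S : Subgroup G) ⊓ ·) hNH.symm)).trans
        (Subgroup.subgroupOfEquivOfLe (inf_le_right : (S : Subgroup G) ⊓ N ≤ N)).symm).trans
        (Sylow.equiv S₀ S')
    rcases hshape with ⟨n, hn, ⟨e⟩⟩ | ⟨n, hn, hcard, a, b, ha, hb, hab⟩
    · exact Or.inl ⟨n, hn, ⟨eR.trans e⟩⟩
    · refine Or.inr ⟨n, hn, by rw [Nat.card_congr eR.toEquiv, hcard], eR.symm a, eR.symm b, ?_, ?_, ?_⟩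
      · rw [MulEquiv.orderOf_eq, ha]
      · rw [MulEquiv.orderOf_eq, hb]
      · rw [← map_inv, ← map_mul, ← map_mul, hab, map_pow]
  · -- `Σ₄ × ℤ₂`
    obtain ⟨V₁, c₁, s₁⟩ := side_of_iso e₁
    obtain ⟨V₂, c₂, s₂⟩ := side_of_iso e₂
    obtain ⟨z, v, w, f⟩ := (Pair.mk hne hm₁ hm₂ s₁ s₂ ht₁ ht₂).exists_frame
    by_cases hTeq : T = (S' : Subgroup ↥N)
    · left
      have hD := f.inf_res_eq S' hTeq.symm
      obtain ⟨g, hg⟩ := MulAction.exists_smul_eq (↥N) S' S₀
      have hmap : (S₀ : Subgroup ↥N) ⊓ RX = cmap g (V₁ ⊔ V₂) := by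
        haveI : RX.Normal := by rw [hRX]; infer_instance
        rw [← hD, cmap_inf, hTeq, ← sylow_smul_coe, hg,
          cmap_eq_of_mem_normalizer (A := RX) (by rw [Subgroup.normalizer_eq_top]; trivial)]
      have hSH : ((S₀ : Subgroup ↥N) ⊓ RX).map N.subtype = (S : Subgroup G) ⊓ H := by
        rw [Subgroup.map_inf _ _ _ (Subgroup.subtype_injective N), hRXmap]
        have h1 : (S₀ : Subgroup ↥N).map N.subtype = (S : Subgroup G) ⊓ N :=
          Subgroup.map_subgroupOf_eq_of_le inf_le_right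
        rw [h1, inf_assoc, inf_eq_right.2 (le_sup_left : H ≤ N)]
      obtain ⟨eD⟩ := f.dihedral
      refine ⟨4, by norm_num, ⟨?_⟩⟩
      exact ((((Subgroup.equivMapOfInjective (V₁ ⊔ V₂) (MulAut.conj g).toMonoidHom
        (MulAut.conj g).injective).trans (MulEquiv.subgroupCongr hmap.symm)).trans
        (((S₀ : Subgroup ↥N) ⊓ RX).equivMapOfInjective N.subtype (Subgroup.subtype_injective N))).trans
        (MulEquiv.subgroupCongr hSH)).symm.trans eD
    · exfalso
      have hNH := honeN ⟨z, fun u hu => f.center_cases hTS' hTeq hu⟩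
      refine f.false_of_lt hTS' hTeq ?_
      rw [eq_top_iff]
      intro x _
      have hx : (x : G) ∈ RX.map N.subtype := by
        rw [hRXmap, ← hNH]; exact x.2
      obtain ⟨y, hy, hyx⟩ := hx
      rwa [← Subgroup.subtype_injective N hyx]

end H77.ZC
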