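import Cfsg.Agent.H77.ZCore
import Cfsg.Agent.H7.Signalizer
import Cfsg.Agent.H7.SFT.Final
import Cfsg.Agent.H8.Coprime

/-!
Balance and completeness for the functor `a ↦ O(C(a))` on the involutions of a group with solvable
involution centralisers.
-/

set_option autoImplicit false

namespace H77.ZC

open Cfsg

variable {G : Type*} [Group G] [Finite G]

omit [Finite G] in
theorem mul_self_of_orderOf {x : G} (hx : orderOf x = 2) : x * x = 1 := by
  rw [← sq, ← hx]; exact pow_orderOf_eq_one x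

omit [Finite G] in
theorem orderOf_two_iff {x : G} : orderOf x = 2 ↔ x * x = 1 ∧ x ≠ 1 := by
  constructor
  · intro h
    exact ⟨mul_self_of_orderOf h, fun h1 => by rw [h1, orderOf_one] at h; omega⟩
  · rintro ⟨h1, h2⟩
    haveI : Fact (Nat.Prime 2) := ⟨Nat.prime_two⟩
    exact orderOf_eq_prime (by rw [sq, h1]) h2

omit [Finite G] in
theorem orderOf_conj_two {x : G} (g : G) (hx : orderOf x = 2) : orderOf (g * x * g⁻¹) = 2 := by
  have h1 := orderOf_injective (MulAut.conj g).toMonoidHom (MulAut.conj g).injective x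
  simp only [MulEquiv.coe_toMonoidHom, MulAut.conj_apply] at h1
  rw [h1, hx]

/-- The subgroup generated by an elementary abelian 2-group and a commuting involution. -/
theorem exists_elem_sup {U : Subgroup G} (hU : Cfsg.IsElementaryAbelian 2 U) {x : G} (hx : x * x = 1)
    (hc : ∀ u ∈ U, x * u = u * x) :
    Cfsg.IsElementaryAbelian 2 (U ⊔ Subgroup.zpowers x) ∧
      (x ∉ U → 2 * Nat.card ↥U ≤ Nat.card ↥(U ⊔ Subgroup.zpowers x)) := by
  have hUc : ∀ a ∈ U, ∀ b ∈ U, a * b = b * a := fun a ha b hb =>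
    congrArg Subtype.val (hU.1.is_comm.comm ⟨a, ha⟩ ⟨b, hb⟩)
  have hzp : ∀ p ∈ Subgroup.zpowers x, p = 1 ∨ p = x := by
    intro p hp
    obtain ⟨i, rfl⟩ := Subgroup.mem_zpowers_iff.1 hp
    rcases Int.even_or_odd i with ⟨j, rfl⟩ | ⟨j, rfl⟩
    · left
      rw [← two_mul, zpow_mul, zpow_two, hx, one_zpow]
    · right
      rw [zpow_add, zpow_mul, zpow_two, hx, one_zpow, one_mul, zpow_one]
  have hmem : ∀ y ∈ U ⊔ Subgroup.zpowers x, ∃ u ∈ U, y = u ∨ y = u * x := by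
    intro y hy
    have hn : Subgroup.zpowers x ≤ Subgroup.normalizer (U : Set G) := by
      rw [Subgroup.zpowers_le]
      refine mem_normalizer_of_forall fun u hu => ?_
      rw [hc u hu, mul_inv_cancel_right]; exact hu
    rw [sup_comm, ← SetLike.mem_coe, Subgroup.coe_mul_of_left_le_normalizer_right _ _ hn] at hy
    obtain ⟨p, hp, u, hu, rfl⟩ := hy
    rcases hzp p hp with rfl | rfl
    · exact ⟨u, hu, Or.inl (one_mul u)⟩
    · exact ⟨u, hu, Or.inr (hc u hu)⟩
  refine ⟨⟨⟨⟨fun a b => Subtype.ext ?_⟩⟩, ?_⟩, ?_⟩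
  · obtain ⟨u, hu, e⟩ := hmem a a.2
    obtain ⟨w, hw, e'⟩ := hmem b b.2
    show (a : G) * (b : G) = (b : G) * (a : G)
    rcases e with e | e <;> rcases e' with e' | e' <;> rw [e, e']
    · exact hUc u hu w hw
    · rw [← mul_assoc, hUc u hu w hw, mul_assoc, mul_assoc, hc u hu]
    · rw [mul_assoc, hc w hw, ← mul_assoc, hUc u hu w hw, mul_assoc]
    · rw [mul_assoc u x, ← mul_assoc x w, hc w hw, mul_assoc w x x, hx, mul_one,
        mul_assoc w x, ← mul_assoc x u, hc u hu, mul_assoc u x x, hx, mul_one]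
      exact hUc u hu w hw
  · intro y hy
    obtain ⟨u, hu, e | e⟩ := hmem y hy
    · rw [e]; exact hU.2 u hu
    · have h2 := hU.2 u hu
      rw [sq] at h2
      rw [e, sq, mul_assoc, ← mul_assoc x u, hc u hu, mul_assoc u x x, hx, mul_one, h2]
  · intro hxU
    have hle : U ≤ U ⊔ Subgroup.zpowers x := le_sup_left
    have h1 := relIndex_mul_card hle
    have h2 : U.relIndex (U ⊔ Subgroup.zpowers x) ≠ 1 := by
      rw [Ne, Subgroup.relIndex_eq_one]
      exact fun h => hxU (h (Subgroup.mem_sup_right (Subgroup.mem_zpowers x)))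
    have h3 : U.relIndex (U ⊔ Subgroup.zpowers x) ≠ 0 := fun h => by
      rw [h, zero_mul] at h1
      exact Nat.card_pos.ne h1
    rw [← h1]
    exact Nat.mul_le_mul_right _ (by omega)

variable (hsol : ∀ t : G, orderOf t = 2 → Group.IsSolvable ↥(cx t))
include hsol

theorem functor {A : Subgroup G} (hA : Cfsg.IsElementaryAbelian 2 A) :
    Cfsg.IsSolvableSignalizerFunctor 2 A (fun a => oc a) := by
  haveI : Fact (Nat.Prime 2) := ⟨Nat.prime_two⟩
  exact H7.centralizerPPrimeCore_functor hA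
    (fun a ha ha1 => hsol a (orderOf_two_iff.2 ⟨by rw [← sq]; exact hA.2 a ha, ha1⟩))

/-- Balance. -/
theorem oc_inf_cx_le {x y : G} (hx : orderOf x = 2) (hy : orderOf y = 2) (hxy : x * y = y * x) :
    oc x ⊓ cx y ≤ oc y := by
  obtain ⟨hxx, hx1⟩ := orderOf_two_iff.1 hx
  obtain ⟨hyy, hy1⟩ := orderOf_two_iff.1 hy
  have hbot : Cfsg.IsElementaryAbelian 2 (⊥ : Subgroup G) :=
    ⟨⟨⟨fun a b => Subsingleton.elim _ _⟩⟩, fun a ha => by rw [Subgroup.mem_bot.1 ha, one_pow]⟩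
  have hX := (exists_elem_sup hbot hxx (fun u hu => by rw [Subgroup.mem_bot.1 hu, one_mul, mul_one])).1
  rw [bot_sup_eq] at hX
  have hA := (exists_elem_sup hX hyy (fun u hu => by
    obtain ⟨i, rfl⟩ := Subgroup.mem_zpowers_iff.1 hu
    exact ((show Commute x y from hxy).zpow_left i).symm.eq)).1
  exact (functor hsol hA).1.2.2.2 x (Subgroup.mem_sup_left (Subgroup.mem_zpowers x)) hx1 y
    (Subgroup.mem_sup_right (Subgroup.mem_zpowers y)) hy1

/-- A noncyclic elementary group of centralising elements controls `O(C(x))`. -/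
theorem oc_le_of_four {A W : Subgroup G} (hA : Cfsg.IsElementaryAbelian 2 A) (hA4 : 4 ≤ Nat.card ↥A)
    {x : G} (hx : orderOf x = 2) (hxA : ∀ a ∈ A, x * a = a * x)
    (hW : ∀ a ∈ A, a ≠ 1 → oc a ≤ W) : oc x ≤ W := by
  haveI : Fact (Nat.Prime 2) := ⟨Nat.prime_two⟩
  refine H8.generation_elements hA (by norm_num; exact hA4) ?_ ?_ ?_
  · exact fun a ha => cx_le_normalizer_oc x (mem_cx.2 (hxA a ha).symm)
  · exact fun h => Nat.not_even_iff_odd.2 (oc_odd x) (even_iff_two_dvd.2 h)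
  · intro a ha ha1
    exact (oc_inf_cx_le hsol hx (orderOf_two_iff.2 ⟨by rw [← sq]; exact hA.2 a ha, ha1⟩) (hxA a ha)).trans
      (hW a ha ha1)

/-- `⟨O(C(u)) : u ∈ U#⟩`. -/
def wOf (U : Subgroup G) : Subgroup G := ⨆ u : {u : G // u ∈ U ∧ u ≠ 1}, oc (u : G)

theorem oc_le_wOf {U : Subgroup G} {u : G} (hu : u ∈ U) (hu1 : u ≠ 1) : oc u ≤ wOf U :=
  le_iSup (fun u : {u : G // u ∈ U ∧ u ≠ 1} => oc (u : G)) ⟨u, hu, hu1⟩

/-- Completeness over an elementary group of order at least 8 containing `U`. -/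
theorem wOf_complete {A U : Subgroup G} (hA : Cfsg.IsElementaryAbelian 2 A) (hA8 : 8 ≤ Nat.card ↥A)
    (hUA : U ≤ A) (hU4 : 4 ≤ Nat.card ↥U) :
    Odd (Nat.card ↥(wOf U)) ∧ ∀ a ∈ A, a ≠ 1 → wOf U ⊓ cx a = oc a := by
  haveI : Fact (Nat.Prime 2) := ⟨Nat.prime_two⟩
  have hA2 : 2 ^ 3 ≤ Nat.card ↥A := by norm_num; exact hA8
  have hθ := functor hsol hA
  have hA1 : A ≠ ⊥ := fun h => by rw [h, Subgroup.card_bot] at hA8; omega
  obtain ⟨hodd, hfix⟩ := (H84.SFT.closure_of_complete hθ hA1 (H7.SFT.complete hA hA2 hθ)).2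
  set W := ⨆ a : {a : G // a ∈ A ∧ a ≠ 1}, oc (a : G) with hW
  have hUel : Cfsg.IsElementaryAbelian 2 U :=
    ⟨⟨⟨fun a b => Subtype.ext (congrArg Subtype.val (hA.1.is_comm.comm ⟨a, hUA a.2⟩ ⟨b, hUA b.2⟩) : _)⟩⟩,
      fun a ha => hA.2 a (hUA ha)⟩
  have hAW : A ≤ Subgroup.normalizer (W : Set G) := by
    intro b hb
    refine mem_normalizer_of_cmap_eq (Subgroup.eq_of_le_of_card_ge ?_ (card_cmap _ _).ge)
    rw [hW, cmap, Subgroup.map_iSup]
    refine iSup_mono fun a => ?_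
    refine le_of_eq (cmap_eq_of_mem_normalizer (cx_le_normalizer_oc (a : G) ?_))
    exact mem_cx.2 (congrArg Subtype.val (hA.1.is_comm.comm ⟨b, hb⟩ ⟨a, a.2.1⟩))
  have heq : wOf U = W := by
    refine le_antisymm (iSup_le fun u => le_iSup (fun a : {a : G // a ∈ A ∧ a ≠ 1} => oc (a : G))
      ⟨u, hUA u.2.1, u.2.2⟩) ?_
    refine H8.generation_elements hUel (by norm_num; exact hU4) (hUA.trans hAW) hodd ?_
    intro u hu hu1
    exact (hfix u (hUA hu) hu1).le.trans (oc_le_wOf hsol hu hu1)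
  rw [heq]
  exact ⟨Nat.not_even_iff_odd.1 fun h => hodd (even_iff_two_dvd.1 h), hfix⟩

/-- The group generated over a normal subgroup is invariant. -/
theorem cmap_wOf_le {U : Subgroup G} {g : G} {W : Subgroup G}
    (h : ∀ u ∈ U, u ≠ 1 → oc (g * u * g⁻¹) ≤ W) : cmap g (wOf U) ≤ W := by
  rw [wOf, cmap, Subgroup.map_iSup]
  refine iSup_le fun u => ?_
  have := oc_conj g (u : G)
  rw [cmap] at this
  rw [this]
  exact h u u.2.1 u.2.2

end H77.ZC
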