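import Cfsg.Agent.H77.ZCaseBMain
import Cfsg.Agent.H5.PResidual
import Cfsg.Agent.H77.LocalCharP
import Cfsg.Agent.CompBasic
import Cfsg.Prelude.Def_JComponents

/-!
The reduction theorem for groups with solvable involution centralisers and `C(Ω₁(Z(S))) ≤ N(S)`.
-/

set_option autoImplicit false

namespace H77.ZC

open Cfsg

variable {G : Type*} [Group G] [Finite G]

/-- Cores of centralisers under isomorphisms. -/
theorem oc_equiv {X Y : Type*} [Group X] [Finite X] [Group Y] [Finite Y] (e : X ≃* Y) (x : X) :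
    (oc x).map e.toMonoidHom = oc (e x) := by
  have hC : (cx x).map e.toMonoidHom = cx (e x) := by
    ext y
    rw [mem_cx, Subgroup.mem_map]
    constructor
    · rintro ⟨c, hc, rfl⟩
      show e c * e x = e x * e c
      rw [← map_mul, ← map_mul, mem_cx.1 hc]
    · intro hy
      refine ⟨e.symm y, mem_cx.2 ?_, e.apply_symm_apply y⟩
      apply e.injective
      rw [map_mul, map_mul, e.apply_symm_apply, hy]
  let f : ↥(cx x) ≃* ↥(cx (e x)) :=
    ((cx x).equivMapOfInjective e.toMonoidHom e.injective).trans (MulEquiv.subgroupCongr hC)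
  have h := H1.map_pPrimeCore_equiv 2 f
  rw [oc, oc, Cfsg.centralizerPPrimeCore, Cfsg.centralizerPPrimeCore, ← h, Subgroup.map_map,
    Subgroup.map_map]
  congr 1

/-- Passing to a normal subgroup. -/
theorem oc_subgroup_eq_bot {N : Subgroup G} [N.Normal] (x : ↥N) (h : oc (x : G) = ⊥) : oc x = ⊥ := by
  set D : Subgroup G := (oc x).map N.subtype with hD
  have hDC : D ≤ cx (x : G) := by
    rintro _ ⟨d, hd, rfl⟩
    exact mem_cx.2 (congrArg Subtype.val (mem_cx.1 (oc_le x hd)))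
  have hn : cx (x : G) ≤ Subgroup.normalizer (D : Set G) := by
    intro c hc
    refine mem_normalizer_of_forall ?_
    rintro _ ⟨d, hd, rfl⟩
    let e : ↥N ≃* ↥N := (MulAut.conjNormal (H := N) c)
    have hex : e x = x := Subtype.ext (by
      show ((MulAut.conjNormal c x : ↥N) : G) = (x : G)
      rw [MulAut.conjNormal_apply, mem_cx.1 hc, mul_inv_cancel_right])
    have h1 : e d ∈ oc x := by
      have h2 := oc_equiv e x
      rw [hex] at h2
      rw [← h2]
      exact ⟨d, hd, rfl⟩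
    exact ⟨e d, h1, MulAut.conjNormal_apply c d⟩
  have hcard : (Nat.card ↥(D.subgroupOf (cx (x : G)))).Coprime 2 := by
    rw [Nat.card_congr (Subgroup.subgroupOfEquivOfLe hDC).toEquiv, hD,
      Subgroup.card_map_of_injective (Subgroup.subtype_injective _)]
    exact Nat.coprime_two_right.2 (oc_odd x)
  haveI : (D.subgroupOf (cx (x : G))).Normal := Subgroup.normal_subgroupOf_of_le_normalizer hn
  have hle : D ≤ oc (x : G) := by
    intro d hd
    exact ⟨⟨d, hDC hd⟩, H1.le_pPrimeCore hcard (Subgroup.mem_subgroupOf.2 hd), rfl⟩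
  rw [h, le_bot_iff, hD, Subgroup.map_eq_bot_iff_of_injective _ (Subgroup.subtype_injective N)] at hle
  exact hle

/-- A normalised nontrivial subgroup of a 2-group contains a central involution. -/
theorem exists_central_inv {S D : Subgroup G} (hS : IsPGroup 2 ↥S) (hDS : D ≤ S)
    (hDn : S ≤ Subgroup.normalizer (D : Set G)) (hD : D ≠ ⊥) :
    ∃ y ∈ D, orderOf y = 2 ∧ ∀ s ∈ S, s * y = y * s := by
  haveI : Fact (Nat.Prime 2) := ⟨Nat.prime_two⟩
  have hn : (D.subgroupOf S).Normal := Subgroup.normal_subgroupOf_of_le_normalizer hDn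
  have hne : D.subgroupOf S ≠ ⊥ := by
    rw [Ne, Subgroup.subgroupOf_eq_bot, disjoint_iff, inf_eq_left.2 hDS]
    exact hD
  have hint := H30.inf_center_ne_bot hS hn hne
  have hp := hS.to_subgroup (D.subgroupOf S ⊓ Subgroup.center ↥S)
  haveI := (Subgroup.nontrivial_iff_ne_bot _).2 hint
  obtain ⟨n, hn0, hn1⟩ := hp.nontrivial_iff_card.1 inferInstance
  obtain ⟨⟨y, hyD, hyc⟩, hy2⟩ := exists_prime_orderOf_dvd_card'
    (G := ↥(D.subgroupOf S ⊓ Subgroup.center ↥S)) 2 (hn1 ▸ dvd_pow_self 2 hn0.ne')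
  refine ⟨y, Subgroup.mem_subgroupOf.1 hyD, ?_,
    fun s hs => congrArg Subtype.val (Subgroup.mem_center_iff.1 hyc ⟨s, hs⟩)⟩
  rw [Subgroup.orderOf_coe]
  exact (Subgroup.orderOf_mk y (Subgroup.mem_inf.2 ⟨hyD, hyc⟩)).symm.trans hy2

omit [Finite G] in
theorem mem_omega_of_central {S : Subgroup G} {y : G} (hy : y ∈ S) (hy2 : orderOf y = 2)
    (hc : ∀ s ∈ S, s * y = y * s) : y ∈ Cfsg.omegaCenterOf S :=
  mem_omegaCenterOf.2 ⟨hy, hc, mul_self_of_orderOf hy2⟩

/-- Either a strongly embedded subgroup or all cores are trivial. -/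
theorem finish (S : Sylow 2 G) {U K : Subgroup G}
    (hsol : ∀ t : G, orderOf t = 2 → Group.IsSolvable ↥(cx t)) (heven : Even (Nat.card G))
    (hO' : Cfsg.pPrimeCore 2 G = ⊥) (hUS : U ≤ (S : Subgroup G))
    (hUc : ∀ u ∈ U, ∀ s ∈ (S : Subgroup G), u * s = s * u) (hK : Odd (Nat.card ↥K))
    (hF : ∀ g : G, cmap g U ≤ (S : Subgroup G) → cmap g K = K)
    (hO : ∀ x ∈ (S : Subgroup G), orderOf x = 2 → oc x ≤ K) :
    (∃ M : Subgroup G, Cfsg.IsStronglyEmbedded M) ∨ ∀ x : G, orderOf x = 2 → oc x = ⊥ := by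
  haveI : Fact (Nat.Prime 2) := ⟨Nat.prime_two⟩
  by_cases hKb : K = ⊥
  · right
    intro x hx
    have hzp : IsPGroup 2 ↥(Subgroup.zpowers x) :=
      IsPGroup.of_card (n := 1) (by rw [Nat.card_zpowers, hx, pow_one])
    obtain ⟨S', hS'⟩ := hzp.exists_le_sylow
    obtain ⟨g, hg⟩ := MulAction.exists_smul_eq G S' S
    have hgx : g * x * g⁻¹ ∈ (S : Subgroup G) := by
      rw [← hg, sylow_smul_coe]
      exact conj_mem_cmap (hS' (Subgroup.mem_zpowers x))
    have h1 := hO _ hgx (orderOf_conj_two g hx)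
    rw [hKb, le_bot_iff, ← oc_conj, cmap,
      Subgroup.map_eq_bot_iff_of_injective _ (MulAut.conj g).injective] at h1
    exact h1
  left
  set M := Subgroup.normalizer (K : Set G) with hM
  have hFM : ∀ g : G, cmap g U ≤ (S : Subgroup G) → g ∈ M :=
    fun g hg => mem_normalizer_of_cmap_eq (hF g hg)
  have hNS : Subgroup.normalizer ((S : Subgroup G) : Set G) ≤ M :=
    fun n hn => hFM n ((cmap_mono n hUS).trans (cmap_eq_of_mem_normalizer hn).le)
  have hne : M ≠ ⊤ := by
    intro htop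
    haveI : K.Normal := Subgroup.normalizer_eq_top_iff.1 htop
    exact hKb (le_bot_iff.1 (hO' ▸ H1.le_pPrimeCore (Nat.coprime_two_right.2 hK)))
  refine ⟨M, stronglyEmbedded_of_cx_le S hne heven hNS fun x hxM hx => ?_⟩
  exact cx_le S hUS hUc hsol hFM (Subgroup.le_normalizer.trans hNS)
    (fun y hy hy2 => (hO y hy hy2).trans Subgroup.le_normalizer) hxM hx

/-- A centre of 2-rank at least two: signalizer functors. -/
theorem caseA (S : Sylow 2 G) (hsol : ∀ t : G, orderOf t = 2 → Group.IsSolvable ↥(cx t))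
    (heven : Even (Nat.card G)) (hO' : Cfsg.pPrimeCore 2 G = ⊥)
    (h4 : 4 ≤ Nat.card ↥(Cfsg.omegaCenterOf (S : Subgroup G)))
    (h : 8 ≤ Nat.card ↥(Cfsg.omegaCenterOf (S : Subgroup G)) ∨
      ∃ y ∈ (S : Subgroup G), orderOf y = 2 ∧ y ∉ Cfsg.omegaCenterOf (S : Subgroup G)) :
    (∃ M : Subgroup G, Cfsg.IsStronglyEmbedded M) ∨ ∀ x : G, orderOf x = 2 → oc x = ⊥ := by
  set Z := Cfsg.omegaCenterOf (S : Subgroup G) with hZdef
  have hZ : Cfsg.IsElementaryAbelian 2 Z := omegaCenterOf_elem _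
  have hcomp : ∀ y ∈ (S : Subgroup G), orderOf y = 2 → y ∉ Z →
      Odd (Nat.card ↥(wOf Z)) ∧ oc y ≤ wOf Z := by
    intro y hy hy2 hyZ
    obtain ⟨hyy, hy1⟩ := orderOf_two_iff.1 hy2
    obtain ⟨hA, hcard⟩ := exists_elem_sup hZ hyy
      (fun u hu => (mem_omegaCenterOf.1 hu).2.1 y hy)
    obtain ⟨ho, hfix⟩ := wOf_complete hsol hA (by have := hcard hyZ; omega) le_sup_left h4
    exact ⟨ho, (hfix y (Subgroup.mem_sup_right (Subgroup.mem_zpowers y)) hy1).ge.trans inf_le_left⟩
  have hodd : Odd (Nat.card ↥(wOf Z)) := by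
    rcases h with h8 | ⟨y, hy, hy2, hyZ⟩
    · exact (wOf_complete hsol hZ h8 le_rfl h4).1
    · exact (hcomp y hy hy2 hyZ).1
  have hO : ∀ x ∈ (S : Subgroup G), orderOf x = 2 → oc x ≤ wOf Z := by
    intro x hx hx2
    by_cases hxZ : x ∈ Z
    · exact oc_le_wOf hsol hxZ (orderOf_two_iff.1 hx2).2
    · exact (hcomp x hx hx2 hxZ).2
  refine finish S hsol heven hO' (omegaCenterOf_le _)
    (fun u hu s hs => ((mem_omegaCenterOf.1 hu).2.1 s hs).symm) hodd ?_ hO
  intro g hg
  refine Subgroup.eq_of_le_of_card_ge (cmap_wOf_le hsol fun u hu hu1 => ?_) (card_cmap _ _).ge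
  exact hO _ (hg (conj_mem_cmap hu))
    (orderOf_conj_two g (orderOf_two_iff.2 ⟨(mem_omegaCenterOf.1 hu).2.2, hu1⟩))

/-- The part inside `H = O²(G)` when `Ω₁(Z(S)) = ⟨z⟩` and `z` is not weakly closed. -/
theorem subgroup_case (S : Sylow 2 G) (hsol : ∀ t : G, orderOf t = 2 → Group.IsSolvable ↥(cx t))
    (hO' : Cfsg.pPrimeCore 2 G = ⊥) {z : G}
    (hz2 : orderOf z = 2) (hzH : z ∈ Cfsg.pResidual 2 G) (hzS : z ∈ (S : Subgroup G))
    (hzc : ∀ s ∈ (S : Subgroup G), s * z = z * s)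
    (hzu : ∀ y ∈ (S : Subgroup G), orderOf y = 2 → (∀ s ∈ (S : Subgroup G), s * y = y * s) → y = z)
    (hcz : cx z ≤ Subgroup.normalizer ((S : Subgroup G) : Set G))
    {h : G} (hh : h ∈ Cfsg.pResidual 2 G) (hhS : h * z * h⁻¹ ∈ (S : Subgroup G)) (hhz : h * z * h⁻¹ ≠ z) :
    (∃ M : Subgroup ↥(Cfsg.pResidual 2 G), Cfsg.IsStronglyEmbedded M) ∨
      ∀ x : ↥(Cfsg.pResidual 2 G), orderOf x = 2 → oc x = ⊥ := by
  haveI : Fact (Nat.Prime 2) := ⟨Nat.prime_two⟩
  set H := Cfsg.pResidual 2 G with hH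
  haveI hHn : H.Normal := by rw [hH]; infer_instance
  have hSyl : Cfsg.IsSylowTwoIn ((S : Subgroup G) ⊓ H) H := by
    refine sylTwo_inf_normal (L := ⊤) ⟨le_top, S.2, ?_⟩ le_top ?_
    · rw [Subgroup.relIndex_top_right, ← Nat.not_even_iff_odd, even_iff_two_dvd]
      exact S.not_dvd_index
    · rw [Subgroup.normalizer_eq_top]
  have hidx : ¬ 2 ∣ (((S : Subgroup G) ⊓ H).subgroupOf H).index := fun hd =>
    Nat.not_even_iff_odd.2 hSyl.2.2 (even_iff_two_dvd.2 hd)
  let R : Sylow 2 ↥H := (hSyl.2.1.comap_subtype (K := H)).toSylow hidx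
  have hR : ∀ x : ↥H, x ∈ (R : Subgroup ↥H) ↔ (x : G) ∈ (S : Subgroup G) := fun x =>
    ⟨fun hx => (Subgroup.mem_subgroupOf.1 hx).1, fun hx => Subgroup.mem_subgroupOf.2 ⟨hx, x.2⟩⟩
  have hsolH : ∀ t : ↥H, orderOf t = 2 → Group.IsSolvable ↥(cx t) := by
    intro t ht
    haveI := hsol (t : G) (by rw [Subgroup.orderOf_coe, ht])
    let f : ↥(cx t) →* ↥(cx (t : G)) := (H.subtype.comp (cx t).subtype).codRestrict _
      (fun c => mem_cx.2 (congrArg Subtype.val (mem_cx.1 c.2)))
    exact Group.isSolvable_of_isSolvable_injective (f := f)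
      (fun a b hab => Subtype.ext (Subtype.ext (congrArg (fun w : ↥(cx (t : G)) => (w : G)) hab)))
  have hcore : BCore R (⟨z, hzH⟩ : ↥H) := by
    refine ⟨hsolH, (hR _).2 hzS, by rw [Subgroup.orderOf_mk, hz2],
      fun s hs => Subtype.ext (hzc s ((hR s).1 hs)), ?_⟩
    intro c hc
    have hcn := hcz (mem_cx.2 (congrArg Subtype.val (mem_cx.1 hc)))
    refine mem_normalizer_of_forall fun s hs => ?_
    exact (hR _).2 ((Subgroup.mem_normalizer_iff.1 hcn (s : G)).1 ((hR s).1 hs))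
  have hevH : Even (Nat.card ↥H) := by
    rw [even_iff_two_dvd, ← hz2, ← Subgroup.orderOf_mk z hzH]
    exact orderOf_dvd_natCard _
  have hO'H : Cfsg.pPrimeCore 2 ↥H = ⊥ := by
    have h1 := H1.pPrimeCore_subgroup_map_eq 2 H
    rw [hO', bot_inf_eq, Subgroup.map_eq_bot_iff_of_injective _ (Subgroup.subtype_injective H)] at h1
    exact h1
  set zH : ↥H := ⟨z, hzH⟩
  have hhH : (⟨h, hh⟩ : ↥H) * zH * (⟨h, hh⟩ : ↥H)⁻¹ ∈ (R : Subgroup ↥H) := (hR _).2 hhS
  have hUc : ∀ u ∈ Subgroup.zpowers zH, ∀ s ∈ (R : Subgroup ↥H), u * s = s * u := by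
    intro u hu s hs
    obtain ⟨i, rfl⟩ := Subgroup.mem_zpowers_iff.1 hu
    exact ((show Commute zH s from (hcore.zc s hs).symm).zpow_left i).eq
  have hF : ∀ g : ↥H, cmap g (Subgroup.zpowers zH) ≤ (R : Subgroup ↥H) → cmap g (oc zH) = oc zH :=
    fun g hg => hcore.cmap_oc (hg (conj_mem_cmap (Subgroup.mem_zpowers zH)))
  by_cases h4 : 4 ≤ Nat.card ↥(Cfsg.omegaCenterOf (R : Subgroup ↥H))
  · by_cases hy : 8 ≤ Nat.card ↥(Cfsg.omegaCenterOf (R : Subgroup ↥H)) ∨
        ∃ y ∈ (R : Subgroup ↥H), orderOf y = 2 ∧ y ∉ Cfsg.omegaCenterOf (R : Subgroup ↥H)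
    · exact caseA R hsolH hevH hO'H h4 hy
    -- three involutions, all conjugate to `z`
    refine finish R hsolH hevH hO'H (Subgroup.zpowers_le.2 hcore.zS) hUc (oc_odd zH) hF ?_
    push Not at hy
    intro x hx hx2
    by_cases hxz : x = zH
    · rw [hxz]
    have hxv : ∃ g : ↥H, g * zH * g⁻¹ = x ∨ ∃ s ∈ (S : Subgroup G), (x : G) = s * (h * z * h⁻¹) * s⁻¹ := by
      -- the fusing element and its `S`-translate
      obtain ⟨s, hs, hsv⟩ : ∃ s ∈ (S : Subgroup G), s * (h * z * h⁻¹) ≠ h * z * h⁻¹ * s := by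
        by_contra hc
        push Not at hc
        exact hhz (hzu _ hhS (orderOf_conj_two h hz2) hc)
      set v : ↥H := ⟨h, hh⟩ * zH * (⟨h, hh⟩ : ↥H)⁻¹ with hv
      have hv2 : orderOf v = 2 := orderOf_conj_two _ hcore.z2
      set w : ↥H := ⟨s * (v : G) * s⁻¹, hHn.conj_mem _ v.2 s⟩ with hw
      have hwR : w ∈ (R : Subgroup ↥H) :=
        (hR _).2 (mul_mem (mul_mem hs ((hR v).1 hhH)) (inv_mem hs))
      have hw2 : orderOf w = 2 := by
        rw [← Subgroup.orderOf_coe]
        exact orderOf_conj_two s (by rw [Subgroup.orderOf_coe]; exact hv2)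
      have hvz : v ≠ zH := fun e => hhz (congrArg Subtype.val e)
      have hwz : w ≠ zH := fun e => hvz (Subtype.ext (by
        have e' : s * (v : G) * s⁻¹ = z := congrArg Subtype.val e
        have : (v : G) = s⁻¹ * z * s := by rw [← e']; group
        rw [this, mul_assoc, ← hzc s hs, inv_mul_cancel_left]))
      have hwv : w ≠ v := fun e => hsv (mul_inv_eq_iff_eq_mul.1 (congrArg Subtype.val e))
      -- all involutions lie in a group of order four
      classical
      set Z := Cfsg.omegaCenterOf (R : Subgroup ↥H)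
      have hsub : (({1, zH, v, w, x} : Finset ↥H) : Set ↥H) ⊆ (Z : Set ↥H) := by
        intro y hy'
        simp only [Finset.coe_insert, Finset.coe_singleton, Set.mem_insert_iff,
          Set.mem_singleton_iff] at hy'
        rcases hy' with rfl | rfl | rfl | rfl | rfl
        · exact one_mem _
        · exact mem_omega_of_central hcore.zS hcore.z2 hcore.zc
        · exact hy.2 v hhH hv2
        · exact hy.2 w hwR hw2
        · exact hy.2 _ hx hx2
      by_contra hc
      push Not at hc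
      have hxv' : x ≠ v := fun e => (hc ⟨h, hh⟩).1 e.symm
      have hxw : x ≠ w := fun e => (hc 1).2 s hs (congrArg Subtype.val e)
      have hx1 : x ≠ 1 := (orderOf_two_iff.1 hx2).2
      have h5 : ({1, zH, v, w, x} : Finset ↥H).card = 5 := by
        rw [Finset.card_insert_of_notMem, Finset.card_insert_of_notMem, Finset.card_insert_of_notMem,
          Finset.card_insert_of_notMem, Finset.card_singleton] <;>
          simp only [Finset.mem_insert, Finset.mem_singleton, not_or]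
        · exact hxw.symm
        · exact ⟨hwv.symm, hxv'.symm⟩
        · exact ⟨hvz.symm, hwz.symm, Ne.symm hxz⟩
        · exact ⟨(orderOf_two_iff.1 hcore.z2).2.symm, (orderOf_two_iff.1 hv2).2.symm,
            (orderOf_two_iff.1 hw2).2.symm, hx1.symm⟩
      have h1 := Nat.card_mono (Set.toFinite (Z : Set ↥H)) hsub
      rw [Nat.card_coe_set_eq, Nat.card_coe_set_eq, Set.ncard_coe_finset, h5, ← Nat.card_coe_set_eq] at h1
      have h2 : Nat.card ↥Z = 4 := by
        have hpow : IsPGroup 2 ↥Z := R.2.to_le (omegaCenterOf_le _)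
        obtain ⟨k, hk⟩ := IsPGroup.iff_card.1 hpow
        have h3 := hy.1
        rw [hk] at h4 h3 ⊢
        have : 2 ≤ k := by
          by_contra hk'
          have : 2 ^ k ≤ 2 ^ 1 := Nat.pow_le_pow_right two_pos (by omega)
          omega
        have : k ≤ 2 := by
          by_contra hk'
          have : 2 ^ 3 ≤ 2 ^ k := Nat.pow_le_pow_right two_pos (by omega)
          omega
        rw [show k = 2 by omega]; norm_num
      have h1' : 5 ≤ Nat.card ↥Z := h1
      omega
    obtain ⟨g, hg | ⟨s, hs, hsx⟩⟩ := hxv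
    · rw [hcore.oc_eq_of_conj hg hx]
    · -- the conjugating element `s h` may be corrected into `H`
      have hsH : s * h * s⁻¹ ∈ H := hHn.conj_mem h hh s
      refine (hcore.oc_eq_of_conj (g := ⟨s * h * s⁻¹, hsH⟩) (Subtype.ext ?_) hx).le
      show s * h * s⁻¹ * z * (s * h * s⁻¹)⁻¹ = (x : G)
      rw [hsx]
      have hzs : s⁻¹ * z * s = z := by rw [mul_assoc, ← hzc s hs, inv_mul_cancel_left]
      calc s * h * s⁻¹ * z * (s * h * s⁻¹)⁻¹ = s * (h * (s⁻¹ * z * s) * h⁻¹) * s⁻¹ := by group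
        _ = s * (h * z * h⁻¹) * s⁻¹ := by rw [hzs]
  · -- `Ω₁(Z(R)) = ⟨z⟩`
    have hctx : BCtx R zH := by
      refine { toBCore := hcore, res := H5.pResidual_pResidual, zu := ?_ }
      intro y hy hy2 hyc
      by_contra hne
      apply h4
      classical
      have hsub : (({1, zH, y} : Finset ↥H) : Set ↥H) ⊆
          (Cfsg.omegaCenterOf (R : Subgroup ↥H) : Set ↥H) := by
        intro u hu
        simp only [Finset.coe_insert, Finset.coe_singleton, Set.mem_insert_iff,
          Set.mem_singleton_iff] at hu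
        rcases hu with rfl | rfl | rfl
        · exact one_mem _
        · exact mem_omega_of_central hcore.zS hcore.z2 hcore.zc
        · exact mem_omega_of_central hy hy2 hyc
      have h3 : ({1, zH, y} : Finset ↥H).card = 3 := by
        rw [Finset.card_eq_three]
        exact ⟨_, _, _, (orderOf_two_iff.1 hcore.z2).2.symm, (orderOf_two_iff.1 hy2).2.symm,
          Ne.symm hne, rfl⟩
      have h1 := Nat.card_mono (Set.toFinite (Cfsg.omegaCenterOf (R : Subgroup ↥H) : Set ↥H)) hsub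
      rw [Nat.card_coe_set_eq, Nat.card_coe_set_eq, Set.ncard_coe_finset, h3, ← Nat.card_coe_set_eq] at h1
      have h1' : 3 ≤ Nat.card ↥(Cfsg.omegaCenterOf (R : Subgroup ↥H)) := h1
      obtain ⟨k, hk⟩ := IsPGroup.iff_card.1 (R.2.to_le (omegaCenterOf_le (R : Subgroup ↥H)))
      rw [hk] at h1' ⊢
      have : 2 ≤ k := by
        by_contra hk'
        have : 2 ^ k ≤ 2 ^ 1 := Nat.pow_le_pow_right two_pos (by omega)
        omega
      exact le_trans (by norm_num) (Nat.pow_le_pow_right two_pos this)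
    refine finish R hsolH hevH hO'H (Subgroup.zpowers_le.2 hcore.zS) hUc (oc_odd zH) hF ?_
    exact fun x hx hx2 => hctx.oc_le_main
      ⟨⟨h, hh⟩, hhH, fun e => hhz (congrArg Subtype.val e)⟩ hx hx2

/-- Intersecting a strongly embedded subgroup with `O²(G)`. -/
theorem stronglyEmbedded_residual {X : Type*} [Group X] [Finite X] (S : Sylow 2 X) (N : Subgroup X)
    [N.Normal] (hres : Cfsg.pResidual 2 X ≤ N) (hne : Even (Nat.card ↥N))
    {M : Subgroup X} (hM : Cfsg.IsStronglyEmbedded M) :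
    ∃ M' : Subgroup ↥N, Cfsg.IsStronglyEmbedded M' := by
  haveI : Fact (Nat.Prime 2) := ⟨Nat.prime_two⟩
  -- conjugate `S` into `M`
  obtain ⟨P⟩ : Nonempty (Sylow 2 ↥M) := inferInstance
  obtain ⟨S', hS'⟩ := (P.2.map M.subtype).exists_le_sylow
  have hPb : (P : Subgroup ↥M).map M.subtype ≠ ⊥ := by
    rw [Ne, Subgroup.map_eq_bot_iff_of_injective _ (Subgroup.subtype_injective M)]
    exact P.ne_bot_of_dvd_card (even_iff_two_dvd.1 hM.2.1)
  have hS'M : (S' : Subgroup X) ≤ M := by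
    by_contra hnot
    have hlt : (P : Subgroup ↥M).map M.subtype < (S' : Subgroup X) :=
      lt_of_le_of_ne hS' fun e => hnot (e ▸ Subgroup.map_subtype_le _)
    have hgt := normalizer_inf_gt S'.2 hlt
    have hle : (S' : Subgroup X) ⊓ Subgroup.normalizer ((P : Subgroup ↥M).map M.subtype : Set X) ≤ M :=
      inf_le_right.trans (normalizer_le_of_stronglyEmbedded hM (P.2.map _) hPb (Subgroup.map_subtype_le _))
    have h2 : ((S' : Subgroup X) ⊓ Subgroup.normalizer ((P : Subgroup ↥M).map M.subtype : Set X)).subgroupOf M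
        = (P : Subgroup ↥M) := by
      refine P.3 ?_ (fun x hx => hgt.le ⟨x, hx, rfl⟩)
      exact ((S'.2.to_le inf_le_left : IsPGroup 2 ↥((S' : Subgroup X) ⊓
        Subgroup.normalizer ((P : Subgroup ↥M).map M.subtype : Set X) : Subgroup X))).comap_subtype (K := M)
    apply hgt.ne
    conv_lhs => rw [← h2, Subgroup.map_subgroupOf_eq_of_le hle]
  have hNM : ¬ N ≤ M := by
    intro hle
    apply hM.1
    rw [eq_top_iff, ← H5.pResidual_sup_sylow S']
    exact sup_le (hres.trans hle) hS'M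
  refine ⟨M.subgroupOf N, fun h => hNM (Subgroup.subgroupOf_eq_top.1 h), ?_, ?_⟩
  · -- an involution of `N` inside `M`
    have hsyl : Cfsg.IsSylowTwoIn ((S' : Subgroup X) ⊓ N) N := by
      refine sylTwo_inf_normal (L := ⊤) ⟨le_top, S'.2, ?_⟩ le_top ?_
      · rw [Subgroup.relIndex_top_right, ← Nat.not_even_iff_odd, even_iff_two_dvd]
        exact S'.not_dvd_index
      · rw [Subgroup.normalizer_eq_top]
    have hb : (S' : Subgroup X) ⊓ N ≠ ⊥ := by
      intro hb
      have h1 := hsyl.2.2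
      rw [hb, Subgroup.relIndex_bot_left] at h1
      exact Nat.not_even_iff_odd.2 h1 hne
    obtain ⟨y, hy, hy2, -⟩ := exists_central_inv (S'.2.to_le inf_le_left) (le_refl _)
      Subgroup.le_normalizer hb
    rw [even_iff_two_dvd, ← hy2]
    rw [← Subgroup.orderOf_mk (H := N) y hy.2, ← Subgroup.orderOf_mk (H := M.subgroupOf N) ⟨y, hy.2⟩
      (Subgroup.mem_subgroupOf.2 (hS'M hy.1))]
    exact orderOf_dvd_natCard _
  · intro g hg
    have hgM : (g : X) ∉ M := fun h => hg (Subgroup.mem_subgroupOf.2 h)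
    refine (hM.2.2 (g : X) hgM).of_dvd_nat ?_
    rw [← Subgroup.card_map_of_injective (f := N.subtype) (Subgroup.subtype_injective N)]
    refine Subgroup.card_dvd_of_le ?_
    rintro _ ⟨y, ⟨hy1, hy2⟩, rfl⟩
    obtain ⟨u, hu, rfl⟩ := hy2
    exact ⟨hy1, (u : X), hu, rfl⟩

/-- Trivial cores of involution centralisers give characteristic 2 type. -/
theorem charTwoType_of_oc {X : Type*} [Group X] [Finite X] (heven : Even (Nat.card X))
    (hsol : ∀ t : X, orderOf t = 2 → Group.IsSolvable ↥(cx t))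
    (h : ∀ t : X, orderOf t = 2 → oc t = ⊥) : Cfsg.IsCharacteristicTwoType X := by
  haveI : Fact (Nat.Prime 2) := ⟨Nat.prime_two⟩
  refine ⟨heven, fun T hT hT1 => ?_⟩
  set L := Subgroup.normalizer (T : Set X) with hL
  refine charP_subgroup_iff.2 (charP_of_pPrime_trivial fun k hk hkodd hkR => ?_)
  obtain ⟨z, hzT, hz2, hzc⟩ := exists_central_inv hT le_rfl Subgroup.le_normalizer hT1
  have hTL : T ≤ Cfsg.pCoreOf 2 L := le_pCoreOf Subgroup.le_normalizer hT le_rfl
  have hkT : ∀ t ∈ T, k * t = t * k := fun t ht => hkR t (hTL ht)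
  set C := cx z with hC
  have hkC : k ∈ C := mem_cx.2 (hkT z hzT)
  have hTC : T ≤ C := fun t ht => mem_cx.2 (hzc t ht)
  haveI := hsol z hz2
  have hO : Cfsg.pPrimeCore 2 ↥C = ⊥ := by
    have h1 := h z hz2
    rwa [oc, Cfsg.centralizerPPrimeCore,
      Subgroup.map_eq_bot_iff_of_injective _ (Subgroup.subtype_injective _)] at h1
  have hCC := charP_subgroup_iff.1 (H10.centralizer_pCore_le H10.isPSolvable_of_isSolvable hO)
  set Q := Cfsg.pCoreOf 2 C with hQ
  have hQn := le_normalizer_pCoreOf (p := 2) C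
  have hQp : IsPGroup 2 ↥Q := isPGroup_pCoreOf C
  -- `C_Q(T) ≤ O₂(L)`
  have hfix : ∀ x ∈ Q, (∀ t ∈ T, t * x = x * t) → k * x = x * k := by
    intro x hx hxT
    set CT := Subgroup.centralizer (T : Set X) with hCT
    have hCTC : CT ≤ C := fun c hc => mem_cx.2 (mem_cent.1 hc z hzT)
    have h1 : Q ⊓ CT ≤ Cfsg.pCoreOf 2 CT :=
      le_pCoreOf inf_le_right (hQp.to_le inf_le_left)
        (Cfsg.Comp.inf_le_normalizer (hCTC.trans hQn) Subgroup.le_normalizer)
    have hCTL : CT ≤ L := by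
      intro c hc
      refine mem_normalizer_of_forall fun t ht => ?_
      rw [mem_cent.1 hc t ht, mul_inv_cancel_right]; exact ht
    have h2 : Cfsg.pCoreOf 2 CT ≤ Cfsg.pCoreOf 2 L := by
      refine le_pCoreOf ((pCoreOf_le CT).trans hCTL) (isPGroup_pCoreOf CT) ?_
      haveI : (Cfsg.pCore 2 ↥CT).Characteristic := H1.pCore_characteristic 2 _
      exact (Cfsg.Comp.le_normalizer_centralizer le_rfl).trans (Cfsg.Comp.le_normalizer_map_subtype _)
    exact hkR x (h2 (h1 ⟨hx, mem_cent.2 fun t ht => (hxT t ht).symm⟩))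
  have hk2 := thompson_AxB hQp hT (hTC.trans hQn) hkodd
    (fun x hx => (Subgroup.mem_normalizer_iff.1 (hQn hkC) x).1 hx) hkT hfix
  exact eq_one_of_mem_pGroup hQp (hCC ⟨hkC, mem_cent.2 hk2⟩) hkodd

/-- The reduction theorem. -/
theorem main (S : Sylow 2 G) (heven : Even (Nat.card G))
    (hsol : ∀ t : G, orderOf t = 2 → Group.IsSolvable ↥(cx t))
    (hZ : Subgroup.centralizer (Cfsg.omegaCenterOf (S : Subgroup G) : Set G) ≤
      Subgroup.normalizer ((S : Subgroup G) : Set G))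
    (hO' : Cfsg.pPrimeCore 2 G = ⊥) (hO : Cfsg.pCore 2 G = ⊥) :
    (∃ M : Subgroup ↥(Cfsg.pResidual 2 G), Cfsg.IsStronglyEmbedded M) ∨
      (Nat.card ↥(Cfsg.omegaCenterOf (S : Subgroup G) ⊓ Cfsg.pResidual 2 G) = 2 ∧
        ∀ h ∈ Cfsg.pResidual 2 G, ∀ z ∈ Cfsg.omegaCenterOf (S : Subgroup G) ⊓ Cfsg.pResidual 2 G,
          h * z * h⁻¹ ∈ (S : Subgroup G) → h * z * h⁻¹ ∈ Cfsg.omegaCenterOf (S : Subgroup G)) ∨
      (Nat.card ↥(Cfsg.omegaCenterOf (S : Subgroup G)) = 4 ∧
        Cfsg.omegaOne 2 ((S : Subgroup G) ⊓ Cfsg.pResidual 2 G) = Cfsg.omegaCenterOf (S : Subgroup G)) ∨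
      Cfsg.IsCharacteristicTwoType ↥(Cfsg.pResidual 2 G ⊔ Cfsg.omegaCenterOf (S : Subgroup G)) := by
  haveI : Fact (Nat.Prime 2) := ⟨Nat.prime_two⟩
  set H := Cfsg.pResidual 2 G with hH
  set Z := Cfsg.omegaCenterOf (S : Subgroup G) with hZdef
  haveI hHn : H.Normal := by rw [hH]; infer_instance
  have hZS : Z ≤ (S : Subgroup G) := omegaCenterOf_le _
  have hZp : IsPGroup 2 ↥Z := S.2.to_le hZS
  obtain ⟨k, hk⟩ := IsPGroup.iff_card.1 hZp
  -- `R ≠ 1`
  have hR : (S : Subgroup G) ⊓ H ≠ ⊥ := by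
    intro hb
    have hsyl : Cfsg.IsSylowTwoIn ((S : Subgroup G) ⊓ H) H := by
      refine sylTwo_inf_normal (L := ⊤) ⟨le_top, S.2, ?_⟩ le_top ?_
      · rw [Subgroup.relIndex_top_right, ← Nat.not_even_iff_odd, even_iff_two_dvd]
        exact S.not_dvd_index
      · rw [Subgroup.normalizer_eq_top]
    have h1 := hsyl.2.2
    rw [hb, Subgroup.relIndex_bot_left] at h1
    have hHb : H = ⊥ := le_bot_iff.1 (hO' ▸ H1.le_pPrimeCore (Nat.coprime_two_right.2 h1))
    have h2 := H5.pResidual_sup_sylow S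
    rw [← hH, hHb, bot_sup_eq] at h2
    have hG : IsPGroup 2 G := (h2 ▸ S.2 : IsPGroup 2 ↥(⊤ : Subgroup G)).of_equiv Subgroup.topEquiv
    rw [H1.pCore_of_isPGroup hG] at hO
    have h3 : Nat.card G = 1 := by
      rw [← Subgroup.card_top (G := G), hO, Subgroup.card_bot]
    rw [h3] at heven
    exact Nat.not_even_one heven
  obtain ⟨z, hzSH, hz2, hzc⟩ := exists_central_inv S.2 inf_le_left
    (Cfsg.Comp.inf_le_normalizer Subgroup.le_normalizer Cfsg.Comp.le_normalizer_of_normal) hR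
  have hzZ : z ∈ Z := mem_omega_of_central hzSH.1 hz2 hzc
  have hk1 : 1 ≤ k := by
    by_contra h
    rw [show k = 0 by omega, pow_zero, Subgroup.card_eq_one] at hk
    rw [hk, Subgroup.mem_bot] at hzZ
    rw [hzZ, orderOf_one] at hz2
    omega
  have hGZ : ∀ (x : ↥(H ⊔ Z)), orderOf x = 2 → Group.IsSolvable ↥(cx x) := by
    intro t ht
    haveI := hsol (t : G) (by rw [Subgroup.orderOf_coe, ht])
    let f : ↥(cx t) →* ↥(cx (t : G)) := ((H ⊔ Z).subtype.comp (cx t).subtype).codRestrict _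
      (fun c => mem_cx.2 (congrArg Subtype.val (mem_cx.1 c.2)))
    exact Group.isSolvable_of_isSolvable_injective (f := f)
      (fun a b hab => Subtype.ext (Subtype.ext (congrArg (fun w : ↥(cx (t : G)) => (w : G)) hab)))
  have hevGZ : Even (Nat.card ↥(H ⊔ Z)) := by
    rw [even_iff_two_dvd, ← hz2, ← Subgroup.orderOf_mk z (Subgroup.mem_sup_left hzSH.2 : z ∈ H ⊔ Z)]
    exact orderOf_dvd_natCard _
  by_cases hk2 : 2 ≤ k
  · have h4 : 4 ≤ Nat.card ↥Z := by
      rw [hk]; exact le_trans (by norm_num) (Nat.pow_le_pow_right two_pos hk2)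
    by_cases hy : 8 ≤ Nat.card ↥Z ∨ ∃ y ∈ (S : Subgroup G), orderOf y = 2 ∧ y ∉ Z
    · rcases caseA S hsol heven hO' h4 hy with ⟨M, hM⟩ | hall
      · left
        refine stronglyEmbedded_residual S H le_rfl ?_ hM
        rw [even_iff_two_dvd, ← hz2, ← Subgroup.orderOf_mk z hzSH.2]
        exact orderOf_dvd_natCard _
      · right; right; right
        have hn : (H ⊔ Z).Normal := by
          have h1 : H ⊔ Z = H ⊔ Z := rfl
          rw [← Subgroup.normalizer_eq_top_iff, eq_top_iff, ← H5.pResidual_sup_sylow S]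
          refine sup_le (le_sup_left.trans Subgroup.le_normalizer) fun s hs => ?_
          refine Cfsg.Comp.sup_le_normalizer (T := (S : Subgroup G)) Cfsg.Comp.le_normalizer_of_normal ?_ hs
          intro t ht
          refine mem_normalizer_of_forall fun u hu => ?_
          rw [(mem_omegaCenterOf.1 hu).2.1 t ht, mul_inv_cancel_right]
          exact hu
        haveI := hn
        exact charTwoType_of_oc hevGZ hGZ fun x hx =>
          oc_subgroup_eq_bot x (hall (x : G) (by rw [Subgroup.orderOf_coe, hx]))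
    push Not at hy
    have hk' : k = 2 := by
      by_contra h
      have h8 := Nat.pow_le_pow_right (show 0 < 2 by norm_num) (show 3 ≤ k by omega)
      have := hy.1
      rw [hk] at this
      omega
    rw [hk', show (2 : ℕ) ^ 2 = 4 by norm_num] at hk
    have hinv : ∀ x ∈ (S : Subgroup G), x * x = 1 → x ∈ Z := by
      intro x hx hxx
      by_cases hx1 : x = 1
      · rw [hx1]; exact one_mem _
      · exact hy.2 x hx (orderOf_two_iff.2 ⟨hxx, hx1⟩)
    by_cases hZH : Z ≤ H
    · right; right; left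
      refine ⟨hk, le_antisymm ?_ ?_⟩
      · rw [Cfsg.omegaOne, Subgroup.closure_le]
        rintro x ⟨hx, hx2⟩
        exact hinv x hx.1 (by rw [← sq]; exact hx2)
      · intro x hx
        refine Subgroup.subset_closure ⟨⟨hZS hx, hZH hx⟩, ?_⟩
        rw [sq]; exact (mem_omegaCenterOf.1 hx).2.2
    · right; left
      refine ⟨?_, ?_⟩
      · have hd : Nat.card ↥(Z ⊓ H) ∣ 4 := hk ▸ Subgroup.card_dvd_of_le inf_le_left
        have hlt : Nat.card ↥(Z ⊓ H) ≠ 4 := fun e => hZH
          ((Subgroup.eq_of_le_of_card_ge inf_le_left (by rw [hk, e])) ▸ inf_le_right)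
        have h2 : 2 ≤ Nat.card ↥(Z ⊓ H) := by
          refine Nat.le_of_dvd Nat.card_pos ?_
          rw [← hz2, ← Subgroup.orderOf_mk z (Subgroup.mem_inf.2 ⟨hzZ, hzSH.2⟩ : z ∈ Z ⊓ H)]
          exact orderOf_dvd_natCard _
        have := Nat.le_of_dvd (by norm_num) hd
        have h3 : Nat.card ↥(Z ⊓ H) ≠ 3 := fun e => by rw [e] at hd; norm_num at hd
        omega
      · intro h _ w hw hwS
        refine hinv _ hwS ?_
        rw [show h * w * h⁻¹ * (h * w * h⁻¹) = h * (w * w) * h⁻¹ by group,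
          (mem_omegaCenterOf.1 hw.1).2.2, mul_one, mul_inv_cancel]
  · -- `Z = ⟨z⟩`
    have hk' : k = 1 := by omega
    rw [hk', pow_one] at hk
    have hZz : ∀ u ∈ Z, u = 1 ∨ u = z := by
      intro u hu
      classical
      by_contra hc
      push Not at hc
      have hsub : (({1, z, u} : Finset G) : Set G) ⊆ (Z : Set G) := by
        intro w hw
        simp only [Finset.coe_insert, Finset.coe_singleton, Set.mem_insert_iff,
          Set.mem_singleton_iff] at hw
        rcases hw with rfl | rfl | rfl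
        · exact one_mem _
        · exact hzZ
        · exact hu
      have h3 : ({1, z, u} : Finset G).card = 3 := by
        rw [Finset.card_eq_three]
        exact ⟨_, _, _, (orderOf_two_iff.1 hz2).2.symm, hc.1.symm, hc.2.symm, rfl⟩
      have h1 := Nat.card_mono (Set.toFinite (Z : Set G)) hsub
      rw [Nat.card_coe_set_eq, Nat.card_coe_set_eq, Set.ncard_coe_finset, h3, ← Nat.card_coe_set_eq] at h1
      have h1' : 3 ≤ Nat.card ↥Z := h1
      omega
    have hZH : Z ≤ H := fun u hu => by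
      rcases hZz u hu with rfl | rfl
      · exact one_mem _
      · exact hzSH.2
    by_cases hwc : ∃ h ∈ H, h * z * h⁻¹ ∈ (S : Subgroup G) ∧ h * z * h⁻¹ ≠ z
    swap
    · right; left
      refine ⟨by rw [inf_eq_left.2 hZH, hk], fun h hh w hw hwS => ?_⟩
      push Not at hwc
      rcases hZz w hw.1 with rfl | rfl
      · rw [mul_one, mul_inv_cancel]; exact one_mem _
      · rw [hwc h hh hwS]; exact hzZ
    obtain ⟨h, hh, hhS, hhz⟩ := hwc
    have hzu : ∀ y ∈ (S : Subgroup G), orderOf y = 2 → (∀ s ∈ (S : Subgroup G), s * y = y * s) → y = z :=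
      fun y hy hy2 hyc => (hZz y (mem_omega_of_central hy hy2 hyc)).resolve_left (orderOf_two_iff.1 hy2).2
    have hcz : cx z ≤ Subgroup.normalizer ((S : Subgroup G) : Set G) := by
      refine le_trans ?_ hZ
      intro c hc
      refine Subgroup.mem_centralizer_iff.2 fun u hu => ?_
      rcases hZz u hu with rfl | rfl
      · rw [one_mul, mul_one]
      · exact (mem_cx.1 hc).symm
    rcases subgroup_case S hsol hO' hz2 hzSH.2 hzSH.1 hzc hzu hcz hh hhS hhz with hM | hall
    · exact Or.inl hM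
    · right; right; right
      have hN : H ⊔ Z = H := sup_eq_left.2 hZH
      refine charTwoType_of_oc hevGZ hGZ fun x hx => ?_
      let e : ↥(H ⊔ Z) ≃* ↥H := MulEquiv.subgroupCongr hN
      have h1 := hall (e x) (by rw [MulEquiv.orderOf_eq, hx])
      rw [← oc_equiv e x, Subgroup.map_eq_bot_iff_of_injective _ e.injective] at h1
      exact h1

end H77.ZC
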