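import Cfsg.Agent.H77.ZFunctor
import Cfsg.Agent.H5.PResidual
import Cfsg.Prelude.Def_CaseTheorems
import Mathlib.GroupTheory.Perm.Basic
import Mathlib.Data.ZMod.Basic
import Mathlib.Data.Fintype.Perm

/-!
The data attached to a maximal 2-local subgroup isomorphic to `Σ₄` or `Σ₄ × ℤ₂`.
-/

set_option autoImplicit false

namespace H77.ZC

open Cfsg

/-- Membership in the normal four-group of `Σ₄`. -/
def inK4 (σ : Equiv.Perm (Fin 4)) : Prop := σ * σ = 1 ∧ (σ = 1 ∨ ∀ i, σ i ≠ i)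

instance : DecidablePred inK4 := fun σ => inferInstanceAs (Decidable (_ ∧ _))

set_option maxRecDepth 100000 in
theorem inK4_mul : ∀ a b, inK4 a → inK4 b → inK4 (a * b) := by decide +kernel

set_option maxRecDepth 100000 in
theorem inK4_conj : ∀ g a, inK4 a → inK4 (g * a * g⁻¹) := by decide +kernel

set_option maxRecDepth 100000 in
theorem inK4_cent : ∀ g : Equiv.Perm (Fin 4), (∀ k, inK4 k → g * k = k * g) → inK4 g := by
  decide +kernel

set_option maxRecDepth 100000 in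
theorem inK4_trans : ∀ a b, inK4 a → inK4 b → a ≠ 1 → b ≠ 1 → ∃ g : Equiv.Perm (Fin 4), g * a * g⁻¹ = b := by
  decide +kernel

set_option maxRecDepth 100000 in
theorem inK4_comm : ∀ a, inK4 a →
    ∃ r : Equiv.Perm (Fin 4), r * r * r = 1 ∧ ∃ w, inK4 w ∧ a = r * w * r⁻¹ * w⁻¹ := by
  decide +kernel

set_option maxRecDepth 100000 in
theorem card_inK4 : (Finset.univ.filter inK4).card = 4 := by decide +kernel

/-- The normal four-group of `Σ₄`. -/
def k4 : Subgroup (Equiv.Perm (Fin 4)) where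
  carrier := {σ | inK4 σ}
  one_mem' := ⟨one_mul 1, Or.inl rfl⟩
  mul_mem' := fun {a b} ha hb => inK4_mul a b ha hb
  inv_mem' := fun {a} ha => by
    have h : a⁻¹ = a := inv_eq_of_mul_eq_one_right ha.1
    rw [Set.mem_ofPred_eq, h]; exact ha

theorem mem_k4 {σ : Equiv.Perm (Fin 4)} : σ ∈ k4 ↔ inK4 σ := Iff.rfl

theorem natCard_k4 : Nat.card ↥k4 = 4 := by
  classical
  rw [Nat.card_eq_fintype_card]
  exact (Fintype.card_of_subtype (Finset.univ.filter inK4) fun σ => by simp [mem_k4]).trans card_inK4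

variable {X : Type*} [Group X] [Finite X]

/-- A four-group normal in `P`, with transitive action and inside `O²`. -/
structure Four (P V : Subgroup X) : Prop where
  le : V ≤ P
  norm : P ≤ Subgroup.normalizer (V : Set X)
  card : Nat.card ↥V = 4
  sq : ∀ v ∈ V, v * v = 1
  trans : ∀ a ∈ V, ∀ b ∈ V, a ≠ 1 → b ≠ 1 → ∃ g ∈ P, g * a * g⁻¹ = b
  res : V ≤ Cfsg.pResidual 2 X

/-- The data of `P ≅ Σ₄ × ℤ₂`. -/
structure Side (P V : Subgroup X) (c : X) : Prop extends Four P V where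
  cP : c ∈ P
  cc : ∀ p ∈ P, p * c = c * p
  c2 : orderOf c = 2
  cV : c ∉ V
  cen : ∀ p ∈ P, (∀ v ∈ V, p * v = v * p) → p ∈ V ∨ c * p ∈ V
  card48 : Nat.card ↥P = 48

omit [Finite X] in
theorem four_of_hom {P : Subgroup X} (φ : Equiv.Perm (Fin 4) →* X) (hφ : Function.Injective φ)
    (hφP : ∀ σ, φ σ ∈ P) (hPn : ∀ p ∈ P, ∀ a, inK4 a → ∃ b, inK4 b ∧ p * φ a * p⁻¹ = φ b) :
    Four P (k4.map φ) := by
  refine ⟨?_, ?_, ?_, ?_, ?_, ?_⟩
  · rintro _ ⟨σ, -, rfl⟩; exact hφP σ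
  · intro p hp
    have : ∀ q ∈ P, ∀ v ∈ k4.map φ, q * v * q⁻¹ ∈ k4.map φ := by
      rintro q hq _ ⟨a, ha, rfl⟩
      obtain ⟨b, hb, hab⟩ := hPn q hq a ha
      exact ⟨b, hb, hab.symm⟩
    rw [Subgroup.mem_normalizer_iff]
    intro v
    refine ⟨fun hv => this p hp v hv, fun hv => ?_⟩
    have h := this p⁻¹ (inv_mem hp) _ hv
    rwa [show p⁻¹ * (p * v * p⁻¹) * p⁻¹⁻¹ = v by group] at h
  · rw [Subgroup.card_map_of_injective hφ, natCard_k4]
  · rintro _ ⟨a, ha, rfl⟩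
    rw [← map_mul, (mem_k4.1 ha).1, map_one]
  · rintro _ ⟨a, ha, rfl⟩ _ ⟨b, hb, rfl⟩ ha1 hb1
    obtain ⟨g, hg⟩ := inK4_trans a b ha hb (fun e => ha1 (by rw [e, map_one]))
      (fun e => hb1 (by rw [e, map_one]))
    exact ⟨φ g, hφP g, by rw [← hg]; simp⟩
  · rintro _ ⟨a, ha, rfl⟩
    obtain ⟨r, hr, w, -, rfl⟩ := inK4_comm a ha
    have hn : (Cfsg.pResidual 2 X).Normal := inferInstance
    have hr' : φ r ∈ Cfsg.pResidual 2 X := by
      refine H5.mem_pResidual_of_coprime (Nat.Coprime.coprime_dvd_left (?_ : orderOf (φ r) ∣ 3) (by norm_num))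
      refine orderOf_dvd_of_pow_eq_one ?_
      rw [← map_pow, pow_succ, pow_succ, pow_one, hr, map_one]
    rw [show r * w * r⁻¹ * w⁻¹ = r * (w * r⁻¹ * w⁻¹) by group, map_mul, map_mul, map_mul, map_inv, map_inv]
    exact mul_mem hr' (hn.conj_mem _ (inv_mem hr') _)

omit [Finite X] in
/-- `P ≅ Σ₄`. -/
theorem four_of_iso {P : Subgroup X} (e : ↥P ≃* Equiv.Perm (Fin 4)) :
    ∃ V, Four P V ∧ ∀ p ∈ P, (∀ v ∈ V, p * v = v * p) → p ∈ V := by
  set φ : Equiv.Perm (Fin 4) →* X := P.subtype.comp e.symm.toMonoidHom with hφ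
  have hinj : Function.Injective φ := Subtype.val_injective.comp e.symm.injective
  refine ⟨k4.map φ, four_of_hom φ hinj (fun σ => (e.symm σ).2) ?_, ?_⟩
  · intro p hp a ha
    refine ⟨e ⟨p, hp⟩ * a * (e ⟨p, hp⟩)⁻¹, inK4_conj _ _ ha, ?_⟩
    simp [hφ, map_mul]
  · intro p hp hc
    refine ⟨e ⟨p, hp⟩, inK4_cent _ fun k hk => ?_, by simp [hφ]⟩
    apply hinj
    rw [map_mul, map_mul]
    have h1 : φ (e ⟨p, hp⟩) = p := by simp [hφ]
    rw [h1]
    exact hc _ ⟨k, hk, rfl⟩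

omit [Finite X] in
/-- `P ≅ Σ₄ × ℤ₂`. -/
theorem side_of_iso {P : Subgroup X} (e : ↥P ≃* Equiv.Perm (Fin 4) × Multiplicative (ZMod 2)) :
    ∃ V c, Side P V c := by
  have htwo : ∀ m : Multiplicative (ZMod 2), m = 1 ∨ m = Multiplicative.ofAdd 1 := by decide
  set φ : Equiv.Perm (Fin 4) →* X :=
    (P.subtype.comp e.symm.toMonoidHom).comp (MonoidHom.inl _ _) with hφ
  have hφa : ∀ σ, φ σ = ((e.symm (σ, 1) : ↥P) : X) := fun σ => rfl
  have hinj : Function.Injective φ := fun a b h => by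
    rw [hφa, hφa] at h
    exact (Prod.ext_iff.1 (e.symm.injective (Subtype.ext h))).1
  set c : X := ((e.symm (1, Multiplicative.ofAdd 1) : ↥P) : X) with hc
  have hdec : ∀ p (hp : p ∈ P), p = φ (e ⟨p, hp⟩).1 ∨ c * p = φ (e ⟨p, hp⟩).1 := by
    intro p hp
    rcases htwo (e ⟨p, hp⟩).2 with h | h
    · left
      rw [hφa, ← h, Prod.mk.eta, e.symm_apply_apply]
    · right
      have h1 : e (e.symm (1, Multiplicative.ofAdd 1) * ⟨p, hp⟩) = ((e ⟨p, hp⟩).1, 1) := by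
        rw [map_mul, e.apply_symm_apply]
        refine Prod.ext ?_ ?_
        · simp
        · show Multiplicative.ofAdd (1 : ZMod 2) * (e ⟨p, hp⟩).2 = 1
          rw [h]; decide
      rw [hφa, ← h1, e.symm_apply_apply]
      rfl
  refine ⟨k4.map φ, c, ?_⟩
  refine { toFour := four_of_hom φ hinj (fun σ => (e.symm (σ, 1)).2) ?_, cP := (e.symm _).2, cc := ?_,
           c2 := ?_, cV := ?_, cen := ?_, card48 := ?_ }
  · intro p hp a ha
    refine ⟨(e ⟨p, hp⟩).1 * a * (e ⟨p, hp⟩).1⁻¹, inK4_conj _ _ ha, ?_⟩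
    rw [hφa, hφa]
    have h1 : (⟨p, hp⟩ : ↥P) * e.symm (a, 1) * (⟨p, hp⟩ : ↥P)⁻¹ =
        e.symm ((e ⟨p, hp⟩).1 * a * (e ⟨p, hp⟩).1⁻¹, 1) := by
      apply e.injective
      rw [map_mul, map_mul, map_inv, e.apply_symm_apply, e.apply_symm_apply]
      refine Prod.ext rfl ?_
      simp
    exact congrArg Subtype.val h1
  · intro p hp
    have h1 : (⟨p, hp⟩ : ↥P) * e.symm (1, Multiplicative.ofAdd 1) =
        e.symm (1, Multiplicative.ofAdd 1) * ⟨p, hp⟩ := by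
      apply e.injective
      rw [map_mul, map_mul, e.apply_symm_apply]
      refine Prod.ext ?_ ?_
      · simp
      · simp [mul_comm]
    exact congrArg Subtype.val h1
  · rw [hc, Subgroup.orderOf_coe, MulEquiv.orderOf_eq]
    exact orderOf_eq_prime (hp := ⟨Nat.prime_two⟩) (Prod.ext (by simp) (by decide))
      (fun h => absurd (congrArg Prod.snd h) (by decide))
  · rintro ⟨a, -, ha⟩
    rw [hφa] at ha
    have h1 : (1 : Multiplicative (ZMod 2)) = Multiplicative.ofAdd 1 :=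
      congrArg Prod.snd (e.symm.injective (Subtype.ext ha))
    exact absurd h1 (by decide)
  · intro p hp hcp
    have hK : inK4 (e ⟨p, hp⟩).1 := by
      refine inK4_cent _ fun k hk => ?_
      have h1 : (⟨p, hp⟩ : ↥P) * e.symm (k, 1) = e.symm (k, 1) * ⟨p, hp⟩ :=
        Subtype.ext (hcp _ ⟨k, hk, rfl⟩)
      have h2 := congrArg (fun q => (e q).1) h1
      simpa using h2
    rcases hdec p hp with h | h
    · exact Or.inl (by rw [h]; exact ⟨_, hK, rfl⟩)
    · exact Or.inr (by rw [h]; exact ⟨_, hK, rfl⟩)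
  · rw [Nat.card_congr e.toEquiv, Nat.card_prod, Nat.card_perm, Nat.card_eq_fintype_card,
      Nat.card_eq_fintype_card]
    rfl

/-- A maximal 2-local is the normaliser of every 2-subgroup that it normalises. -/
theorem normalizer_eq_of_max {P Q : Subgroup X} (hP : Cfsg.IsMaximalTwoLocal P) (hQ : IsPGroup 2 ↥Q)
    (hQ1 : Q ≠ ⊥) (hn : P ≤ Subgroup.normalizer (Q : Set X)) : Subgroup.normalizer (Q : Set X) = P :=
  hP.2 _ ⟨Q, hQ, hQ1, rfl⟩ hn

end H77.ZC
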